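import Cfsg.Agent.Lib.Fusion.Axioms

/-!
Strongly `p`-embedded subgroups, essential subgroups, and the fusion theorem of Alperin and
Goldschmidt.
-/

set_option autoImplicit false
set_option linter.unusedSectionVars false

namespace Cfsg.Agent.Lib.Fusion

open Cfsg Cfsg.FusionSystem

/-! ### Strongly `p`-embedded subgroups -/

section StronglyEmbedded

variable {X : Type*} [Group X] [Finite X] {p : ℕ} [Fact p.Prime]

theorem not_pRankLE_zero {Q : Subgroup X} (hQ : IsPGroup p Q) (hne : Q ≠ ⊥) :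
    ¬ PRankLE p 0 Q := by
  intro h
  have hnt : Nontrivial Q := Q.nontrivial_iff_ne_bot.2 hne
  obtain ⟨k, hk, hc⟩ := hQ.nontrivial_iff_card.1 hnt
  obtain ⟨a, ha⟩ := exists_prime_orderOf_dvd_card' (G := Q) p
    (hc ▸ dvd_pow_self p hk.ne')
  have := h (Subgroup.zpowers a) inferInstance (by
    intro b hb
    obtain ⟨j, rfl⟩ := Subgroup.mem_zpowers_iff.1 hb
    rw [← zpow_natCast, ← zpow_mul, mul_comm, zpow_mul, zpow_natCast, ← ha, pow_orderOf_eq_one,
      one_zpow])
  rw [Nat.card_zpowers, ha, pow_zero] at this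
  exact absurd this (not_le.2 (Fact.out : p.Prime).one_lt)

theorem normalizer_le_of_core {P : Sylow p X} {Y : Subgroup X}
    (hY : kGeneratedCore p 1 (P : Subgroup X) ≤ Y) {Q : Subgroup X} (hQ : Q ≤ P) (hne : Q ≠ ⊥) :
    Subgroup.normalizer (Q : Set X) ≤ Y :=
  le_trans (le_iSup
    (fun Q : {Q : Subgroup X // Q ≤ (P : Subgroup X) ∧ ¬ PRankLE p (1 - 1) Q} =>
      Subgroup.normalizer ((Q : Subgroup X) : Set X))
    ⟨Q, hQ, by rw [Nat.sub_self]; exact not_pRankLE_zero (P.2.to_le hQ) hne⟩) hY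

theorem commute_mem_of_core {P : Sylow p X} {Y : Subgroup X}
    (hY : kGeneratedCore p 1 (P : Subgroup X) ≤ Y) {y c : X} (hy : y ∈ (P : Subgroup X))
    (hy1 : y ≠ 1) (hc : Commute c y) : c ∈ Y := by
  refine normalizer_le_of_core hY (Subgroup.zpowers_le.2 hy)
    (by rwa [Ne, Subgroup.zpowers_eq_bot]) (mem_normalizer_of_finite fun z hz => ?_)
  obtain ⟨j, rfl⟩ := Subgroup.mem_zpowers_iff.1 hz
  rw [(hc.zpow_right j).eq, mul_inv_cancel_right]
  exact hz

theorem le_of_core {P : Sylow p X} {Y : Subgroup X}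
    (hY : kGeneratedCore p 1 (P : Subgroup X) ≤ Y) (hd : p ∣ Nat.card X) :
    (P : Subgroup X) ≤ Y ∧ Subgroup.normalizer ((P : Subgroup X) : Set X) ≤ Y :=
  ⟨Subgroup.le_normalizer.trans (normalizer_le_of_core hY le_rfl (P.ne_bot_of_dvd_card hd)),
    normalizer_le_of_core hY le_rfl (P.ne_bot_of_dvd_card hd)⟩

/-- An element conjugating a nontrivial subgroup of `P` into `P` lies in `Y`. -/
theorem mem_of_core {P : Sylow p X} {Y : Subgroup X}
    (hY : kGeneratedCore p 1 (P : Subgroup X) ≤ Y) {g x : X} (hx : x ∈ (P : Subgroup X))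
    (hx1 : x ≠ 1) (hgx : g * x * g⁻¹ ∈ (P : Subgroup X)) : g ∈ Y := by
  have hd : p ∣ Nat.card X := by
    have hnt : Nontrivial (P : Subgroup X) :=
      ⟨⟨⟨x, hx⟩, 1, fun h => hx1 (congrArg Subtype.val h)⟩⟩
    obtain ⟨k, hk, hc⟩ := P.2.nontrivial_iff_card.1 hnt
    exact (dvd_pow_self p hk.ne').trans (hc ▸ Subgroup.card_subgroup_dvd_card _)
  obtain ⟨hPY, hNY⟩ := le_of_core hY hd
  have hnt : Nontrivial (P : Subgroup X) :=
    (Subgroup.nontrivial_iff_ne_bot _).2 (P.ne_bot_of_dvd_card hd)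
  obtain ⟨z, hz1⟩ := @exists_ne _ (IsPGroup.center_nontrivial P.2) 1
  obtain ⟨⟨z, hzP⟩, hzc⟩ := z
  have hz1' : z ≠ 1 := fun h => hz1 (Subtype.ext (Subtype.ext h))
  have hzcomm : ∀ y ∈ (P : Subgroup X), Commute y z := fun y hy =>
    congrArg Subtype.val (Subgroup.mem_center_iff.1 hzc ⟨y, hy⟩)
  -- `g z g⁻¹` lies in `Y`
  have hyne : g * x * g⁻¹ ≠ 1 := fun h => hx1 (conj_eq_one_iff.1 h)
  have hw0 : g * z * g⁻¹ ∈ Y := by
    refine commute_mem_of_core hY hgx hyne ?_
    show g * z * g⁻¹ * (g * x * g⁻¹) = g * x * g⁻¹ * (g * z * g⁻¹)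
    have := (hzcomm x hx).eq
    calc g * z * g⁻¹ * (g * x * g⁻¹) = g * (z * x) * g⁻¹ := by group
      _ = g * (x * z) * g⁻¹ := by rw [this]
      _ = g * x * g⁻¹ * (g * z * g⁻¹) := by group
  let PY : Sylow p Y := P.subtype hPY
  obtain ⟨T, hT⟩ := (show IsPGroup p (Subgroup.zpowers (⟨g * z * g⁻¹, hw0⟩ : Y)) by
    obtain ⟨k, hk⟩ := P.2 ⟨z, hzP⟩
    intro a
    obtain ⟨j, hj⟩ := Subgroup.mem_zpowers_iff.1 a.2
    refine ⟨k, Subtype.ext (Subtype.ext ?_)⟩
    simp only [← hj, SubmonoidClass.coe_pow, SubgroupClass.coe_zpow, OneMemClass.coe_one]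
    rw [← zpow_natCast, ← zpow_mul, mul_comm, zpow_mul, zpow_natCast, conj_pow,
      show z ^ p ^ k = 1 from congrArg Subtype.val hk]
    simp).exists_le_sylow
  obtain ⟨k, hk⟩ := MulAction.exists_smul_eq Y T PY
  have hw : (k : X) * (g * z * g⁻¹) * (k : X)⁻¹ ∈ (P : Subgroup X) := by
    have h1 : k * ⟨g * z * g⁻¹, hw0⟩ * k⁻¹ ∈ (PY : Subgroup Y) := by
      rw [← hk, Sylow.coe_subgroup_smul]
      exact ⟨_, hT (Subgroup.mem_zpowers _), rfl⟩
    exact h1
  -- the conjugate of `P` by `k g` lies in `Y`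
  have hP' : ∀ u ∈ (P : Subgroup X), (k : X) * g * u * ((k : X) * g)⁻¹ ∈ Y := by
    intro u hu
    refine commute_mem_of_core hY hw (fun h => hz1' ?_) ?_
    · exact conj_eq_one_iff.1 (conj_eq_one_iff.1 h)
    · show _ * ((k : X) * (g * z * g⁻¹) * (k : X)⁻¹) = _ * _
      have := (hzcomm u hu).eq
      calc (k : X) * g * u * ((k : X) * g)⁻¹ * ((k : X) * (g * z * g⁻¹) * (k : X)⁻¹)
          = (k : X) * g * (u * z) * ((k : X) * g)⁻¹ := by group
        _ = (k : X) * g * (z * u) * ((k : X) * g)⁻¹ := by rw [this]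
        _ = (k : X) * (g * z * g⁻¹) * (k : X)⁻¹ * ((k : X) * g * u * ((k : X) * g)⁻¹) := by group
  have hle : (((k : X) * g) • P : Sylow p X) ≤ Y := by
    rw [Sylow.coe_subgroup_smul]
    rintro _ ⟨u, hu, rfl⟩
    exact hP' u hu
  obtain ⟨k', hk'⟩ := MulAction.exists_smul_eq Y ((((k : X) * g) • P).subtype hle) PY
  have h3 : (k' : X) * ((k : X) * g) ∈ Subgroup.normalizer ((P : Subgroup X) : Set X) := by
    apply Sylow.smul_eq_iff_mem_normalizer.1
    rw [Sylow.smul_subtype hle k'] at hk'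
    have := Sylow.subtype_injective hk'
    rw [mul_smul]
    exact this
  have h4 := hNY h3
  rwa [← mul_assoc, Subgroup.mul_mem_cancel_left _ (Y.mul_mem k'.2 k.2)] at h4

/-- A strongly `p`-embedded subgroup excludes nontrivial normal `p`-subgroups. -/
theorem normal_pSubgroup_eq_bot {P : Sylow p X} {Y : Subgroup X}
    (hY : kGeneratedCore p 1 (P : Subgroup X) ≤ Y) (hYt : Y ≠ ⊤) {N : Subgroup X} [N.Normal]
    (hN : IsPGroup p N) : N = ⊥ := by
  by_contra hne
  apply hYt
  rw [eq_top_iff]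
  have := normalizer_le_of_core hY (hN.le_sylow_of_normal P) hne
  rwa [Subgroup.normalizer_eq_top] at this

/-- A conjugate of a strongly `p`-embedded subgroup, for another Sylow subgroup. -/
theorem exists_core_of_stronglyPEmbedded {Y : Subgroup X} (h : IsStronglyPEmbedded p Y)
    (T : Sylow p X) : ∃ Y' : Subgroup X, Y' ≠ ⊤ ∧ kGeneratedCore p 1 (T : Subgroup X) ≤ Y' := by
  obtain ⟨-, hYt, P, hP⟩ := h
  obtain ⟨g, hg⟩ := MulAction.exists_smul_eq X P T
  refine ⟨Y.map (MulAut.conj g).toMonoidHom, fun e => hYt ?_, ?_⟩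
  · have := congrArg (Subgroup.comap (MulAut.conj g).toMonoidHom) e
    rwa [Subgroup.comap_map_eq_self_of_injective (MulEquiv.injective _), Subgroup.comap_top]
      at this
  · refine iSup_le ?_
    rintro ⟨Q, hQT, hQr⟩ x hx
    refine mem_map_conj'.2 ?_
    have hQP : Q.map (MulAut.conj g⁻¹).toMonoidHom ≤ (P : Subgroup X) := by
      rintro _ ⟨u, hu, rfl⟩
      have h1 : u ∈ ((g • P : Sylow p X) : Subgroup X) := hg.symm ▸ hQT hu
      rw [Sylow.coe_subgroup_smul] at h1
      obtain ⟨v, hv, rfl⟩ := h1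
      simpa [MulAut.conj_apply, mul_assoc] using! hv
    have hQne : Q.map (MulAut.conj g⁻¹).toMonoidHom ≠ ⊥ := by
      intro e
      rw [Subgroup.map_eq_bot_iff_of_injective _ (MulEquiv.injective _)] at e
      subst e
      exact hQr fun A _ _ => le_of_eq (by
        rw [pow_zero, Nat.card_unique])
    refine normalizer_le_of_core hP hQP hQne (mem_normalizer_of_finite ?_)
    rintro _ ⟨u, hu, rfl⟩
    refine ⟨x * u * x⁻¹, conj_mem_of_mem_normalizer hx hu, ?_⟩
    simp [mul_assoc]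
where
  mem_map_conj' {Y : Subgroup X} {g x : X} :
      x ∈ Y.map (MulAut.conj g).toMonoidHom ↔ g⁻¹ * x * g ∈ Y := by
    constructor
    · rintro ⟨y, hy, rfl⟩
      simpa [mul_assoc] using hy
    · intro h
      exact ⟨_, h, by simp [mul_assoc]⟩

end StronglyEmbedded

variable {Ω : Type*} [Group Ω] {S : Subgroup Ω}

/-! ### Extendable automorphisms -/

/-- The subgroup generated by the automorphisms extending to larger sources. -/
def extAut (F : FusionSystem S) (P : Subgroup Ω) : Subgroup (MulAut P) :=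
  Subgroup.closure {α : MulAut P | ∃ (Q : Subgroup Ω) (hPQ : P < Q) (φ : Q →* Ω),
    φ ∈ F.Hom Q ∧ ∀ x : P, φ (Subgroup.inclusion hPQ.le x) = α x}

theorem mem_extAut_of_extends {F : FusionSystem S} {P Q : Subgroup Ω} (hPQ : P < Q)
    {φ : Q →* Ω} (hφ : φ ∈ F.Hom Q) {α : MulAut P}
    (h : ∀ (x : Ω) (hP : x ∈ P) (hQ : x ∈ Q), φ ⟨x, hQ⟩ = (α ⟨x, hP⟩ : Ω)) :
    α ∈ extAut F P :=
  Subgroup.subset_closure ⟨Q, hPQ, φ, hφ, fun x => h x x.2 (hPQ.le x.2)⟩

theorem extAut_le (F : FusionSystem S) (P : Subgroup Ω) : extAut F P ≤ F.autGroup P := by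
  refine (Subgroup.closure_le _).2 ?_
  rintro α ⟨Q, hPQ, φ, hφ, h⟩
  refine mem_autGroup_of_hom F ?_
  have e : autHom α = restr hPQ.le φ := MonoidHom.ext fun x => (h x).symm
  rw [e]
  exact restr_mem F hφ hPQ.le

section Saturated

variable {p : ℕ} [Fact p.Prime] [Finite S] {F : FusionSystem S}

theorem autInducedBy_le_extAut (hS : IsPGroup p S) {P : Subgroup Ω} (hP : P < S) :
    autInducedBy S P ≤ extAut F P := by
  intro α hα
  obtain ⟨g, hg, hgS, rfl⟩ := mem_autInducedBy_iff_conjAut.1 hα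
  exact mem_extAut_of_extends (lt_normalizerIn hS hP)
    (F.conj_mem (normalizerIn_le S P) hgS) fun x hP hQ => rfl

theorem isCentric_of_extAut_ne (hS : IsPGroup p S) (hF : F.IsSaturated p) {P : Subgroup Ω}
    (hn : F.IsFullyNormalized P) (hne : extAut F P ≠ F.autGroup P) : F.IsCentric P := by
  refine isCentric_of_fullyCentralized (IsSaturated.fullyCentralized hS hF hn) ?_
  by_contra hC
  apply hne
  refine le_antisymm (extAut_le F P) fun α hα => ?_
  have hα' := autHom_mem F hn.1 hα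
  obtain ⟨ψ, hψ, hext, -⟩ :=
    IsReceptive.extend (IsSaturated.automized_receptive hS hF hn).2 hα' (range_autHom α)
  have hlt : P < extender S P (autHom α) :=
    lt_of_le_of_ne (le_extender hn.1 (apply_mem hα')) fun e =>
      hC ((centralizerIn_le_extender (S := S) (autHom α)).trans e.ge)
  exact mem_extAut_of_extends hlt hψ fun x hx hN => hext x hx hN

/-- The automorphisms of `P` in the system, modulo the inner ones. -/
abbrev outQuot (F : FusionSystem S) (P : Subgroup Ω) :=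
  (F.autGroup P) ⧸ (Inn P).subgroupOf (F.autGroup P)

theorem exists_sylow_out {P : Subgroup Ω} (hfa : F.IsFullyAutomized p P) :
    ∃ T : Sylow p (outQuot F P), (T : Subgroup (outQuot F P)) =
      ((autInducedBy S P).subgroupOf (F.autGroup P)).map
        (QuotientGroup.mk' ((Inn P).subgroupOf (F.autGroup P))) := by
  obtain ⟨hP, R, hR⟩ := hfa
  have := finite_mulAut hP
  exact ⟨R.mapSurjective (QuotientGroup.mk'_surjective _), by rw [Sylow.coe_mapSurjective, hR]⟩

theorem mk_mem_map_aut {P : Subgroup Ω} (hP : P ≤ S) {α : F.autGroup P}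
    (h : QuotientGroup.mk' ((Inn P).subgroupOf (F.autGroup P)) α ∈
      ((autInducedBy S P).subgroupOf (F.autGroup P)).map
        (QuotientGroup.mk' ((Inn P).subgroupOf (F.autGroup P)))) :
    (α : MulAut P) ∈ autInducedBy S P := by
  obtain ⟨β, hβ, hb⟩ := h
  rw [QuotientGroup.mk'_apply, QuotientGroup.mk'_apply, QuotientGroup.eq] at hb
  have := Subgroup.mul_mem _ hβ
    (show β⁻¹ * α ∈ (autInducedBy S P).subgroupOf (F.autGroup P) from inn_le_autInducedBy hP hb)
  rwa [mul_inv_cancel_left] at this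

/-- An element of `N_S(P)` inducing an inner automorphism of a centric `P` lies in `P`. -/
theorem mem_of_conjAut_inn {P : Subgroup Ω} (hc : F.IsCentric P) {g : Ω}
    (hg : g ∈ normalizerIn S P) (h : conjAut hg.2 ∈ Inn P) : g ∈ P := by
  obtain ⟨q, hq⟩ := h
  have hmem : (q : Ω)⁻¹ * g ∈ centralizerIn S P := by
    refine mem_centralizerIn_iff_conj.2
      ⟨S.mul_mem (S.inv_mem (hc.1 q.2)) hg.1, fun x hx => ?_⟩
    have h1 : (q : Ω) * x * (q : Ω)⁻¹ = g * x * g⁻¹ :=
      congrArg (fun (α : MulAut P) => ((α ⟨x, hx⟩ : P) : Ω)) hq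
    calc (q : Ω)⁻¹ * g * x * ((q : Ω)⁻¹ * g)⁻¹ = (q : Ω)⁻¹ * (g * x * g⁻¹) * (q : Ω) := by group
      _ = (q : Ω)⁻¹ * ((q : Ω) * x * (q : Ω)⁻¹) * (q : Ω) := by rw [h1]
      _ = x := by group
  have := P.mul_mem q.2 (hc.2 P (isConj_refl F hc.1) hmem)
  rwa [mul_inv_cancel_left] at this

theorem stronglyPEmbedded_extAut (hS : IsPGroup p S) (hF : F.IsSaturated p) {P : Subgroup Ω}
    (hP : P < S) (hn : F.IsFullyNormalized P) (hne : extAut F P ≠ F.autGroup P) :
    IsStronglyPEmbedded p (((extAut F P).subgroupOf (F.autGroup P)).map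
      (QuotientGroup.mk' ((Inn P).subgroupOf (F.autGroup P)))) := by
  have := finite_mulAut hP.le
  have hc := isCentric_of_extAut_ne hS hF hn hne
  obtain ⟨hfa, hrec⟩ := IsSaturated.automized_receptive hS hF hn
  obtain ⟨T, hT⟩ := exists_sylow_out hfa
  have hle : (Inn P).subgroupOf (F.autGroup P) ≤ (extAut F P).subgroupOf (F.autGroup P) :=
    fun x hx => autInducedBy_le_extAut hS hP (inn_le_autInducedBy hP.le hx)
  refine ⟨?_, fun e => hne (le_antisymm (extAut_le F P) ?_), T, ?_⟩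
  · obtain ⟨g, hg, hgP⟩ := SetLike.exists_of_lt (lt_normalizerIn hS hP)
    let γ : F.autGroup P := ⟨conjAut hg.2, conjAut_mem_autGroup F hP.le hg.1 hg.2⟩
    have hγT : QuotientGroup.mk' _ γ ∈ (T : Subgroup (outQuot F P)) := by
      rw [hT]
      exact Subgroup.mem_map_of_mem _ (conjAut_mem_autInducedBy hg.1 hg.2)
    have hγ1 : QuotientGroup.mk' ((Inn P).subgroupOf (F.autGroup P)) γ ≠ 1 := fun h =>
      hgP (mem_of_conjAut_inn hc hg ((QuotientGroup.eq_one_iff γ).1 h))
    have hnt : Nontrivial (T : Subgroup (outQuot F P)) :=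
      ⟨⟨⟨_, hγT⟩, 1, fun h => hγ1 (congrArg Subtype.val h)⟩⟩
    obtain ⟨k, hk, hcard⟩ := T.2.nontrivial_iff_card.1 hnt
    exact (dvd_pow_self p hk.ne').trans (hcard ▸ Subgroup.card_subgroup_dvd_card _)
  · intro α hα
    have := congrArg (Subgroup.comap (QuotientGroup.mk' ((Inn P).subgroupOf (F.autGroup P)))) e
    rw [Subgroup.comap_map_eq_self (by rwa [QuotientGroup.ker_mk']), Subgroup.comap_top] at this
    exact (show (⟨α, hα⟩ : F.autGroup P) ∈ (extAut F P).subgroupOf (F.autGroup P) from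
      this.symm ▸ Subgroup.mem_top _)
  · refine iSup_le ?_
    rintro ⟨Q, hQT, hQr⟩ x hx
    obtain ⟨α, rfl⟩ := QuotientGroup.mk'_surjective _ x
    refine Subgroup.mem_map_of_mem _ ?_
    show (α : MulAut P) ∈ extAut F P
    have hQne : Q ≠ ⊥ := by
      rintro rfl
      exact hQr fun A _ _ => le_of_eq (by rw [pow_zero, Nat.card_unique])
    obtain ⟨u, hu, hu1⟩ := Q.bot_or_exists_ne_one.resolve_left hQne
    obtain ⟨γ, hγ, rfl⟩ := (hT ▸ hQT hu : u ∈ _)
    obtain ⟨g, hgN, hgS, hgγ⟩ :=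
      mem_autInducedBy_iff_conjAut.1 (Subgroup.mem_subgroupOf.1 hγ)
    have h1 := hQT (conj_mem_of_mem_normalizer hx hu)
    rw [hT, ← map_mul, ← map_inv, ← map_mul] at h1
    have h2 := mk_mem_map_aut hP.le h1
    have hgP : g ∉ P := fun hgP => hu1 ((QuotientGroup.eq_one_iff γ).2
      (show (γ : MulAut P) ∈ Inn P from
        hgγ ▸ inn_eq_autInducedBy P ▸ conjAut_mem_autInducedBy hgP hgN))
    have hα' := autHom_mem F hP.le α.2
    have hge : g ∈ extender S P (autHom (α : MulAut P)) := by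
      rw [mem_extender_iff_congr (F.injective_of_mem hα') (range_autHom _) ⟨hgS, hgN⟩]
      have e : isoOf (autHom (α : MulAut P)) (F.injective_of_mem hα') (range_autHom _) =
          (α : MulAut P) := MulEquiv.ext fun x => Subtype.ext rfl
      rw [e, hgγ]
      exact h2
    obtain ⟨ψ, hψ, hext, -⟩ := IsReceptive.extend hrec hα' (range_autHom _)
    have hlt : P < extender S P (autHom (α : MulAut P)) :=
      lt_of_le_of_ne (le_extender hP.le (apply_mem hα')) fun e => hgP (e ▸ hge)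
    exact mem_extAut_of_extends hlt hψ fun x hx hN => hext x hx hN

theorem IsEssential.ne_top (hF : F.IsSaturated p) (hS : IsPGroup p S) {P : Subgroup Ω}
    (h : F.IsEssential p P) : P ≠ S := by
  intro e
  subst e
  obtain ⟨hc, hn, hnorm, E, hd, hEt, T₀, hT₀⟩ := h
  obtain ⟨hfa, -⟩ := IsSaturated.automized_receptive hS hF hn
  have := finite_mulAut hc.1
  obtain ⟨T, hT⟩ := exists_sylow_out hfa
  apply T.ne_bot_of_dvd_card hd
  rw [hT, eq_bot_iff]
  rintro _ ⟨α, hα, rfl⟩
  rw [Subgroup.mem_bot, QuotientGroup.mk'_apply, QuotientGroup.eq_one_iff]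
  exact Subgroup.mem_subgroupOf.2 ((autInducedBy_self P).le hα)

theorem IsEssential.lt (hF : F.IsSaturated p) (hS : IsPGroup p S) {P : Subgroup Ω}
    (h : F.IsEssential p P) : P < S :=
  lt_of_le_of_ne h.1.1 (IsEssential.ne_top hF hS h)

theorem IsEssential.extAut_ne (hS : IsPGroup p S) (hF : F.IsSaturated p) {P : Subgroup Ω}
    (h : F.IsEssential p P) : extAut F P ≠ F.autGroup P := by
  have hlt := IsEssential.lt hF hS h
  obtain ⟨hc, hn, hnorm, E, hE⟩ := h
  obtain ⟨hfa, -⟩ := IsSaturated.automized_receptive hS hF hn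
  have := finite_mulAut hc.1
  obtain ⟨T, hT⟩ := exists_sylow_out hfa
  obtain ⟨Y, hYt, hY⟩ := exists_core_of_stronglyPEmbedded hE T
  intro heq
  apply hYt
  rw [eq_top_iff]
  intro x _
  obtain ⟨⟨α, hα⟩, rfl⟩ := QuotientGroup.mk'_surjective _ x
  have key : extAut F P ≤ (Y.comap (QuotientGroup.mk' ((Inn P).subgroupOf (F.autGroup P)))).map
      (F.autGroup P).subtype := by
    refine (Subgroup.closure_le _).2 ?_
    rintro β ⟨Q, hPQ, φ, hφ, hβ⟩
    have hβA : β ∈ F.autGroup P :=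
      extAut_le F P (Subgroup.subset_closure ⟨Q, hPQ, φ, hφ, hβ⟩)
    refine ⟨⟨β, hβA⟩, ?_, rfl⟩
    have := finite_of_le (source_le hφ)
    have hQp := hS.to_le (source_le hφ)
    obtain ⟨g, hg, hgP⟩ := SetLike.exists_of_lt (lt_normalizerIn hQp hPQ)
    have hgS : g ∈ normalizerIn S P := ⟨source_le hφ hg.1, hg.2⟩
    let γ : F.autGroup P := ⟨conjAut hg.2, conjAut_mem_autGroup F hc.1 hgS.1 hg.2⟩
    have hγT : QuotientGroup.mk' _ γ ∈ (T : Subgroup (outQuot F P)) := by
      rw [hT]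
      exact Subgroup.mem_map_of_mem _ (conjAut_mem_autInducedBy hgS.1 hg.2)
    refine Subgroup.mem_comap.2 (mem_of_core hY hγT
      (fun h => hgP (mem_of_conjAut_inn hc hgS ((QuotientGroup.eq_one_iff γ).1 h))) ?_)
    rw [hT, ← map_mul, ← map_inv, ← map_mul]
    refine Subgroup.mem_map_of_mem _ ?_
    refine mem_autInducedBy.2 ⟨φ ⟨g, hg.1⟩, apply_mem hφ _, fun x => ?_⟩
    show ((β (conjAut hg.2 (β.symm x)) : P) : Ω) = _
    obtain ⟨y, rfl⟩ := β.surjective x
    rw [MulEquiv.symm_apply_apply]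
    exact map_conj (φ := autHom β) (ψ := φ) (fun z hz hN => hβ ⟨z, hz⟩) hPQ.le hg.1 y.2 _
  obtain ⟨γ, hγ, hγα⟩ := key (heq.ge hα)
  have : γ = ⟨α, hα⟩ := Subtype.ext hγα
  rw [← this]
  exact hγ

/-- The dichotomy for a fully normalized proper subgroup. -/
theorem essential_iff_extAut_ne (hS : IsPGroup p S) (hF : F.IsSaturated p) {P : Subgroup Ω}
    (hP : P < S) (hn : F.IsFullyNormalized P) :
    F.IsEssential p P ↔ extAut F P ≠ F.autGroup P :=
  ⟨IsEssential.extAut_ne hS hF, fun h => ⟨isCentric_of_extAut_ne hS hF hn h, hn, inferInstance,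
    _, stronglyPEmbedded_extAut hS hF hP hn h⟩⟩

theorem le_pCore_of_normal {A : Type*} [Group A] {p : ℕ} {N : Subgroup A} [hn : N.Normal]
    (hp : IsPGroup p N) : N ≤ pCore p A :=
  le_sSup ⟨hn, hp⟩

/-- Essential subgroups are radical. -/
theorem IsEssential.radical (hS : IsPGroup p S) (hF : F.IsSaturated p) {P : Subgroup Ω}
    (h : F.IsEssential p P) : F.IsRadical p P := by
  obtain ⟨hc, hn, hnorm, E, hE⟩ := h
  refine ⟨hc.1, ?_⟩
  have := finite_mulAut hc.1
  obtain ⟨hd, hEt, T, hT⟩ := hE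
  have hI : IsPGroup p (Inn P) := by
    rw [inn_eq_autInducedBy]
    exact isPGroup_autInducedBy (hS.to_le hc.1) P
  refine le_antisymm ?_ ?_
  · rintro _ ⟨α, hα, rfl⟩
    have h0 : pCore p (F.autGroup P) ≤ (Inn P).subgroupOf (F.autGroup P) := by
      refine sSup_le fun N hN => ?_
      obtain ⟨hNn, hNp⟩ := hN
      have := hNn.map (QuotientGroup.mk' ((Inn P).subgroupOf (F.autGroup P)))
        (QuotientGroup.mk'_surjective _)
      have h1 := normal_pSubgroup_eq_bot hT hEt (hNp.map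
        (QuotientGroup.mk' ((Inn P).subgroupOf (F.autGroup P))))
      rw [Subgroup.map_eq_bot_iff, QuotientGroup.ker_mk'] at h1
      exact h1
    exact h0 hα
  · intro α hα
    refine ⟨⟨α, inn_le_autGroup F hc.1 hα⟩, ?_, rfl⟩
    exact le_pCore_of_normal
      (hI.of_equiv (Subgroup.subgroupOfEquivOfLe (inn_le_autGroup F hc.1)).symm) hα

/-! ### The fusion theorem -/

/-- The inductive form of the fusion theorem: for an essential subgroup one may assume that all
maps with a larger source already lie in the subsystem. -/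
theorem alperin_ind (hS : IsPGroup p S) (hF : F.IsSaturated p) (E : FusionSystem S)
    (htopE : F.autGroup S ≤ E.autGroup S)
    (hE : ∀ P : Subgroup Ω, F.IsEssential p P →
      (∀ Q : Subgroup Ω, Nat.card P < Nat.card Q → ∀ φ ∈ F.Hom Q, φ ∈ E.Hom Q) →
      F.autGroup P ≤ E.autGroup P) :
    F ≤ E := by
  suffices key : ∀ n, ∀ P : Subgroup Ω, Nat.card S ≤ Nat.card P + n →
      ∀ φ ∈ F.Hom P, φ ∈ E.Hom P by
    intro P φ hφ
    exact key (Nat.card S) P (Nat.le_add_left _ _) φ hφ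
  have htop : ∀ P, P = S → ∀ φ ∈ F.Hom P, φ ∈ E.Hom P := by
    intro P hP φ hφ
    have : Finite P := finite_of_le hP.le
    have hr : φ.range = P :=
      Subgroup.eq_of_le_of_card_ge (le_of_le_of_eq (range_le hφ) hP.symm)
        (card_range_eq (F.injective_of_mem hφ)).ge
    have hmem := mem_autGroup_of_hom F (α := isoOf φ (F.injective_of_mem hφ) hr) hφ
    have : isoOf φ (F.injective_of_mem hφ) hr ∈ E.autGroup P := by
      revert hmem
      generalize isoOf φ (F.injective_of_mem hφ) hr = α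
      revert α
      rw [hP]
      exact fun α hα => htopE hα
    exact autHom_mem E hP.le this
  intro n
  induction n with
  | zero =>
    intro P hn φ hφ
    exact htop P (Subgroup.eq_of_le_of_card_ge (source_le hφ) (by simpa using hn)) φ hφ
  | succ n ih =>
    intro P hn φ hφ
    have hPS := source_le hφ
    rcases hPS.eq_or_lt with h | hlt
    · exact htop P h φ hφ
    obtain ⟨R, hPR, hR⟩ := exists_fullyNormalized F hPS
    have hRS : R < S := lt_of_le_of_ne hR.1 fun e => hlt.ne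
      (Subgroup.eq_of_le_of_card_ge hPS (by rw [isConj_card hPR, e]))
    -- maps into `R` from the conjugates of `P`
    have hbig : ∀ Q : Subgroup Ω, F.IsConj Q R →
        ∃ ψ : Q →* Ω, ψ ∈ E.Hom Q ∧ ψ ∈ F.Hom Q ∧ ψ.range = R := by
      intro Q hQ
      obtain ⟨ψ, hψ, -, himg⟩ := IsSaturated.exists_normalizer_map hS hF hR hQ
      have hQS := isConj_le_left hQ
      have hQlt : Q < S := lt_of_le_of_ne hQS fun e => hRS.ne
        (Subgroup.eq_of_le_of_card_ge hR.1 (by rw [← isConj_card hQ, e]))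
      have hcard : Nat.card Q < Nat.card (normalizerIn S Q) := by
        have := finite_of_le (normalizerIn_le S Q)
        by_contra hge
        exact (lt_normalizerIn hS hQlt).ne
          (Subgroup.eq_of_le_of_card_ge (le_normalizerIn hQS) (not_lt.1 hge))
      have hψE := ih _ (by
        have h1 := isConj_card hQ
        have h2 := isConj_card hPR
        omega) ψ hψ
      exact ⟨restr (le_normalizerIn hQS) ψ, restr_mem E hψE _, restr_mem F hψ _,
        by rw [range_restr, himg]⟩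
    obtain ⟨ψ₁, hψ₁E, hψ₁, hr₁⟩ := hbig P hPR
    obtain ⟨ψ₂, hψ₂E, hψ₂, hr₂⟩ := hbig φ.range
      (isConj_trans (isConj_symm ⟨φ, hφ, rfl⟩) hPR)
    obtain ⟨χ₁, hχ₁, hχr₁, hl₁, hl₁'⟩ := exists_inv F hψ₁ hr₁
    have hm₁ : ∀ y, χ₁ y ∈ P := fun y => hχr₁ ▸ ⟨y, rfl⟩
    have hm₂ : ∀ y, compose χ₁ φ hm₁ y ∈ φ.range := fun y => ⟨_, rfl⟩
    let a := compose (compose χ₁ φ hm₁) ψ₂ hm₂
    have ha : a ∈ F.Hom R := compose_mem F (compose_mem F hχ₁ hφ hm₁) hψ₂ hm₂
    have har : a.range = R := by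
      rw [range_compose, range_compose, hχr₁, img_self, img_self, hr₂]
    have hautE : F.autGroup R ≤ E.autGroup R := by
      by_cases hess : F.IsEssential p R
      · refine hE R hess fun Q hQ χ hχ => ih Q ?_ χ hχ
        have h2 := isConj_card hPR
        omega
      · rw [essential_iff_extAut_ne hS hF hRS hR, not_not] at hess
        rw [← hess]
        refine (Subgroup.closure_le _).2 ?_
        rintro α ⟨Q, hRQ, χ, hχ, hαχ⟩
        refine mem_autGroup_of_hom E ?_
        have e : autHom α = restr hRQ.le χ := MonoidHom.ext fun x => (hαχ x).symm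
        rw [e]
        refine restr_mem E (ih Q ?_ χ hχ) _
        have := finite_of_le (source_le hχ)
        have h1 : Nat.card R < Nat.card Q := by
          by_contra hge
          exact hRQ.ne (Subgroup.eq_of_le_of_card_ge hRQ.le (not_lt.1 hge))
        have h2 := isConj_card hPR
        omega
    have haE : a ∈ E.Hom R := autHom_mem E hR.1
      (hautE (mem_autGroup_of_hom F (α := isoOf a (F.injective_of_mem ha) har) ha))
    obtain ⟨χ₂, hχ₂E, hχr₂, hl₂, -⟩ := exists_inv E hψ₂E hr₂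
    have hm₃ : ∀ x, ψ₁ x ∈ R := fun x => hr₁ ▸ ⟨x, rfl⟩
    have hm₄ : ∀ x, compose ψ₁ a hm₃ x ∈ R := fun x => har.le ⟨⟨ψ₁ x, hm₃ x⟩, rfl⟩
    refine mem_of_comp E (compose_mem E hψ₁E haE hm₃) hχ₂E hm₄ fun x => ?_
    have e : compose ψ₁ a hm₃ x = ψ₂ ⟨φ x, ⟨x, rfl⟩⟩ := by
      show ψ₂ ⟨φ ⟨χ₁ ⟨ψ₁ x, hm₃ x⟩, _⟩, _⟩ = _
      simp only [hl₁ x (hm₃ x)]
    simp only [e]
    exact (hl₂ ⟨φ x, ⟨x, rfl⟩⟩ _).symm

/-- Alperin–Goldschmidt: the automorphism groups of the top and of the essential subgroups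
generate the system. -/
theorem alperin (hS : IsPGroup p S) (hF : F.IsSaturated p) (E : FusionSystem S)
    (hE : ∀ P : Subgroup Ω, (P = S ∨ F.IsEssential p P) → F.autGroup P ≤ E.autGroup P) :
    F ≤ E :=
  alperin_ind hS hF E (hE S (Or.inl rfl)) fun P hP _ => hE P (Or.inr hP)

/-- The inner system is contained in every system. -/
theorem inner_le (F : FusionSystem S) : innerFusionSystem S ≤ F := by
  rintro P φ ⟨hP, g, hg, h⟩
  have e : φ = conjHom P g := MonoidHom.ext h
  rw [e]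
  exact F.conj_mem hP hg

theorem autGroup_inner {P : Subgroup Ω} (hP : P ≤ S) :
    (innerFusionSystem S).autGroup P = autInducedBy S P := by
  refine le_antisymm ?_ (autInducedBy_le_autGroup _ hP)
  refine (Subgroup.closure_le _).2 ?_
  rintro α ⟨-, g, hg, h⟩
  exact mem_autInducedBy.2 ⟨g, hg, h⟩

/-- When all automorphism groups are `p`-groups the system is inner. -/
theorem eq_inner_of_isPGroup (hS : IsPGroup p S) (hF : F.IsSaturated p)
    (h : ∀ P : Subgroup Ω, (P = S ∨ F.IsEssential p P) → IsPGroup p (F.autGroup P)) :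
    F = innerFusionSystem S := by
  refine le_antisymm_hom (alperin hS hF _ fun P hP => ?_) (inner_le F)
  have hp := h P hP
  rcases hP with rfl | hess
  · obtain ⟨hfa, -⟩ := IsSaturated.automized_receptive hS hF (isFullyNormalized_top F)
    obtain ⟨-, R, hR⟩ := hfa
    rw [autGroup_inner le_rfl]
    intro α hα
    have hle : ((⊤ : Subgroup (F.autGroup P))) ≤ (R : Subgroup (F.autGroup P)) :=
      (R.3 (Q := ⊤) (hp.to_subgroup ⊤) le_top).le
    have := hle (Subgroup.mem_top ⟨α, hα⟩)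
    rw [hR] at this
    exact this
  · exfalso
    obtain ⟨hc, hn, hnorm, E, hd, hEt, T, hT⟩ := hess
    have := finite_mulAut hc.1
    have h1 : (⊤ : Subgroup (outQuot F P)) = ⊥ :=
      normal_pSubgroup_eq_bot hT hEt
        ((hp.of_surjective _ (QuotientGroup.mk'_surjective _)).to_subgroup ⊤)
    exact hEt (eq_top_iff.2 (h1 ▸ bot_le))

end Saturated

end Cfsg.Agent.Lib.Fusion
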