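import Cfsg.Agent.Lib.Fusion.Saturation

/-!
Subgroups normal or central in a fusion system; the normalizer and centralizer systems.
-/

set_option autoImplicit false
set_option linter.unusedSectionVars false

namespace Cfsg.Agent.Lib.Fusion

open Cfsg Cfsg.FusionSystem

variable {Ω : Type*} [Group Ω] {S : Subgroup Ω}

theorem img_bot {P : Subgroup Ω} (φ : P →* Ω) : img φ ⊥ = ⊥ := by
  rw [img, Subgroup.bot_subgroupOf, Subgroup.map_bot]

theorem img_sup {P : Subgroup Ω} (φ : P →* Ω) {A B : Subgroup Ω} (hA : A ≤ P) (hB : B ≤ P) :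
    img φ (A ⊔ B) = img φ A ⊔ img φ B := by
  rw [img, Subgroup.subgroupOf_sup hA hB, Subgroup.map_sup]
  rfl

/-- Images computed through a restriction. -/
theorem img_restr {R P : Subgroup Ω} (h : R ≤ P) (φ : P →* Ω) {A : Subgroup Ω} (hA : A ≤ R) :
    img (restr h φ) A = img φ A := by
  rw [← range_restr hA, ← range_restr (hA.trans h), restr_restr]

theorem img_img {P Q A : Subgroup Ω} (φ : P →* Ω) (ψ : Q →* Ω) (h : ∀ x, φ x ∈ Q) :
    img (compose φ ψ h) A = img ψ (img φ A) := by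
  ext y
  constructor
  · rintro ⟨x, hx, rfl⟩
    exact ⟨⟨φ x, h x⟩, ⟨x, hx, rfl⟩, rfl⟩
  · rintro ⟨z, ⟨x, hx, hxz⟩, rfl⟩
    exact ⟨x, hx, congrArg ψ (Subtype.ext hxz)⟩

/-! ### Normal subgroups -/

theorem isNormal_bot (F : FusionSystem S) : F.IsNormal ⊥ := by
  refine ⟨bot_le, fun P φ hφ => ⟨restr (sup_le le_rfl bot_le) φ, restr_mem F hφ _,
    fun x => rfl, img_bot _⟩⟩

theorem isNormal_sup {F : FusionSystem S} {A B : Subgroup Ω} (hA : F.IsNormal A)
    (hB : F.IsNormal B) : F.IsNormal (A ⊔ B) := by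
  refine ⟨sup_le hA.1 hB.1, fun P φ hφ => ?_⟩
  obtain ⟨ψ₁, hψ₁, hext₁, himg₁⟩ := hA.2 P φ hφ
  obtain ⟨ψ₂, hψ₂, hext₂, himg₂⟩ := hB.2 _ ψ₁ hψ₁
  have hle : P ⊔ (A ⊔ B) ≤ P ⊔ A ⊔ B := sup_assoc P A B ▸ le_rfl
  refine ⟨restr hle ψ₂, restr_mem F hψ₂ hle, fun x => ?_, ?_⟩
  · have h1 := hext₂ ⟨x, Subgroup.mem_sup_left x.2⟩
    rw [← hext₁ x]
    exact h1
  · show img (restr hle ψ₂) (A ⊔ B) = A ⊔ B
    rw [img_restr hle ψ₂ le_sup_right,
      img_sup ψ₂ (le_sup_right.trans le_sup_left) le_sup_right]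
    have h1 : img ψ₂ A = A := by
      have e : restr (le_sup_left : P ⊔ A ≤ P ⊔ A ⊔ B) ψ₂ = ψ₁ := MonoidHom.ext hext₂
      rw [← img_restr (le_sup_left : P ⊔ A ≤ P ⊔ A ⊔ B) ψ₂ le_sup_right, e]
      exact himg₁
    rw [h1]
    exact congrArg (A ⊔ ·) himg₂

theorem isNormal_core (F : FusionSystem S) [Finite S] : F.IsNormal F.core := by
  have hfin : {Q : Subgroup Ω | F.IsNormal Q}.Finite :=
    finite_subgroups_le.subset fun Q hQ => hQ.1
  have key : ∀ t : Finset (Subgroup Ω), (∀ Q ∈ t, F.IsNormal Q) → F.IsNormal (t.sup id) := by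
    classical
    intro t
    induction t using Finset.induction_on with
    | empty => exact fun _ => isNormal_bot F
    | insert a s _ ih =>
      intro h
      rw [Finset.sup_insert]
      exact isNormal_sup (h a (Finset.mem_insert_self _ _))
        (ih fun Q hQ => h Q (Finset.mem_insert_of_mem hQ))
  rw [FusionSystem.core]
  have : sSup {Q : Subgroup Ω | F.IsNormal Q} = hfin.toFinset.sup id := by
    rw [Finset.sup_id_eq_sSup, Set.Finite.coe_toFinset]
  rw [this]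
  exact key _ fun Q hQ => hfin.mem_toFinset.1 hQ

theorem le_core {F : FusionSystem S} {Q : Subgroup Ω} (h : F.IsNormal Q) : Q ≤ F.core :=
  le_sSup h

/-- A characteristic subgroup of a normal subgroup is normal. -/
theorem isNormal_of_characteristic {F : FusionSystem S} {Q U : Subgroup Ω} (hQ : F.IsNormal Q)
    (hUQ : U ≤ Q) (hU : (U.subgroupOf Q).Characteristic) : F.IsNormal U := by
  refine ⟨hUQ.trans hQ.1, fun P φ hφ => ?_⟩
  obtain ⟨ψ, hψ, hext, himg⟩ := hQ.2 P φ hφ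
  have hle : P ⊔ U ≤ P ⊔ Q := sup_le_sup_left hUQ P
  refine ⟨restr hle ψ, restr_mem F hψ hle, fun x => hext x, ?_⟩
  show img (restr hle ψ) U = U
  rw [img_restr hle ψ le_sup_right]
  have hr : (restr (le_sup_right : Q ≤ P ⊔ Q) ψ).range = Q := (range_restr _ ψ).trans himg
  let β : MulAut Q :=
    isoOf (restr (le_sup_right : Q ≤ P ⊔ Q) ψ)
      (F.injective_of_mem (restr_mem F hψ le_sup_right)) hr
  have hβ := Subgroup.characteristic_iff_map_eq.1 hU β
  rw [← img_restr (le_sup_right : Q ≤ P ⊔ Q) ψ hUQ]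
  ext y
  rw [mem_img]
  constructor
  · rintro ⟨x, hxQ, hx, rfl⟩
    have : β ⟨x, hxQ⟩ ∈ U.subgroupOf Q := hβ ▸ ⟨⟨x, hxQ⟩, hx, rfl⟩
    exact this
  · intro hy
    obtain ⟨x, hx, hxy⟩ : ⟨y, hUQ hy⟩ ∈ (U.subgroupOf Q).map β.toMonoidHom :=
      hβ.symm ▸ (show (⟨y, hUQ hy⟩ : Q) ∈ U.subgroupOf Q from hy)
    exact ⟨x, x.2, hx, congrArg Subtype.val hxy⟩

/-! ### Central subgroups -/

theorem isCentral_bot (F : FusionSystem S) : F.IsCentral ⊥ := by
  refine ⟨bot_le, fun P φ hφ => ⟨restr (sup_le le_rfl bot_le) φ, restr_mem F hφ _,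
    fun x => rfl, fun x => ?_⟩⟩
  have hx : x = 1 := Subtype.ext (Subgroup.mem_bot.1 x.2)
  subst hx
  rw [map_one, map_one]
  rfl

theorem isCentral_sup {F : FusionSystem S} {A B : Subgroup Ω} (hA : F.IsCentral A)
    (hB : F.IsCentral B) : F.IsCentral (A ⊔ B) := by
  refine ⟨sup_le hA.1 hB.1, fun P φ hφ => ?_⟩
  obtain ⟨ψ₁, hψ₁, hext₁, hfix₁⟩ := hA.2 P φ hφ
  obtain ⟨ψ₂, hψ₂, hext₂, hfix₂⟩ := hB.2 _ ψ₁ hψ₁
  have hle : P ⊔ (A ⊔ B) ≤ P ⊔ A ⊔ B := sup_assoc P A B ▸ le_rfl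
  refine ⟨restr hle ψ₂, restr_mem F hψ₂ hle, fun x => ?_, ?_⟩
  · have h1 := hext₂ ⟨x, Subgroup.mem_sup_left x.2⟩
    rw [← hext₁ x]
    exact h1
  · let K : Subgroup (↥(A ⊔ B)) :=
      ((restr hle ψ₂).comp (Subgroup.inclusion le_sup_right)).eqLocus (A ⊔ B).subtype
    have hKA : A.subgroupOf (A ⊔ B) ≤ K := by
      intro x hx
      have h1 := hext₂ ⟨x, Subgroup.mem_sup_right hx⟩
      have h2 := hfix₁ ⟨x, hx⟩
      exact h1.trans h2
    have hKB : B.subgroupOf (A ⊔ B) ≤ K := fun x hx => hfix₂ ⟨x, hx⟩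
    intro x
    have : x ∈ A.subgroupOf (A ⊔ B) ⊔ B.subgroupOf (A ⊔ B) := by
      rw [← Subgroup.subgroupOf_sup le_sup_left le_sup_right, Subgroup.subgroupOf_self]
      trivial
    exact (sup_le hKA hKB) this

theorem isCentral_center (F : FusionSystem S) [Finite S] : F.IsCentral F.center := by
  have hfin : {Q : Subgroup Ω | F.IsCentral Q}.Finite :=
    finite_subgroups_le.subset fun Q hQ => hQ.1
  have key : ∀ t : Finset (Subgroup Ω), (∀ Q ∈ t, F.IsCentral Q) → F.IsCentral (t.sup id) := by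
    classical
    intro t
    induction t using Finset.induction_on with
    | empty => exact fun _ => isCentral_bot F
    | insert a s _ ih =>
      intro h
      rw [Finset.sup_insert]
      exact isCentral_sup (h a (Finset.mem_insert_self _ _))
        (ih fun Q hQ => h Q (Finset.mem_insert_of_mem hQ))
  rw [FusionSystem.center]
  have : sSup {Q : Subgroup Ω | F.IsCentral Q} = hfin.toFinset.sup id := by
    rw [Finset.sup_id_eq_sSup, Set.Finite.coe_toFinset]
  rw [this]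
  exact key _ fun Q hQ => hfin.mem_toFinset.1 hQ

/-! ### Normalizer and centralizer systems -/

theorem normalizerIn_sup_mem {Q : Subgroup Ω} {g x : Ω} {P : Subgroup Ω}
    (hg : g ∈ normalizerIn S Q) (hP : P ≤ S) (hQ : Q ≤ S) (hx : x ∈ P ⊔ Q) :
    g * x * g⁻¹ ∈ S :=
  S.mul_mem (S.mul_mem hg.1 (sup_le hP hQ hx)) (S.inv_mem hg.1)

/-- The normalizer system of `Q`. -/
def normalizerSystem (F : FusionSystem S) (Q : Subgroup Ω) (hQ : Q ≤ S) :
    FusionSystem (normalizerIn S Q) where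
  Hom P := F.normalizerHom Q P
  le_of_mem h := ⟨h.2.1, h.2.2.1⟩
  injective_of_mem h := F.injective_of_mem h.1
  conj_mem {P g} hP hg := by
    have hPS := hP.trans (normalizerIn_le S Q)
    refine ⟨F.conj_mem hPS hg.1, hP, fun x => ?_, conjHom _ g,
      F.conj_mem (sup_le hPS hQ) hg.1, fun x => rfl, ?_⟩
    · exact Subgroup.mul_mem _ (Subgroup.mul_mem _ hg (hP x.2)) (Subgroup.inv_mem _ hg)
    · ext y
      rw [Subgroup.mem_map]
      constructor
      · rintro ⟨x, hx, rfl⟩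
        exact conj_mem_of_mem_normalizer hg.2 hx
      · intro hy
        refine ⟨⟨g⁻¹ * y * g, Subgroup.mem_sup_right ((mem_normalizer_iff'.1 hg.2).2 y hy)⟩,
          (mem_normalizer_iff'.1 hg.2).2 y hy, ?_⟩
        show g * (g⁻¹ * y * g) * g⁻¹ = y
        simp [mul_assoc]
  comp_mem {P R φ ψ} hφ hψ h := by
    obtain ⟨hφF, hP, hφN, φ', hφ', hext, himg⟩ := hφ
    obtain ⟨hψF, hR, hψN, ψ', hψ', hext', himg'⟩ := hψ
    refine ⟨F.comp_mem hφF hψF h, hP, fun x => hψN _, ?_⟩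
    have hle : P ⊔ Q ≤ Subgroup.map (P ⊔ Q).subtype ((R ⊔ Q).comap φ') := by
      refine sup_le (fun x hx => ?_) (fun x hx => ?_)
      · refine ⟨⟨x, Subgroup.mem_sup_left hx⟩, ?_, rfl⟩
        show φ' _ ∈ R ⊔ Q
        rw [show φ' ⟨x, Subgroup.mem_sup_left hx⟩ = φ ⟨x, hx⟩ from hext ⟨x, hx⟩]
        exact Subgroup.mem_sup_left (h _)
      · refine ⟨⟨x, Subgroup.mem_sup_right hx⟩, ?_, rfl⟩
        show φ' _ ∈ R ⊔ Q
        exact Subgroup.mem_sup_right (himg.le ⟨⟨x, Subgroup.mem_sup_right hx⟩, hx, rfl⟩)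
    have h' : ∀ x, φ' x ∈ R ⊔ Q := by
      intro x
      obtain ⟨y, hy, hyx⟩ := hle x.2
      rw [← Subtype.ext (a1 := y) (a2 := x) hyx]
      exact hy
    refine ⟨compose φ' ψ' h', compose_mem F hφ' hψ' h', fun x => ?_, ?_⟩
    · have e : (⟨φ' (Subgroup.inclusion le_sup_left x), h' _⟩ : ↥(R ⊔ Q)) =
          Subgroup.inclusion le_sup_left ⟨φ x, h x⟩ := Subtype.ext (hext x)
      rw [compose_apply, e, hext']
      rfl
    · show img (compose φ' ψ' h') Q = Q
      rw [img_img, show img φ' Q = Q from himg]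
      exact himg'
  inv_mem {P φ} hφ := by
    obtain ⟨hφF, hP, hφN, φ', hφ', hext, himg⟩ := hφ
    obtain ⟨ψ, hψ, hl⟩ := F.inv_mem hφF
    obtain ⟨ψ', hψ', hr', hl', -⟩ := exists_inv F hφ' rfl
    have hrange : φ.range ⊔ Q ≤ φ'.range := by
      refine sup_le ?_ (himg.ge.trans (img_le_range φ' Q))
      rintro _ ⟨x, rfl⟩
      exact ⟨Subgroup.inclusion le_sup_left x, hext x⟩
    have hψP : ∀ y, ψ y ∈ normalizerIn S Q := by
      rintro ⟨_, x, rfl⟩
      rw [hl]
      exact hP x.2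
    have hrN : φ.range ≤ normalizerIn S Q := by
      rintro _ ⟨x, rfl⟩
      exact hφN x
    refine ⟨ψ, ⟨hψ, hrN, hψP, restr hrange ψ', restr_mem F hψ' _, ?_, ?_⟩, hl⟩
    · rintro ⟨_, x, rfl⟩
      rw [hl, restr_apply]
      have e : φ' (Subgroup.inclusion le_sup_left x) = φ x := hext x
      have := hl' (Subgroup.inclusion le_sup_left x) ⟨_, rfl⟩
      simp only [e] at this
      exact this
    · show img (restr hrange ψ') Q = Q
      rw [img_restr hrange ψ' le_sup_right]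
      ext y
      rw [mem_img]
      constructor
      · rintro ⟨x, hx, hxQ, rfl⟩
        obtain ⟨z, hz, hzx⟩ := himg.ge hxQ
        have := hl' z ⟨_, rfl⟩
        simp only [hzx] at this
        rw [this]
        exact hz
      · intro hy
        refine ⟨φ' ⟨y, Subgroup.mem_sup_right hy⟩, ⟨_, rfl⟩,
          himg.le ⟨⟨y, Subgroup.mem_sup_right hy⟩, hy, rfl⟩, hl' _ _⟩

theorem normalizerSystem_spec (F : FusionSystem S) (Q : Subgroup Ω) (hQ : Q ≤ S) :
    F.IsNormalizerSystem Q (normalizerSystem F Q hQ) := fun _ => rfl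

/-- The centralizer system of `Q`. -/
def centralizerSystem (F : FusionSystem S) (Q : Subgroup Ω) (hQ : Q ≤ S) :
    FusionSystem (centralizerIn S Q) where
  Hom P := F.centralizerHom Q P
  le_of_mem h := ⟨h.2.1, h.2.2.1⟩
  injective_of_mem h := F.injective_of_mem h.1
  conj_mem {P g} hP hg := by
    have hPS := hP.trans (centralizerIn_le S Q)
    refine ⟨F.conj_mem hPS hg.1, hP, fun x => ?_, conjHom _ g,
      F.conj_mem (sup_le hPS hQ) hg.1, fun x => rfl, fun x => ?_⟩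
    · exact Subgroup.mul_mem _ (Subgroup.mul_mem _ hg (hP x.2)) (Subgroup.inv_mem _ hg)
    · exact (mem_centralizerIn_iff_conj.1 hg).2 x x.2
  comp_mem {P R φ ψ} hφ hψ h := by
    obtain ⟨hφF, hP, hφN, φ', hφ', hext, hfix⟩ := hφ
    obtain ⟨hψF, hR, hψN, ψ', hψ', hext', hfix'⟩ := hψ
    refine ⟨F.comp_mem hφF hψF h, hP, fun x => hψN _, ?_⟩
    have hle : P ⊔ Q ≤ Subgroup.map (P ⊔ Q).subtype ((R ⊔ Q).comap φ') := by
      refine sup_le (fun x hx => ?_) (fun x hx => ?_)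
      · refine ⟨⟨x, Subgroup.mem_sup_left hx⟩, ?_, rfl⟩
        show φ' _ ∈ R ⊔ Q
        rw [show φ' ⟨x, Subgroup.mem_sup_left hx⟩ = φ ⟨x, hx⟩ from hext ⟨x, hx⟩]
        exact Subgroup.mem_sup_left (h _)
      · refine ⟨⟨x, Subgroup.mem_sup_right hx⟩, ?_, rfl⟩
        show φ' _ ∈ R ⊔ Q
        rw [show φ' ⟨x, Subgroup.mem_sup_right hx⟩ = x from hfix ⟨x, hx⟩]
        exact Subgroup.mem_sup_right hx
    have h' : ∀ x, φ' x ∈ R ⊔ Q := by
      intro x
      obtain ⟨y, hy, hyx⟩ := hle x.2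
      rw [← Subtype.ext (a1 := y) (a2 := x) hyx]
      exact hy
    refine ⟨compose φ' ψ' h', compose_mem F hφ' hψ' h', fun x => ?_, fun x => ?_⟩
    · have e : (⟨φ' (Subgroup.inclusion le_sup_left x), h' _⟩ : ↥(R ⊔ Q)) =
          Subgroup.inclusion le_sup_left ⟨φ x, h x⟩ := Subtype.ext (hext x)
      rw [compose_apply, e, hext']
      rfl
    · have e : (⟨φ' (Subgroup.inclusion le_sup_right x), h' _⟩ : ↥(R ⊔ Q)) =
          Subgroup.inclusion le_sup_right x := Subtype.ext (hfix x)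
      rw [compose_apply, e, hfix']
  inv_mem {P φ} hφ := by
    obtain ⟨hφF, hP, hφN, φ', hφ', hext, hfix⟩ := hφ
    obtain ⟨ψ, hψ, hl⟩ := F.inv_mem hφF
    obtain ⟨ψ', hψ', hr', hl', -⟩ := exists_inv F hφ' rfl
    have hrange : φ.range ⊔ Q ≤ φ'.range := by
      refine sup_le ?_ fun x hx => ⟨_, hfix ⟨x, hx⟩⟩
      rintro _ ⟨x, rfl⟩
      exact ⟨Subgroup.inclusion le_sup_left x, hext x⟩
    have hψP : ∀ y, ψ y ∈ centralizerIn S Q := by
      rintro ⟨_, x, rfl⟩
      rw [hl]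
      exact hP x.2
    have hrN : φ.range ≤ centralizerIn S Q := by
      rintro _ ⟨x, rfl⟩
      exact hφN x
    refine ⟨ψ, ⟨hψ, hrN, hψP, restr hrange ψ', restr_mem F hψ' _, ?_, ?_⟩, hl⟩
    · rintro ⟨_, x, rfl⟩
      rw [hl, restr_apply]
      have e : φ' (Subgroup.inclusion le_sup_left x) = φ x := hext x
      have := hl' (Subgroup.inclusion le_sup_left x) ⟨_, rfl⟩
      simp only [e] at this
      exact this
    · intro x
      rw [restr_apply]
      have e : φ' (Subgroup.inclusion le_sup_right x) = x := hfix x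
      have := hl' (Subgroup.inclusion le_sup_right x) ⟨_, rfl⟩
      simp only [e] at this
      exact this

theorem centralizerSystem_spec (F : FusionSystem S) (Q : Subgroup Ω) (hQ : Q ≤ S) :
    F.IsCentralizerSystem Q (centralizerSystem F Q hQ) := fun _ => rfl

end Cfsg.Agent.Lib.Fusion
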