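import Cfsg.Agent.Lib.Fusion.Essential
import Cfsg.Agent.Lib.Fusion.Normal

/-!
Criteria for a subgroup to be normal or central in a saturated fusion system.
-/

set_option autoImplicit false
set_option linter.unusedSectionVars false

namespace Cfsg.Agent.Lib.Fusion

open Cfsg Cfsg.FusionSystem

variable {Ω : Type*} [Group Ω] {S : Subgroup Ω}

/-- A system over `T = S` regarded as a system over `S`. -/
def recast {T : Subgroup Ω} (E : FusionSystem T) (h : T = S) : FusionSystem S where
  Hom := E.Hom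
  le_of_mem hφ := by subst h; exact E.le_of_mem hφ
  injective_of_mem hφ := E.injective_of_mem hφ
  conj_mem hP hg := by subst h; exact E.conj_mem hP hg
  comp_mem hφ hψ := E.comp_mem hφ hψ
  inv_mem hφ := E.inv_mem hφ

/-- A stabilizer of an invariant series is contained in the largest normal `p`-subgroup. -/
theorem stab_mem_pCore {P : Type*} [Group P] [Finite P] {p : ℕ} [Fact p.Prime]
    (hp : IsPGroup p P) (A : Subgroup (MulAut P)) (W : ℕ → Subgroup P) (m : ℕ) (h0 : W 0 = ⊥)
    (hm : W m = ⊤) (hinv : ∀ α ∈ A, ∀ i, ∀ x ∈ W i, α x ∈ W i) {β : MulAut P} (hβA : β ∈ A)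
    (hβ : ∀ i < m, ∀ x ∈ W (i + 1), x⁻¹ * β x ∈ W i) :
    β ∈ (pCore p A).map A.subtype := by
  let N : Subgroup A :=
    { carrier := {α : A | ∀ i < m, ∀ x ∈ W (i + 1), x⁻¹ * (α : MulAut P) x ∈ W i}
      one_mem' := fun i _ x _ => by
        simp only [OneMemClass.coe_one, MulAut.one_apply, inv_mul_cancel]
        exact Subgroup.one_mem _
      mul_mem' := fun {a b} ha hb i hi x hx => by
        have h1 := hinv _ a.2 i _ (hb i hi x hx)
        have h2 := Subgroup.mul_mem _ (ha i hi x hx) h1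
        have e : x⁻¹ * (a : MulAut P) x * (a : MulAut P) (x⁻¹ * (b : MulAut P) x) =
            x⁻¹ * (a : MulAut P) ((b : MulAut P) x) := by
          rw [map_mul, map_inv]
          group
        rw [e] at h2
        exact h2
      inv_mem' := fun {a} ha i hi x hx => by
        have hy : ((a⁻¹ : A) : MulAut P) x ∈ W (i + 1) := hinv _ (a⁻¹ : A).2 _ x hx
        have h1 := ha i hi _ hy
        have e : (a : MulAut P) (((a⁻¹ : A) : MulAut P) x) = x :=
          (a : MulAut P).apply_symm_apply x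
        rw [e] at h1
        have h2 := Subgroup.inv_mem _ h1
        rwa [mul_inv_rev, inv_inv] at h2 }
  have : N.Normal := ⟨fun a ha g i hi x hx => by
    have hy : ((g⁻¹ : A) : MulAut P) x ∈ W (i + 1) := hinv _ (g⁻¹ : A).2 _ x hx
    have h1 := hinv _ g.2 i _ (ha i hi _ hy)
    have e : (g : MulAut P) (((g⁻¹ : A) : MulAut P) x) = x :=
      (g : MulAut P).apply_symm_apply x
    rw [map_mul, map_inv, e] at h1
    exact h1⟩
  obtain ⟨n, hn⟩ : ∃ n, Nat.card P = p ^ n := IsPGroup.iff_card.1 hp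
  have hN : IsPGroup p N := by
    intro a
    have key : ∀ i ≤ m, ∀ x ∈ W i, ((((a : A) : MulAut P)) ^ (p ^ (n * i))) x = x := by
      intro i
      induction i with
      | zero =>
        intro _ x hx
        rw [h0, Subgroup.mem_bot] at hx
        rw [hx, map_one]
      | succ i ih =>
        intro hi x hx
        have hb := Subgroup.pow_mem N a.2 (p ^ (n * i))
        have hw := hb i hi x hx
        rw [SubmonoidClass.coe_pow] at hw
        generalize hwdef : x⁻¹ * ((((a : A) : MulAut P)) ^ (p ^ (n * i))) x = w at hw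
        have hfix := ih (Nat.le_of_succ_le hi) w hw
        generalize hbdef : (((a : A) : MulAut P)) ^ (p ^ (n * i)) = b at hwdef hfix
        have hbx : b x = x * w := by rw [← hwdef, mul_inv_cancel_left]
        have hk : ∀ k : ℕ, (b ^ k) x = x * w ^ k := by
          intro k
          induction k with
          | zero => simp
          | succ k ihk =>
            rw [pow_succ', MulAut.mul_apply, ihk, map_mul, map_pow, hfix, hbx, mul_assoc,
              ← pow_succ']
        rw [mul_add, mul_one, pow_add, pow_mul, hbdef, hk, ← hn, pow_card_eq_one', mul_one]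
    refine ⟨n * m, Subtype.ext (Subtype.ext (MulEquiv.ext fun x => ?_))⟩
    simp only [SubmonoidClass.coe_pow]
    exact key m le_rfl x (hm ▸ Subgroup.mem_top x)
  exact ⟨⟨β, hβA⟩, le_pCore_of_normal hN hβ, rfl⟩

variable {p : ℕ} [Fact p.Prime] [Finite S] {F : FusionSystem S}

theorem IsNormal.stronglyClosed {Q : Subgroup Ω} (h : F.IsNormal Q) : F.StronglyClosed Q := by
  refine ⟨h.1, fun R hR φ hφ x => ?_⟩
  obtain ⟨ψ, -, hext, himg⟩ := h.2 R φ hφ
  rw [← hext x]
  refine himg.le ?_
  exact apply_mem_img ψ _ (hR x.2)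

theorem StronglyClosed.weaklyClosed {Q : Subgroup Ω} (h : F.StronglyClosed Q) :
    F.WeaklyClosed Q := by
  refine ⟨h.1, fun φ hφ => ?_⟩
  have := finite_of_le h.1
  refine Subgroup.eq_of_le_of_card_ge ?_ (card_range_eq (F.injective_of_mem hφ)).ge
  rintro _ ⟨x, rfl⟩
  exact h.2 Q le_rfl φ hφ x

/-- A weakly closed subgroup is carried onto itself by every map whose source contains it. -/
theorem WeaklyClosed.img_eq {Q P : Subgroup Ω} (h : F.WeaklyClosed Q) {φ : P →* Ω}
    (hφ : φ ∈ F.Hom P) (hle : Q ≤ P) : img φ Q = Q := by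
  rw [← range_restr hle φ]
  exact h.2 _ (restr_mem F hφ hle)

theorem WeaklyClosed.le_normalizer {Q : Subgroup Ω} (h : F.WeaklyClosed Q) :
    S ≤ Subgroup.normalizer (Q : Set Ω) := by
  intro g hg
  have := finite_of_le h.1
  refine mem_normalizer_of_finite fun x hx => ?_
  have h1 := h.2 _ (F.conj_mem h.1 hg)
  rw [← h1]
  exact ⟨⟨x, hx⟩, rfl⟩

theorem le_normalizerIn_iff {Q : Subgroup Ω} :
    normalizerIn S Q = S ↔ S ≤ Subgroup.normalizer (Q : Set Ω) :=
  inf_eq_left

/-- An automorphism of a subgroup extending to the join with a subgroup `Q`. -/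
theorem sup_eq_of_extends (hS : IsPGroup p S) (hF : F.IsSaturated p) {P Q : Subgroup Ω}
    (hP : F.IsEssential p P) (hQ : F.IsNormal Q) : P ⊔ Q = P := by
  by_contra hne
  refine IsEssential.extAut_ne hS hF hP (le_antisymm (extAut_le F P) fun α hα => ?_)
  obtain ⟨ψ, hψ, hext, -⟩ := hQ.2 P (autHom α) (autHom_mem F hP.1.1 hα)
  exact mem_extAut_of_extends (lt_of_le_of_ne le_sup_left (Ne.symm hne)) hψ
    fun x hx _ => hext ⟨x, hx⟩

theorem IsNormal.le_and_invariant (hS : IsPGroup p S) (hF : F.IsSaturated p) {Q : Subgroup Ω}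
    (hQ : F.IsNormal Q) {P : Subgroup Ω} (hP : P = S ∨ F.IsEssential p P) :
    Q ≤ P ∧ ∀ α ∈ F.autGroup P, (Q.subgroupOf P).map α.toMonoidHom = Q.subgroupOf P := by
  have hQP : Q ≤ P := by
    rcases hP with rfl | hP
    · exact hQ.1
    · exact le_sup_right.trans (sup_eq_of_extends hS hF hP hQ).le
  have hPS : P ≤ S := by
    rcases hP with rfl | hP
    · exact le_rfl
    · exact hP.1.1
  refine ⟨hQP, fun α hα => ?_⟩
  have h := WeaklyClosed.img_eq (StronglyClosed.weaklyClosed (IsNormal.stronglyClosed hQ))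
    (autHom_mem F hPS hα) hQP
  apply Subgroup.map_injective P.subtype_injective
  rw [Subgroup.map_map, Subgroup.map_subgroupOf_eq_of_le hQP]
  exact h

theorem normal_of_invariant (hS : IsPGroup p S) (hF : F.IsSaturated p) {Q : Subgroup Ω}
    (h : ∀ P : Subgroup Ω, (P = S ∨ F.IsEssential p P) →
      Q ≤ P ∧ ∀ α ∈ F.autGroup P, (Q.subgroupOf P).map α.toMonoidHom = Q.subgroupOf P) :
    F.IsNormal Q := by
  have hQS : Q ≤ S := (h S (Or.inl rfl)).1
  have hN : normalizerIn S Q = S := by
    refine le_normalizerIn_iff.2 fun g hg => ?_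
    have := finite_of_le hQS
    refine mem_normalizer_of_finite fun x hx => ?_
    have hgN : g ∈ Subgroup.normalizer (S : Set Ω) := Subgroup.le_normalizer hg
    have h1 := (h S (Or.inl rfl)).2 _ (conjAut_mem_autGroup F le_rfl hg hgN)
    have h2 : conjAut hgN ⟨x, hQS hx⟩ ∈ Q.subgroupOf S :=
      h1.le ⟨⟨x, hQS hx⟩, hx, rfl⟩
    exact h2
  let E := recast (normalizerSystem F Q hQS) hN
  have hle : F ≤ E := alperin hS hF E fun P hP α hα => by
    obtain ⟨hQP, hinv⟩ := h P hP
    have hPS : P ≤ S := by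
      rcases hP with rfl | hP
      · exact le_rfl
      · exact hP.1.1
    have hα' := autHom_mem F hPS hα
    refine mem_autGroup_of_hom E ⟨hα', hN.symm ▸ hPS, fun x => hN.symm ▸ apply_mem hα' x,
      restr (sup_le le_rfl hQP) (autHom α), restr_mem F hα' _, fun x => rfl, ?_⟩
    show img (restr (sup_le le_rfl hQP) (autHom α)) Q = Q
    rw [img_restr (sup_le le_rfl hQP) _ le_sup_right, img, autHom, ← Subgroup.map_map,
      hinv α hα, Subgroup.map_subgroupOf_eq_of_le hQP]
  refine ⟨hQS, fun P φ hφ => ?_⟩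
  obtain ⟨-, -, -, hψ⟩ := hle P hφ
  exact hψ

theorem normal_iff_invariant (hS : IsPGroup p S) (hF : F.IsSaturated p) (Q : Subgroup Ω) :
    F.IsNormal Q ↔ ∀ P : Subgroup Ω, (P = S ∨ F.IsEssential p P) →
      (Q ≤ P ∧ ∀ α ∈ F.autGroup P, (Q.subgroupOf P).map α.toMonoidHom = Q.subgroupOf P) :=
  ⟨fun hQ _ hP => IsNormal.le_and_invariant hS hF hQ hP, normal_of_invariant hS hF⟩

/-- A strongly closed subgroup contained in all essential subgroups is normal. -/
theorem normal_of_stronglyClosed_of_le (hS : IsPGroup p S) (hF : F.IsSaturated p)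
    {Q : Subgroup Ω} (hQ : F.StronglyClosed Q)
    (h : ∀ P : Subgroup Ω, F.IsEssential p P → Q ≤ P) : F.IsNormal Q := by
  refine normal_of_invariant hS hF fun P hP => ?_
  have hQP : Q ≤ P := by
    rcases hP with rfl | hP
    · exact hQ.1
    · exact h P hP
  have hPS : P ≤ S := by
    rcases hP with rfl | hP
    · exact le_rfl
    · exact hP.1.1
  refine ⟨hQP, fun α hα => ?_⟩
  have h := WeaklyClosed.img_eq (StronglyClosed.weaklyClosed hQ) (autHom_mem F hPS hα) hQP
  apply Subgroup.map_injective P.subtype_injective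
  rw [Subgroup.map_map, Subgroup.map_subgroupOf_eq_of_le hQP]
  exact h

/-- If `N_{PQ}(P) ≤ P` then `Q ≤ P`. -/
theorem le_of_normalizer_le (hS : IsPGroup p S) {P Q : Subgroup Ω} (hP : P ≤ S) (hQ : Q ≤ S)
    (hn : P ≤ Subgroup.normalizer (Q : Set Ω)) (h : normalizerIn Q P ≤ P) : Q ≤ P := by
  by_contra hne
  have hle : P ⊔ Q ≤ S := sup_le hP hQ
  have := finite_of_le hle
  obtain ⟨g, hg, hgP⟩ := SetLike.exists_of_lt (lt_normalizerIn (hS.to_le hle)
    (lt_of_le_of_ne le_sup_left fun e => hne (le_sup_right.trans e.ge)))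
  obtain ⟨hg1, hg2⟩ := hg
  have hg1' : g ∈ ((P ⊔ Q : Subgroup Ω) : Set Ω) := hg1
  rw [Subgroup.coe_mul_of_left_le_normalizer_right P Q hn] at hg1'
  obtain ⟨a, ha, b, hb, rfl⟩ := hg1'
  refine hgP (P.mul_mem ha (h ⟨hb, ?_⟩))
  have := Subgroup.mul_mem _ (Subgroup.inv_mem _ (Subgroup.le_normalizer (ha : a ∈ P))) hg2
  rwa [inv_mul_cancel_left] at this

/-- A strongly closed subgroup with a central series of weakly closed subgroups is normal. -/
theorem normal_of_series (hS : IsPGroup p S) (hF : F.IsSaturated p) {Q : Subgroup Ω}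
    (hQ : F.StronglyClosed Q) {n : ℕ} (C : Fin (n + 1) → Subgroup Ω) (h0 : C 0 = ⊥)
    (hn : C (Fin.last n) = Q) (hmono : Monotone C)
    (hcomm : ∀ i : Fin n, ⁅C i.succ, Q⁆ ≤ C i.castSucc)
    (hwc : ∀ i : Fin n, F.WeaklyClosed (C i.castSucc)) : F.IsNormal Q := by
  refine normal_of_stronglyClosed_of_le hS hF hQ fun P hP => ?_
  have hPc := hP.1
  have hrad := IsEssential.radical hS hF hP
  have hPS := hPc.1
  have := finite_of_le hPS
  have hCwc : ∀ j, F.WeaklyClosed (C j) := by
    intro j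
    induction j using Fin.lastCases with
    | last =>
      rw [hn]
      exact StronglyClosed.weaklyClosed hQ
    | cast i => exact hwc i
  have hQnorm : S ≤ Subgroup.normalizer (Q : Set Ω) := hn ▸ WeaklyClosed.le_normalizer (hCwc _)
  have key : ∀ j : Fin (n + 1), C j ≤ P := by
    intro j
    induction j using Fin.induction with
    | zero => rw [h0]; exact bot_le
    | succ i ih =>
      refine le_of_normalizer_le hS hPS (hCwc i.succ).1 (hPS.trans (WeaklyClosed.le_normalizer (hCwc i.succ))) ?_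
      intro g hg
      obtain ⟨hgC, hgN⟩ := hg
      have hgS : g ∈ normalizerIn S P := ⟨(hCwc i.succ).1 hgC, hgN⟩
      have hgQ : g ∈ Q := hn ▸ hmono (Fin.le_last _) hgC
      refine mem_of_conjAut_inn hPc hgS ?_
      rw [← hrad.2]
      let W : ℕ → Subgroup P := fun k =>
        if h : k ≤ i.1 then (C ⟨k, by omega⟩).subgroupOf P
        else if k = i.1 + 1 then Q.subgroupOf P else ⊤
      have hW0 : W 0 = ⊥ := by
        have : W 0 = (C 0).subgroupOf P := dif_pos (Nat.zero_le _)
        rw [this, h0, Subgroup.bot_subgroupOf]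
      have hWm : W (i.1 + 2) = ⊤ := by
        simp only [W]
        rw [dif_neg (by omega), if_neg (by omega)]
      refine stab_mem_pCore (hS.to_le hPS) (F.autGroup P) W (i.1 + 2) hW0 hWm ?_
        (conjAut_mem_autGroup F hPS hgS.1 hgN) ?_
      · intro α hα k x hx
        have hα' := autHom_mem F hPS hα
        simp only [W] at hx ⊢
        split_ifs at hx ⊢ with h1 h2
        · have hle : C ⟨k, by omega⟩ ≤ P :=
            (hmono (show (⟨k, by omega⟩ : Fin (n + 1)) ≤ i.castSucc from h1)).trans ih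
          have h3 := apply_mem_img (autHom α) x hx
          rw [WeaklyClosed.img_eq (hCwc _) hα' hle] at h3
          exact h3
        · exact hQ.2 (Q ⊓ P) inf_le_left _
            (restr_mem F hα' inf_le_right) ⟨x, hx, x.2⟩
        · trivial
      · intro k hk x hx
        have e : x⁻¹ * conjAut hgN x = ⟨(x : Ω)⁻¹ * (g * x * g⁻¹),
          P.mul_mem (P.inv_mem x.2) (conj_mem_of_mem_normalizer hgN x.2)⟩ := rfl
        rw [e]
        simp only [W] at hx ⊢
        rcases Nat.lt_trichotomy k i.1 with hlt | heq | hgt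
        · rw [dif_pos (by omega : k + 1 ≤ i.1)] at hx
          rw [dif_pos (by omega : k ≤ i.1)]
          have h3 : (x : Ω)⁻¹ * (g * x * g⁻¹) ∈ ⁅C ⟨k + 1, by omega⟩, Q⁆ := by
            have := Subgroup.commutator_mem_commutator
              (Subgroup.inv_mem _ (Subgroup.mem_subgroupOf.1 hx)) hgQ
            rw [commutatorElement_def, inv_inv] at this
            simpa only [mul_assoc] using this
          exact hcomm ⟨k, by omega⟩ h3
        · subst heq
          rw [dif_neg (by omega), if_pos rfl] at hx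
          rw [dif_pos le_rfl]
          have h3 : (x : Ω)⁻¹ * (g * x * g⁻¹) ∈ ⁅Q, C i.succ⁆ := by
            have := Subgroup.commutator_mem_commutator
              (Subgroup.inv_mem _ (Subgroup.mem_subgroupOf.1 hx)) hgC
            rw [commutatorElement_def, inv_inv] at this
            simpa only [mul_assoc] using this
          rw [Subgroup.commutator_comm] at h3
          exact hcomm i h3
        · have hk1 : k = i.1 + 1 := by omega
          rw [dif_neg (by omega), if_pos hk1]
          have hc := conj_mem_of_mem_normalizer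
            (hQnorm (S.inv_mem (hPS x.2))) hgQ
          rw [inv_inv] at hc
          show (x : Ω)⁻¹ * (g * x * g⁻¹) ∈ Q
          have := Q.mul_mem hc (Q.inv_mem hgQ)
          simpa only [mul_assoc] using this
  exact hn ▸ key (Fin.last n)

/-- Membership of the normal subgroup in every centric radical subgroup. -/
theorem IsNormal.le_centricRadical (hS : IsPGroup p S) {Q P : Subgroup Ω} (hQ : F.IsNormal Q)
    (hc : F.IsCentric P) (hr : F.IsRadical p P) : Q ≤ P := by
  have hPS := hc.1
  have hQn : S ≤ Subgroup.normalizer (Q : Set Ω) :=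
    WeaklyClosed.le_normalizer (StronglyClosed.weaklyClosed (IsNormal.stronglyClosed hQ))
  refine le_of_normalizer_le hS hPS hQ.1 (hPS.trans hQn) fun g hg => ?_
  have hgS : g ∈ normalizerIn S P := ⟨hQ.1 hg.1, hg.2⟩
  refine mem_of_conjAut_inn hc hgS ?_
  rw [← hr.2]
  have := finite_mulAut hPS
  let N := (autInducedBy (P ⊔ Q) P).subgroupOf (F.autGroup P)
  have hsup : P ⊔ Q ≤ S := sup_le hPS hQ.1
  have hNn : N.Normal := by
    constructor
    rintro ⟨β, hβ⟩ hβN ⟨α, hα⟩
    obtain ⟨k, hk, hkx⟩ := mem_autInducedBy.1 hβN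
    obtain ⟨ψ, hψ, hext, himg⟩ := hQ.2 P (autHom α) (autHom_mem F hPS hα)
    have hval : ψ ⟨k, hk⟩ ∈ P ⊔ Q := by
      have h1 : img ψ (P ⊔ Q) ≤ P ⊔ Q := by
        rw [img_sup ψ le_sup_left le_sup_right]
        refine sup_le (le_trans ?_ le_sup_left) (le_trans himg.le le_sup_right)
        rintro _ ⟨x, hx, rfl⟩
        have := hext ⟨x, hx⟩
        exact this ▸ (α ⟨x, hx⟩).2
      exact h1 (apply_mem_img ψ _ hk)
    refine mem_autInducedBy.2 ⟨ψ ⟨k, hk⟩, hval, fun x => ?_⟩
    obtain ⟨y, rfl⟩ := α.surjective x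
    show ((α (β (α.symm (α y))) : P) : Ω) = _
    rw [MulEquiv.symm_apply_apply]
    have h1 : (β y : Ω) = k * y * k⁻¹ := hkx y
    have hmem : k * (y : Ω) * k⁻¹ ∈ P := h1 ▸ (β y).2
    have h2 := map_conj (φ := autHom α) (ψ := ψ) (fun z hz _ => hext ⟨z, hz⟩) le_sup_left hk y.2
      hmem
    rw [show β y = ⟨k * y * k⁻¹, hmem⟩ from Subtype.ext h1]
    exact h2
  have hNp : IsPGroup p N :=
    (isPGroup_autInducedBy (hS.to_le hsup) P).of_equiv
      (Subgroup.subgroupOfEquivOfLe
        ((autInducedBy_mono hsup).trans (autInducedBy_le_autGroup F hPS))).symm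
  exact ⟨⟨_, conjAut_mem_autGroup F hPS hgS.1 hgS.2⟩, le_pCore_of_normal hNp
    (conjAut_mem_autInducedBy (Subgroup.mem_sup_right hg.1) hg.2), rfl⟩

theorem normal_iff_stronglyClosed_le (hS : IsPGroup p S) (hF : F.IsSaturated p) (Q : Subgroup Ω) :
    F.IsNormal Q ↔ (F.StronglyClosed Q ∧
      ∀ P : Subgroup Ω, F.IsCentric P → F.IsRadical p P → Q ≤ P) :=
  ⟨fun h => ⟨IsNormal.stronglyClosed h, fun _ hc hr => IsNormal.le_centricRadical hS h hc hr⟩,
    fun h => normal_of_stronglyClosed_of_le hS hF h.1 fun P hP =>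
      h.2 P hP.1 (IsEssential.radical hS hF hP)⟩

end Cfsg.Agent.Lib.Fusion
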