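import Cfsg.Agent.Lib.Fusion.Realized
import Cfsg.Agent.Lib.Fusion.NormalCriteria

/-!
Maps of realized systems from conjugating elements; normal subgroups of the realizing group.
-/

set_option autoImplicit false
set_option linter.unusedSectionVars false

namespace Cfsg.Agent.Lib.Fusion

open Cfsg Cfsg.FusionSystem

variable {Ω : Type*} [Group Ω] {S : Subgroup Ω} {G : Type*} [Group G] {ι : S →* G}
  {F : FusionSystem S}

/-- An element of the realizing group conjugating `ι(P)` into `ι(S)` gives a map of the system. -/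
theorem IsRealizedBy.exists_hom (h : F.IsRealizedBy ι) {P : Subgroup Ω} (hP : P ≤ S) (g : G)
    (hg : ∀ x : P, g * ι ⟨x, hP x.2⟩ * g⁻¹ ∈ ι.range) :
    ∃ φ, ∃ hφ : φ ∈ F.Hom P,
      ∀ x : P, ι ⟨φ x, apply_mem hφ x⟩ = g * ι ⟨x, hP x.2⟩ * g⁻¹ := by
  let f : P →* ι.range :=
    ((MulAut.conj g).toMonoidHom.comp (ι.comp (Subgroup.inclusion hP))).codRestrict ι.range hg
  let φ : P →* Ω :=
    S.subtype.comp ((MonoidHom.ofInjective h.1).symm.toMonoidHom.comp f)
  have hφS : ∀ x, φ x ∈ S := fun x => SetLike.coe_mem _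
  have he : ∀ x : P, ι ⟨φ x, hφS x⟩ = g * ι ⟨x, hP x.2⟩ * g⁻¹ := by
    intro x
    have h1 := congrArg Subtype.val ((MonoidHom.ofInjective h.1).apply_symm_apply (f x))
    exact h1
  exact ⟨φ, (h.2 P hP φ hφS).2 ⟨g, he⟩, he⟩

/-- The preimage of a normal `p`-subgroup of the realizing group is normal in the system. -/
theorem IsRealizedBy.isNormal_preimage (h : F.IsRealizedBy ι) (R : Subgroup G) [hR : R.Normal]
    (hle : R ≤ ι.range) : F.IsNormal (preimageAlong ι R) := by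
  refine ⟨preimageAlong_le ι R, fun P φ hφ => ?_⟩
  have hP := source_le hφ
  let Q := preimageAlong ι R
  have hPQ : P ⊔ Q ≤ S := sup_le hP (preimageAlong_le ι R)
  obtain ⟨g, hg⟩ := IsRealizedBy.exists_conj h hφ
  have hmem : ∀ x : ↥(P ⊔ Q), g * ι ⟨x, hPQ x.2⟩ * g⁻¹ ∈ ι.range := by
    intro x
    have h1 : P ⊔ Q ≤ (ι.range.comap ((MulAut.conj g).toMonoidHom.comp ι)).map S.subtype := by
      refine sup_le (fun y hy => ⟨⟨y, hP hy⟩, ⟨_, hg ⟨y, hy⟩⟩, rfl⟩) fun y hy => ?_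
      obtain ⟨hyS, hyR⟩ := mem_preimageAlong.1 hy
      exact ⟨⟨y, hyS⟩, hle (hR.conj_mem _ hyR g), rfl⟩
    obtain ⟨y, hy, hyx⟩ := h1 x.2
    have e : y = ⟨x, hPQ x.2⟩ := Subtype.ext hyx
    exact e ▸ hy
  obtain ⟨ψ, hψ, he⟩ := IsRealizedBy.exists_hom h hPQ g hmem
  refine ⟨ψ, hψ, fun x => ?_, le_antisymm ?_ fun y hy => ?_⟩
  · exact congrArg Subtype.val (h.1 ((he (Subgroup.inclusion le_sup_left x)).trans (hg x).symm))
  · rintro _ ⟨x, hx, rfl⟩
    obtain ⟨hxS, hxR⟩ := mem_preimageAlong.1 (Subgroup.mem_subgroupOf.1 hx)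
    refine mem_preimageAlong.2 ⟨apply_mem hψ x, ?_⟩
    rw [he x]
    exact hR.conj_mem _ hxR g
  · obtain ⟨hyS, hyR⟩ := mem_preimageAlong.1 hy
    have h1 := hR.conj_mem _ hyR g⁻¹
    rw [inv_inv] at h1
    obtain ⟨x, hx⟩ := hle h1
    have hxQ : (x : Ω) ∈ preimageAlong ι R := mem_preimageAlong.2 ⟨x.2, show ι x ∈ R from hx.symm ▸ h1⟩
    refine ⟨⟨x, Subgroup.mem_sup_right hxQ⟩, hxQ, ?_⟩
    have h2 := he ⟨x, Subgroup.mem_sup_right hxQ⟩
    have h3 : g * ι x * g⁻¹ = ι ⟨y, hyS⟩ := by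
      rw [hx]
      group
    exact congrArg Subtype.val (h.1 (h2.trans h3))

variable {p : ℕ}

theorem pCore_le_sylow {G : Type*} [Group G] (T : Sylow p G) : pCore p G ≤ (T : Subgroup G) :=
  sSup_le fun N hN => by
    obtain ⟨hn, hp⟩ := hN
    exact hp.le_sylow_of_normal T

theorem pCore_normal (p : ℕ) (G : Type*) [Group G] : (pCore p G).Normal := by
  refine ⟨fun x hx g => ?_⟩
  have h1 : pCore p G ≤ (pCore p G).comap (MulAut.conj g).toMonoidHom :=
    sSup_le fun N hN y hy => by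
      obtain ⟨hn, hp⟩ := hN
      exact le_pCore_of_normal (N := N) hp (hn.conj_mem y hy g)
  exact h1 hx

/-- A system with a model is constrained. -/
theorem IsModel.isConstrained [Fact p.Prime] (h : F.IsModel p G ι) : F.IsConstrained p := by
  obtain ⟨hfin, hreal, ⟨T, hT⟩, hC⟩ := h
  have hle : pCore p G ≤ ι.range := hT ▸ pCore_le_sylow T
  have := pCore_normal p G
  have hN := IsRealizedBy.isNormal_preimage hreal (pCore p G) hle
  refine ⟨IsRealizedBy.isSaturated hreal T hT, _, hN, hN.1, fun Q' hQ' => ?_⟩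
  have : Finite S := Finite.of_injective ι hreal.1
  obtain ⟨φ, hφ, rfl⟩ := hQ'
  rw [(StronglyClosed.weaklyClosed (IsNormal.stronglyClosed hN)).2 φ hφ]
  intro c hc
  refine mem_preimageAlong.2 ⟨hc.1, hC (Subgroup.mem_centralizer_iff.2 fun y hy => ?_)⟩
  obtain ⟨x, rfl⟩ := hle hy
  rw [← map_mul, ← map_mul]
  exact congrArg ι (Subtype.ext (hc.2 x (mem_preimageAlong.2 ⟨x.2, hy⟩)))

end Cfsg.Agent.Lib.Fusion
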