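import Cfsg.Agent.Lib.Fusion.Basic

/-!
Automorphisms induced by conjugation, the extender, and transport along maps of a fusion system.
-/

set_option autoImplicit false

namespace Cfsg.Agent.Lib.Fusion

open Cfsg Cfsg.FusionSystem

variable {Ω : Type*} [Group Ω] {S : Subgroup Ω}

/-! ### Normalizers -/

theorem conj_mem_of_mem_normalizer {P : Subgroup Ω} {g : Ω}
    (hg : g ∈ Subgroup.normalizer (P : Set Ω)) {x : Ω} (hx : x ∈ P) : g * x * g⁻¹ ∈ P :=
  (hg x).1 hx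

theorem mem_normalizer_iff' {P : Subgroup Ω} {g : Ω} :
    g ∈ Subgroup.normalizer (P : Set Ω) ↔
      (∀ x ∈ P, g * x * g⁻¹ ∈ P) ∧ ∀ x ∈ P, g⁻¹ * x * g ∈ P := by
  constructor
  · intro h
    refine ⟨fun x hx => conj_mem_of_mem_normalizer h hx, fun x hx => ?_⟩
    have := conj_mem_of_mem_normalizer (inv_mem h) hx
    rwa [inv_inv] at this
  · rintro ⟨h₁, h₂⟩ x
    refine ⟨h₁ x, fun hx => ?_⟩
    have := h₂ _ hx
    simpa [mul_assoc] using this

/-- For a finite subgroup, `g P g⁻¹ ≤ P` suffices for `g` to normalize `P`. -/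
theorem mem_normalizer_of_finite {P : Subgroup Ω} [Finite P] {g : Ω}
    (h : ∀ x ∈ P, g * x * g⁻¹ ∈ P) : g ∈ Subgroup.normalizer (P : Set Ω) := by
  refine mem_normalizer_iff'.2 ⟨h, fun x hx => ?_⟩
  have hinj : Function.Injective fun y : P => (⟨g * y * g⁻¹, h _ y.2⟩ : P) := by
    intro a b hab
    simpa using hab
  obtain ⟨y, hy⟩ := (Finite.injective_iff_surjective.1 hinj) ⟨x, hx⟩
  have hy' : g * (y : Ω) * g⁻¹ = x := congrArg Subtype.val hy
  rw [← hy']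
  simp [mul_assoc]

theorem mem_normalizerIn {S P : Subgroup Ω} {g : Ω} :
    g ∈ normalizerIn S P ↔ g ∈ S ∧ g ∈ Subgroup.normalizer (P : Set Ω) := Iff.rfl

theorem mem_centralizerIn {S P : Subgroup Ω} {g : Ω} :
    g ∈ centralizerIn S P ↔ g ∈ S ∧ ∀ x ∈ P, x * g = g * x := Iff.rfl

theorem normalizerIn_le (S P : Subgroup Ω) : normalizerIn S P ≤ S := inf_le_left

theorem centralizerIn_le (S P : Subgroup Ω) : centralizerIn S P ≤ S := inf_le_left

theorem le_normalizerIn {S P : Subgroup Ω} (h : P ≤ S) : P ≤ normalizerIn S P :=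
  le_inf h Subgroup.le_normalizer

theorem centralizerIn_le_normalizerIn (S P : Subgroup Ω) :
    centralizerIn S P ≤ normalizerIn S P := by
  intro g hg
  refine ⟨hg.1, mem_normalizer_iff'.2 ⟨fun x hx => ?_, fun x hx => ?_⟩⟩
  · rw [← hg.2 x hx, mul_inv_cancel_right]
    exact hx
  · rw [mul_assoc, hg.2 x hx, inv_mul_cancel_left]
    exact hx

theorem mem_centralizerIn_iff_conj {S P : Subgroup Ω} {g : Ω} :
    g ∈ centralizerIn S P ↔ g ∈ S ∧ ∀ x ∈ P, g * x * g⁻¹ = x := by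
  rw [mem_centralizerIn]
  refine and_congr_right fun _ => forall₂_congr fun x _ => ?_
  rw [mul_inv_eq_iff_eq_mul, eq_comm]

theorem normalizerIn_self (S : Subgroup Ω) : normalizerIn S S = S :=
  le_antisymm inf_le_left (le_normalizerIn le_rfl)

/-! ### Conjugation automorphisms -/

/-- The automorphism of `P` given by conjugation by an element of its normalizer. -/
def conjAut {P : Subgroup Ω} {g : Ω} (hg : g ∈ Subgroup.normalizer (P : Set Ω)) : MulAut P :=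
  P.normalizerMonoidHom ⟨g, hg⟩

@[simp] theorem conjAut_coe {P : Subgroup Ω} {g : Ω}
    (hg : g ∈ Subgroup.normalizer (P : Set Ω)) (x : P) :
    ((conjAut hg x : P) : Ω) = g * x * g⁻¹ := rfl

theorem autHom_conjAut {P : Subgroup Ω} {g : Ω} (hg : g ∈ Subgroup.normalizer (P : Set Ω)) :
    autHom (conjAut hg) = conjHom P g := rfl

theorem conjAut_mem_autGroup (F : FusionSystem S) {P : Subgroup Ω} (hP : P ≤ S) {g : Ω}
    (hgS : g ∈ S) (hg : g ∈ Subgroup.normalizer (P : Set Ω)) : conjAut hg ∈ F.autGroup P :=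
  mem_autGroup_of_hom F (by rw [autHom_conjAut]; exact F.conj_mem hP hgS)

theorem mem_autInducedBy {K P : Subgroup Ω} {α : MulAut P} :
    α ∈ autInducedBy K P ↔ ∃ g ∈ K, ∀ x : P, ((α x : P) : Ω) = g * (x : Ω) * g⁻¹ := by
  refine ⟨fun h => ?_, fun h => Subgroup.subset_closure h⟩
  induction h using Subgroup.closure_induction with
  | mem β hβ => exact hβ
  | one => exact ⟨1, K.one_mem, fun x => by simp⟩
  | mul β γ _ _ hβ hγ =>
    obtain ⟨g, hg, hβ⟩ := hβ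
    obtain ⟨k, hk, hγ⟩ := hγ
    refine ⟨g * k, K.mul_mem hg hk, fun x => ?_⟩
    rw [MulAut.mul_apply, hβ, hγ]
    simp [mul_assoc]
  | inv β _ hβ =>
    obtain ⟨g, hg, hβ⟩ := hβ
    refine ⟨g⁻¹, K.inv_mem hg, fun x => ?_⟩
    have := hβ (β⁻¹ x)
    rw [show β (β⁻¹ x) = x from β.apply_symm_apply x] at this
    rw [this]
    simp [mul_assoc]

theorem mem_autInducedBy_iff_conjAut {K P : Subgroup Ω} {α : MulAut P} :
    α ∈ autInducedBy K P ↔
      ∃ (g : Ω) (hg : g ∈ Subgroup.normalizer (P : Set Ω)), g ∈ K ∧ conjAut hg = α := by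
  rw [mem_autInducedBy]
  constructor
  · rintro ⟨g, hgK, h⟩
    refine ⟨g, mem_normalizer_iff'.2 ⟨fun x hx => ?_, fun x hx => ?_⟩, hgK, ?_⟩
    · have := h ⟨x, hx⟩
      rw [← this]
      exact SetLike.coe_mem _
    · have := h (α⁻¹ ⟨x, hx⟩)
      rw [show α (α⁻¹ ⟨x, hx⟩) = ⟨x, hx⟩ from α.apply_symm_apply _] at this
      have e : g⁻¹ * x * g = ((α⁻¹ ⟨x, hx⟩ : P) : Ω) := by
        conv_lhs => rw [show x = ((⟨x, hx⟩ : P) : Ω) from rfl, this]
        simp [mul_assoc]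
      rw [e]
      exact SetLike.coe_mem _
    · ext x
      simp [h x]
  · rintro ⟨g, hg, hgK, rfl⟩
    exact ⟨g, hgK, fun x => rfl⟩

theorem conjAut_mem_autInducedBy {K P : Subgroup Ω} {g : Ω} (hgK : g ∈ K)
    (hg : g ∈ Subgroup.normalizer (P : Set Ω)) : conjAut hg ∈ autInducedBy K P :=
  mem_autInducedBy.2 ⟨g, hgK, fun _ => rfl⟩

theorem autInducedBy_le_autGroup (F : FusionSystem S) {P : Subgroup Ω} (hP : P ≤ S) :
    autInducedBy S P ≤ F.autGroup P := by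
  intro α hα
  obtain ⟨g, hg, hgS, rfl⟩ := mem_autInducedBy_iff_conjAut.1 hα
  exact conjAut_mem_autGroup F hP hgS hg

theorem autInducedBy_mono {K K' P : Subgroup Ω} (h : K ≤ K') :
    autInducedBy K P ≤ autInducedBy K' P := by
  intro α hα
  obtain ⟨g, hg, hx⟩ := mem_autInducedBy.1 hα
  exact mem_autInducedBy.2 ⟨g, h hg, hx⟩

theorem inn_eq_autInducedBy (P : Subgroup Ω) : Inn P = autInducedBy P P := by
  ext α
  rw [mem_autInducedBy]
  constructor
  · rintro ⟨g, rfl⟩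
    exact ⟨g, g.2, fun x => rfl⟩
  · rintro ⟨g, hg, h⟩
    exact ⟨⟨g, hg⟩, MulEquiv.ext fun x => Subtype.ext (h x).symm⟩

theorem inn_le_autInducedBy {P : Subgroup Ω} (hP : P ≤ S) : Inn P ≤ autInducedBy S P := by
  rw [inn_eq_autInducedBy]
  exact autInducedBy_mono hP

theorem autInducedBy_self (S : Subgroup Ω) : autInducedBy S S = Inn S :=
  (inn_eq_autInducedBy S).symm

theorem inn_le_autGroup (F : FusionSystem S) {P : Subgroup Ω} (hP : P ≤ S) :
    Inn P ≤ F.autGroup P :=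
  (inn_le_autInducedBy hP).trans (autInducedBy_le_autGroup F hP)

/-- The map from `N_S(P)` onto `Aut_S(P)`. -/
def conjMap (S P : Subgroup Ω) : normalizerIn S P →* MulAut P :=
  P.normalizerMonoidHom.comp (Subgroup.inclusion inf_le_right)

@[simp] theorem conjMap_coe (S P : Subgroup Ω) (g : normalizerIn S P) (x : P) :
    ((conjMap S P g x : P) : Ω) = g * x * (g : Ω)⁻¹ := rfl

theorem range_conjMap (S P : Subgroup Ω) : (conjMap S P).range = autInducedBy S P := by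
  ext α
  rw [mem_autInducedBy_iff_conjAut]
  constructor
  · rintro ⟨g, rfl⟩
    exact ⟨g, g.2.2, g.2.1, rfl⟩
  · rintro ⟨g, hg, hgS, rfl⟩
    exact ⟨⟨g, hgS, hg⟩, rfl⟩

theorem ker_conjMap (S P : Subgroup Ω) :
    (conjMap S P).ker = (centralizerIn S P).subgroupOf (normalizerIn S P) := by
  ext g
  rw [MonoidHom.mem_ker, Subgroup.mem_subgroupOf, mem_centralizerIn_iff_conj]
  constructor
  · intro h
    refine ⟨g.2.1, fun x hx => ?_⟩
    have := congrArg (fun (α : MulAut P) => ((α ⟨x, hx⟩ : P) : Ω)) h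
    exact this
  · intro h
    ext x
    exact h.2 x x.2

theorem card_normalizerIn (S P : Subgroup Ω) :
    Nat.card (normalizerIn S P) =
      Nat.card (centralizerIn S P) * Nat.card (autInducedBy S P) := by
  rw [← range_conjMap, ← Subgroup.index_ker, ker_conjMap,
    ← Nat.card_congr (Subgroup.subgroupOfEquivOfLe (centralizerIn_le_normalizerIn S P)).toEquiv,
    Subgroup.card_mul_index]

theorem isPGroup_autInducedBy {p : ℕ} (hS : IsPGroup p S) (P : Subgroup Ω) :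
    IsPGroup p (autInducedBy S P) := by
  rw [← range_conjMap]
  exact (hS.to_le (normalizerIn_le S P)).of_surjective _ (conjMap S P).rangeRestrict_surjective

/-! ### Transport along maps -/

theorem exists_mulAut_congr (F : FusionSystem S) {P Q : Subgroup Ω} {φ : P →* Ω}
    (hφ : φ ∈ F.Hom P) (hQ : φ.range = Q) {α : MulAut P} (hα : α ∈ F.autGroup P) :
    MulAut.congr (isoOf φ (F.injective_of_mem hφ) hQ) α ∈ F.autGroup Q := by
  obtain ⟨ψ, hψ, hr, -, h2⟩ := exists_inv F hφ hQ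
  have hm : ∀ y, ψ y ∈ P := fun y => hr ▸ ⟨y, rfl⟩
  have h3 := mem_of_comp F hψ (autHom_mem F (source_le hφ) hα) hm
    (χ := compose ψ (autHom α) hm) fun _ => rfl
  refine mem_autGroup_of_hom F (mem_of_comp F h3 hφ (fun y => (α _).2) ?_)
  intro y
  have e : (isoOf φ (F.injective_of_mem hφ) hQ).symm y = ⟨ψ y, hm y⟩ := by
    rw [MulEquiv.symm_apply_eq]
    exact Subtype.ext (h2 y (hm y)).symm
  show ((isoOf φ (F.injective_of_mem hφ) hQ
    (α ((isoOf φ (F.injective_of_mem hφ) hQ).symm y)) : Q) : Ω) = _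
  rw [e]
  rfl

theorem congr_symm_eq {P Q : Subgroup Ω} (e : P ≃* Q) (β : MulAut Q) :
    MulAut.congr e.symm β = (MulAut.congr e).symm β := rfl

theorem isoOf_symm_eq (F : FusionSystem S) {P Q : Subgroup Ω} {φ : P →* Ω}
    (hφ : φ ∈ F.Hom P) (hQ : φ.range = Q) :
    ∃ (ψ : Q →* Ω) (hψ : ψ ∈ F.Hom Q) (hr : ψ.range = P),
      isoOf ψ (F.injective_of_mem hψ) hr = (isoOf φ (F.injective_of_mem hφ) hQ).symm := by
  obtain ⟨ψ, hψ, hr, -, h2⟩ := exists_inv F hφ hQ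
  refine ⟨ψ, hψ, hr, MulEquiv.ext fun y => ?_⟩
  rw [eq_comm, MulEquiv.symm_apply_eq]
  exact Subtype.ext (h2 y (hr ▸ ⟨y, rfl⟩)).symm

theorem map_congr_autGroup (F : FusionSystem S) {P Q : Subgroup Ω} {φ : P →* Ω}
    (hφ : φ ∈ F.Hom P) (hQ : φ.range = Q) :
    (F.autGroup P).map (MulAut.congr (isoOf φ (F.injective_of_mem hφ) hQ)).toMonoidHom =
      F.autGroup Q := by
  refine le_antisymm ?_ fun β hβ => ?_
  · rintro _ ⟨α, hα, rfl⟩
    exact exists_mulAut_congr F hφ hQ hα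
  · obtain ⟨ψ, hψ, hr, he⟩ := isoOf_symm_eq F hφ hQ
    refine ⟨_, exists_mulAut_congr F hψ hr hβ, ?_⟩
    rw [he, congr_symm_eq]
    exact MulEquiv.apply_symm_apply _ β

theorem card_autGroup_congr {F : FusionSystem S} {P Q : Subgroup Ω} (h : F.IsConj P Q) :
    Nat.card (F.autGroup P) = Nat.card (F.autGroup Q) := by
  obtain ⟨φ, hφ, hQ⟩ := h
  rw [← map_congr_autGroup F hφ hQ]
  exact Nat.card_congr (Subgroup.equivMapOfInjective _ _ (MulEquiv.injective _)).toEquiv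

/-! ### The extender -/

theorem mem_extender {S P : Subgroup Ω} {φ : P →* Ω} {g : Ω} :
    g ∈ extender S P φ ↔ g ∈ S ∧ g ∈ Subgroup.normalizer (P : Set Ω) ∧
      ∃ h ∈ S, ∀ (x : P) (hx : g * (x : Ω) * g⁻¹ ∈ P),
        φ ⟨g * x * g⁻¹, hx⟩ = h * φ x * h⁻¹ := by
  refine ⟨fun hg => ?_, fun hg => Subgroup.subset_closure hg⟩
  induction hg using Subgroup.closure_induction with
  | mem g hg => exact hg
  | one =>
    refine ⟨S.one_mem, one_mem _, 1, S.one_mem, fun x hx => ?_⟩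
    simp only [one_mul, inv_one, mul_one]
  | mul a b _ _ ha hb =>
    obtain ⟨haS, haN, h, hhS, hah⟩ := ha
    obtain ⟨hbS, hbN, k, hkS, hbk⟩ := hb
    refine ⟨S.mul_mem haS hbS, mul_mem haN hbN, h * k, S.mul_mem hhS hkS, fun x hx => ?_⟩
    have hb' : b * (x : Ω) * b⁻¹ ∈ P := conj_mem_of_mem_normalizer hbN x.2
    have ha' : a * (b * (x : Ω) * b⁻¹) * a⁻¹ ∈ P := conj_mem_of_mem_normalizer haN hb'
    have e : (⟨a * b * x * (a * b)⁻¹, hx⟩ : P) = ⟨a * (b * x * b⁻¹) * a⁻¹, ha'⟩ :=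
      Subtype.ext (by simp [mul_assoc])
    rw [e, hah ⟨_, hb'⟩ ha', hbk x hb']
    simp [mul_assoc]
  | inv a _ ha =>
    obtain ⟨haS, haN, h, hhS, hah⟩ := ha
    refine ⟨S.inv_mem haS, inv_mem haN, h⁻¹, S.inv_mem hhS, fun x hx => ?_⟩
    have := hah ⟨_, hx⟩ (by simp [mul_assoc, x.2])
    have e : (⟨a * (a⁻¹ * x * a⁻¹⁻¹) * a⁻¹, by simp [mul_assoc, x.2]⟩ : P) = x :=
      Subtype.ext (by simp [mul_assoc])
    rw [e] at this
    rw [this]
    simp [mul_assoc]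

theorem extender_le_normalizerIn (S P : Subgroup Ω) (φ : P →* Ω) :
    extender S P φ ≤ normalizerIn S P := fun _ hg =>
  ⟨(mem_extender.1 hg).1, (mem_extender.1 hg).2.1⟩

theorem extender_le (S P : Subgroup Ω) (φ : P →* Ω) : extender S P φ ≤ S :=
  (extender_le_normalizerIn S P φ).trans (normalizerIn_le S P)

theorem le_extender {P : Subgroup Ω} {φ : P →* Ω} (hP : P ≤ S) (hφ : ∀ x, φ x ∈ S) :
    P ≤ extender S P φ := by
  intro g hg
  refine mem_extender.2 ⟨hP hg, Subgroup.le_normalizer hg, φ ⟨g, hg⟩, hφ _, fun x hx => ?_⟩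
  have e : (⟨g * x * g⁻¹, hx⟩ : P) = ⟨g, hg⟩ * x * ⟨g, hg⟩⁻¹ := rfl
  rw [e, map_mul, map_mul, map_inv]

theorem centralizerIn_le_extender {P : Subgroup Ω} (φ : P →* Ω) :
    centralizerIn S P ≤ extender S P φ := by
  intro g hg
  refine mem_extender.2 ⟨hg.1, (centralizerIn_le_normalizerIn S P hg).2, 1, S.one_mem,
    fun x hx => ?_⟩
  have e : (⟨g * x * g⁻¹, hx⟩ : P) = x :=
    Subtype.ext ((mem_centralizerIn_iff_conj.1 hg).2 x x.2)
  rw [e]
  simp

/-- Membership in the extender, through the automorphism transported along the map. -/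
theorem mem_extender_iff_congr {P Q : Subgroup Ω} {φ : P →* Ω} (hi : Function.Injective φ)
    (hQ : φ.range = Q) {g : Ω} (hg : g ∈ normalizerIn S P) :
    g ∈ extender S P φ ↔ MulAut.congr (isoOf φ hi hQ) (conjAut hg.2) ∈ autInducedBy S Q := by
  rw [mem_extender, mem_autInducedBy]
  constructor
  · rintro ⟨-, -, h, hh, H⟩
    refine ⟨h, hh, fun y => ?_⟩
    obtain ⟨x, rfl⟩ := (isoOf φ hi hQ).surjective y
    show ((isoOf φ hi hQ (conjAut hg.2 ((isoOf φ hi hQ).symm (isoOf φ hi hQ x))) : Q) : Ω) = _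
    rw [MulEquiv.symm_apply_apply]
    exact H x (conj_mem_of_mem_normalizer hg.2 x.2)
  · rintro ⟨h, hh, H⟩
    refine ⟨hg.1, hg.2, h, hh, fun x hx => ?_⟩
    have := H (isoOf φ hi hQ x)
    change ((isoOf φ hi hQ (conjAut hg.2 ((isoOf φ hi hQ).symm (isoOf φ hi hQ x))) : Q) : Ω) = _
      at this
    rw [MulEquiv.symm_apply_apply] at this
    exact this

/-- For a map of the system defined on `N` extending one on `P`, conjugation is transported. -/
theorem map_conj {P N : Subgroup Ω} {φ : P →* Ω} {ψ : N →* Ω}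
    (hext : ∀ (x : Ω) (hP : x ∈ P) (hN : x ∈ N), ψ ⟨x, hN⟩ = φ ⟨x, hP⟩) (hPN : P ≤ N)
    {g : Ω} (hgN : g ∈ N) {x : Ω} (hx : x ∈ P) (hgx : g * x * g⁻¹ ∈ P) :
    φ ⟨g * x * g⁻¹, hgx⟩ = ψ ⟨g, hgN⟩ * φ ⟨x, hx⟩ * (ψ ⟨g, hgN⟩)⁻¹ := by
  rw [← hext x hx (hPN hx), ← hext _ hgx (hPN hgx)]
  have e : (⟨g * x * g⁻¹, hPN hgx⟩ : N) = ⟨g, hgN⟩ * ⟨x, hPN hx⟩ * ⟨g, hgN⟩⁻¹ := rfl
  rw [e, map_mul, map_mul, map_inv]

/-- An extension of a map carries normalizing elements to normalizing elements. -/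
theorem apply_mem_normalizer {P Q N : Subgroup Ω} [Finite Q] {φ : P →* Ω} (hQ : φ.range = Q)
    {ψ : N →* Ω}
    (hext : ∀ (x : Ω) (hP : x ∈ P) (hN : x ∈ N), ψ ⟨x, hN⟩ = φ ⟨x, hP⟩) (hPN : P ≤ N)
    {g : Ω} (hgN : g ∈ N) (hg : g ∈ Subgroup.normalizer (P : Set Ω)) :
    ψ ⟨g, hgN⟩ ∈ Subgroup.normalizer (Q : Set Ω) := by
  refine mem_normalizer_of_finite fun y hy => ?_
  subst hQ
  obtain ⟨⟨x, hx⟩, rfl⟩ := hy
  exact ⟨⟨_, conj_mem_of_mem_normalizer hg hx⟩, map_conj hext hPN hgN hx _⟩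

theorem apply_mem_centralizerIn {F : FusionSystem S} {P Q N : Subgroup Ω} {φ : P →* Ω}
    (hQ : φ.range = Q) {ψ : N →* Ω} (hψ : ψ ∈ F.Hom N)
    (hext : ∀ (x : Ω) (hP : x ∈ P) (hN : x ∈ N), ψ ⟨x, hN⟩ = φ ⟨x, hP⟩) (hPN : P ≤ N)
    {g : Ω} (hgN : g ∈ N) (hg : g ∈ centralizerIn S P) :
    ψ ⟨g, hgN⟩ ∈ centralizerIn S Q := by
  refine mem_centralizerIn_iff_conj.2 ⟨apply_mem hψ _, ?_⟩
  subst hQ
  rintro _ ⟨⟨x, hx⟩, rfl⟩
  have e := (mem_centralizerIn_iff_conj.1 hg).2 x hx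
  have := map_conj (φ := φ) hext hPN hgN hx (e.symm ▸ hx)
  simp only [e] at this
  exact this.symm

end Cfsg.Agent.Lib.Fusion
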