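import Cfsg.Agent.Lib.Fusion.Saturation

/-!
The fusion system of a finite group on a Sylow subgroup: its saturation, and the meaning of fully
normalized and fully centralized in it.
-/

set_option autoImplicit false
set_option linter.unusedSectionVars false

namespace Cfsg.Agent.Lib.Fusion

open Cfsg Cfsg.FusionSystem

/-- A Sylow subgroup meets a normal subgroup in a Sylow subgroup. -/
theorem exists_sylow_subgroupOf_normal {G : Type*} [Group G] [Finite G] {p : ℕ} [Fact p.Prime]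
    (T : Sylow p G) (N : Subgroup G) [N.Normal] :
    ∃ R : Sylow p N, (R : Subgroup N) = (T : Subgroup G).subgroupOf N := by
  have hp : IsPGroup p ((T : Subgroup G).subgroupOf N) :=
    T.2.comap_of_injective N.subtype N.subtype_injective
  obtain ⟨R, hR⟩ := hp.exists_le_sylow
  obtain ⟨T', hT'⟩ := (R.2.map N.subtype).exists_le_sylow
  obtain ⟨g, hg⟩ := MulAction.exists_smul_eq G T' T
  refine ⟨R, (Subgroup.eq_of_le_of_card_ge hR ?_).symm⟩
  let c : N ≃* N := MulAut.conjNormal g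
  have hle : (R : Subgroup N).map c.toMonoidHom ≤ (T : Subgroup G).subgroupOf N := by
    rintro _ ⟨x, hx, rfl⟩
    rw [Subgroup.mem_subgroupOf, ← hg, Sylow.coe_subgroup_smul]
    exact ⟨x, hT' ⟨x, hx, rfl⟩, (MulAut.conjNormal_apply g x).symm⟩
  have := Subgroup.card_le_of_le hle
  rwa [Subgroup.card_map_of_injective (f := c.toMonoidHom) c.injective] at this

variable {G : Type*} [Group G]

/-- Membership in the maps of the fusion system of a group. -/
theorem mem_groupHom {S P : Subgroup G} {φ : P →* G} :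
    φ ∈ (groupFusionSystem S).Hom P ↔
      P ≤ S ∧ (∀ x : P, φ x ∈ S) ∧ ∃ g : G, ∀ x : P, φ x = g * (x : G) * g⁻¹ := Iff.rfl

theorem conjHom_apply (P : Subgroup G) (g : G) (x : P) :
    conjHom P g x = g * (x : G) * g⁻¹ := rfl

theorem range_conjHom (P : Subgroup G) (g : G) :
    (conjHom P g).range = P.map (MulAut.conj g).toMonoidHom := by
  rw [conjHom, MonoidHom.range_comp, Subgroup.range_subtype]

theorem conjHom_mem_group {S P : Subgroup G} {g : G} (hP : P ≤ S)
    (hg : P.map (MulAut.conj g).toMonoidHom ≤ S) :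
    conjHom P g ∈ (groupFusionSystem S).Hom P :=
  ⟨hP, fun x => hg ⟨x, x.2, rfl⟩, g, fun _ => rfl⟩

theorem mem_map_conj {P : Subgroup G} {g x : G} :
    x ∈ P.map (MulAut.conj g).toMonoidHom ↔ g⁻¹ * x * g ∈ P := by
  constructor
  · rintro ⟨y, hy, rfl⟩
    simpa [mul_assoc] using hy
  · intro h
    exact ⟨_, h, by simp [mul_assoc]⟩

theorem isConj_group_iff {S P Q : Subgroup G} :
    (groupFusionSystem S).IsConj P Q ↔
      P ≤ S ∧ Q ≤ S ∧ ∃ g : G, P.map (MulAut.conj g).toMonoidHom = Q := by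
  constructor
  · rintro ⟨φ, ⟨hP, hφ, g, hg⟩, rfl⟩
    have e : φ = conjHom P g := MonoidHom.ext hg
    subst e
    refine ⟨hP, ?_, g, (range_conjHom P g).symm⟩
    rintro _ ⟨x, rfl⟩
    exact hφ x
  · rintro ⟨hP, hQ, g, rfl⟩
    exact ⟨conjHom P g, conjHom_mem_group hP hQ, range_conjHom P g⟩

theorem autGroup_group {S P : Subgroup G} (hP : P ≤ S) :
    (groupFusionSystem S).autGroup P = autInducedBy ⊤ P := by
  ext α
  rw [mem_autGroup_iff _ hP, mem_autInducedBy, mem_groupHom]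
  exact ⟨fun ⟨_, _, g, hg⟩ => ⟨g, trivial, hg⟩,
    fun ⟨g, _, hg⟩ => ⟨hP, fun x => hP (α x).2, g, hg⟩⟩

/-- `N_S(P)` is a Sylow subgroup of `N_G(P)`. -/
def HasSylowNormalizer (p : ℕ) (S P : Subgroup G) : Prop :=
  ∃ R : Sylow p ↥(Subgroup.normalizer (P : Set G)),
    (R : Subgroup ↥(Subgroup.normalizer (P : Set G))) =
      (normalizerIn S P).subgroupOf (Subgroup.normalizer (P : Set G))

/-- `C_S(P)` is a Sylow subgroup of `C_G(P)`. -/
def HasSylowCentralizer (p : ℕ) (S P : Subgroup G) : Prop :=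
  ∃ R : Sylow p ↥(Subgroup.centralizer (P : Set G)),
    (R : Subgroup ↥(Subgroup.centralizer (P : Set G))) =
      (centralizerIn S P).subgroupOf (Subgroup.centralizer (P : Set G))

variable [Finite G] {p : ℕ} [Fact p.Prime]

/-- Every subgroup of a Sylow subgroup has a conjugate with a Sylow normalizer inside it. -/
theorem exists_conj_hasSylowNormalizer (S : Sylow p G) {P : Subgroup G} (hP : P ≤ S) :
    ∃ g : G, P.map (MulAut.conj g).toMonoidHom ≤ S ∧
      HasSylowNormalizer p (S : Subgroup G) (P.map (MulAut.conj g).toMonoidHom) := by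
  let N := Subgroup.normalizer (P : Set G)
  have hPN : P ≤ N := Subgroup.le_normalizer
  obtain ⟨T, hT⟩ := ((S.2.to_le hP).comap_of_injective N.subtype N.subtype_injective :
    IsPGroup p (P.subgroupOf N)).exists_le_sylow
  obtain ⟨S', hS'⟩ := (T.2.map N.subtype).exists_le_sylow
  obtain ⟨g, hg⟩ := MulAction.exists_smul_eq G S' S
  have hTS : ∀ x : N, x ∈ (T : Subgroup N) → g * (x : G) * g⁻¹ ∈ (S : Subgroup G) := by
    intro x hx
    rw [← hg, Sylow.coe_subgroup_smul]
    exact ⟨x, hS' ⟨x, hx, rfl⟩, rfl⟩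
  refine ⟨g, ?_, ?_⟩
  · rintro _ ⟨x, hx, rfl⟩
    exact hTS ⟨x, hPN hx⟩ (hT hx)
  · let Q := P.map (MulAut.conj g).toMonoidHom
    let N' := Subgroup.normalizer (Q : Set G)
    have hmem : ∀ x : G, x ∈ N → g * x * g⁻¹ ∈ N' := by
      intro x hx
      refine mem_normalizer_of_finite fun y hy => ?_
      obtain ⟨z, hz, rfl⟩ := hy
      refine ⟨x * z * x⁻¹, conj_mem_of_mem_normalizer hx hz, ?_⟩
      simp [mul_assoc]
    have hmem' : ∀ x : G, x ∈ N' → g⁻¹ * x * g ∈ N := by
      intro x hx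
      refine mem_normalizer_of_finite fun z hz => ?_
      have h1 := conj_mem_of_mem_normalizer hx (Subgroup.mem_map_of_mem _ hz :
        (MulAut.conj g).toMonoidHom z ∈ Q)
      rw [mem_map_conj] at h1
      simpa [mul_assoc] using h1
    let e : N ≃* N' :=
      { toFun := fun x => ⟨g * x * g⁻¹, hmem x x.2⟩
        invFun := fun y => ⟨g⁻¹ * y * g, hmem' y y.2⟩
        left_inv := fun x => Subtype.ext (by simp [mul_assoc])
        right_inv := fun y => Subtype.ext (by simp [mul_assoc])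
        map_mul' := fun a b => Subtype.ext (by simp [mul_assoc]) }
    let R := T.mapSurjective (f := e.toMonoidHom) e.surjective
    refine ⟨R, (R.3 (Q := (normalizerIn (S : Subgroup G) Q).subgroupOf N')
      ((S.2.to_le inf_le_left).comap_of_injective N'.subtype N'.subtype_injective) ?_).symm⟩
    rintro _ ⟨x, hx, rfl⟩
    exact ⟨hTS x hx, (e x).2⟩

/-- A Sylow normalizer gives a Sylow centralizer. -/
theorem HasSylowNormalizer.centralizer (S : Sylow p G) {Q : Subgroup G}
    (h : HasSylowNormalizer p (S : Subgroup G) Q) :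
    HasSylowCentralizer p (S : Subgroup G) Q := by
  obtain ⟨T, hT⟩ := h
  let N := Subgroup.normalizer (Q : Set G)
  let C := Subgroup.centralizer (Q : Set G)
  have hCN : C ≤ N := Subgroup.centralizer_le_normalizer _
  have : (C.subgroupOf N).Normal := by
    rw [show C.subgroupOf N = Q.normalizerMonoidHom.ker from
      (Subgroup.normalizerMonoidHom_ker Q).symm]
    infer_instance
  obtain ⟨R, hR⟩ := exists_sylow_subgroupOf_normal T (C.subgroupOf N)
  let e := Subgroup.subgroupOfEquivOfLe hCN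
  refine ⟨Sylow.mapSurjective (f := e.toMonoidHom) e.surjective R, ?_⟩
  ext x
  constructor
  · rintro ⟨y, hy, rfl⟩
    change y ∈ (R : Subgroup ↥(C.subgroupOf N)) at hy
    rw [hR, Subgroup.mem_subgroupOf, hT] at hy
    exact ⟨hy.1, (e y).2⟩
  · intro hx
    refine ⟨⟨⟨x, hCN x.2⟩, x.2⟩, ?_, rfl⟩
    show _ ∈ (R : Subgroup ↥(C.subgroupOf N))
    rw [hR, Subgroup.mem_subgroupOf, hT]
    exact ⟨hx.1, hCN x.2⟩

/-- A Sylow normalizer gives full automization. -/
theorem HasSylowNormalizer.automizer (S : Sylow p G) {Q : Subgroup G}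
    (h : HasSylowNormalizer p (S : Subgroup G) Q) :
    ∃ R : Sylow p ↥(autInducedBy ⊤ Q), (R : Subgroup ↥(autInducedBy ⊤ Q)) =
      (autInducedBy (S : Subgroup G) Q).subgroupOf (autInducedBy ⊤ Q) := by
  obtain ⟨T, hT⟩ := h
  let N := Subgroup.normalizer (Q : Set G)
  have hrange : ∀ x : N, Q.normalizerMonoidHom x ∈ autInducedBy ⊤ Q := fun x =>
    mem_autInducedBy.2 ⟨x, trivial, fun _ => rfl⟩
  let f : N →* autInducedBy ⊤ Q := Q.normalizerMonoidHom.codRestrict _ hrange
  have hf : Function.Surjective f := by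
    rintro ⟨α, hα⟩
    obtain ⟨g, hg, -, rfl⟩ := mem_autInducedBy_iff_conjAut.1 hα
    exact ⟨⟨g, hg⟩, rfl⟩
  refine ⟨T.mapSurjective hf, ?_⟩
  ext α
  constructor
  · rintro ⟨x, hx, rfl⟩
    change x ∈ (T : Subgroup N) at hx
    rw [hT] at hx
    exact conjAut_mem_autInducedBy hx.1 x.2
  · intro hα
    obtain ⟨g, hg, hgS, he⟩ := mem_autInducedBy_iff_conjAut.1 hα
    refine ⟨⟨g, hg⟩, ?_, Subtype.ext he⟩
    show _ ∈ (T : Subgroup N)
    rw [hT]
    exact ⟨hgS, hg⟩

/-- The extension lemma. -/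
theorem HasSylowNormalizer.exists_conj (S : Sylow p G) {P Q : Subgroup G}
    (hN : HasSylowNormalizer p (S : Subgroup G) Q) (g : G)
    (hg : P.map (MulAut.conj g).toMonoidHom = Q) :
    ∃ h ∈ Subgroup.centralizer (Q : Set G),
      (normalizerIn (S : Subgroup G) P ⊓
        (normalizerIn (S : Subgroup G) Q ⊔ Subgroup.centralizer (Q : Set G)).comap
          (MulAut.conj g).toMonoidHom).map (MulAut.conj (h * g)).toMonoidHom ≤ S := by
  obtain ⟨T, hT⟩ := hN
  let N := Subgroup.normalizer (Q : Set G)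
  let C := Subgroup.centralizer (Q : Set G)
  let NS := normalizerIn (S : Subgroup G) Q
  have hCN : C ≤ N := Subgroup.centralizer_le_normalizer _
  let M := NS ⊔ C
  let X := (normalizerIn (S : Subgroup G) P ⊓ M.comap (MulAut.conj g).toMonoidHom).map
    (MulAut.conj g).toMonoidHom
  have hMN : M ≤ N := sup_le inf_le_right hCN
  have hX : X ≤ M := by
    rintro _ ⟨x, hx, rfl⟩
    exact hx.2
  have hXp : IsPGroup p X := (S.2.to_le (inf_le_left.trans inf_le_left)).map _
  -- `N_S(Q)` is a Sylow subgroup of `N_S(Q) C_G(Q)`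
  have hNSM : NS ≤ M := le_sup_left
  have hp : IsPGroup p (NS.subgroupOf M) :=
    (S.2.to_le inf_le_left).comap_of_injective M.subtype M.subtype_injective
  obtain ⟨R, hR⟩ := hp.exists_le_sylow
  have hRT : (R : Subgroup M) = NS.subgroupOf M := by
    refine le_antisymm ?_ hR
    obtain ⟨T', hT'⟩ := (R.2.map (Subgroup.inclusion hMN)).exists_le_sylow
    have hTT' : (T : Subgroup N) ≤ T' := by
      rw [hT]
      intro x hx
      exact hT' ⟨⟨x, hNSM hx⟩, hR hx, rfl⟩
    have := T.3 T'.2 hTT'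
    intro x hx
    have h1 : Subgroup.inclusion hMN x ∈ (T : Subgroup N) := this ▸ hT' ⟨x, hx, rfl⟩
    rw [hT] at h1
    exact h1
  obtain ⟨R', hR'⟩ := (hXp.comap_of_injective M.subtype M.subtype_injective :
    IsPGroup p (X.subgroupOf M)).exists_le_sylow
  obtain ⟨m, hm⟩ := MulAction.exists_smul_eq M R' R
  obtain ⟨a, ha, c, hc, hac⟩ : ∃ a ∈ NS, ∃ c ∈ C, a * c = (m : G) := by
    have hnorm : NS ≤ Subgroup.normalizer (C : Set G) := by
      intro x hx
      refine mem_normalizer_of_finite fun y hy => ?_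
      have hxN : x ∈ N := hx.2
      rw [Subgroup.mem_centralizer_iff]
      intro q hq
      have h1 : x⁻¹ * q * x ∈ Q := (mem_normalizer_iff'.1 hxN).2 q hq
      have h2 := Subgroup.mem_centralizer_iff.1 hy _ h1
      calc q * (x * y * x⁻¹) = x * ((x⁻¹ * q * x) * y) * x⁻¹ := by group
        _ = x * (y * (x⁻¹ * q * x)) * x⁻¹ := by rw [h2]
        _ = x * y * x⁻¹ * q := by group
    have := Subgroup.coe_mul_of_left_le_normalizer_right NS C hnorm
    have hmem : (m : G) ∈ ((NS ⊔ C : Subgroup G) : Set G) := m.2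
    rw [this] at hmem
    exact hmem
  refine ⟨c, hc, ?_⟩
  rintro _ ⟨x, hx, rfl⟩
  have h1 : (⟨(MulAut.conj g).toMonoidHom x, hX ⟨x, hx, rfl⟩⟩ : M) ∈ (R' : Subgroup M) :=
    hR' ⟨x, hx, rfl⟩
  have h2 : m * ⟨(MulAut.conj g).toMonoidHom x, hX ⟨x, hx, rfl⟩⟩ * m⁻¹ ∈ (R : Subgroup M) := by
    rw [← hm, Sylow.coe_subgroup_smul]
    exact ⟨_, h1, rfl⟩
  rw [hRT, Subgroup.mem_subgroupOf] at h2
  have h3 : (m : G) * (g * x * g⁻¹) * (m : G)⁻¹ ∈ (S : Subgroup G) := h2.1
  rw [← hac] at h3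
  have h4 := S.1.mul_mem (S.1.mul_mem (S.1.inv_mem ha.1) h3) ha.1
  show c * g * x * (c * g)⁻¹ ∈ (S : Subgroup G)
  simpa [mul_assoc] using h4

theorem HasSylowNormalizer.receptive (S : Sylow p G) {Q : Subgroup G} (hQ : Q ≤ S)
    (hN : HasSylowNormalizer p (S : Subgroup G) Q) :
    (groupFusionSystem (S : Subgroup G)).IsReceptive Q := by
  refine ⟨hQ, fun P φ hφ hr => ?_⟩
  obtain ⟨hP, hφS, g, hg⟩ := hφ
  have e : φ = conjHom P g := MonoidHom.ext hg
  have hgQ : P.map (MulAut.conj g).toMonoidHom = Q := by rw [← range_conjHom, ← e, hr]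
  obtain ⟨h, hh, hle⟩ := hN.exists_conj S g hgQ
  let N := extender (S : Subgroup G) P φ
  have hNle : N ≤ normalizerIn (S : Subgroup G) P ⊓
      (normalizerIn (S : Subgroup G) Q ⊔ Subgroup.centralizer (Q : Set G)).comap
        (MulAut.conj g).toMonoidHom := by
    intro x hx
    obtain ⟨hxS, hxN, k, hk, H⟩ := mem_extender.1 hx
    refine ⟨⟨hxS, hxN⟩, ?_⟩
    have hkN : k ∈ normalizerIn (S : Subgroup G) Q := by
      refine ⟨hk, mem_normalizer_of_finite fun y hy => ?_⟩
      rw [← hr] at hy ⊢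
      obtain ⟨z, rfl⟩ := hy
      rw [← H z (conj_mem_of_mem_normalizer hxN z.2)]
      exact ⟨_, rfl⟩
    have hc : k⁻¹ * (g * x * g⁻¹) ∈ Subgroup.centralizer (Q : Set G) := by
      rw [Subgroup.mem_centralizer_iff]
      intro y hy
      rw [← hr] at hy
      obtain ⟨z, rfl⟩ := hy
      have := H z (conj_mem_of_mem_normalizer hxN z.2)
      rw [hg, hg] at this
      rw [hg]
      calc g * (z : G) * g⁻¹ * (k⁻¹ * (g * x * g⁻¹))
          = k⁻¹ * (k * (g * (z : G) * g⁻¹) * k⁻¹) * (g * x * g⁻¹) := by group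
        _ = k⁻¹ * (g * (x * (z : G) * x⁻¹) * g⁻¹) * (g * x * g⁻¹) := by rw [← this]
        _ = k⁻¹ * (g * x * g⁻¹) * (g * (z : G) * g⁻¹) := by group
    show g * x * g⁻¹ ∈ normalizerIn (S : Subgroup G) Q ⊔ Subgroup.centralizer (Q : Set G)
    have := Subgroup.mul_mem_sup hkN hc
    rwa [mul_inv_cancel_left] at this
  refine ⟨conjHom N (h * g), conjHom_mem_group (extender_le _ _ _)
    ((Subgroup.map_mono hNle).trans hle), fun x hxP hxN => ?_⟩
  have h1 : g * x * g⁻¹ ∈ Q := hgQ ▸ ⟨x, hxP, rfl⟩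
  have h2 := Subgroup.mem_centralizer_iff.1 hh _ h1
  rw [conjHom_apply, hg]
  calc h * g * x * (h * g)⁻¹ = (h * (g * x * g⁻¹)) * h⁻¹ := by group
    _ = (g * x * g⁻¹ * h) * h⁻¹ := by rw [h2]
    _ = g * x * g⁻¹ := by group

theorem HasSylowNormalizer.fullyAutomized (S : Sylow p G) {Q : Subgroup G} (hQ : Q ≤ S)
    (hN : HasSylowNormalizer p (S : Subgroup G) Q) :
    (groupFusionSystem (S : Subgroup G)).IsFullyAutomized p Q := by
  refine ⟨hQ, ?_⟩
  rw [autGroup_group hQ]
  exact hN.automizer S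

/-- The fusion system of a finite group on a Sylow subgroup is saturated. -/
theorem group_isSaturated (S : Sylow p G) :
    (groupFusionSystem (S : Subgroup G)).IsSaturated p := by
  intro P hP
  obtain ⟨g, hg, hN⟩ := exists_conj_hasSylowNormalizer S hP
  exact ⟨_, isConj_group_iff.2 ⟨hP, hg, g, rfl⟩, hN.fullyAutomized S hg, hN.receptive S hg⟩

end Cfsg.Agent.Lib.Fusion
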