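import Cfsg.Agent.Lib.Fusion.Essential

/-!
A nonabelian `p`-group with an abelian subgroup of index `p`: commutation with an element outside,
the centre, the second centre and the derived subgroup.
-/

set_option autoImplicit false
set_option linter.unusedSectionVars false

namespace Cfsg.Agent.Lib.Fusion

open Cfsg Cfsg.FusionSystem
open scoped commutatorElement

variable {Ω : Type*} [Group Ω] {S A : Subgroup Ω} {p : ℕ}

/-- The second centre, in the ambient group. -/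
abbrev secondCtr (S : Subgroup Ω) : Subgroup Ω := (Subgroup.upperCentralSeries ↥S 2).map S.subtype

theorem mem_secondCtr {g : Ω} :
    g ∈ secondCtr S ↔ g ∈ S ∧ ∀ y ∈ S, g * y * g⁻¹ * y⁻¹ ∈ centralizerIn S S := by
  constructor
  · rintro ⟨w, hw, rfl⟩
    refine ⟨w.2, fun y hy => ?_⟩
    have h1 := Subgroup.mem_upperCentralSeries_succ_iff.1 hw ⟨y, hy⟩
    rw [Subgroup.upperCentralSeries_one, Subgroup.mem_center_iff] at h1
    refine ⟨⁅w, (⟨y, hy⟩ : S)⁆.2, fun z hz => ?_⟩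
    exact congrArg Subtype.val (h1 ⟨z, hz⟩)
  · rintro ⟨hg, h⟩
    refine ⟨⟨g, hg⟩, Subgroup.mem_upperCentralSeries_succ_iff.2 fun y => ?_, rfl⟩
    rw [Subgroup.upperCentralSeries_one, Subgroup.mem_center_iff]
    exact fun z => Subtype.ext ((h y y.2).2 z z.2)

/-- A nonabelian `p`-group `S` with an abelian subgroup `A` of index `p`. -/
structure AbIndex (S A : Subgroup Ω) (p : ℕ) : Prop where
  pgroup : IsPGroup p S
  le : A ≤ S
  comm : ∀ a ∈ A, ∀ b ∈ A, a * b = b * a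
  index : (A.subgroupOf S).index = p
  nonab : ¬ IsMulCommutative ↥S

theorem AbIndex.of_statement (hS : IsPGroup p S) (hna : ¬ IsMulCommutative ↥S)
    (hA : A ≤ S ∧ IsMulCommutative ↥A ∧ (A.subgroupOf S).index = p) : AbIndex S A p :=
  ⟨hS, hA.1, fun a ha b hb => by
    haveI := hA.2.1
    exact congrArg Subtype.val (mul_comm' (⟨a, ha⟩ : A) ⟨b, hb⟩), hA.2.2, hna⟩

variable [Fact p.Prime] [Finite S]

namespace AbIndex

variable (h : AbIndex S A p)
include h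

theorem card : Nat.card A * p = Nat.card S := by
  rw [← h.index, ← Nat.card_congr (Subgroup.subgroupOfEquivOfLe h.le).toEquiv]
  exact Subgroup.card_mul_index _

theorem finite : Finite A := finite_of_le h.le

theorem lt : A < S := by
  refine lt_of_le_of_ne h.le fun e => ?_
  have h1 := h.index
  rw [e, Subgroup.subgroupOf_self, Subgroup.index_top] at h1
  exact (Fact.out : p.Prime).one_lt.ne h1

/-- The index being prime, `A` is maximal. -/
theorem eq_of_lt {H : Subgroup Ω} (hH : A < H) (hHS : H ≤ S) : H = S := by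
  haveI := finite_of_le hHS
  haveI := h.finite
  have h1 : Nat.card A ∣ Nat.card H := Subgroup.card_dvd_of_le hH.le
  have h2 : Nat.card H ∣ Nat.card S := Subgroup.card_dvd_of_le hHS
  obtain ⟨c, hc⟩ := h1
  rw [hc, ← h.card] at h2
  have h3 : c ∣ p := Nat.dvd_of_mul_dvd_mul_left Nat.card_pos h2
  rcases (Nat.dvd_prime Fact.out).1 h3 with rfl | rfl
  · exact absurd (eq_of_le_of_card hH.le (by rw [hc, mul_one])) hH.ne
  · exact eq_of_le_of_card hHS (by rw [hc, h.card])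

theorem conj_mem {s a : Ω} (hs : s ∈ S) (ha : a ∈ A) : s * a * s⁻¹ ∈ A := by
  have hlt := lt_normalizerIn h.pgroup h.lt
  have e := h.eq_of_lt hlt (normalizerIn_le S A)
  exact conj_mem_of_mem_normalizer (e.ge hs).2 ha

/-- Every element of `S` is an element of `A` times a power of `x`. -/
theorem decomp {x y : Ω} (hx : x ∈ S) (hxA : x ∉ A) (hy : y ∈ S) :
    ∃ a ∈ A, ∃ k : ℤ, y = a * x ^ k := by
  haveI : (A.subgroupOf S).Normal := ⟨fun n hn g => h.conj_mem g.2 hn⟩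
  have hq : Nat.card (S ⧸ A.subgroupOf S) = p := h.index
  have hne : QuotientGroup.mk' (A.subgroupOf S) ⟨x, hx⟩ ≠ 1 := by
    rw [Ne, QuotientGroup.mk'_apply, QuotientGroup.eq_one_iff]
    exact hxA
  obtain ⟨k, hk⟩ : QuotientGroup.mk' (A.subgroupOf S) ⟨y, hy⟩ ∈
      Subgroup.zpowers (QuotientGroup.mk' (A.subgroupOf S) ⟨x, hx⟩) := by
    rw [zpowers_eq_top_of_prime_card hq hne]
    trivial
  have h1 : (⟨y, hy⟩ : S) * (⟨x, hx⟩ ^ k)⁻¹ ∈ A.subgroupOf S := by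
    rw [← QuotientGroup.eq_one_iff, QuotientGroup.mk_mul, QuotientGroup.mk_inv,
      QuotientGroup.mk_zpow]
    exact mul_inv_eq_one.2 hk.symm
  refine ⟨y * (x ^ k)⁻¹, ?_, k, by rw [inv_mul_cancel_right]⟩
  simpa [Subgroup.mem_subgroupOf] using h1

/-- A subgroup containing `A` and an element outside contains `S`. -/
theorem le_of_mem {x : Ω} (hx : x ∈ S) (hxA : x ∉ A) {H : Subgroup Ω} (hH : A ≤ H) (hxH : x ∈ H) :
    S ≤ H := fun y hy => by
  obtain ⟨a, ha, k, rfl⟩ := h.decomp hx hxA hy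
  exact mul_mem (hH ha) (zpow_mem hxH k)

theorem ctr_le : centralizerIn S S ≤ A := by
  intro z hz
  by_contra hzA
  refine h.nonab ⟨⟨fun a b => Subtype.ext ?_⟩⟩
  have key : ∀ a ∈ A, ∀ b ∈ S, a * b = b * a := fun a ha b hb => by
    obtain ⟨a', ha', k, rfl⟩ := h.decomp hz.1 hzA hb
    have hc : Commute a z := (mem_centralizerIn.1 hz).2 a (h.le ha)
    rw [← mul_assoc, h.comm a ha a' ha', mul_assoc, (hc.zpow_right k).eq, ← mul_assoc]
  obtain ⟨a', ha', k, hk⟩ := h.decomp hz.1 hzA a.2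
  show (a : Ω) * b = b * a
  have hc : Commute (z : Ω) b := ((mem_centralizerIn.1 hz).2 b b.2).symm
  rw [hk, mul_assoc, (hc.zpow_left k).eq, ← mul_assoc, key a' ha' b b.2, mul_assoc]

theorem mem_ctr_of_comm {x a : Ω} (hx : x ∈ S) (hxA : x ∉ A) (ha : a ∈ A) (he : a * x = x * a) :
    a ∈ centralizerIn S S := by
  refine ⟨h.le ha, fun y hy => ?_⟩
  obtain ⟨b, hb, k, rfl⟩ := h.decomp hx hxA hy
  show b * x ^ k * a = a * (b * x ^ k)
  rw [mul_assoc, ← (Commute.zpow_right he k).eq, ← mul_assoc, h.comm b hb a ha, mul_assoc]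

theorem tau_mem {x a : Ω} (hx : x ∈ S) (ha : a ∈ A) : a * x * a⁻¹ * x⁻¹ ∈ A := by
  rw [show a * x * a⁻¹ * x⁻¹ = a * (x * a⁻¹ * x⁻¹) by group]
  exact mul_mem ha (h.conj_mem hx (inv_mem ha))

/-- Commutation with `x`. -/
def tau {x : Ω} (hx : x ∈ S) : A →* Ω where
  toFun a := (a : Ω) * x * (a : Ω)⁻¹ * x⁻¹
  map_one' := by simp
  map_mul' a b := by
    show (a : Ω) * b * x * ((a : Ω) * b)⁻¹ * x⁻¹ = _
    have hb := h.tau_mem hx b.2
    have ha := h.tau_mem hx a.2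
    rw [h.comm _ ha _ hb]
    calc (a : Ω) * b * x * ((a : Ω) * b)⁻¹ * x⁻¹
        = (a : Ω) * ((b : Ω) * x * (b : Ω)⁻¹ * x⁻¹) * (a : Ω)⁻¹ *
            ((a : Ω) * x * (a : Ω)⁻¹ * x⁻¹) := by group
      _ = _ := by rw [h.comm _ a.2 _ hb, mul_inv_cancel_right]

theorem mem_secondCtr_of_tau {x a : Ω} (hx : x ∈ S) (hxA : x ∉ A) (ha : a ∈ A)
    (ht : a * x * a⁻¹ * x⁻¹ ∈ centralizerIn S S) : a ∈ secondCtr S := by
  refine mem_secondCtr.2 ⟨h.le ha, fun y hy => ?_⟩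
  let H : Subgroup Ω :=
    { carrier := {y | y ∈ S ∧ a * y * a⁻¹ * y⁻¹ ∈ centralizerIn S S}
      one_mem' := ⟨one_mem _, by simpa using one_mem _⟩
      mul_mem' := fun {y w} hy hw => ⟨mul_mem hy.1 hw.1, by
        have hc := (mem_centralizerIn.1 hw.2).2 y hy.1
        rw [show a * (y * w) * a⁻¹ * (y * w)⁻¹ = (a * y * a⁻¹ * y⁻¹) *
          (y * (a * w * a⁻¹ * w⁻¹) * y⁻¹) by group, hc, mul_inv_cancel_right]
        exact mul_mem hy.2 hw.2⟩
      inv_mem' := fun {y} hy => ⟨inv_mem hy.1, by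
        have hc := (mem_centralizerIn.1 hy.2).2 y⁻¹ (inv_mem hy.1)
        rw [show a * y⁻¹ * a⁻¹ * y⁻¹⁻¹ = (y⁻¹ * (a * y * a⁻¹ * y⁻¹) * y⁻¹⁻¹)⁻¹ by group, hc,
          mul_inv_cancel_right]
        exact inv_mem hy.2⟩ }
  refine (h.le_of_mem hx hxA (H := H) (fun b hb => ⟨h.le hb, ?_⟩) ⟨hx, ht⟩ hy).2
  rw [h.comm a ha b hb, mul_inv_cancel_right, mul_inv_cancel]
  exact one_mem _

/-- The image of a subgroup of `A` under commutation with `x`. -/
def timg {x : Ω} (hx : x ∈ S) (H : Subgroup Ω) : Subgroup Ω := (H.subgroupOf A).map (h.tau hx)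

theorem mem_timg {x : Ω} (hx : x ∈ S) {H : Subgroup Ω} {y : Ω} :
    y ∈ h.timg hx H ↔ ∃ a ∈ A, a ∈ H ∧ y = a * x * a⁻¹ * x⁻¹ :=
  ⟨fun ⟨a, ha, e⟩ => ⟨a, a.2, ha, e.symm⟩, fun ⟨a, haA, ha, e⟩ => ⟨⟨a, haA⟩, ha, e.symm⟩⟩

theorem timg_le {x : Ω} (hx : x ∈ S) (H : Subgroup Ω) : h.timg hx H ≤ A := by
  intro y hy
  obtain ⟨a, ha, -, rfl⟩ := (h.mem_timg hx).1 hy
  exact h.tau_mem hx ha

theorem card_timg {x : Ω} (hx : x ∈ S) (hxA : x ∉ A) {H : Subgroup Ω} (hH : H ≤ A) :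
    Nat.card (h.timg hx H) * Nat.card ↥(H ⊓ centralizerIn S S) = Nat.card H := by
  set f : H →* Ω := (h.tau hx).comp (Subgroup.inclusion hH) with hf
  have h1 : h.timg hx H = f.range := by
    ext y
    rw [h.mem_timg hx]
    exact ⟨fun ⟨a, _, ha, e⟩ => ⟨⟨a, ha⟩, e.symm⟩, fun ⟨a, e⟩ => ⟨a, hH a.2, a.2, e.symm⟩⟩
  have h2 : f.ker = (H ⊓ centralizerIn S S).subgroupOf H := by
    ext a
    rw [MonoidHom.mem_ker, Subgroup.mem_subgroupOf, Subgroup.mem_inf]
    show (a : Ω) * x * (a : Ω)⁻¹ * x⁻¹ = 1 ↔ _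
    rw [mul_inv_eq_one, mul_inv_eq_iff_eq_mul]
    exact ⟨fun e => ⟨a.2, h.mem_ctr_of_comm hx hxA (hH a.2) e⟩,
      fun e => ((mem_centralizerIn.1 e.2).2 x hx).symm⟩
  rw [h1, ← Subgroup.index_ker, h2,
    ← Nat.card_congr (Subgroup.subgroupOfEquivOfLe (inf_le_left : H ⊓ centralizerIn S S ≤ H)).toEquiv]
  exact Subgroup.index_mul_card _

/-- The derived subgroup is the image of commutation with `x`. -/
theorem commutator_eq {x : Ω} (hx : x ∈ S) (hxA : x ∉ A) :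
    (commutator ↥S).map S.subtype = h.timg hx A := by
  rw [Subgroup.map_subtype_commutator]
  set T := h.timg hx A with hT
  have hnx : ∀ t ∈ T, ∀ s ∈ S, s * t * s⁻¹ ∈ T := by
    intro t ht s hs
    obtain ⟨a, ha, -, rfl⟩ := (h.mem_timg hx).1 ht
    obtain ⟨b, hb, k, rfl⟩ := h.decomp hx hxA hs
    have hc : Commute (x ^ k) x := (Commute.refl x).zpow_left k
    have e : x ^ k * (a * x * a⁻¹ * x⁻¹) * (x ^ k)⁻¹ =
        (x ^ k * a * (x ^ k)⁻¹) * x * (x ^ k * a * (x ^ k)⁻¹)⁻¹ * x⁻¹ := by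
      calc x ^ k * (a * x * a⁻¹ * x⁻¹) * (x ^ k)⁻¹
          = (x ^ k * a * (x ^ k)⁻¹) * (x ^ k * x * (x ^ k)⁻¹) * (x ^ k * a * (x ^ k)⁻¹)⁻¹ *
              (x ^ k * x * (x ^ k)⁻¹)⁻¹ := by group
        _ = _ := by rw [show x ^ k * x * (x ^ k)⁻¹ = x by rw [hc.eq, mul_inv_cancel_right]]
    have hm := h.conj_mem (zpow_mem hx k) ha
    rw [show b * x ^ k * (a * x * a⁻¹ * x⁻¹) * (b * x ^ k)⁻¹ =
      b * (x ^ k * (a * x * a⁻¹ * x⁻¹) * (x ^ k)⁻¹) * b⁻¹ by group, e,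
      h.comm b hb _ (h.tau_mem hx hm), mul_inv_cancel_right]
    exact (h.mem_timg hx).2 ⟨_, hm, hm, rfl⟩
  -- the elements commuting with `g` modulo `T`
  have hsub : ∀ g ∈ S, ∀ H : Subgroup Ω, (∀ y ∈ H, y ∈ S) →
      ∀ y w, y ∈ H → w ∈ H → ⁅g, y⁆ ∈ T → ⁅g, w⁆ ∈ T → ⁅g, y * w⁆ ∈ T := by
    intro g _ H hH y w hy _ h1 h2
    rw [show ⁅g, y * w⁆ = ⁅g, y⁆ * (y * ⁅g, w⁆ * y⁻¹) by simp only [commutatorElement_def]; group]
    exact mul_mem h1 (hnx _ h2 y (hH y hy))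
  let C : ∀ g ∈ S, Subgroup Ω := fun g hg =>
    { carrier := {y | y ∈ S ∧ ⁅g, y⁆ ∈ T}
      one_mem' := ⟨one_mem _, by simpa using one_mem _⟩
      mul_mem' := fun {y w} hy hw =>
        ⟨mul_mem hy.1 hw.1, hsub g hg S (fun _ h => h) y w hy.1 hw.1 hy.2 hw.2⟩
      inv_mem' := fun {y} hy => ⟨inv_mem hy.1, by
        rw [show ⁅g, y⁻¹⁆ = (y⁻¹ * ⁅g, y⁆ * y⁻¹⁻¹)⁻¹ by simp only [commutatorElement_def]; group]
        exact inv_mem (hnx _ hy.2 _ (inv_mem hy.1))⟩ }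
  have hAT : ∀ a (ha : a ∈ A), ∀ y ∈ S, ⁅a, y⁆ ∈ T := fun a ha y hy =>
    (h.le_of_mem hx hxA (H := C a (h.le ha))
      (fun b hb => ⟨h.le hb, by
        rw [commutatorElement_def, h.comm a ha b hb, mul_inv_cancel_right, mul_inv_cancel]
        exact one_mem _⟩)
      ⟨hx, (h.mem_timg hx).2 ⟨a, ha, ha, rfl⟩⟩ hy).2
  refine le_antisymm (Subgroup.commutator_le.2 fun g hg y hy => ?_) ?_
  · refine (h.le_of_mem hx hxA (H := C g hg) (fun b hb => ⟨h.le hb, ?_⟩) ⟨hx, ?_⟩ hy).2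
    · rw [← commutatorElement_inv]
      exact inv_mem (hAT b hb g hg)
    · rw [← commutatorElement_inv]
      refine inv_mem ((h.le_of_mem hx hxA (H := C x hx)
        (fun b hb => ⟨h.le hb, ?_⟩) ⟨hx, ?_⟩ hg).2)
      · rw [← commutatorElement_inv]
        exact inv_mem (hAT b hb x hx)
      · simpa [commutatorElement_def] using one_mem T
  · intro t ht
    obtain ⟨a, ha, -, rfl⟩ := (h.mem_timg hx).1 ht
    exact Subgroup.commutator_mem_commutator (h.le ha) hx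

theorem timg_le_lowerCentralSeries {x : Ω} (hx : x ∈ S) {H : Subgroup Ω} {k : ℕ}
    (hH : H ≤ Subgroup.lowerCentralSeries S k) :
    h.timg hx H ≤ Subgroup.lowerCentralSeries S (k + 1) := by
  intro t ht
  obtain ⟨a, -, ha, rfl⟩ := (h.mem_timg hx).1 ht
  exact Subgroup.commutator_mem_commutator (hH ha) hx

/-- If the centre and the derived subgroup meet in order `p`, the lower central series is long. -/
theorem exists_timg {x : Ω} (hx : x ∈ S) (hxA : x ∉ A)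
    (hd : Nat.card ↥(centralizerIn S S ⊓ h.timg hx A) = p) {M : ℕ}
    (hM : Nat.card A = p ^ M * Nat.card (centralizerIn S S)) {k : ℕ} (hk : k < M) :
    ∃ H : Subgroup Ω, H ≤ A ∧ H ≤ Subgroup.lowerCentralSeries S k ∧ h.timg hx H ≠ ⊥ := by
  haveI := h.finite
  have hp := (Fact.out : p.Prime)
  suffices key : ∀ k, k < M → ∃ H : Subgroup Ω, H ≤ A ∧ (1 ≤ k → H ≤ h.timg hx A) ∧
      H ≤ Subgroup.lowerCentralSeries S k ∧ p ^ M ≤ p ^ k * Nat.card (h.timg hx H) by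
    obtain ⟨H, hHA, -, hH, hc⟩ := key k hk
    refine ⟨H, hHA, hH, fun e => ?_⟩
    rw [e, Subgroup.card_bot, mul_one] at hc
    exact absurd hc (not_le.2 (Nat.pow_lt_pow_right hp.one_lt hk))
  intro k
  induction k with
  | zero =>
    intro _
    refine ⟨A, le_rfl, fun h0 => absurd h0 (by omega), h.le.trans (le_of_eq rfl), ?_⟩
    have h1 := h.card_timg hx hxA (le_refl A)
    rw [inf_eq_right.2 h.ctr_le, hM] at h1
    haveI := finite_of_le (centralizerIn_le S S)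
    rw [pow_zero, one_mul, Nat.eq_of_mul_eq_mul_right Nat.card_pos h1]
  | succ k ih =>
    intro hk'
    obtain ⟨H, hHA, -, hH, hc⟩ := ih (by omega)
    refine ⟨h.timg hx H, h.timg_le hx H, fun _ => Subgroup.map_mono fun a ha => a.2, 
      h.timg_le_lowerCentralSeries hx hH, ?_⟩
    have h1 := h.card_timg hx hxA (h.timg_le hx H)
    have hle : h.timg hx H ⊓ centralizerIn S S ≤ centralizerIn S S ⊓ h.timg hx A := fun y hy =>
      ⟨hy.2, Subgroup.map_mono (fun a ha => a.2) hy.1⟩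
    haveI := finite_of_le (S := S) (inf_le_left.trans (centralizerIn_le S S) :
      centralizerIn S S ⊓ h.timg hx A ≤ S)
    have h2 : Nat.card ↥(h.timg hx H ⊓ centralizerIn S S) ≤ p :=
      (Subgroup.card_le_of_le hle).trans hd.le
    calc p ^ M ≤ p ^ k * Nat.card (h.timg hx H) := hc
      _ = p ^ k * (Nat.card (h.timg hx (h.timg hx H)) *
            Nat.card ↥(h.timg hx H ⊓ centralizerIn S S)) := by rw [h1]
      _ ≤ p ^ k * (Nat.card (h.timg hx (h.timg hx H)) * p) :=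
        Nat.mul_le_mul_left _ (Nat.mul_le_mul_left _ h2)
      _ = _ := by ring

end AbIndex

end Cfsg.Agent.Lib.Fusion
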