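import Cfsg.Agent.Lib.Fusion.AbelianIndexEssential

/-!
An abelian subgroup of index `p` that is not essential, in a system without normal subgroup.
-/

set_option autoImplicit false
set_option linter.unusedSectionVars false

namespace Cfsg.Agent.Lib.Fusion

open Cfsg Cfsg.FusionSystem
open scoped commutatorElement

variable {Ω : Type*} [Group Ω] {S A : Subgroup Ω} {p : ℕ} [Fact p.Prime] [Finite S]
  {F : FusionSystem S}

theorem normalizerIn_ctr (S : Subgroup Ω) : normalizerIn S (centralizerIn S S) = S := by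
  refine le_antisymm (normalizerIn_le _ _) fun g hg => ?_
  refine ⟨hg, mem_normalizer_iff'.2 ⟨fun z hz => ?_, fun z hz => ?_⟩⟩
  · rw [(mem_centralizerIn.1 hz).2 g hg, mul_inv_cancel_right]
    exact hz
  · rw [mul_assoc, ← (mem_centralizerIn.1 hz).2 g hg, inv_mul_cancel_left]
    exact hz

theorem ctr_fullyNormalized (F : FusionSystem S) :
    F.IsFullyNormalized (centralizerIn S S) :=
  ⟨centralizerIn_le S S, fun Q _ => by
    rw [normalizerIn_ctr]
    exact Subgroup.card_le_of_le (normalizerIn_le S Q)⟩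

/-- Automorphisms of the centre extend to the whole group. -/
theorem ctr_aut_extends (hS : IsPGroup p S) (hF : F.IsSaturated p)
    {β : MulAut (centralizerIn S S)} (hβ : β ∈ F.autGroup (centralizerIn S S)) :
    ∃ ψ ∈ F.Hom S, ∀ (z : centralizerIn S S) (hz : (z : Ω) ∈ S), ψ ⟨z, hz⟩ = (β z : Ω) := by
  have hφ := autHom_mem F (centralizerIn_le S S) hβ
  obtain ⟨ψ, hψ, hext, -⟩ :=
    IsReceptive.extend (IsSaturated.automized_receptive hS hF (ctr_fullyNormalized F)).2 hφ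
      (range_autHom β)
  have hle : S ≤ extender S (centralizerIn S S) (autHom β) := fun g hg =>
    centralizerIn_le_extender _ ⟨hg, fun z hz => ((mem_centralizerIn.1 hz).2 g hg).symm⟩
  exact ⟨restr hle ψ, restr_mem F hψ hle, fun z hz => hext z z.2 (hle hz)⟩

/-- The automorphisms of the centre have order prime to `p`. -/
theorem ctr_aut_pow_eq_one (hS : IsPGroup p S) (hF : F.IsSaturated p)
    {β : MulAut (centralizerIn S S)} (hβ : β ∈ F.autGroup (centralizerIn S S)) (hp : β ^ p = 1) :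
    β = 1 := by
  haveI := finite_of_le (centralizerIn_le S S)
  haveI := finite_mulAut (S := S) (centralizerIn_le S S)
  obtain ⟨-, R, hR⟩ := (IsSaturated.automized_receptive hS hF (ctr_fullyNormalized F)).1
  have hbot : autInducedBy S (centralizerIn S S) = ⊥ := by
    rw [eq_bot_iff]
    intro α hα
    obtain ⟨g, hg, hα'⟩ := mem_autInducedBy.1 hα
    refine Subgroup.mem_bot.2 (MulEquiv.ext fun z => Subtype.ext ?_)
    show ((α z : centralizerIn S S) : Ω) = z
    rw [hα', (mem_centralizerIn.1 z.2).2 g hg, mul_inv_cancel_right]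
  have hdiv : ¬ p ∣ Nat.card (F.autGroup (centralizerIn S S)) := by
    have h1 := R.not_dvd_index
    rwa [hR, hbot, Subgroup.bot_subgroupOf, Subgroup.index_bot] at h1
  have h1 : (⟨β, hβ⟩ : F.autGroup (centralizerIn S S)) ^ p = 1 := Subtype.ext hp
  have h2 := orderOf_dvd_of_pow_eq_one h1
  rcases (Nat.dvd_prime Fact.out).1 h2 with e | e
  · exact congrArg Subtype.val (orderOf_eq_one_iff.1 e)
  · exact absurd (e ▸ orderOf_dvd_natCard _) hdiv

/-- An automorphism of `R` preserving the centre of `S`, restricted to it. -/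
theorem exists_restrict_ctr {R : Subgroup Ω} (hR : R ≤ S) (hZR : centralizerIn S S ≤ R)
    {β : MulAut R} (hβ : β ∈ F.autGroup R)
    (hinv : ∀ z : R, (z : Ω) ∈ centralizerIn S S → ((β z : R) : Ω) ∈ centralizerIn S S) :
    ∃ γ ∈ F.autGroup (centralizerIn S S), ∀ z : centralizerIn S S,
      ((γ z : centralizerIn S S) : Ω) = β ⟨z, hZR z.2⟩ := by
  haveI := finite_of_le (centralizerIn_le S S)
  let f : centralizerIn S S →* centralizerIn S S :=
    ((R.subtype.comp β.toMonoidHom).comp (Subgroup.inclusion hZR)).codRestrict _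
      fun z => hinv _ z.2
  have hf : Function.Injective f := fun a b e => by
    have h1 : ((β ⟨a, hZR a.2⟩ : R) : Ω) = β ⟨b, hZR b.2⟩ :=
      congrArg (fun z : centralizerIn S S => (z : Ω)) e
    exact Subtype.ext (congrArg (fun z : R => (z : Ω)) (β.injective (Subtype.ext h1)))
  refine ⟨MulEquiv.ofBijective f (Finite.injective_iff_bijective.1 hf), ?_, fun z => rfl⟩
  refine mem_autGroup_of_hom F ?_
  have e : autHom (MulEquiv.ofBijective f (Finite.injective_iff_bijective.1 hf)) =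
      restr hZR (autHom β) := MonoidHom.ext fun z => rfl
  rw [e]
  exact restr_mem F (autHom_mem F hR hβ) hZR

/-- A fixed group of an automorphism of the centre, trivial on the factor by `T`. -/
def GoodFix (F : FusionSystem S) (T W : Subgroup Ω) : Prop :=
  W ≤ centralizerIn S S ∧ (∀ w ∈ W, w ∈ T → w = 1) ∧
    ∃ γ ∈ F.autGroup (centralizerIn S S),
      (∀ z : centralizerIn S S, γ z = z ↔ (z : Ω) ∈ W) ∧
      ∀ z : centralizerIn S S, ((z⁻¹ * γ z : centralizerIn S S) : Ω) ∈ T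

theorem GoodFix.le (hS : IsPGroup p S) (hF : F.IsSaturated p) {T : Subgroup Ω}
    (hT : Nat.card ↥(centralizerIn S S ⊓ T) = p)
    (hTinv : ∀ γ ∈ F.autGroup (centralizerIn S S), ∀ z : centralizerIn S S, (z : Ω) ∈ T →
      ((γ z : centralizerIn S S) : Ω) ∈ T)
    {W W' : Subgroup Ω} (h : GoodFix F T W) (h' : GoodFix F T W') : W ≤ W' := by
  set Z := centralizerIn S S with hZdef
  haveI : Finite Z := finite_of_le (centralizerIn_le S S)
  have hZc : ∀ a b : Z, a * b = b * a := fun a b =>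
    Subtype.ext ((mem_centralizerIn.1 b.2).2 a a.2.1)
  obtain ⟨hWZ, hW0, γ, hγ, hγW, hγT⟩ := h
  obtain ⟨-, hW0', δ, hδ, hδW, hδT⟩ := h'
  set T' : Subgroup Z := T.subgroupOf Z with hT'
  have hT'c : Nat.card T' = p := by
    rw [← hT, hT', ← Subgroup.inf_subgroupOf_left]
    exact Nat.card_congr (Subgroup.subgroupOfEquivOfLe inf_le_left).toEquiv
  -- the two automorphisms commute on `T'`
  have hcomm : ∀ t ∈ T', γ (δ t) = δ (γ t) := by
    intro t ht
    by_cases ht1 : t = 1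
    · simp [ht1]
    haveI : Finite T' := inferInstance
    have hgen : ∀ u ∈ T', ∃ i : ℕ, t ^ i = u := fun u hu => by
      have h1 : (⟨u, hu⟩ : T') ∈ Subgroup.zpowers (⟨t, ht⟩ : T') := by
        rw [zpowers_eq_top_of_prime_card hT'c (fun e => ht1 (congrArg Subtype.val e))]
        trivial
      obtain ⟨i, hi⟩ := mem_powers_iff_mem_zpowers.2 h1
      exact ⟨i, congrArg Subtype.val hi⟩
    obtain ⟨i, hi⟩ := hgen _ (hTinv γ hγ t ht : γ t ∈ T')
    obtain ⟨j, hj⟩ := hgen _ (hTinv δ hδ t ht : δ t ∈ T')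
    rw [← hi, ← hj, map_pow, map_pow, ← hi, ← hj, ← pow_mul, ← pow_mul, mul_comm]
  have hmul : ∀ z : Z, γ (δ z) = δ (γ z) := by
    set c : MulAut Z := γ * δ * (δ * γ)⁻¹ with hc
    have hcF : c ∈ F.autGroup Z := by
      rw [hc]
      exact Subgroup.mul_mem _ (Subgroup.mul_mem _ hγ hδ) (Subgroup.inv_mem _ (Subgroup.mul_mem _ hδ hγ))
    have hfac : ∀ z : Z, (δ (γ z))⁻¹ * γ (δ z) ∈ T' := by
      intro z
      have h1 : (δ z)⁻¹ * γ (δ z) ∈ T' := hγT _
      have h2 : z⁻¹ * δ z ∈ T' := hδT z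
      have h3 : (γ z)⁻¹ * δ (γ z) ∈ T' := hδT _
      have h4 : z⁻¹ * γ z ∈ T' := hγT z
      have h5 := T'.mul_mem (T'.inv_mem (T'.mul_mem h4 h3)) (T'.mul_mem h2 h1)
      rwa [show (z⁻¹ * γ z * ((γ z)⁻¹ * δ (γ z)))⁻¹ * (z⁻¹ * δ z * ((δ z)⁻¹ * γ (δ z))) =
        (δ (γ z))⁻¹ * γ (δ z) by group] at h5
    have hcT : ∀ t ∈ T', c t = t := by
      intro t ht
      obtain ⟨t', rfl⟩ := (δ * γ).surjective t
      show (γ * δ) ((δ * γ).symm ((δ * γ) t')) = _
      rw [MulEquiv.symm_apply_apply]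
      refine hcomm t' ?_
      have hi : (δ * γ).symm ((δ * γ) t') ∈ T' :=
        hTinv (δ * γ)⁻¹ (Subgroup.inv_mem _ (Subgroup.mul_mem _ hδ hγ)) _ ht
      rwa [MulEquiv.symm_apply_apply] at hi
    have hcz : ∀ z : Z, z⁻¹ * c z ∈ T' := by
      intro z
      obtain ⟨z', rfl⟩ := (δ * γ).surjective z
      show ((δ * γ) z')⁻¹ * (γ * δ) ((δ * γ).symm ((δ * γ) z')) ∈ T'
      rw [MulEquiv.symm_apply_apply]
      exact hfac z'
    have hcp : c ^ p = 1 := by
      refine MulEquiv.ext fun z => ?_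
      have hk : ∀ k : ℕ, (c ^ k) z = z * (z⁻¹ * c z) ^ k := by
        intro k
        induction k with
        | zero => simp
        | succ k ih =>
          rw [pow_succ', MulAut.mul_apply, ih, map_mul, hcT _ (T'.pow_mem (hcz z) k), pow_succ',
            ← mul_assoc, mul_inv_cancel_left]
      rw [hk, ← hT'c, show (z⁻¹ * c z) ^ Nat.card T' = 1 from
        congrArg Subtype.val (pow_card_eq_one' (x := (⟨_, hcz z⟩ : T'))), mul_one]
      rfl
    have hc1 := ctr_aut_pow_eq_one hS hF hcF hcp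
    intro z
    have h1 : γ * δ = δ * γ := mul_inv_eq_one.1 hc1
    exact congrArg (fun e : MulAut Z => e z) h1
  intro w hw
  set w' : Z := ⟨w, hWZ hw⟩ with hw'
  have hfix : γ w' = w' := (hγW w').2 hw
  have h1 : γ (δ w') = δ w' := by rw [hmul, hfix]
  have h2 : ((δ w' : Z) : Ω) ∈ W := (hγW _).1 h1
  have h3 : ((w'⁻¹ * δ w' : Z) : Ω) = 1 := hW0 _ (W.mul_mem (W.inv_mem hw) h2) (hδT w')
  exact (hδW w').1 (inv_mul_eq_one.1 (Subtype.ext h3)).symm

namespace AbIndex

variable (h : AbIndex S A p) (hF : F.IsSaturated p)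
include h hF

theorem ctr_aut_commutator {γ : MulAut (centralizerIn S S)}
    (hγ : γ ∈ F.autGroup (centralizerIn S S)) {x : Ω} (hx : x ∈ S) (hxA : x ∉ A)
    (z : centralizerIn S S) (hz : (z : Ω) ∈ h.timg hx A) :
    ((γ z : centralizerIn S S) : Ω) ∈ h.timg hx A := by
  obtain ⟨ψ, hψ, hext⟩ := ctr_aut_extends h.pgroup hF hγ
  rw [← hext z z.2.1]
  obtain ⟨a, ha, -, e⟩ := (h.mem_timg hx).1 hz
  have e' : (⟨(z : Ω), z.2.1⟩ : S) =
      ⟨a, h.le ha⟩ * ⟨x, hx⟩ * (⟨a, h.le ha⟩ : S)⁻¹ * (⟨x, hx⟩ : S)⁻¹ := Subtype.ext e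
  rw [e', map_mul, map_mul, map_mul, map_inv, map_inv, ← h.commutator_eq hx hxA,
    Subgroup.map_subtype_commutator]
  exact Subgroup.commutator_mem_commutator (apply_mem hψ _) (apply_mem hψ _)

theorem exists_goodFix (hp : p ≠ 2)
    (huniq : ∀ B : Subgroup Ω, B ≤ S → IsMulCommutative ↥B → (B.subgroupOf S).index = p → B = A)
    {P : Subgroup Ω} (hP : F.IsEssential p P) (hPA : P ≠ A) (hle : P ⊓ A ≤ centralizerIn S S)
    {x : Ω} (hx : x ∈ S) (hxA : x ∉ A) {α : MulAut P} (hα : α ∈ F.autGroup P) {z₀ : P}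
    (hz₀ : (z₀ : Ω) ∈ centralizerIn S S) (hz₀' : ((α z₀ : P) : Ω) ∉ centralizerIn S S) :
    ∃ W : Subgroup Ω, GoodFix F (h.timg hx A) W ∧
      (∀ w : P, (w : Ω) ∈ W ↔ (w : Ω) ∈ centralizerIn S S ∧ ((α.symm w : P) : Ω) ∈ centralizerIn S S) ∧
      centralizerIn S S ≤ W ⊔ (centralizerIn S S ⊓ h.timg hx A) := by
  classical
  haveI := finite_of_le hP.1.1
  set Z := centralizerIn S S with hZdef
  obtain ⟨-, hcard, hPc, -, hU, -⟩ := h.abelian_case hP hPA hF hle
  obtain ⟨⟨-, R, hR⟩, -⟩ := IsSaturated.automized_receptive h.pgroup hF hP.2.1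
  have hUs : ¬ p ∣ (autInducedBy S P).relIndex (F.autGroup P) := by
    show ¬ p ∣ ((autInducedBy S P).subgroupOf (F.autGroup P)).index
    rw [← hR]
    exact R.not_dvd_index
  haveI : Finite Z := finite_of_le (centralizerIn_le S S)
  have hidx : (Z.subgroupOf P).index = p := by
    have h1 := Subgroup.card_mul_index (Z.subgroupOf P)
    rw [Nat.card_congr (Subgroup.subgroupOfEquivOfLe (h.ctr_le_ess hP hPA)).toEquiv, hcard] at h1
    exact Nat.eq_of_mul_eq_mul_left Nat.card_pos h1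
  have hfix : ∀ u ∈ autInducedBy S P, ∀ w ∈ Z.subgroupOf P, u w = w := by
    intro u hu w hw
    obtain ⟨g, hg, hgu⟩ := mem_autInducedBy.1 hu
    have hgw : g * (w : Ω) = w * g := (mem_centralizerIn.1 hw).2 g hg
    exact Subtype.ext (by rw [hgu, hgw, mul_inv_cancel_right])
  obtain ⟨u, hu, hu1⟩ : ∃ u ∈ autInducedBy S P, u ≠ 1 := by
    by_contra hcon
    push Not at hcon
    rw [(Subgroup.eq_bot_iff_forall _).2 hcon, Subgroup.card_bot] at hU
    exact (Fact.out : p.Prime).one_lt.ne hU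
  have hc : ∀ a b : P, a * b = b * a := fun a b => Subtype.ext (hPc a a.2 b b.2)
  have hmove : ∃ w ∈ Z.subgroupOf P, α w ∉ Z.subgroupOf P := ⟨z₀, hz₀, hz₀'⟩
  obtain ⟨y, η, hη, hsZ, hsW, hηs, hηZ, hηW⟩ := exists_inverting (h.pgroup.to_le hP.1.1) hc
    (F.autGroup P) (autInducedBy S P) (autInducedBy_le_autGroup F hP.1.1)
    (isPGroup_autInducedBy h.pgroup P) hUs (Z.subgroupOf P) hidx hfix α hα hmove hu hu1
  obtain ⟨hrel, -⟩ := relIndex_inter (h.pgroup.to_le hP.1.1) hc (F.autGroup P) (autInducedBy S P)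
    (autInducedBy_le_autGroup F hP.1.1) (isPGroup_autInducedBy h.pgroup P) hUs (Z.subgroupOf P)
    hidx hfix α hα hmove
  set W' : Subgroup P := Z.subgroupOf P ⊓ (Z.subgroupOf P).map α.toMonoidHom with hW'
  set s : P := y⁻¹ * u y with hs
  have hsT : (s : Ω) ∈ h.timg hx A := by
    rw [← h.commutator_eq hx hxA, Subgroup.map_subtype_commutator]
    obtain ⟨g, hg, hgu⟩ := mem_autInducedBy.1 hu
    rw [hs, Subgroup.coe_mul, Subgroup.coe_inv, hgu,
      show (y : Ω)⁻¹ * (g * y * g⁻¹) = ⁅(y : Ω)⁻¹, g⁆ by rw [commutatorElement_def]; group]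
    exact Subgroup.commutator_mem_commutator (Subgroup.inv_mem _ (hP.1.1 y.2)) hg
  haveI : W'.Normal := ⟨fun n hn g => by rwa [hc g n, mul_inv_cancel_right]⟩
  have hdec : ∀ z ∈ Z.subgroupOf P, ∃ k : ℕ, (s ^ k)⁻¹ * z ∈ W' := fun z hz =>
    exists_pow_mul_mem hrel hsZ hsW hz
  obtain ⟨γ, hγ, hγc⟩ := exists_restrict_ctr (F := F) hP.1.1 (h.ctr_le_ess hP hPA) hη
    (fun z hz => hηZ z hz)
  have hc0 := h.card_ctr_inf hP hPA hF huniq hx hxA
  haveI : Finite ↥(Z ⊓ h.timg hx A) := finite_of_le (inf_le_left.trans (centralizerIn_le S S))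
  have hs1 : (s : Ω) ≠ 1 := fun e => hsW (by rw [show s = 1 from Subtype.ext e]; exact one_mem _)
  refine ⟨W'.map P.subtype, ⟨?_, ?_, γ, hγ, ?_, ?_⟩, ?_, ?_⟩
  · rintro _ ⟨w, hw, rfl⟩
    exact hw.1
  · rintro _ ⟨w, hw, rfl⟩ hwT
    by_contra hne
    have h1 : (⟨(s : Ω), hsZ, hsT⟩ : ↥(Z ⊓ h.timg hx A)) ∈
        Subgroup.zpowers (⟨(w : Ω), hw.1, hwT⟩ : ↥(Z ⊓ h.timg hx A)) := by
      rw [zpowers_eq_top_of_prime_card hc0 (fun e => hne (congrArg Subtype.val e))]
      trivial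
    obtain ⟨k, hk⟩ := h1
    refine hsW ?_
    have h2 : w ^ k = s := Subtype.ext (by
      have := congrArg Subtype.val hk
      simpa using this)
    rw [← h2]
    exact Subgroup.zpow_mem _ hw k
  · intro z
    set z' : P := ⟨z, h.ctr_le_ess hP hPA z.2⟩ with hz'
    constructor
    · intro e
      have e' : η z' = z' := Subtype.ext ((hγc z).symm.trans (congrArg Subtype.val e))
      obtain ⟨k, hk⟩ := hdec z' z.2
      refine ⟨z', ?_, rfl⟩
      set w := (s ^ k)⁻¹ * z' with hwdef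
      have hzw : z' = s ^ k * w := by rw [hwdef, mul_inv_cancel_left]
      rw [hzw, map_mul, map_pow, hηs, hηW w hk, mul_left_inj, inv_pow] at e'
      have h1 : (s ^ k) ^ 2 = 1 := by rw [pow_two]; nth_rw 1 [← e']; rw [inv_mul_cancel]
      have h2 : s ^ k = 1 := by
        obtain ⟨n, hn⟩ := h.pgroup.to_le hP.1.1 (s ^ k)
        have hodd : Nat.Coprime (p ^ n) 2 :=
          Nat.Coprime.pow_left n ((Nat.coprime_primes Fact.out Nat.prime_two).2 hp)
        have := (pow_gcd_eq_one (a := s ^ k) (m := p ^ n) (n := 2)).2 ⟨hn, h1⟩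
        rwa [hodd.gcd_eq_one, pow_one] at this
      rw [hzw, h2, one_mul]
      exact hk
    · rintro ⟨w, hw, hwz⟩
      obtain rfl : w = z' := Subtype.ext hwz
      exact Subtype.ext ((hγc z).trans (congrArg Subtype.val (hηW z' hw)))
  · intro z
    set z' : P := ⟨z, h.ctr_le_ess hP hPA z.2⟩ with hz'
    obtain ⟨k, hk⟩ := hdec z' z.2
    set w := (s ^ k)⁻¹ * z' with hwdef
    have hzw : z' = s ^ k * w := by rw [hwdef, mul_inv_cancel_left]
    have e : z'⁻¹ * η z' = (s ^ k)⁻¹ * (s ^ k)⁻¹ := by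
      rw [hzw, map_mul, map_pow, hηs, hηW w hk, inv_pow, hc (s ^ k) w, hc (s ^ k)⁻¹ w,
        mul_inv_rev, mul_assoc, inv_mul_cancel_left]
    rw [Subgroup.coe_mul, Subgroup.coe_inv, hγc]
    show ((z'⁻¹ * η z' : P) : Ω) ∈ _
    rw [e, Subgroup.coe_mul, Subgroup.coe_inv, Subgroup.coe_pow]
    exact Subgroup.mul_mem _ (Subgroup.inv_mem _ (Subgroup.pow_mem _ hsT k))
      (Subgroup.inv_mem _ (Subgroup.pow_mem _ hsT k))
  · intro w
    constructor
    · rintro ⟨w', ⟨hw1, v, hv, hv'⟩, e⟩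
      obtain rfl : w' = w := Subtype.ext e
      refine ⟨hw1, ?_⟩
      rw [← hv']
      show ((α.symm (α v) : P) : Ω) ∈ Z
      rwa [α.symm_apply_apply]
    · rintro ⟨h1, h2⟩
      exact ⟨w, ⟨h1, α.symm w, h2, α.apply_symm_apply w⟩, rfl⟩
  · intro z hz
    obtain ⟨k, hk⟩ := hdec ⟨z, h.ctr_le_ess hP hPA hz⟩ hz
    set w := (s ^ k)⁻¹ * (⟨z, h.ctr_le_ess hP hPA hz⟩ : P) with hwdef
    have e : z = (w : Ω) * ((s ^ k : P) : Ω) := by
      rw [← Subgroup.coe_mul, hc, hwdef, mul_inv_cancel_left]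
    rw [e]
    refine Subgroup.mul_mem_sup ⟨w, hk, rfl⟩ ⟨(Z.subgroupOf P).pow_mem hsZ k, ?_⟩
    rw [Subgroup.coe_pow]
    exact Subgroup.pow_mem _ hsT k

omit hF in
theorem map_eq_of_forall {R W : Subgroup Ω} (hR : R ≤ S) {β : MulAut R}
    (hinv : ∀ w : R, (w : Ω) ∈ W → ((β w : R) : Ω) ∈ W) :
    (W.subgroupOf R).map β.toMonoidHom = W.subgroupOf R := by
  haveI := finite_of_le hR
  refine Subgroup.eq_of_le_of_card_ge ?_ (by rw [Subgroup.card_map_of_injective β.injective])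
  rintro _ ⟨w, hw, rfl⟩
  exact hinv w hw

theorem exists_abelian_essential (hcore : F.core = ⊥) (hAe : ¬ F.IsEssential p A) :
    ∃ P, F.IsEssential p P ∧ P ⊓ A ≤ centralizerIn S S := by
  by_contra hcon
  push Not at hcon
  have hn : F.IsNormal (centralizerIn S S) := by
    refine normal_of_invariant h.pgroup hF fun R hR => ?_
    rcases hR with hR | hR
    · rw [hR]
      refine ⟨centralizerIn_le S S, fun β _ => h.map_eq_of_forall le_rfl fun w hw => ?_⟩
      refine ⟨(β w).2, fun y hy => ?_⟩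
      obtain ⟨y', hy'⟩ := β.surjective ⟨y, hy⟩
      have h1 : y' * w = w * y' := Subtype.ext ((mem_centralizerIn.1 hw).2 y' y'.2)
      have h2 := congrArg β h1
      rw [map_mul, map_mul, hy'] at h2
      exact congrArg Subtype.val h2
    · have hne : R ≠ A := fun e => hAe (e ▸ hR)
      exact ⟨h.ctr_le_ess hR hne, fun β _ => h.map_eq_of_forall hR.1.1
        (h.ctr_invariant hR hne (hcon R hR) β)⟩
  have h1 : centralizerIn S S = ⊥ := le_bot_iff.1 (hcore ▸ le_core hn)
  haveI : Nontrivial S := by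
    by_contra hnt
    rw [not_nontrivial_iff_subsingleton] at hnt
    exact h.nonab ⟨⟨fun a b => Subsingleton.elim _ _⟩⟩
  haveI := h.pgroup.center_nontrivial
  obtain ⟨z, hz⟩ := _root_.exists_ne (1 : Subgroup.center S)
  refine hz (Subtype.ext (Subtype.ext ?_))
  refine Subgroup.mem_bot.1 (h1.le ⟨(z : S).2, fun y hy => ?_⟩)
  exact congrArg Subtype.val (Subgroup.mem_center_iff.1 z.2 ⟨y, hy⟩)

/-- The centre lies in the derived subgroup and has order `p`. -/
theorem ctr_le_commutator (hp : p ≠ 2)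
    (huniq : ∀ B : Subgroup Ω, B ≤ S → IsMulCommutative ↥B → (B.subgroupOf S).index = p → B = A)
    (hcore : F.core = ⊥) (hAe : ¬ F.IsEssential p A) {x : Ω} (hx : x ∈ S) (hxA : x ∉ A) :
    centralizerIn S S ≤ h.timg hx A ∧ Nat.card (centralizerIn S S) = p := by
  obtain ⟨P, hP, hle⟩ := h.exists_abelian_essential hF hcore hAe
  have hPA : P ≠ A := fun e => hAe (e ▸ hP)
  obtain ⟨-, -, -, -, -, α, hα, z₀, hz₀, hz₀'⟩ := h.abelian_case hP hPA hF hle
  obtain ⟨W, hW, -, hZW⟩ := h.exists_goodFix hF hp huniq hP hPA hle hx hxA hα hz₀ hz₀'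
  have hc0 := h.card_ctr_inf hP hPA hF huniq hx hxA
  have hTinv := fun γ (hγ : γ ∈ F.autGroup (centralizerIn S S)) => h.ctr_aut_commutator hF hγ hx hxA
  have huniqW : ∀ W', GoodFix F (h.timg hx A) W' → W' = W := fun W' h' =>
    le_antisymm (GoodFix.le h.pgroup hF hc0 hTinv h' hW) (GoodFix.le h.pgroup hF hc0 hTinv hW h')
  -- invariance under automorphisms preserving the centre
  have hinvW : ∀ R ≤ S, ∀ β ∈ F.autGroup R, centralizerIn S S ≤ R →
      (∀ z : R, (z : Ω) ∈ centralizerIn S S → ((β z : R) : Ω) ∈ centralizerIn S S) →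
      ∀ w : R, (w : Ω) ∈ W → ((β w : R) : Ω) ∈ W := by
    intro R hR β hβ hZR hinv w hw
    obtain ⟨γ, hγ, hγc⟩ := exists_restrict_ctr (F := F) hR hZR hβ hinv
    obtain ⟨hWZ, hW0, δ, hδ, hδW, hδT⟩ := hW
    set w' : centralizerIn S S := ⟨w, hWZ hw⟩ with hw'
    have hgood : GoodFix F (h.timg hx A)
        (((W.subgroupOf (centralizerIn S S)).map γ.toMonoidHom).map (centralizerIn S S).subtype) := by
      refine ⟨fun _ ⟨v, _, e⟩ => e ▸ v.2, ?_, γ * δ * γ⁻¹,
        Subgroup.mul_mem _ (Subgroup.mul_mem _ hγ hδ) (Subgroup.inv_mem _ hγ), fun z => ?_, fun z => ?_⟩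
      · rintro _ ⟨_, ⟨v, hv, rfl⟩, rfl⟩ hT
        have h1 : ((γ⁻¹ (γ v) : centralizerIn S S) : Ω) ∈ h.timg hx A :=
          hTinv _ (Subgroup.inv_mem _ hγ) _ hT
        rw [show γ⁻¹ (γ v) = v from γ.symm_apply_apply v] at h1
        have h2 : v = 1 := Subtype.ext (hW0 _ hv h1)
        show ((γ v : centralizerIn S S) : Ω) = 1
        rw [h2, map_one]
        rfl
      · constructor
        · intro e
          have e1 : δ (γ⁻¹ z) = γ⁻¹ z := γ.injective (e.trans (γ.apply_symm_apply z).symm)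
          exact ⟨z, ⟨γ⁻¹ z, (hδW _).1 e1, γ.apply_symm_apply z⟩, rfl⟩
        · rintro ⟨_, ⟨v, hv, rfl⟩, e⟩
          obtain rfl : γ v = z := Subtype.ext e
          show γ (δ (γ.symm (γ v))) = γ v
          rw [γ.symm_apply_apply, (hδW v).2 hv]
      · obtain ⟨v, rfl⟩ := γ.surjective z
        show (((γ v)⁻¹ * γ (δ (γ.symm (γ v))) : centralizerIn S S) : Ω) ∈ _
        rw [γ.symm_apply_apply, ← map_inv, ← map_mul]
        exact hTinv γ hγ _ (hδT v)
    rw [← huniqW _ hgood]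
    exact ⟨γ w', ⟨w', hw, rfl⟩, hγc w'⟩
  have hn : F.IsNormal W := by
    refine normal_of_invariant h.pgroup hF fun R hR => ?_
    rcases hR with hR | hR
    · rw [hR]
      refine ⟨hW.1.trans (centralizerIn_le S S), fun β hβ => h.map_eq_of_forall le_rfl
        (hinvW _ le_rfl β hβ (centralizerIn_le S S) fun w hw => ⟨(β w).2, fun y hy => ?_⟩)⟩
      obtain ⟨y', hy'⟩ := β.surjective ⟨y, hy⟩
      have h1 : y' * w = w * y' := Subtype.ext ((mem_centralizerIn.1 hw).2 y' y'.2)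
      have h2 := congrArg β h1
      rw [map_mul, map_mul, hy'] at h2
      exact congrArg Subtype.val h2
    have hne : R ≠ A := fun e => hAe (e ▸ hR)
    have hZR := h.ctr_le_ess hR hne
    refine ⟨hW.1.trans hZR, fun β hβ => h.map_eq_of_forall hR.1.1 ?_⟩
    by_cases hle' : R ⊓ A ≤ centralizerIn S S
    · obtain ⟨-, -, -, -, -, α', hα', z', hz', hz''⟩ := h.abelian_case hR hne hF hle'
      -- `W` lies in every image of the centre
      have hall : ∀ ε ∈ F.autGroup R, ∀ w : R, (w : Ω) ∈ W →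
          ((ε.symm w : R) : Ω) ∈ centralizerIn S S := by
        intro ε hε w hw
        by_cases hmv : ∃ z : R, (z : Ω) ∈ centralizerIn S S ∧ ((ε z : R) : Ω) ∉ centralizerIn S S
        · obtain ⟨z, hz, hzn⟩ := hmv
          obtain ⟨W', hW', hmem, -⟩ := h.exists_goodFix hF hp huniq hR hne hle' hx hxA hε hz hzn
          rw [← huniqW W' hW'] at hw
          exact ((hmem w).1 hw).2
        · push Not at hmv
          haveI := finite_of_le hR.1.1
          have e : ((centralizerIn S S).subgroupOf R).map ε.toMonoidHom =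
              (centralizerIn S S).subgroupOf R := h.map_eq_of_forall hR.1.1 hmv
          obtain ⟨v, hv, e'⟩ := e.ge (show w ∈ (centralizerIn S S).subgroupOf R from hW.1 hw)
          rw [show ε.symm w = v by rw [← e']; exact ε.symm_apply_apply v]
          exact hv
      obtain ⟨W', hW', hmem, -⟩ := h.exists_goodFix hF hp huniq hR hne hle' hx hxA hα' hz' hz''
      obtain rfl := huniqW W' hW'
      intro w hw
      refine (hmem (β w)).2 ⟨?_, ?_⟩
      · exact hall β⁻¹ (Subgroup.inv_mem _ hβ) w hw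
      · exact hall (β⁻¹ * α') (Subgroup.mul_mem _ (Subgroup.inv_mem _ hβ) hα') w hw
    · exact hinvW R hR.1.1 β hβ hZR (h.ctr_invariant hR hne hle' β)
  have hW1 : W = ⊥ := le_bot_iff.1 (hcore ▸ le_core hn)
  rw [hW1, bot_sup_eq] at hZW
  have e : centralizerIn S S ⊓ h.timg hx A = centralizerIn S S := le_antisymm inf_le_left hZW
  exact ⟨hZW.trans inf_le_right, by rw [← e]; exact hc0⟩

end AbIndex

end Cfsg.Agent.Lib.Fusion
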