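import Cfsg.Agent.Lib.Fusion.EssentialSeries
import Cfsg.Agent.Lib.Fusion.ModelBasic
import Cfsg.Agent.Lib.Cores.PCore

/-!
Automorphism groups of abelian `p`-groups with a Sylow subgroup fixing a hyperplane that is moved.
-/

set_option autoImplicit false
set_option linter.unusedSectionVars false

namespace Cfsg.Agent.Lib.Fusion

open Cfsg

/-- In a factor of order `p` an element outside the bottom generates. -/
theorem exists_pow_mul_mem {G : Type*} [Group G] {p : ℕ} [Fact p.Prime] {H K : Subgroup G} [H.Normal]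
    (hidx : H.relIndex K = p) {a b : G} (ha : a ∈ K) (haH : a ∉ H) (hb : b ∈ K) :
    ∃ k : ℕ, (a ^ k)⁻¹ * b ∈ H := by
  have hq : Nat.card (K ⧸ H.subgroupOf K) = p := hidx
  haveI : Finite (K ⧸ H.subgroupOf K) :=
    Nat.finite_of_card_ne_zero (hq ▸ (Fact.out : p.Prime).ne_zero)
  have hne : QuotientGroup.mk' (H.subgroupOf K) ⟨a, ha⟩ ≠ 1 := by
    rw [Ne, QuotientGroup.mk'_apply, QuotientGroup.eq_one_iff]
    exact haH
  obtain ⟨k, hk⟩ : QuotientGroup.mk' (H.subgroupOf K) ⟨b, hb⟩ ∈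
      Submonoid.powers (QuotientGroup.mk' (H.subgroupOf K) ⟨a, ha⟩) := by
    rw [mem_powers_iff_mem_zpowers, zpowers_eq_top_of_prime_card hq hne]
    trivial
  refine ⟨k, ?_⟩
  have h1 := QuotientGroup.eq.1 (hk : QuotientGroup.mk ((⟨a, ha⟩ : K) ^ k) =
    QuotientGroup.mk (⟨b, hb⟩ : K))
  simpa [Subgroup.mem_subgroupOf] using h1

variable {G : Type*} [Group G] [Finite G] {p : ℕ} [Fact p.Prime]
variable (hG : IsPGroup p G) (hc : ∀ a b : G, a * b = b * a) (X U : Subgroup (MulAut G))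
  (hUX : U ≤ X) (hUp : IsPGroup p U) (hUs : ¬ p ∣ U.relIndex X) (Z : Subgroup G) (hZ : Z.index = p)
  (hfix : ∀ u ∈ U, ∀ z ∈ Z, u z = z) (α : MulAut G) (hα : α ∈ X)
  (hmove : ∃ z ∈ Z, α z ∉ Z)

include hG hc hUX hUp hUs hfix hα

/-- An element of the group generated by the Sylow subgroup and its conjugate that stabilizes the
chain through the intersection of the two hyperplanes is trivial on both. -/
theorem stab_fix_both (η : MulAut G) (hη : η ∈ U ⊔ U.map (MulAut.conj α).toMonoidHom)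
    (h1 : ∀ w ∈ Z ⊓ Z.map α.toMonoidHom, η w = w)
    (h2 : ∀ g : G, g⁻¹ * η g ∈ Z ⊓ Z.map α.toMonoidHom) :
    (∀ z ∈ Z, η z = z) ∧ ∀ z ∈ Z, η (α z) = α z := by
  set W := Z ⊓ Z.map α.toMonoidHom with hW
  set V := U.map (MulAut.conj α).toMonoidHom with hV
  set Y := U ⊔ V with hY
  have hVX : V ≤ X := by
    rintro _ ⟨u, hu, rfl⟩
    exact X.mul_mem (X.mul_mem hα (hUX hu)) (X.inv_mem hα)
  have hYW : ∀ β ∈ Y, ∀ w ∈ W, β w = w := by
    intro β hβ w hw
    refine Subgroup.closure_induction (p := fun β _ => β w = w) ?_ rfl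
      (fun a b _ _ ha hb => by rw [MulAut.mul_apply, hb, ha])
      (fun a _ ha => by
        calc a⁻¹ w = a⁻¹ (a w) := by rw [ha]
          _ = w := a.symm_apply_apply w)
      (show β ∈ Subgroup.closure ((U : Set (MulAut G)) ∪ V) by
        rw [Subgroup.closure_union, Subgroup.closure_eq, Subgroup.closure_eq]; exact hβ)
    rintro u (hu | ⟨u, hu, rfl⟩)
    · exact hfix u hu w hw.1
    · obtain ⟨z, hz, rfl⟩ := hw.2
      show α (u (α.symm (α z))) = α z
      rw [α.symm_apply_apply, hfix u hu z hz]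
  haveI : Finite (MulAut G) := Finite.of_injective (fun e : MulAut G => (e : G → G)) fun a b e =>
    MulEquiv.ext (congrFun e)
  have hmem : η ∈ (pCore p Y).map Y.subtype := by
    refine stab_mem_pCore hG Y (fun i => match i with | 0 => ⊥ | 1 => W | _ => ⊤) 2 rfl rfl
      (fun β hβ i x hx => ?_) hη fun i hi x hx => ?_
    · match i, hx with
      | 0, hx => simp only [Subgroup.mem_bot] at hx ⊢; rw [hx, map_one]
      | 1, hx => rw [hYW β hβ x hx]; exact hx
      | i + 2, _ => exact Subgroup.mem_top _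
    · interval_cases i
      · rw [h1 x hx, inv_mul_cancel]
        exact one_mem _
      · exact h2 x
  obtain ⟨η', hη', rfl⟩ := hmem
  have hle : ∀ (K : Subgroup (MulAut G)), K ≤ Y → IsPGroup p K → ¬ p ∣ K.relIndex X →
      (η' : MulAut G) ∈ K := by
    intro K hKY hKp hKs
    have hsub : ¬ p ∣ (K.subgroupOf Y).index := fun hd => hKs (hd.trans (by
      show K.relIndex Y ∣ K.relIndex X
      exact ⟨Y.relIndex X, (Subgroup.relIndex_mul_relIndex K Y X hKY (sup_le hUX hVX)).symm⟩))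
    let T : Sylow p Y := (hKp.of_equiv (Subgroup.subgroupOfEquivOfLe hKY).symm).toSylow hsub
    have hn : (pCore p Y).Normal := pCore_normal p Y
    exact ((Cfsg.Agent.Lib.Cores.pCore_isPGroup p Y).le_sylow_of_normal T) hη'
  have hVs : ¬ p ∣ V.relIndex X := by
    have e : X.map (MulAut.conj α).toMonoidHom = X := by
      refine le_antisymm ?_ fun β hβ => ⟨α⁻¹ * β * α, X.mul_mem (X.mul_mem (X.inv_mem hα) hβ) hα, ?_⟩
      · rintro _ ⟨β, hβ, rfl⟩
        exact X.mul_mem (X.mul_mem hα hβ) (X.inv_mem hα)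
      · show α * (α⁻¹ * β * α) * α⁻¹ = β
        group
    rw [← e, hV, Subgroup.relIndex_map_map_of_injective _ _ (MulAut.conj α).injective]
    exact hUs
  constructor
  · exact hfix _ (hle U le_sup_left hUp hUs)
  · intro z hz
    obtain ⟨u, hu, hu'⟩ := hle V le_sup_right (hUp.map _) hVs
    show (η' : MulAut G) (α z) = α z
    rw [← hu']
    show α (u (α.symm (α z))) = α z
    rw [α.symm_apply_apply, hfix u hu z hz]

omit hUs hUp hUX hα in
theorem sylow_moves_into (hUp : IsPGroup p U) (hZ : Z.index = p) {u : MulAut G} (hu : u ∈ U)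
    (g : G) : g⁻¹ * u g ∈ Z := by
  obtain ⟨k, hk⟩ := hUp ⟨u, hu⟩
  haveI : Z.Normal := ⟨fun n hn g => by rwa [hc g n, mul_inv_cancel_right]⟩
  exact mulAut_fix_of_prime_factor u (congrArg Subtype.val hk : u ^ p ^ k = 1) Z ⊤
    (fun z hz => by rw [hfix u hu z hz]; exact hz) (fun _ _ => trivial)
    (by rw [Subgroup.relIndex_top_right, hZ]) (Subgroup.mem_top g)

/-- Both hyperplanes generate. -/
theorem eq_mul_of_moved (hZ : Z.index = p) (hmove : ∃ z ∈ Z, α z ∉ Z) (g : G) :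
    ∃ z ∈ Z, ∃ y ∈ Z, g = z * α y := by
  obtain ⟨z₀, hz₀, hz₀'⟩ := hmove
  haveI : Z.Normal := ⟨fun n hn g => by rwa [hc g n, mul_inv_cancel_right]⟩
  obtain ⟨k, hk⟩ := exists_pow_mul_mem (H := Z) (K := ⊤)
    (by rw [Subgroup.relIndex_top_right, hZ]) (Subgroup.mem_top (α z₀)) hz₀' (Subgroup.mem_top g)
  refine ⟨_, hk, z₀ ^ k, pow_mem hz₀ k, ?_⟩
  rw [map_pow, hc _ (α z₀ ^ k), mul_inv_cancel_left]

include hZ hmove

theorem eq_one_of_stab {η : MulAut G} (hη : η ∈ U ⊔ U.map (MulAut.conj α).toMonoidHom)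
    (h1 : ∀ w ∈ Z ⊓ Z.map α.toMonoidHom, η w = w)
    (h2 : ∀ g : G, g⁻¹ * η g ∈ Z ⊓ Z.map α.toMonoidHom) : η = 1 := by
  obtain ⟨e1, e2⟩ := stab_fix_both hG hc X U hUX hUp hUs Z hfix α hα η hη h1 h2
  refine MulEquiv.ext fun g => ?_
  obtain ⟨z, hz, y, hy, rfl⟩ := eq_mul_of_moved hG hc X U hUX hUp hUs Z hfix α hα hZ hmove g
  rw [map_mul, e1 z hz, e2 y hy]
  rfl

theorem relIndex_inter : (Z ⊓ Z.map α.toMonoidHom).relIndex Z = p ∧
    (Z ⊓ Z.map α.toMonoidHom).relIndex (Z.map α.toMonoidHom) = p := by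
  obtain ⟨z₀, hz₀, hz₀'⟩ := hmove
  have hn : ∀ H : Subgroup G, H.Normal := fun H => ⟨fun n hn g => by rwa [hc g n, mul_inv_cancel_right]⟩
  have hi : (Z.map α.toMonoidHom).index = p := (Subgroup.index_map_equiv Z α).trans hZ
  constructor
  · rw [Subgroup.inf_relIndex_left]
    haveI := hn (Z.map α.toMonoidHom)
    have h1 := Subgroup.relIndex_dvd_index_of_normal (Z.map α.toMonoidHom) Z
    rw [hi] at h1
    refine ((Nat.dvd_prime Fact.out).1 h1).resolve_left fun e => hz₀' ?_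
    have hle := Subgroup.relIndex_eq_one.1 e
    haveI : Finite (Z.map α.toMonoidHom) := inferInstance
    have heq : Z = Z.map α.toMonoidHom := Subgroup.eq_of_le_of_card_ge hle
      (by rw [Subgroup.card_map_of_injective α.injective])
    rw [heq]
    exact ⟨z₀, hz₀, rfl⟩
  · rw [Subgroup.inf_relIndex_right]
    haveI := hn Z
    have h1 := Subgroup.relIndex_dvd_index_of_normal Z (Z.map α.toMonoidHom)
    rw [hZ] at h1
    refine ((Nat.dvd_prime Fact.out).1 h1).resolve_left fun e => hz₀' ?_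
    exact Subgroup.relIndex_eq_one.1 e ⟨z₀, hz₀, rfl⟩

/-- The Sylow subgroup has order at most `p`. -/
theorem card_le_of_moved : Nat.card U ≤ p := by
  classical
  obtain ⟨z₀, hz₀, hz₀'⟩ := hmove
  set W := Z ⊓ Z.map α.toMonoidHom with hW
  haveI : W.Normal := ⟨fun n hn g => by rwa [hc g n, mul_inv_cancel_right]⟩
  have hrel := (relIndex_inter hG hc X U hUX hUp hUs Z hZ hfix α hα ⟨z₀, hz₀, hz₀'⟩).1
  let κ : U → Z ⧸ W.subgroupOf Z := fun u => QuotientGroup.mk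
    ⟨(α z₀)⁻¹ * (u : MulAut G) (α z₀), sylow_moves_into hG hc U Z hfix hUp hZ u.2 _⟩
  have hinj : Function.Injective κ := by
    intro u v e
    have e' := QuotientGroup.eq.1 e
    simp only [Subgroup.mem_subgroupOf, Subgroup.coe_mul, Subgroup.coe_inv, mul_inv_rev,
      inv_inv, mul_assoc, mul_inv_cancel_left] at e'
    refine Subtype.ext (eq_of_inv_mul_eq_one ?_)
    have hη : (u : MulAut G)⁻¹ * v ∈ U := U.mul_mem (U.inv_mem u.2) v.2
    refine eq_one_of_stab hG hc X U hUX hUp hUs Z hZ hfix α hα ⟨z₀, hz₀, hz₀'⟩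
      (Subgroup.mem_sup_left hη) (fun w hw => hfix _ hη w hw.1) fun g => ?_
    haveI : Z.Normal := ⟨fun n hn g => by rwa [hc g n, mul_inv_cancel_right]⟩
    obtain ⟨k, hk⟩ := exists_pow_mul_mem (H := Z) (K := ⊤)
      (by rw [Subgroup.relIndex_top_right, hZ]) (Subgroup.mem_top (α z₀)) hz₀' (Subgroup.mem_top g)
     
    · set z := (α z₀ ^ k)⁻¹ * g with hzdef
      have hg : g = α z₀ ^ k * z := by rw [hzdef, mul_inv_cancel_left]
      have hd : (α z₀)⁻¹ * ((u : MulAut G)⁻¹ * v) (α z₀) ∈ W := by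
        have h3 : ((u : MulAut G) (α z₀))⁻¹ * (v : MulAut G) (α z₀) ∈ W := e'
        have h4 := hfix _ (U.inv_mem u.2) _ h3.1
        rw [map_mul, map_inv, show ((u : MulAut G)⁻¹) ((u : MulAut G) (α z₀)) = α z₀ from
          (u : MulAut G).symm_apply_apply _] at h4
        rw [MulAut.mul_apply, h4]
        exact h3
      rw [hg, map_mul, map_pow, hfix _ hη z hk]
      have : ((α z₀) ^ k * z)⁻¹ * (((u : MulAut G)⁻¹ * v) (α z₀) ^ k * z) =
          ((α z₀)⁻¹ * ((u : MulAut G)⁻¹ * v) (α z₀)) ^ k := by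
        rw [Commute.mul_pow (hc _ _), inv_pow, hc _ z, hc _ z]
        group
      rw [this]
      exact pow_mem hd k
  calc Nat.card U ≤ Nat.card (Z ⧸ W.subgroupOf Z) := Nat.card_le_card_of_injective κ hinj
    _ = p := hrel

/-- An element inverting the commutators of a transvection. -/
theorem exists_inverting {u : MulAut G} (hu : u ∈ U) (hu1 : u ≠ 1) :
    ∃ (y : G) (h : MulAut G), h ∈ X ∧ y⁻¹ * u y ∈ Z ∧ y⁻¹ * u y ∉ Z ⊓ Z.map α.toMonoidHom ∧
      h (y⁻¹ * u y) = (y⁻¹ * u y)⁻¹ ∧ (∀ z ∈ Z, h z ∈ Z) ∧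
      ∀ w ∈ Z ⊓ Z.map α.toMonoidHom, h w = w := by
  classical
  set W := Z ⊓ Z.map α.toMonoidHom with hW
  haveI : W.Normal := ⟨fun n hn g => by rwa [hc g n, mul_inv_cancel_right]⟩
  obtain ⟨hrel1, hrel2⟩ := relIndex_inter hG hc X U hUX hUp hUs Z hZ hfix α hα hmove
  obtain ⟨z₀, hz₀, hz₀'⟩ := hmove
  set y := α z₀ with hy
  obtain ⟨s, hs⟩ : ∃ s, s = y⁻¹ * u y := ⟨_, rfl⟩
  have hsZ : s ∈ Z := hs ▸ sylow_moves_into hG hc U Z hfix hUp hZ hu y
  have hsW : s ∉ W := by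
    intro hsW
    apply hu1
    refine eq_one_of_stab hG hc X U hUX hUp hUs Z hZ hfix α hα ⟨z₀, hz₀, hz₀'⟩
      (Subgroup.mem_sup_left hu) (fun w hw => hfix u hu w hw.1) fun g => ?_
    haveI : Z.Normal := ⟨fun n hn g => by rwa [hc g n, mul_inv_cancel_right]⟩
    obtain ⟨k, hk⟩ := exists_pow_mul_mem (H := Z) (K := ⊤)
      (by rw [Subgroup.relIndex_top_right, hZ]) (Subgroup.mem_top y) hz₀' (Subgroup.mem_top g)
    · set z := (y ^ k)⁻¹ * g with hzdef
      have hg : g = y ^ k * z := by rw [hzdef, mul_inv_cancel_left]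
      rw [hg, map_mul, map_pow, hfix u hu z hk]
      have : (y ^ k * z)⁻¹ * (u y ^ k * z) = s ^ k := by
        rw [hs, Commute.mul_pow (hc _ _), inv_pow, hc _ z, hc _ z]
        group
      rw [this]
      exact pow_mem hsW k
  set v : MulAut G := α * u * α⁻¹ with hv
  have hvV : v ∈ U.map (MulAut.conj α).toMonoidHom := ⟨u, hu, rfl⟩
  have hvX : v ∈ X := X.mul_mem (X.mul_mem hα (hUX hu)) (X.inv_mem hα)
  have hvZ' : ∀ z ∈ Z, v (α z) = α z := fun z hz => by
    show α (u (α.symm (α z))) = α z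
    rw [α.symm_apply_apply, hfix u hu z hz]
  have hvW : ∀ w ∈ W, v w = w := fun w hw => by
    obtain ⟨z, hz, rfl⟩ := hw.2
    exact hvZ' z hz
  have hvmod : ∀ g : G, g⁻¹ * v g ∈ Z.map α.toMonoidHom := fun g =>
    ⟨_, sylow_moves_into hG hc U Z hfix hUp hZ hu (α.symm g), by
      show α ((α.symm g)⁻¹ * u (α.symm g)) = g⁻¹ * α (u (α.symm g))
      rw [map_mul, map_inv, α.apply_symm_apply]⟩
  obtain ⟨d, hd⟩ : ∃ d, d = s⁻¹ * v s := ⟨_, rfl⟩
  have hdW : d ∉ W := by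
    intro hdW
    have hv1 : v = 1 := by
      refine eq_one_of_stab hG hc X U hUX hUp hUs Z hZ hfix α hα ⟨z₀, hz₀, hz₀'⟩
        (Subgroup.mem_sup_right hvV) hvW fun g => ?_
      obtain ⟨g1, hg1, g2, hg2, rfl⟩ :=
        eq_mul_of_moved hG hc X U hUX hUp hUs Z hfix α hα hZ ⟨z₀, hz₀, hz₀'⟩ g
      obtain ⟨k, hk⟩ := exists_pow_mul_mem (H := W) (K := Z) hrel1 hsZ hsW hg1
      · set w := (s ^ k)⁻¹ * g1 with hwdef
        have hg : g1 = s ^ k * w := by rw [hwdef, mul_inv_cancel_left]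
        rw [hg, map_mul, map_mul, map_pow, hvW w hk, hvZ' g2 hg2]
        have : (s ^ k * w * α g2)⁻¹ * (v s ^ k * w * α g2) = d ^ k := by
          rw [hd, Commute.mul_pow (hc _ _), inv_pow]
          rw [show (s ^ k * w * α g2)⁻¹ * (v s ^ k * w * α g2) =
            (w * α g2)⁻¹ * ((s ^ k)⁻¹ * v s ^ k * (w * α g2)) by group,
            hc ((s ^ k)⁻¹ * v s ^ k) (w * α g2), inv_mul_cancel_left]
        rw [this]
        exact pow_mem hdW k
    apply hu1
    rw [hv] at hv1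
    exact conj_eq_one_iff.1 hv1
  obtain ⟨k, hk⟩ := exists_pow_mul_mem (H := W) (K := Z.map α.toMonoidHom) hrel2 (hd ▸ hvmod s) hdW
    (inv_mem (show y ∈ Z.map α.toMonoidHom from ⟨z₀, hz₀, rfl⟩))
  set w0 := ((d ^ k)⁻¹ * y⁻¹)⁻¹ with hw0
  have hw0W : w0 ∈ W := inv_mem hk
  have hd' : d ^ k = y⁻¹ * w0 := by rw [hw0, mul_inv_rev, inv_inv, inv_inv, ← mul_assoc, inv_mul_cancel, one_mul]
  have hvd : v d = d := by
    obtain ⟨z, hz, e⟩ := hvmod s
    rw [hd, ← e]
    exact hvZ' z hz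
  have hpow : ∀ n : ℕ, (∀ w ∈ W, (v ^ n) w = w) ∧ (v ^ n) y = y ∧ (v ^ n) s = s * d ^ n := by
    intro n
    induction n with
    | zero => exact ⟨fun _ _ => rfl, rfl, by simp⟩
    | succ n ih =>
      refine ⟨fun w hw => ?_, ?_, ?_⟩
      · rw [pow_succ, MulAut.mul_apply, hvW w hw, ih.1 w hw]
      · rw [pow_succ, MulAut.mul_apply, hvZ' z₀ hz₀, ih.2.1]
      · rw [pow_succ', MulAut.mul_apply, ih.2.2, map_mul, map_pow, hvd, pow_succ' d, ← mul_assoc s,
          hd, mul_inv_cancel_left]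
  set v' := v ^ k with hv'
  have hv'W : ∀ w ∈ W, v' w = w := (hpow k).1
  have hv'y : v' y = y := (hpow k).2.1
  have hv's : v' s = s * (y⁻¹ * w0) := hd' ▸ (hpow k).2.2
  have huy : u y = y * s := by rw [hs, mul_inv_cancel_left]
  have hus : u s = s := hfix u hu s hsZ
  have huw : u w0 = w0 := hfix u hu w0 hw0W.1
  set ω := u * v' * u with hω
  have hωs : ω s = y⁻¹ * w0 := by
    show u (v' (u s)) = _
    rw [hus, hv's, map_mul, map_mul, map_inv, hus, huy, huw, mul_inv_rev]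
    group
  have hωy : ω y = s * w0 := by
    show u (v' (u y)) = _
    rw [huy, map_mul, hv'y, hv's, show y * (s * (y⁻¹ * w0)) = s * w0 by
      rw [← mul_assoc, hc y s, mul_assoc, mul_inv_cancel_left], map_mul, hus, huw]
  have hωW : ∀ w ∈ W, ω w = w := fun w hw => by
    show u (v' (u w)) = w
    rw [hfix u hu w hw.1, hv'W w hw, hfix u hu w hw.1]
  refine ⟨y, ω * ω, ?_, ?_⟩
  rotate_left
  rw [← hs]
  refine ⟨hsZ, hsW, ?_, ?_, fun w hw => ?_⟩
  rotate_right
  refine X.mul_mem ?_ ?_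
  · exact X.mul_mem (X.mul_mem (hUX hu) (X.pow_mem hvX k)) (hUX hu)
  · exact X.mul_mem (X.mul_mem (hUX hu) (X.pow_mem hvX k)) (hUX hu)
  · show ω (ω s) = s⁻¹
    rw [hωs, map_mul, map_inv, hωy, hωW w0 hw0W, mul_inv_rev, hc w0⁻¹, mul_assoc, inv_mul_cancel,
      mul_one]
  · intro z hz
    obtain ⟨j, hj⟩ := exists_pow_mul_mem (H := W) (K := Z) hrel1 hsZ hsW hz
    · rw [show z = s ^ j * ((s ^ j)⁻¹ * z) by rw [mul_inv_cancel_left], map_mul, map_pow]
      refine mul_mem (pow_mem ?_ j) ?_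
      · show ω (ω s) ∈ Z
        rw [hωs, map_mul, map_inv, hωy, hωW w0 hw0W]
        exact mul_mem (inv_mem (mul_mem hsZ hw0W.1)) hw0W.1
      · show ω (ω _) ∈ Z
        rw [hωW _ hj, hωW _ hj]
        exact hj.1
  · show ω (ω w) = w
    rw [hωW w hw, hωW w hw]

end Cfsg.Agent.Lib.Fusion
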