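import Cfsg.Agent.Lib.Fusion.AbelianIndex
import Cfsg.Agent.Lib.Fusion.MovedHyperplane

/-!
The essential subgroups other than `A` of a saturated fusion system on a `p`-group with an abelian
subgroup `A` of index `p`.
-/

set_option autoImplicit false
set_option linter.unusedSectionVars false

namespace Cfsg.Agent.Lib.Fusion

open Cfsg Cfsg.FusionSystem

variable {Ω : Type*} [Group Ω] {S A : Subgroup Ω} {p : ℕ} [Fact p.Prime] [Finite S]
  {F : FusionSystem S}

theorem exists_eq_pow_of_dvd {c n : ℕ} (hc : c ∣ p ^ n) (h1 : 1 < c) (h2 : c ≤ p) : c = p := by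
  obtain ⟨i, -, rfl⟩ := (Nat.dvd_prime_pow Fact.out).1 hc
  have hp := (Fact.out : p.Prime).one_lt
  rcases i with _ | _ | i
  · simp at h1
  · exact pow_one p
  · exfalso
    have : p ^ 1 < p ^ (i + 1 + 1) := Nat.pow_lt_pow_right hp (by omega)
    rw [pow_one] at this
    omega

theorem card_eq_mul_of_le {H K : Subgroup Ω} (hS : IsPGroup p S) (hHK : H < K) (hKS : K ≤ S)
    (hle : Nat.card K ≤ Nat.card H * p) : Nat.card K = Nat.card H * p := by
  haveI := finite_of_le hKS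
  obtain ⟨n, hn⟩ := IsPGroup.iff_card.1 hS
  haveI : Finite H := finite_of_le (hHK.le.trans hKS)
  obtain ⟨c, hc⟩ := Subgroup.card_dvd_of_le hHK.le
  rw [hc]
  congr 1
  refine exists_eq_pow_of_dvd (n := n) ?_ ?_ ?_
  · exact hn ▸ (Dvd.intro_left _ hc.symm).trans (Subgroup.card_dvd_of_le hKS)
  · rcases c with _ | _ | c
    · rw [mul_zero] at hc
      exact absurd hc Nat.card_pos.ne'
    · exact absurd (eq_of_le_of_card hHK.le (le_of_eq (hc.trans (by simp)))) hHK.ne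
    · omega
  · rw [hc] at hle
    exact Nat.le_of_mul_le_mul_left hle Nat.card_pos

namespace AbIndex

variable (h : AbIndex S A p)
include h

theorem card_inf_mul {H : Subgroup Ω} (hH : H ≤ S) (hHA : ¬ H ≤ A) :
    Nat.card ↥(H ⊓ A) * p = Nat.card H := by
  haveI := finite_of_le hH
  refine (card_eq_mul_of_le h.pgroup (lt_of_le_of_ne inf_le_left fun e => hHA (inf_eq_left.1 e))
    hH ?_).symm
  have h1 : A.relIndex H ≤ A.relIndex S := Subgroup.relIndex_le_of_le_right hH (by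
    show (A.subgroupOf S).index ≠ 0
    rw [h.index]
    exact (Fact.out : p.Prime).ne_zero)
  rw [show A.relIndex S = p from h.index, ← Subgroup.inf_relIndex_left H A] at h1
  have h2 : Nat.card ↥(H ⊓ A) * (H ⊓ A).relIndex H = Nat.card H := by
    rw [← Nat.card_congr (Subgroup.subgroupOfEquivOfLe (inf_le_left : H ⊓ A ≤ H)).toEquiv]
    exact Subgroup.card_mul_index _
  rw [← h2]
  exact Nat.mul_le_mul_left _ h1

theorem mem_secondCtr_inf {x a : Ω} (hx : x ∈ S) (hxA : x ∉ A) :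
    a ∈ secondCtr S ⊓ A ↔ a ∈ A ∧ a * x * a⁻¹ * x⁻¹ ∈ centralizerIn S S :=
  ⟨fun ha => ⟨ha.2, (mem_secondCtr.1 ha.1).2 x hx⟩,
    fun ha => ⟨h.mem_secondCtr_of_tau hx hxA ha.1 ha.2, ha.1⟩⟩

variable {P : Subgroup Ω} (hP : F.IsEssential p P) (hPA : P ≠ A)
include hP hPA

theorem not_le : ¬ P ≤ A := fun hle => by
  refine hPA (le_antisymm hle fun a ha => hP.1.2 P (isConj_refl F hP.1.1) ⟨h.le ha, fun y hy => ?_⟩)
  exact h.comm y (hle hy) a ha

theorem ctr_le_ess : centralizerIn S S ≤ P := fun z hz =>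
  hP.1.2 P (isConj_refl F hP.1.1) ⟨hz.1, fun y hy => hz.2 y (hP.1.1 hy)⟩

theorem ess_decomp {x y : Ω} (hx : x ∈ P) (hxA : x ∉ A) (hy : y ∈ P) :
    ∃ a ∈ P ⊓ A, ∃ k : ℤ, y = a * x ^ k := by
  obtain ⟨a, ha, k, rfl⟩ := h.decomp (hP.1.1 hx) hxA (hP.1.1 hy)
  refine ⟨a, ⟨?_, ha⟩, k, rfl⟩
  have := mul_mem hy (Subgroup.inv_mem _ (zpow_mem hx k))
  rwa [mul_inv_cancel_right] at this

theorem normalizes_iff {x a : Ω} (hx : x ∈ P) (hxA : x ∉ A) (ha : a ∈ A) :
    a ∈ normalizerIn S P ↔ a * x * a⁻¹ * x⁻¹ ∈ P := by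
  constructor
  · intro hn
    exact mul_mem (conj_mem_of_mem_normalizer hn.2 hx) (Subgroup.inv_mem _ hx)
  · intro ht
    haveI := finite_of_le hP.1.1
    refine ⟨h.le ha, mem_normalizer_of_finite fun y hy => ?_⟩
    obtain ⟨b, hb, k, rfl⟩ := h.ess_decomp hP hPA hx hxA hy
    rw [show a * (b * x ^ k) * a⁻¹ = (a * b * a⁻¹) * (a * x ^ k * a⁻¹) by group,
      h.comm a ha b hb.2, mul_inv_cancel_right, ← conj_zpow]
    refine mul_mem hb.1 (zpow_mem ?_ k)
    have := mul_mem ht hx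
    rwa [inv_mul_cancel_right] at this

variable (hF : F.IsSaturated p)
include hF

/-- An element of `A` stabilizing an invariant chain of length two lies in `P`. -/
theorem mem_of_series {L : Subgroup Ω} (hLA : L ≤ A)
    (hinv : ∀ β ∈ F.autGroup P, ∀ y : P, (y : Ω) ∈ L → ((β y : P) : Ω) ∈ L)
    {a : Ω} (ha : a ∈ A) (han : a ∈ normalizerIn S P)
    (hcomm : ∀ y ∈ P, y⁻¹ * (a * y * a⁻¹) ∈ L) : a ∈ P := by
  haveI := finite_of_le hP.1.1
  refine mem_of_conjAut_inn hP.1 han ?_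
  rw [← (IsEssential.radical h.pgroup hF hP).2]
  refine stab_mem_pCore (h.pgroup.to_le hP.1.1) _
    (fun i => match i with | 0 => ⊥ | 1 => L.subgroupOf P | _ => ⊤) 2 rfl rfl
    (fun β hβ i y hy => ?_) (conjAut_mem_autGroup F hP.1.1 han.1 han.2) fun i hi y hy => ?_
  · match i, hy with
    | 0, hy => simp only [Subgroup.mem_bot] at hy ⊢; rw [hy, map_one]
    | 1, hy => exact hinv β hβ y hy
    | i + 2, _ => exact Subgroup.mem_top _
  · interval_cases i
    · refine Subgroup.mem_bot.2 (Subtype.ext ?_)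
      show (y : Ω)⁻¹ * (a * y * a⁻¹) = 1
      rw [h.comm a ha y (hLA hy), mul_inv_cancel_right, inv_mul_cancel]
    · exact hcomm y y.2

theorem exists_ne : ∃ a, a ∈ A ∧ a ∈ normalizerIn S P ∧ a ∉ P := by
  obtain ⟨g, hg, hgP⟩ := SetLike.exists_of_lt
    (lt_normalizerIn h.pgroup (IsEssential.lt hF h.pgroup hP))
  obtain ⟨x, hx, hxA⟩ := SetLike.not_le_iff_exists.1 (h.not_le hP hPA)
  obtain ⟨a, ha, k, rfl⟩ := h.decomp (hP.1.1 hx) hxA hg.1
  refine ⟨a, ha, ?_, fun haP => hgP (mul_mem haP (zpow_mem hx k))⟩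
  have := mul_mem hg (Subgroup.inv_mem _ (zpow_mem (le_normalizerIn hP.1.1 hx) k))
  rwa [mul_inv_cancel_right] at this

theorem secondCtr_mem_normalizer {a : Ω} (ha : a ∈ secondCtr S ⊓ A) : a ∈ normalizerIn S P := by
  obtain ⟨x, hx, hxA⟩ := SetLike.not_le_iff_exists.1 (h.not_le hP hPA)
  exact (h.normalizes_iff hP hPA hx hxA ha.2).2
    (h.ctr_le_ess hP hPA ((mem_secondCtr.1 ha.1).2 x (hP.1.1 hx)))

theorem secondCtr_comm {a y : Ω} (ha : a ∈ secondCtr S) (hy : y ∈ S) :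
    y⁻¹ * (a * y * a⁻¹) ∈ centralizerIn S S := by
  have h1 := (mem_secondCtr.1 ha).2 y hy
  have h2 := (mem_centralizerIn.1 h1).2 y hy
  rw [show y⁻¹ * (a * y * a⁻¹) = y⁻¹ * ((a * y * a⁻¹ * y⁻¹) * y) by group, ← h2, inv_mul_cancel_left]
  exact h1

/-- The abelian case: the Sylow subgroup of the automorphism group has order `p`. -/
theorem abelian_case (hle : P ⊓ A ≤ centralizerIn S S) :
    P ⊓ A = centralizerIn S S ∧ Nat.card P = Nat.card (centralizerIn S S) * p ∧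
      (∀ a ∈ P, ∀ b ∈ P, a * b = b * a) ∧
      normalizerIn S P ⊓ A = secondCtr S ⊓ A ∧
      Nat.card (autInducedBy S P) = p ∧
      ∃ α ∈ F.autGroup P, ∃ z : P, (z : Ω) ∈ centralizerIn S S ∧
        ((α z : P) : Ω) ∉ centralizerIn S S := by
  haveI := finite_of_le hP.1.1
  have hZ : P ⊓ A = centralizerIn S S := le_antisymm hle (le_inf (h.ctr_le_ess hP hPA) h.ctr_le)
  obtain ⟨x, hx, hxA⟩ := SetLike.not_le_iff_exists.1 (h.not_le hP hPA)
  have hcard : Nat.card P = Nat.card (centralizerIn S S) * p := by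
    rw [← hZ, h.card_inf_mul hP.1.1 (h.not_le hP hPA)]
  have hPc : ∀ a ∈ P, ∀ b ∈ P, a * b = b * a := by
    intro a ha b hb
    obtain ⟨a', ha', i, rfl⟩ := h.ess_decomp hP hPA hx hxA ha
    obtain ⟨b', hb', j, rfl⟩ := h.ess_decomp hP hPA hx hxA hb
    have h1 : Commute a' (b' * x ^ j) :=
      ((mem_centralizerIn.1 (hle ha')).2 _ (hP.1.1 hb)).symm
    have h2 : Commute (x ^ i) b' :=
      (mem_centralizerIn.1 (hle hb')).2 _ (zpow_mem (hP.1.1 hx) i)
    exact (h1.mul_left (h2.mul_right ((Commute.refl x).zpow_zpow i j))).eq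
  have hN : normalizerIn S P ⊓ A = secondCtr S ⊓ A := by
    refine le_antisymm (fun a ha => ?_) fun a ha => ⟨h.secondCtr_mem_normalizer hP hPA hF ha, ha.2⟩
    refine (h.mem_secondCtr_inf (hP.1.1 hx) hxA).2 ⟨ha.2, hle ⟨?_, h.tau_mem (hP.1.1 hx) ha.2⟩⟩
    exact (h.normalizes_iff hP hPA hx hxA ha.2).1 ha.1
  obtain ⟨α, hα, z, hz, hz'⟩ : ∃ α ∈ F.autGroup P, ∃ z : P, (z : Ω) ∈ centralizerIn S S ∧
      ((α z : P) : Ω) ∉ centralizerIn S S := by
    by_contra hcon
    push Not at hcon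
    obtain ⟨a, ha, han, haP⟩ := h.exists_ne hP hPA hF
    exact haP (h.mem_of_series hP hPA hF h.ctr_le hcon ha han fun y hy =>
      h.secondCtr_comm hP hPA hF (hN.le ⟨han, ha⟩).1 (hP.1.1 hy))
  refine ⟨hZ, hcard, hPc, hN, ?_, α, hα, z, hz, hz'⟩
  obtain ⟨⟨-, R, hR⟩, -⟩ := IsSaturated.automized_receptive h.pgroup hF hP.2.1
  have hle' : Nat.card (autInducedBy S P) ≤ p := by
    refine card_le_of_moved (h.pgroup.to_le hP.1.1) (fun a b => Subtype.ext (hPc a a.2 b b.2))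
      (F.autGroup P) (autInducedBy S P) (autInducedBy_le_autGroup F hP.1.1)
      (isPGroup_autInducedBy h.pgroup P) ?_ ((centralizerIn S S).subgroupOf P) ?_ ?_ α hα
      ⟨z, hz, hz'⟩
    · show ¬ p ∣ ((autInducedBy S P).subgroupOf (F.autGroup P)).index
      rw [← hR]
      exact R.not_dvd_index
    · have h1 := Subgroup.card_mul_index ((centralizerIn S S).subgroupOf P)
      rw [Nat.card_congr (Subgroup.subgroupOfEquivOfLe (h.ctr_le_ess hP hPA)).toEquiv, hcard] at h1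
      haveI := finite_of_le (centralizerIn_le S S)
      exact Nat.eq_of_mul_eq_mul_left Nat.card_pos h1
    · intro u hu w hw
      obtain ⟨g, hg, hgu⟩ := mem_autInducedBy.1 hu
      have hgw : g * (w : Ω) = w * g := (mem_centralizerIn.1 hw).2 g hg
      exact Subtype.ext (by rw [hgu, hgw, mul_inv_cancel_right])
  refine exists_eq_pow_of_dvd (n := (IsPGroup.iff_card.1 h.pgroup).choose) ?_ ?_ hle'
  · rw [← (IsPGroup.iff_card.1 h.pgroup).choose_spec]
    refine (Dvd.intro_left _ (card_normalizerIn S P).symm).trans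
      (Subgroup.card_dvd_of_le (normalizerIn_le S P))
  · by_contra hcon
    have h1 := card_normalizerIn S P
    have h2 := hP.1.2 P (isConj_refl F hP.1.1)
    haveI : Finite (normalizerIn S P) := finite_of_le (normalizerIn_le S P)
    have h3 : Nat.card (normalizerIn S P) ≤ Nat.card P := by
      rw [h1]
      refine (Nat.mul_le_mul (Subgroup.card_le_of_le h2) (not_lt.1 hcon)).trans ?_
      rw [mul_one]
    exact (lt_normalizerIn h.pgroup (IsEssential.lt hF h.pgroup hP)).ne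
      (eq_of_le_of_card (le_normalizerIn hP.1.1) h3)

omit hF in
theorem center_eq (hle : ¬ P ⊓ A ≤ centralizerIn S S) {y : Ω} (hy : y ∈ P)
    (hc : ∀ w ∈ P, w * y = y * w) : y ∈ centralizerIn S S := by
  by_cases hyA : y ∈ A
  · obtain ⟨x, hx, hxA⟩ := SetLike.not_le_iff_exists.1 (h.not_le hP hPA)
    exact h.mem_ctr_of_comm (hP.1.1 hx) hxA hyA (hc x hx).symm
  · exact absurd (fun a ha => h.mem_ctr_of_comm (hP.1.1 hy) hyA ha.2 (hc a ha.1)) hle

omit hF in
theorem ctr_invariant (hle : ¬ P ⊓ A ≤ centralizerIn S S) (β : MulAut P) (y : P)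
    (hy : (y : Ω) ∈ centralizerIn S S) : ((β y : P) : Ω) ∈ centralizerIn S S := by
  refine h.center_eq hP hPA hle (β y).2 fun w hw => ?_
  have h1 : (β.symm ⟨w, hw⟩) * y = y * (β.symm ⟨w, hw⟩) :=
    Subtype.ext ((mem_centralizerIn.1 hy).2 _ (hP.1.1 (β.symm ⟨w, hw⟩).2))
  have h2 := congrArg β h1
  rw [map_mul, map_mul, MulEquiv.apply_symm_apply] at h2
  exact congrArg Subtype.val h2

/-- The nonabelian case. -/
theorem nonabelian_case (hle : ¬ P ⊓ A ≤ centralizerIn S S) :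
    P ⊓ A = secondCtr S ⊓ A ∧ Nat.card ↥(P ⊓ A) = Nat.card (centralizerIn S S) * p ∧
      Nat.card ↥(normalizerIn S P ⊓ A) = Nat.card ↥(P ⊓ A) * p := by
  classical
  haveI := finite_of_le hP.1.1
  haveI := finite_of_le (centralizerIn_le S S)
  obtain ⟨x, hx, hxA⟩ := SetLike.not_le_iff_exists.1 (h.not_le hP hPA)
  have hN2 : secondCtr S ⊓ A ≤ P ⊓ A := fun a ha =>
    ⟨h.mem_of_series hP hPA hF h.ctr_le (fun β _ => h.ctr_invariant hP hPA hle β) ha.2
      (h.secondCtr_mem_normalizer hP hPA hF ha) (fun y hy => h.secondCtr_comm hP hPA hF ha.1 (hP.1.1 hy)),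
      ha.2⟩
  obtain ⟨β, hβ, y, hyA, hy'⟩ : ∃ β ∈ F.autGroup P, ∃ y : P, (y : Ω) ∈ A ∧ ((β y : P) : Ω) ∉ A := by
    by_contra hcon
    push Not at hcon
    obtain ⟨a, ha, han, haP⟩ := h.exists_ne hP hPA hF
    refine haP (h.mem_of_series hP hPA hF (L := P ⊓ A) inf_le_right
      (fun β hβ y hy => ⟨(β y).2, hcon β hβ y hy.2⟩) ha han fun y hy => ⟨?_, ?_⟩)
    · exact mul_mem (Subgroup.inv_mem _ hy) (conj_mem_of_mem_normalizer han.2 hy)
    · rw [show y⁻¹ * (a * y * a⁻¹) = (y⁻¹ * a * y⁻¹⁻¹) * a⁻¹ by group]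
      exact mul_mem (h.conj_mem (Subgroup.inv_mem _ (hP.1.1 hy)) ha) (Subgroup.inv_mem _ ha)
  set A' := A.subgroupOf P with hA'
  have hA'n : A'.Normal := ⟨fun n hn g => h.conj_mem (hP.1.1 g.2) hn⟩
  set B := A'.map β.toMonoidHom with hB
  have hBn : B.Normal := hA'n.map _ β.surjective
  have hAcard : Nat.card A' = Nat.card ↥(P ⊓ A) := by
    rw [hA', ← Subgroup.inf_subgroupOf_left]
    exact Nat.card_congr (Subgroup.subgroupOfEquivOfLe inf_le_left).toEquiv
  have hA'i : A'.index = p := by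
    have h1 := Subgroup.card_mul_index A'
    rw [hAcard, ← h.card_inf_mul hP.1.1 (h.not_le hP hPA)] at h1
    haveI : Finite ↥(P ⊓ A) := finite_of_le (inf_le_left.trans hP.1.1)
    exact Nat.eq_of_mul_eq_mul_left Nat.card_pos h1
  have hBi : B.index = p := (Subgroup.index_map_equiv A' β).trans hA'i
  have hint : ∀ w : P, w ∈ A' → w ∈ B → (w : Ω) ∈ centralizerIn S S := by
    rintro w hwA ⟨w', hw', rfl⟩
    refine h.mem_ctr_of_comm (hP.1.1 (β y).2) hy' hwA ?_
    have h1 : w' * y = y * w' := Subtype.ext (h.comm _ hw' _ hyA)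
    exact congrArg Subtype.val ((map_mul β w' y).symm.trans ((congrArg β h1).trans (map_mul β y w')))
  -- the order of `P ⊓ A`
  have hcard : Nat.card ↥(P ⊓ A) = Nat.card (centralizerIn S S) * p := by
    refine card_eq_mul_of_le h.pgroup (lt_of_le_of_ne (le_inf (h.ctr_le_ess hP hPA) h.ctr_le)
      fun e => hle e.ge) (inf_le_left.trans hP.1.1) ?_
    have h1 : Nat.card ↥(A' ⊓ B) * (A' ⊓ B).relIndex A' = Nat.card A' := by
      rw [← Nat.card_congr (Subgroup.subgroupOfEquivOfLe (inf_le_left : A' ⊓ B ≤ A')).toEquiv]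
      exact Subgroup.card_mul_index _
    have h2 : (A' ⊓ B).relIndex A' ∣ p := by
      rw [Subgroup.inf_relIndex_left, ← hBi]
      haveI := hBn
      exact Subgroup.relIndex_dvd_index_of_normal B A'
    rw [← hAcard, ← h1]
    refine Nat.mul_le_mul ?_ (Nat.le_of_dvd (Fact.out : p.Prime).pos h2)
    exact Nat.card_le_card_of_injective
      (fun w : ↥(A' ⊓ B) => (⟨(w : P), hint w w.2.1 w.2.2⟩ : centralizerIn S S))
      fun a b e => Subtype.ext (Subtype.ext (congrArg (fun z : centralizerIn S S => (z : Ω)) e :))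
  have hPA2 : P ⊓ A = secondCtr S ⊓ A := by
    refine le_antisymm (fun a ha => (h.mem_secondCtr_inf (hP.1.1 hx) hxA).2 ⟨ha.2, ?_⟩) hN2
    have ht := h.tau_mem (hP.1.1 hx) ha.2
    set a' : P := ⟨a, ha.1⟩
    set x' : P := ⟨x, hx⟩
    refine hint (a' * x' * a'⁻¹ * x'⁻¹) ht ?_
    haveI := hBn
    have hq : Nat.card (P ⧸ B) = p := hBi
    haveI : IsCyclic (P ⧸ B) := isCyclic_of_prime_card hq
    rw [← QuotientGroup.eq_one_iff, QuotientGroup.mk_mul, QuotientGroup.mk_mul, QuotientGroup.mk_mul,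
      QuotientGroup.mk_inv, QuotientGroup.mk_inv]
    letI := IsCyclic.commGroup (α := P ⧸ B)
    rw [mul_inv_eq_one, mul_comm (a' : P ⧸ B), mul_inv_cancel_right]
  refine ⟨hPA2, hcard, ?_⟩
  -- the order of the normalizer
  obtain ⟨a₀, ha₀, ha₀n, ha₀P⟩ := h.exists_ne hP hPA hF
  haveI : Finite ↥(normalizerIn S P ⊓ A) := finite_of_le (inf_le_right.trans h.le)
  haveI : Finite ↥(P ⊓ A) := finite_of_le (inf_le_left.trans hP.1.1)
  refine card_eq_mul_of_le h.pgroup (lt_of_le_of_ne (inf_le_inf_right A (le_normalizerIn hP.1.1))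
    fun e => ha₀P (e.ge ⟨ha₀n, ha₀⟩).1) (inf_le_right.trans h.le) ?_
  set N₀ := normalizerIn S P ⊓ A with hN₀
  set T := h.timg (hP.1.1 hx) N₀ with hT
  have hTP : T ≤ P ⊓ A := by
    intro t ht
    obtain ⟨b, hb, hbN, rfl⟩ := (h.mem_timg _).1 ht
    exact ⟨(h.normalizes_iff hP hPA hx hxA hb).1 hbN.1, h.tau_mem (hP.1.1 hx) hb⟩
  haveI : Finite T := finite_of_le ((hTP.trans inf_le_left).trans hP.1.1)
  have hTZ : T ⊓ centralizerIn S S ≤ h.timg (hP.1.1 hx) (secondCtr S ⊓ A) := by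
    rintro t ⟨ht, htZ⟩
    obtain ⟨b, hb, -, rfl⟩ := (h.mem_timg _).1 ht
    exact (h.mem_timg _).2 ⟨b, hb, (h.mem_secondCtr_inf (hP.1.1 hx) hxA).2 ⟨hb, htZ⟩, rfl⟩
  haveI : Finite (h.timg (hP.1.1 hx) (secondCtr S ⊓ A)) :=
    finite_of_le ((h.timg_le _ _).trans h.le)
  have c1 : Nat.card (h.timg (hP.1.1 hx) (secondCtr S ⊓ A)) = p := by
    have h1 := h.card_timg (hP.1.1 hx) hxA (inf_le_right : secondCtr S ⊓ A ≤ A)
    rw [← hPA2, inf_eq_right.2 (le_inf (h.ctr_le_ess hP hPA) h.ctr_le), hcard,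
      mul_comm _ p] at h1
    rw [← hPA2]
    exact Nat.eq_of_mul_eq_mul_right Nat.card_pos h1
  have c2 : Nat.card T ≤ p * p := by
    have h1 : Nat.card ↥(T ⊓ centralizerIn S S) * (centralizerIn S S).relIndex T = Nat.card T := by
      rw [← Subgroup.inf_relIndex_left T (centralizerIn S S),
        ← Nat.card_congr (Subgroup.subgroupOfEquivOfLe (inf_le_left : T ⊓ centralizerIn S S ≤ T)).toEquiv]
      exact Subgroup.card_mul_index _
    rw [← h1]
    refine Nat.mul_le_mul ((Subgroup.card_le_of_le hTZ).trans c1.le) ?_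
    have h2 : (centralizerIn S S).relIndex (P ⊓ A) = p := by
      have h3 := Subgroup.card_mul_index ((centralizerIn S S).subgroupOf (P ⊓ A))
      rw [Nat.card_congr (Subgroup.subgroupOfEquivOfLe
        (le_inf (h.ctr_le_ess hP hPA) h.ctr_le)).toEquiv, hcard] at h3
      exact Nat.eq_of_mul_eq_mul_left Nat.card_pos h3
    exact (Subgroup.relIndex_le_of_le_right hTP (h2 ▸ (Fact.out : p.Prime).ne_zero)).trans h2.le
  have c3 := h.card_timg (hP.1.1 hx) hxA (inf_le_right : N₀ ≤ A)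
  rw [inf_eq_right.2 (le_inf ((h.ctr_le_ess hP hPA).trans (le_normalizerIn hP.1.1)) h.ctr_le)] at c3
  rw [← c3, hcard]
  calc Nat.card T * Nat.card (centralizerIn S S) ≤ p * p * Nat.card (centralizerIn S S) :=
        Nat.mul_le_mul_right _ c2
    _ = _ := by ring

/-- The structure forced by an essential subgroup other than `A`. -/
theorem structure_of_essential
    (huniq : ∀ B : Subgroup Ω, B ≤ S → IsMulCommutative ↥B → (B.subgroupOf S).index = p → B = A) :
    secondCtr S ≤ A ∧ Nat.card (secondCtr S) = Nat.card (centralizerIn S S) * p ∧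
      Nat.card (normalizerIn S P) = Nat.card P * p ∧
      ((P ⊓ A ≤ centralizerIn S S ∧
          ∃ x ∈ S, x ∉ A ∧ P = centralizerIn S S ⊔ Subgroup.zpowers x) ∨
        (¬ P ⊓ A ≤ centralizerIn S S ∧
          ∃ x ∈ S, x ∉ A ∧ P = secondCtr S ⊔ Subgroup.zpowers x)) := by
  classical
  haveI := finite_of_le hP.1.1
  haveI := h.finite
  obtain ⟨x, hx, hxA⟩ := SetLike.not_le_iff_exists.1 (h.not_le hP hPA)
  have hNA : ¬ normalizerIn S P ≤ A := fun hle => hxA (hle (le_normalizerIn hP.1.1 hx))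
  haveI := finite_of_le (centralizerIn_le S S)
  have key : Nat.card ↥(secondCtr S ⊓ A) = Nat.card (centralizerIn S S) * p ∧
      Nat.card (normalizerIn S P) = Nat.card P * p := by
    by_cases hle : P ⊓ A ≤ centralizerIn S S
    · obtain ⟨e1, e2, e3, e4, e5, -⟩ := h.abelian_case hP hPA hF hle
      have hN : Nat.card (normalizerIn S P) = Nat.card P * p := by
        rw [card_normalizerIn, e5, show centralizerIn S P = P from
          le_antisymm (hP.1.2 P (isConj_refl F hP.1.1)) fun y hy => ⟨hP.1.1 hy, fun w hw => e3 w hw y hy⟩]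
      refine ⟨?_, hN⟩
      have h1 := h.card_inf_mul (normalizerIn_le S P) hNA
      rw [e4, hN, e2] at h1
      exact Nat.eq_of_mul_eq_mul_right (Fact.out : p.Prime).pos h1
    · obtain ⟨e1, e2, e3⟩ := h.nonabelian_case hP hPA hF hle
      refine ⟨e1 ▸ e2, ?_⟩
      rw [← h.card_inf_mul (normalizerIn_le S P) hNA, e3, h.card_inf_mul hP.1.1 (h.not_le hP hPA)]
  have hZ2 : secondCtr S ≤ A := by
    intro w hw
    by_contra hwA
    have hwS := (mem_secondCtr.1 hw).1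
    have hA2 : A ≤ secondCtr S ⊓ A := fun a ha => by
      refine (h.mem_secondCtr_inf hwS hwA).2 ⟨ha, ?_⟩
      rw [show a * w * a⁻¹ * w⁻¹ = (w * a * w⁻¹ * a⁻¹)⁻¹ by group]
      exact Subgroup.inv_mem _ ((mem_secondCtr.1 hw).2 a (h.le ha))
    have hcA : Nat.card A = Nat.card (centralizerIn S S) * p := by
      rw [← key.1]
      exact congrArg (fun H : Subgroup Ω => Nat.card H) (le_antisymm hA2 inf_le_right)
    by_cases hle : P ⊓ A ≤ centralizerIn S S
    · obtain ⟨e1, e2, e3, -⟩ := h.abelian_case hP hPA hF hle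
      refine hPA (huniq P hP.1.1 ⟨⟨fun a b => Subtype.ext (e3 a a.2 b b.2)⟩⟩ ?_)
      have h1 := Subgroup.card_mul_index (P.subgroupOf S)
      rw [Nat.card_congr (Subgroup.subgroupOfEquivOfLe hP.1.1).toEquiv, e2, ← hcA, ← h.card] at h1
      exact Nat.eq_of_mul_eq_mul_left Nat.card_pos h1
    · obtain ⟨e1, -, -⟩ := h.nonabelian_case hP hPA hF hle
      refine IsEssential.ne_top hF h.pgroup hP ?_
      exact le_antisymm hP.1.1 (h.le_of_mem (hP.1.1 hx) hxA
        (fun a ha => (e1.ge (hA2 ha)).1) hx)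
  refine ⟨hZ2, inf_eq_left.2 hZ2 ▸ key.1, key.2, ?_⟩
  have hsup : ∀ L : Subgroup Ω, P ⊓ A = L → P = L ⊔ Subgroup.zpowers x := by
    rintro L rfl
    refine le_antisymm (fun y hy => ?_) (sup_le inf_le_left (Subgroup.zpowers_le.2 hx))
    obtain ⟨b, hb, k, rfl⟩ := h.ess_decomp hP hPA hx hxA hy
    exact Subgroup.mul_mem_sup hb (Subgroup.zpow_mem_zpowers x k)
  by_cases hle : P ⊓ A ≤ centralizerIn S S
  · exact Or.inl ⟨hle, x, hP.1.1 hx, hxA, hsup _ (h.abelian_case hP hPA hF hle).1⟩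
  · refine Or.inr ⟨hle, x, hP.1.1 hx, hxA, hsup _ ?_⟩
    rw [(h.nonabelian_case hP hPA hF hle).1, inf_eq_left.2 hZ2]

theorem card_ctr_inf
    (huniq : ∀ B : Subgroup Ω, B ≤ S → IsMulCommutative ↥B → (B.subgroupOf S).index = p → B = A)
    {x : Ω} (hx : x ∈ S) (hxA : x ∉ A) :
    Nat.card ↥(centralizerIn S S ⊓ h.timg hx A) = p := by
  haveI := finite_of_le (centralizerIn_le S S)
  obtain ⟨hZ2, hc, -, -⟩ := h.structure_of_essential hP hPA hF huniq
  have e : centralizerIn S S ⊓ h.timg hx A = h.timg hx (secondCtr S) := by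
    refine le_antisymm ?_ (fun t ht => ?_)
    · rintro t ⟨htZ, ht⟩
      obtain ⟨b, hb, -, rfl⟩ := (h.mem_timg hx).1 ht
      exact (h.mem_timg hx).2 ⟨b, hb, ((h.mem_secondCtr_inf hx hxA).2 ⟨hb, htZ⟩).1, rfl⟩
    · obtain ⟨b, hb, hb2, rfl⟩ := (h.mem_timg hx).1 ht
      exact ⟨(mem_secondCtr.1 hb2).2 x hx, (h.mem_timg hx).2 ⟨b, hb, hb, rfl⟩⟩
  have hle : centralizerIn S S ≤ secondCtr S := fun z hz =>
    mem_secondCtr.2 ⟨hz.1, fun y hy => by
      rw [← (mem_centralizerIn.1 hz).2 y hy, mul_inv_cancel_right, mul_inv_cancel]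
      exact one_mem _⟩
  have h1 := h.card_timg hx hxA hZ2
  rw [inf_eq_right.2 hle, hc, mul_comm _ p] at h1
  rw [e]
  exact Nat.eq_of_mul_eq_mul_right Nat.card_pos h1

end AbIndex

end Cfsg.Agent.Lib.Fusion
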