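import Cfsg.Agent.Lib.Fusion.AbelianIndexCore

/-!
Orders and indices forced by an essential subgroup other than the abelian subgroup of index `p`.
-/

set_option autoImplicit false
set_option linter.unusedSectionVars false

namespace Cfsg.Agent.Lib.Fusion

open Cfsg Cfsg.FusionSystem

variable {Ω : Type*} [Group Ω] {S A : Subgroup Ω} {p : ℕ} [Fact p.Prime] [Finite S]
  {F : FusionSystem S}

theorem index_eq_of_card {H K : Subgroup Ω} [Finite K] (hle : H ≤ K) {n : ℕ}
    (hc : Nat.card K = Nat.card H * n) : (H.subgroupOf K).index = n := by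
  haveI : Finite H := Finite.of_injective _ (Subgroup.inclusion_injective hle)
  have h1 := Subgroup.card_mul_index (H.subgroupOf K)
  rw [Nat.card_congr (Subgroup.subgroupOfEquivOfLe hle).toEquiv, hc] at h1
  exact Nat.eq_of_mul_eq_mul_left Nat.card_pos h1

namespace AbIndex

variable (h : AbIndex S A p) (hF : F.IsSaturated p) {P : Subgroup Ω} (hP : F.IsEssential p P)
  (hPA : P ≠ A)
  (huniq : ∀ B : Subgroup Ω, B ≤ S → IsMulCommutative ↥B → (B.subgroupOf S).index = p → B = A)
include h hF hP hPA huniq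

theorem card_sup_commutator {x : Ω} (hx : x ∈ S) (hxA : x ∉ A) :
    centralizerIn S S ⊔ h.timg hx A ≤ A ∧
      Nat.card ↥(centralizerIn S S ⊔ h.timg hx A) * p = Nat.card A := by
  set Y := centralizerIn S S ⊔ h.timg hx A with hY
  have hYA : Y ≤ A := sup_le h.ctr_le (h.timg_le hx A)
  refine ⟨hYA, ?_⟩
  haveI := finite_of_le (centralizerIn_le S S)
  haveI := h.finite
  have e : h.timg hx Y = h.timg hx (h.timg hx A) := by
    refine le_antisymm ?_ (Subgroup.map_mono fun a ha => Subgroup.mem_sup_right ha)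
    intro t ht
    obtain ⟨a, ha, haY, rfl⟩ := (h.mem_timg hx).1 ht
    have : (⟨a, ha⟩ : A) ∈
        (centralizerIn S S).subgroupOf A ⊔ (h.timg hx A).subgroupOf A := by
      rw [← Subgroup.subgroupOf_sup h.ctr_le (h.timg_le hx A)]
      exact haY
    have h1 : h.tau hx ⟨a, ha⟩ ∈
        ((centralizerIn S S).subgroupOf A ⊔ (h.timg hx A).subgroupOf A).map (h.tau hx) :=
      ⟨_, this, rfl⟩
    rw [Subgroup.map_sup, (Subgroup.map_eq_bot_iff _).2 ?_, bot_sup_eq] at h1
    · exact h1
    · intro z hz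
      show (z : Ω) * x * (z : Ω)⁻¹ * x⁻¹ = 1
      have hz' : x * (z : Ω) = z * x := (mem_centralizerIn.1 hz).2 x hx
      rw [← hz', mul_inv_cancel_right, mul_inv_cancel]
  have h1 := h.card_timg hx hxA (le_refl A)
  rw [inf_eq_right.2 h.ctr_le] at h1
  have h2 := h.card_timg hx hxA (h.timg_le hx A)
  rw [inf_comm, h.card_ctr_inf hP hPA hF huniq hx hxA] at h2
  have h3 := h.card_timg hx hxA hYA
  rw [inf_eq_right.2 le_sup_left, e] at h3
  rw [← h3, ← h1, ← h2]
  ring

theorem exists_exponent :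
    ∃ m : ℕ, Nat.card A = p ^ m * Nat.card (centralizerIn S S) ∧
      ((centralizerIn S S).subgroupOf S).index = p ^ (m + 1) := by
  haveI := finite_of_le (centralizerIn_le S S)
  obtain ⟨n, hn⟩ := IsPGroup.iff_card.1 h.pgroup
  obtain ⟨c, hc⟩ := Subgroup.card_dvd_of_le h.ctr_le
  have hd : c ∣ p ^ n := hn ▸ (Dvd.intro_left _ hc.symm).trans (Subgroup.card_dvd_of_le h.le)
  obtain ⟨m, -, rfl⟩ := (Nat.dvd_prime_pow Fact.out).1 hd
  refine ⟨m, by rw [hc, mul_comm], index_eq_of_card (centralizerIn_le S S) ?_⟩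
  rw [← h.card, hc, pow_succ, mul_assoc]

end AbIndex

end Cfsg.Agent.Lib.Fusion
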