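import Cfsg.Agent.Lib.Fusion.KNormalizer

/-!
The subsystem of the maps acting on a normal subgroup as a given group of automorphisms.
-/

set_option autoImplicit false
set_option linter.unusedSectionVars false

namespace Cfsg.Agent.Lib.Fusion

open Cfsg Cfsg.FusionSystem

variable {Ω : Type*} [Group Ω] {S : Subgroup Ω}

/-- The maps of `F` extending to maps acting on `Q` as an element of `L`. -/
def actSystem (F : FusionSystem S) {Q : Subgroup Ω} (hQ : Q ≤ S)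
    (hn : S ≤ Subgroup.normalizer (Q : Set Ω)) (L : Subgroup (MulAut Q))
    (hL : autInducedBy S Q ≤ L) : FusionSystem S where
  Hom P := {φ | φ ∈ F.Hom P ∧ ∃ ψ ∈ F.Hom (P ⊔ Q),
    (∀ x : P, ψ (Subgroup.inclusion le_sup_left x) = φ x) ∧ ActsIn L ψ}
  le_of_mem h := F.le_of_mem h.1
  injective_of_mem h := F.injective_of_mem h.1
  conj_mem {P g} hP hg :=
    ⟨F.conj_mem hP hg, conjHom _ g, F.conj_mem (sup_le hP hQ) hg, fun x => rfl,
      conjAut (hn hg), hL (conjAut_mem_autInducedBy hg (hn hg)), fun x _ _ => rfl⟩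
  comp_mem := by
    rintro P R φ ψ ⟨hφ, φ', hφ', hext, l, hl, hle⟩ ⟨hψ, ψ', hψ', hext', m, hm, hme⟩ h
    have h' : ∀ x, φ' x ∈ R ⊔ Q := by
      intro x
      have h1 : img φ' (P ⊔ Q) ≤ R ⊔ Q := by
        rw [img_sup φ' le_sup_left le_sup_right]
        refine sup_le ?_ ?_
        · rintro _ ⟨y, hy, rfl⟩
          rw [show φ' y = φ ⟨y, hy⟩ from hext ⟨y, hy⟩]
          exact Subgroup.mem_sup_left (h _)
        · rintro _ ⟨y, hy, rfl⟩
          exact Subgroup.mem_sup_right ((hle y hy y.2).symm ▸ SetLike.coe_mem _)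
      exact h1 (apply_mem_img φ' x x.2)
    refine ⟨F.comp_mem hφ hψ h, compose φ' ψ' h', compose_mem F hφ' hψ' h', fun x => ?_,
      m * l, L.mul_mem hm hl, fun x hxQ hx => ?_⟩
    · have e : (⟨φ' (Subgroup.inclusion le_sup_left x), h' _⟩ : ↥(R ⊔ Q)) =
          Subgroup.inclusion le_sup_left ⟨φ x, h x⟩ := Subtype.ext (hext x)
      rw [compose_apply, e, hext']
      rfl
    · have e : (⟨φ' ⟨x, hx⟩, h' _⟩ : ↥(R ⊔ Q)) =
          ⟨((l ⟨x, hxQ⟩ : Q) : Ω), Subgroup.mem_sup_right (l ⟨x, hxQ⟩).2⟩ :=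
        Subtype.ext (hle x hxQ hx)
      rw [compose_apply, e, hme _ (l ⟨x, hxQ⟩).2]
      rfl
  inv_mem := by
    rintro P φ ⟨hφ, φ', hφ', hext, l, hl, hle⟩
    obtain ⟨ψ, hψ, hψl⟩ := F.inv_mem hφ
    obtain ⟨ψ', hψ', -, hl', -⟩ := exists_inv F hφ' rfl
    have hrange : φ.range ⊔ Q ≤ φ'.range := by
      refine sup_le ?_ fun y hy => ?_
      · rintro _ ⟨x, rfl⟩
        exact ⟨Subgroup.inclusion le_sup_left x, hext x⟩
      · refine ⟨⟨(l.symm ⟨y, hy⟩ : Q), Subgroup.mem_sup_right (l.symm ⟨y, hy⟩).2⟩, ?_⟩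
        rw [hle _ (l.symm ⟨y, hy⟩).2]
        exact congrArg Subtype.val (l.apply_symm_apply ⟨y, hy⟩)
    refine ⟨ψ, ⟨hψ, restr hrange ψ', restr_mem F hψ' _, ?_, l⁻¹, L.inv_mem hl,
      fun y hyQ hy => ?_⟩, hψl⟩
    · rintro ⟨_, x, rfl⟩
      rw [hψl, restr_apply]
      have := hl' (Subgroup.inclusion le_sup_left x) ⟨_, rfl⟩
      simp only [hext x] at this
      exact this
    · set x := l⁻¹ ⟨y, hyQ⟩
      have hx : (x : Ω) ∈ P ⊔ Q := Subgroup.mem_sup_right x.2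
      have h1 : φ' ⟨x, hx⟩ = y := by
        rw [hle x x.2 hx]
        exact congrArg Subtype.val (l.apply_symm_apply ⟨y, hyQ⟩)
      have h2 := hl' ⟨x, hx⟩ ⟨_, rfl⟩
      rw [restr_apply]
      refine Eq.trans (congrArg ψ' (Subtype.ext ?_)) h2
      exact h1.symm

variable {p : ℕ} [Fact p.Prime] [Finite S] {F : FusionSystem S}

/-- The maps acting on a normal subgroup as elements of `S` form a saturated system. -/
theorem actSystem_isSaturated (hS : IsPGroup p S) (hF : F.IsSaturated p) {Q : Subgroup Ω}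
    (hQ : F.IsNormal Q) (hn : S ≤ Subgroup.normalizer (Q : Set Ω)) :
    (actSystem F hQ.1 hn (autInducedBy S Q) le_rfl).IsSaturated p := by
  have hfn : F.IsFullyNormalized Q := ⟨hQ.1, fun R _ => by
    rw [show normalizerIn S Q = S from le_antisymm (normalizerIn_le S Q) fun g hg => ⟨hg, hn hg⟩]
    exact Subgroup.card_le_of_le (normalizerIn_le S R)⟩
  have hT : ∀ g, g ∈ S ↔
      g ∈ S ∧ ∃ l ∈ autInducedBy S Q, ∀ x : Q, ((l x : Q) : Ω) = g * (x : Ω) * g⁻¹ :=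
    fun g => ⟨fun hg => ⟨hg, conjAut (hn hg), conjAut_mem_autInducedBy hg (hn hg), fun x => rfl⟩,
      fun h => h.1⟩
  refine kSystem_isSaturated hT hS hF hQ.1 (fun Q₁ f hf hfr V hV hact hVN => ?_) _ fun P φ => ?_
  · obtain ⟨χ, hχ, hext, -⟩ := IsReceptive.extend
      (IsSaturated.receptive hS hF (IsSaturated.fullyCentralized hS hF hfn)) hf hfr
    have hQ₁ : Q₁ ≤ S := source_le hf
    have hle : V ⊔ Q₁ ≤ extender S Q₁ f := by
      refine sup_le (fun g hg => ?_) (le_extender hQ₁ (apply_mem hf))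
      obtain ⟨l, hl, hle⟩ := hact g hg
      obtain ⟨s, hs, hse⟩ := mem_autInducedBy.1 hl
      refine mem_extender.2 ⟨hV hg, hVN g hg, s, hs, fun x hx => ?_⟩
      have hfx : f x ∈ Q := hfr.le ⟨x, rfl⟩
      rw [hle x hx hfx, hse]
    refine ⟨restr hle χ, restr_mem F hχ hle, 1, Subgroup.one_mem _, fun x hfx => ?_⟩
    exact hext x x.2 (hle (Subgroup.mem_sup_right x.2))
  · exact ⟨fun h => ⟨h.1, source_le h.1, apply_mem h.1, h.2⟩, fun h => ⟨h.1, h.2.2.2⟩⟩

end Cfsg.Agent.Lib.Fusion
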