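import Cfsg.Agent.Lib.Fusion.AltFusion

/-!
The closed subgroups of the Sylow subgroups of alternating groups.
-/

set_option autoImplicit false
set_option linter.unusedSectionVars false

namespace Cfsg.Agent.Lib.Fusion.AltModel

open Equiv Equiv.Perm

variable {p : ℕ} [Fact p.Prime] {ι R : Type} [Fintype ι] [DecidableEq ι] [Fintype R] [DecidableEq R]

set_option quotPrecheck false in
local notation "Pm" => Perm (Pt p ι R)
set_option quotPrecheck false in
local notation "Am" => alternatingGroup (Pt p ι R)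

/-- A non-trivial closed subgroup meets the translations. -/
theorem exists_sh_mem {P T : Subgroup Pm} (hTP : T ≤ P) (hT0 : T ≠ ⊥)
    (hTn : ∀ x ∈ T, ∀ g ∈ P, g * x * g⁻¹ ∈ T)
    (hEn : ∀ x ∈ shSub (p := p) (ι := ι) (R := R) ⊓ P, ∀ g ∈ P,
      g * x * g⁻¹ ∈ shSub (p := p) (ι := ι) (R := R))
    (hC : ∀ g ∈ P, (∀ v, sh v ∈ P → sh v * g = g * sh v) → ∃ w, g = sh w) :
    ∃ v, v ≠ 0 ∧ sh v ∈ T := by
  by_contra hcon
  push Not at hcon
  obtain ⟨x, hx, hx1⟩ : ∃ x ∈ T, x ≠ 1 := by
    by_contra h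
    push Not at h
    exact hT0 ((Subgroup.eq_bot_iff_forall T).2 h)
  obtain ⟨w, rfl⟩ := hC x (hTP hx) fun v hv => by
    have h1 : sh v * x * (sh v)⁻¹ * x⁻¹ ∈ T := T.mul_mem (hTn x hx _ hv) (T.inv_mem hx)
    have h2 : x * (sh v)⁻¹ * x⁻¹ ∈ shSub (p := p) (ι := ι) (R := R) :=
      hEn _ ⟨Subgroup.inv_mem _ (sh_mem ⊥ v), P.inv_mem hv⟩ x (hTP hx)
    have h3 : sh v * x * (sh v)⁻¹ * x⁻¹ ∈ shSub (p := p) (ι := ι) (R := R) := by
      rw [show sh v * x * (sh v)⁻¹ * x⁻¹ = sh v * (x * (sh v)⁻¹ * x⁻¹) by group]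
      exact mul_mem (sh_mem ⊥ v) h2
    obtain ⟨w, hw⟩ := mem_shSub.1 h3
    have h4 : sh v * x * (sh v)⁻¹ * x⁻¹ = 1 := by
      rw [hw] at h1 ⊢
      by_contra hne
      exact hcon w (fun e => hne (by rw [e, sh_zero])) h1
    exact mul_inv_eq_iff_eq_mul.1 (mul_inv_eq_one.1 h4)
  exact hcon w (fun e => hx1 (by rw [e, sh_zero])) hx

theorem closedTrivial_odd (hp : Odd p) (hR : Fintype.card R ≤ 1) (hm : p ≤ Fintype.card ι)
    (Q : Sylow p (Perm ι)) :
    ClosedTrivial ((pmod (R := R) (Q : Subgroup (Perm ι))).subgroupOf Am) := by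
  classical
  set P : Subgroup Pm := pmod (Q : Subgroup (Perm ι)) with hP
  have hRp : Fintype.card R < p := lt_of_le_of_lt hR (Fact.out : p.Prime).one_lt
  have hPpow : ∀ g ∈ P, ∃ k, g ^ p ^ k = 1 := fun g hg => by
    obtain ⟨k, hk⟩ := (sylowMod (R := R) hRp Q).isPGroup' ⟨g, by rw [coe_sylowMod]; exact hg⟩
    exact ⟨k, congrArg Subtype.val hk⟩
  have hPA : P ≤ Am := fun g hg => by
    obtain ⟨k, hk⟩ := hPpow g hg
    exact Perm.mem_alternatingGroup.2 (sign_eq_one_of_pow hp hk)
  refine closedTrivial_subgroupOf hPA fun T hTP hT0 hc => ?_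
  have hTn : ∀ x ∈ T, ∀ g ∈ P, g * x * g⁻¹ ∈ T := fun x hx g hg =>
    hc x hx g (hPA hg) (P.mul_mem (P.mul_mem hg (hTP hx)) (P.inv_mem hg))
  have hshA : ∀ v : ι → ZMod p, sh (R := R) v ∈ Am := fun v =>
    Perm.mem_alternatingGroup.2 (sign_sh_odd hp v)
  have hshP : ∀ v : ι → ZMod p, sh (R := R) v ∈ P := fun v => sh_mem _ v
  obtain ⟨v, hv0, hvT⟩ := exists_sh_mem hTP hT0 hTn
    (fun x hx g hg => (Subgroup.mem_normalizer_iff.1 (pmod_normalizes_sh hg) x).1 hx.1)
    (fun g _ h => eq_sh_of_commute_single hR fun v => h v (hshP v))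
  let V : AddSubgroup (ι → ZMod p) :=
    { carrier := {v | sh v ∈ T}
      zero_mem' := by show sh (0 : ι → ZMod p) ∈ T; rw [sh_zero]; exact T.one_mem
      add_mem' := fun {a b} ha hb => by show sh (a + b) ∈ T; rw [sh_add]; exact T.mul_mem ha hb
      neg_mem' := fun {a} ha => by show sh (-a) ∈ T; rw [sh_neg]; exact T.inv_mem ha }
  have hmove : ∀ g ∈ Am, ∀ a ∈ V, ∀ b, g * sh a * g⁻¹ = sh b → b ∈ V := fun g hg a ha b e => by
    have := hc _ ha g hg (by rw [e]; exact hshP b)
    rwa [e] at this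
  -- dilations of two blocks
  have hflip : ∀ a ∈ V, ∀ k l : ι, k ≠ l → (fun i => if i = k ∨ i = l then -a i else a i) ∈ V := by
    intro a ha k l hkl
    let u : ι → (ZMod p)ˣ := fun i => if i = k ∨ i = l then -1 else 1
    refine hmove (sc u) (Perm.mem_alternatingGroup.2 ?_) a ha _ ?_
    · rw [sign_sc, ← Finset.prod_subset (Finset.subset_univ {k, l}) (fun i _ hi => by
        simp only [Finset.mem_insert, Finset.mem_singleton] at hi
        simp [u, hi]), Finset.prod_pair hkl, map_mul]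
      simp only [u, true_or, or_true, if_true]
      exact Int.units_mul_self _
    · rw [sc_conj_sh]
      congr 1
      funext i
      by_cases h : i = k ∨ i = l <;> simp [u, h]
  obtain ⟨k, hk⟩ : ∃ k, v k ≠ 0 := by
    by_contra h
    push Not at h
    exact hv0 (funext h)
  haveI : Nontrivial ι := Fintype.one_lt_card_iff_nontrivial.1
    (lt_of_lt_of_le (Fact.out : p.Prime).one_lt hm)
  have h2 : (2 : ZMod p) ≠ 0 := by
    intro h
    have hd : p ∣ 2 := (ZMod.natCast_eq_zero_iff _ _).1 (by exact_mod_cast h)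
    have := Nat.le_of_dvd two_pos hd
    have := (Fact.out : p.Prime).two_le
    obtain ⟨c, hc'⟩ := hp
    omega
  have h3 : ∀ a b : ι, ∃ c, c ≠ a ∧ c ≠ b := fun a b => by
    by_contra hcon
    push Not at hcon
    have h1 : (Finset.univ : Finset ι) ⊆ {a, b} := fun c _ => by
      rcases eq_or_ne c a with h | h
      · simp [h]
      · simp [hcon c h]
    have h2 := (Finset.card_le_card h1).trans Finset.card_le_two
    rw [Finset.card_univ] at h2
    have := (Fact.out : p.Prime).two_le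
    obtain ⟨c, hc'⟩ := hp
    omega
  obtain ⟨l, hlk⟩ := exists_ne k
  obtain ⟨j, hjk, hjl⟩ := h3 k l
  -- a single block
  have hsingle : Pi.single k (4 * v k) ∈ V := by
    have hw : (fun i => if i = k ∨ i = l then 2 * v i else 0) ∈ V := by
      convert V.sub_mem hvT (hflip v hvT k l hlk.symm) using 1
      funext i
      by_cases h : i = k ∨ i = l <;> simp [h] <;> ring
    have hw2 := V.sub_mem hw (hflip _ hw k j hjk.symm)
    convert hw2 using 1
    funext i
    rcases eq_or_ne i k with rfl | hik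
    · simp; ring
    rcases eq_or_ne i l with rfl | hil
    · simp [hik, hjl.symm]
    rcases eq_or_ne i j with rfl | hij
    · simp [hik, hil]
    simp [hik, hil, hij]
  have h4 : (4 : ZMod p) * v k ≠ 0 := mul_ne_zero (by
    rw [show (4 : ZMod p) = 2 * 2 by norm_num]; exact mul_ne_zero h2 h2) hk
  have hsingle' : ∀ i : ι, ∀ c : ZMod p, Pi.single i c ∈ V := by
    have hk' : ∀ c : ZMod p, Pi.single k c ∈ V := fun c => by
      obtain ⟨r, rfl⟩ : ∃ r : ℕ, (r : ZMod p) * (4 * v k) = c :=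
        ⟨(c / (4 * v k)).val, by rw [ZMod.natCast_zmod_val, div_mul_cancel₀ c h4]⟩
      have := V.nsmul_mem hsingle r
      rwa [← Pi.single_smul, nsmul_eq_mul] at this
    intro i c
    rcases eq_or_ne i k with rfl | hik
    · exact hk' c
    obtain ⟨t, htk, hti⟩ := h3 k i
    refine hmove (lift (Equiv.swap k i * Equiv.swap i t)) (Perm.mem_alternatingGroup.2 ?_) _ (hk' c) _ ?_
    · rw [sign_lift, map_mul, Perm.sign_swap hik.symm, Perm.sign_swap hti.symm]
      simp
    · rw [lift_conj_sh]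
      congr 1
      funext x
      have e : (Equiv.swap k i * Equiv.swap i t) k = i := by
        rw [Perm.mul_apply, Equiv.swap_apply_of_ne_of_ne hik.symm htk.symm, Equiv.swap_apply_left]
      rcases eq_or_ne x i with rfl | hx
      · rw [Pi.single_eq_same, Perm.inv_eq_iff_eq.2 e.symm, Pi.single_eq_same]
      · rw [Pi.single_eq_of_ne hx, Pi.single_eq_of_ne]
        intro e2
        rw [Perm.inv_eq_iff_eq, e] at e2
        exact hx e2
  have hall : ∀ w : ι → ZMod p, w ∈ V := fun w => by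
    rw [← Finset.univ_sum_single w]
    exact V.sum_mem fun i _ => hsingle' i _
  -- elements of order `p`
  have hord : ∀ x ∈ P, x ^ p = 1 → x ∈ T := by
    intro x hxP hxp
    obtain ⟨g, s, hg⟩ := exists_conj_sh hRp hxp
    obtain ⟨c, hc1, hc2⟩ : ∃ c : Pm, Perm.sign c = -1 ∧
        c * sh (fun i => if i ∈ s then (1 : ZMod p) else 0) * c⁻¹ =
          sh (fun i => if i ∈ s then (1 : ZMod p) else 0) := by
      by_cases hs : ∃ a b, a ∈ s ∧ b ∈ s ∧ a ≠ b
      · obtain ⟨a, b, ha, hb, hab⟩ := hs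
        refine ⟨lift (Equiv.swap a b), by rw [sign_lift, Perm.sign_swap hab, hp.neg_one_pow], ?_⟩
        rw [lift_conj_sh]
        congr 1
        funext i
        rw [Equiv.swap_inv]
        rcases eq_or_ne i a with rfl | hia
        · simp [ha, hb]
        rcases eq_or_ne i b with rfl | hib
        · simp [ha, hb]
        rw [Equiv.swap_apply_of_ne_of_ne hia hib]
      · push Not at hs
        obtain ⟨δ, hδ⟩ := exists_eps_neg (p := p) hp
        obtain ⟨o, ho⟩ : ∃ o, o ∉ s := by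
          by_contra h
          push Not at h
          exact hlk (hs l k (h l) (h k))
        refine ⟨sc (fun i => if i = o then δ else 1), ?_, ?_⟩
        · rw [sign_sc, Finset.prod_ite_eq' Finset.univ o, if_pos (Finset.mem_univ o)]
          exact hδ
        · rw [sc_conj_sh]
          congr 1
          funext i
          rcases eq_or_ne i o with rfl | hio <;> simp [*]
    obtain ⟨g', hg'A, hg'⟩ : ∃ g' ∈ Am,
        g' * x * g'⁻¹ = sh (fun i => if i ∈ s then (1 : ZMod p) else 0) := by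
      rcases Int.units_eq_one_or (Perm.sign g) with hs | hs
      · exact ⟨g, Perm.mem_alternatingGroup.2 hs, hg⟩
      · refine ⟨c * g, Perm.mem_alternatingGroup.2 (by rw [map_mul, hc1, hs]; rfl), ?_⟩
        rw [show c * g * x * (c * g)⁻¹ = c * (g * x * g⁻¹) * c⁻¹ by group, hg, hc2]
    have e : g'⁻¹ * (g' * x * g'⁻¹) * g'⁻¹⁻¹ = x := by group
    have := hc (g' * x * g'⁻¹) (by rw [hg']; exact hall _) g'⁻¹ (inv_mem hg'A) (by rw [e]; exact hxP)
    rwa [e] at this
  refine le_antisymm hTP ?_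
  have h1 := sylow_gen _ _ rfl (sylowMod (R := R) hRp Q)
  rw [coe_sylowMod] at h1
  exact h1.trans ((Subgroup.closure_le T).2 fun x hx => hord x hx.1 hx.2)

end Cfsg.Agent.Lib.Fusion.AltModel
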