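import Cfsg.Agent.Lib.Fusion.AltClosed

/-!
The closed subgroups of the Sylow 2-subgroups of alternating groups.
-/

set_option autoImplicit false
set_option linter.unusedSectionVars false

namespace Cfsg.Agent.Lib.Fusion.AltModel

open Equiv Equiv.Perm

theorem exists_sylow_subgroupOf {p : ℕ} [Fact p.Prime] {G : Type*} [Group G] [Finite G]
    (N : Subgroup G) [N.Normal] (P : Sylow p G) :
    ∃ S₀ : Sylow p N, (S₀ : Subgroup N) = (P : Subgroup G).subgroupOf N := by
  obtain ⟨R⟩ : Nonempty (Sylow p N) := inferInstance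
  obtain ⟨T, hT⟩ := R.exists_comap_subtype_eq
  obtain ⟨g, rfl⟩ := MulAction.exists_smul_eq G T P
  refine ⟨R.mapSurjective (f := ((MulAut.conjNormal g : MulAut N)).toMonoidHom)
    (MulEquiv.surjective _), ?_⟩
  show (R : Subgroup N).map ((MulAut.conjNormal g : MulAut N)).toMonoidHom = _
  rw [← hT]
  ext x
  rw [Subgroup.mem_subgroupOf, Sylow.coe_subgroup_smul]
  constructor
  · rintro ⟨y, hy, rfl⟩
    exact ⟨y, hy, (MulAut.conjNormal_apply g y).symm⟩
  · rintro ⟨y, hy, e⟩
    have hyN : y ∈ N := by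
      have hconj : g * y * g⁻¹ = (x : G) := e
      rw [show y = g⁻¹ * (g * y * g⁻¹) * g⁻¹⁻¹ by group, hconj]
      exact Subgroup.Normal.conj_mem inferInstance _ x.2 _
    exact ⟨⟨y, hyN⟩, hy, Subtype.ext ((MulAut.conjNormal_apply g _).trans e)⟩

variable {ι R : Type} [Fintype ι] [DecidableEq ι] [Fintype R] [DecidableEq R]

set_option quotPrecheck false in
local notation "Pm" => Perm (Pt 2 ι R)
set_option quotPrecheck false in
local notation "Am" => alternatingGroup (Pt 2 ι R)

theorem sign_sh_two (v : ι → ZMod 2) : Perm.sign (sh (R := R) v) = 1 ↔ ∑ i, v i = 0 := by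
  have hsg : ∀ a b : ZMod 2, Perm.sign (Equiv.addRight (a + b)) =
      Perm.sign (Equiv.addRight a) * Perm.sign (Equiv.addRight b) := by decide
  have h0 : ∀ a : ZMod 2, Perm.sign (Equiv.addRight a) = 1 ↔ a = 0 := by decide
  have h : ∀ s : Finset ι,
      (∏ i ∈ s, Perm.sign (Equiv.addRight (v i))) = Perm.sign (Equiv.addRight (∑ i ∈ s, v i)) := by
    intro s
    induction s using Finset.cons_induction with
    | empty => simp
    | cons a s ha ih => rw [Finset.prod_cons, Finset.sum_cons, ih, hsg]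
  rw [sh, sign_blk, h, h0]

theorem sign_lift_two (π : Perm ι) : Perm.sign (lift (p := 2) (R := R) π) = 1 := by
  rw [sign_lift, Int.units_sq]

theorem closedTrivial_two (hR : Fintype.card R ≤ 1) (hm : 3 ≤ Fintype.card ι)
    (Q : Sylow 2 (Perm ι)) {k₀ l₀ : ι} (hkl : k₀ ≠ l₀)
    (hQ : Equiv.swap k₀ l₀ ∈ (Q : Subgroup (Perm ι))) :
    ClosedTrivial ((pmod (R := R) (Q : Subgroup (Perm ι))).subgroupOf Am) := by
  classical
  rw [← Subgroup.inf_subgroupOf_right]
  set M : Subgroup Pm := pmod (Q : Subgroup (Perm ι)) with hM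
  set P : Subgroup Pm := M ⊓ Am with hP
  refine closedTrivial_subgroupOf inf_le_right fun T hTP hT0 hc => ?_
  have hTn : ∀ x ∈ T, ∀ g ∈ P, g * x * g⁻¹ ∈ T := fun x hx g hg =>
    hc x hx g hg.2 (P.mul_mem (P.mul_mem hg (hTP hx)) (P.inv_mem hg))
  have hshP : ∀ v : ι → ZMod 2, ∑ i, v i = 0 → sh (R := R) v ∈ P := fun v hv =>
    ⟨sh_mem _ v, Perm.mem_alternatingGroup.2 ((sign_sh_two v).2 hv)⟩
  have h3 : ∀ a b : ι, ∃ c, c ≠ a ∧ c ≠ b := fun a b => by
    by_contra hcon
    push Not at hcon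
    have h1 : (Finset.univ : Finset ι) ⊆ {a, b} := fun c _ => by
      rcases eq_or_ne c a with h | h
      · simp [h]
      · simp [hcon c h]
    have h2 := (Finset.card_le_card h1).trans Finset.card_le_two
    rw [Finset.card_univ] at h2
    omega
  have hpair : ∀ a b : ι, ∑ i, ((Pi.single a 1 + Pi.single b 1 : ι → ZMod 2)) i = 0 := fun a b => by
    simp only [Pi.add_apply, Finset.sum_add_distrib, Finset.sum_pi_single', Finset.mem_univ,
      if_true]
    rfl
  obtain ⟨v, hv0, hvT⟩ := exists_sh_mem hTP hT0 hTn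
    (fun x hx g hg => (Subgroup.mem_normalizer_iff.1 (pmod_normalizes_sh hg.1) x).1 hx.1)
    (fun g _ h => by
      refine eq_sh_of_commute hR {w | ∑ i, w i = 0} ?_ ?_ ?_ fun w hw => h w (hshP w hw)
      · intro i z hz
        by_contra hne
        obtain ⟨c, hci, hcz⟩ := h3 i z.1
        exact hz (Pi.single i 1 + Pi.single c 1) (hpair i c) (by simp [hci.symm])
          (by simp [hne, hcz.symm])
      · intro i
        obtain ⟨c, hci, -⟩ := h3 i i
        exact ⟨Pi.single i 1 + Pi.single c 1, hpair i c, by simp [hci.symm]⟩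
      · intro w hw c
        show ∑ i, (c • w) i = 0
        simp only [Pi.smul_apply, ← Finset.smul_sum, show ∑ i, w i = 0 from hw, smul_zero])
  let V : AddSubgroup (ι → ZMod 2) :=
    { carrier := {v | sh v ∈ T}
      zero_mem' := by show sh (0 : ι → ZMod 2) ∈ T; rw [sh_zero]; exact T.one_mem
      add_mem' := fun {a b} ha hb => by show sh (a + b) ∈ T; rw [sh_add]; exact T.mul_mem ha hb
      neg_mem' := fun {a} ha => by show sh (-a) ∈ T; rw [sh_neg]; exact T.inv_mem ha }
  have hVsum : ∀ a ∈ V, ∑ i, a i = 0 := fun a ha =>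
    (sign_sh_two a).1 (Perm.mem_alternatingGroup.1 (hTP ha).2)
  have hperm : ∀ (π : Perm ι), ∀ a ∈ V, (fun i => a (π⁻¹ i)) ∈ V := fun π a ha => by
    have h := hc _ ha (lift π) (Perm.mem_alternatingGroup.2 (sign_lift_two π))
      (by
        rw [lift_conj_sh]
        exact hshP _ ((Equiv.sum_comp π⁻¹ a).trans (hVsum a ha)))
    rwa [lift_conj_sh] at h
  have z2 : ∀ x : ZMod 2, x ≠ 0 → x = 1 := by decide
  -- a vector of weight two
  obtain ⟨a, b, hab, hw⟩ : ∃ a b : ι, a ≠ b ∧ Pi.single a (1 : ZMod 2) + Pi.single b 1 ∈ V := by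
    obtain ⟨k, hk⟩ : ∃ k, v k ≠ 0 := by
      by_contra h
      push Not at h
      exact hv0 (funext h)
    by_cases hfull : ∃ j, v j = 0
    · obtain ⟨j, hj⟩ := hfull
      have hkj : k ≠ j := fun e => hk (e ▸ hj)
      refine ⟨k, j, hkj, ?_⟩
      convert V.add_mem hvT (hperm (Equiv.swap k j) v hvT) using 1
      funext i
      rw [Equiv.swap_inv, Pi.add_apply, Pi.add_apply]
      rcases eq_or_ne i k with rfl | hik
      · simp [hkj, hj, z2 _ hk]
      rcases eq_or_ne i j with rfl | hij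
      · simp [hik, hj, z2 _ hk]
      rw [Equiv.swap_apply_of_ne_of_ne hik hij, Pi.single_eq_of_ne hik, Pi.single_eq_of_ne hij,
        zero_add]
      exact (CharTwo.add_self_eq_zero (v i)).symm
    · push Not at hfull
      obtain rfl : v = fun _ => 1 := funext fun i => z2 _ (hfull i)
      -- another conjugate of the fixed-point-free involution
      set w : ι → ZMod 2 := fun i => if i = k₀ ∨ i = l₀ then 0 else 1 with hwdef
      set x : Pm := sh w * lift (Equiv.swap k₀ l₀) with hx
      set g₀ : Pm := Equiv.swap (Sum.inl (k₀, 1)) (Sum.inl (l₀, 0)) with hg₀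
      set s₀ : Pm := sh (Pi.single k₀ (1 : ZMod 2)) with hs₀
      have hgx : g₀ * sh (fun _ => (1 : ZMod 2)) * g₀⁻¹ = x := by
        rw [hg₀, Equiv.swap_inv]
        have z01 : ∀ c : ZMod 2, c = 0 ∨ c = 1 := by decide
        have e11 : (1 : ZMod 2) + 1 = 0 := by decide
        ext (⟨i, c⟩ | r)
        · rcases eq_or_ne i k₀ with rfl | hik
          · rcases z01 c with rfl | rfl <;>
              simp [hx, hwdef, Perm.mul_apply, Equiv.swap_apply_def, hkl, hkl.symm, e11]
          rcases eq_or_ne i l₀ with rfl | hil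
          · rcases z01 c with rfl | rfl <;>
              simp [hx, hwdef, Perm.mul_apply, Equiv.swap_apply_def, hkl, hkl.symm, e11]
          simp [hx, hwdef, Perm.mul_apply, Equiv.swap_apply_def, hik, hil,
            Equiv.swap_apply_of_ne_of_ne hik hil]
        · simp [hx, Perm.mul_apply, Equiv.swap_apply_def]
      have hs₀c : s₀ * sh (fun _ => (1 : ZMod 2)) * s₀⁻¹ = sh fun _ => (1 : ZMod 2) := by
        rw [hs₀, ← sh_add, add_comm, sh_add, mul_inv_cancel_right]
      have hA : g₀ * s₀ ∈ Am := by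
        rw [Perm.mem_alternatingGroup, map_mul, hg₀, Perm.sign_swap (by simp [hkl])]
        have : Perm.sign s₀ = -1 := by
          rcases Int.units_eq_one_or (Perm.sign s₀) with h | h
          · rw [hs₀, sign_sh_two] at h
            simp [Finset.sum_pi_single'] at h
          · exact h
        rw [this]
        rfl
      have hgx' : g₀ * s₀ * sh (fun _ => (1 : ZMod 2)) * (g₀ * s₀)⁻¹ = x := by
        rw [show g₀ * s₀ * sh (fun _ => (1 : ZMod 2)) * (g₀ * s₀)⁻¹ =
          g₀ * (s₀ * sh (fun _ => (1 : ZMod 2)) * s₀⁻¹) * g₀⁻¹ by group, hs₀c, hgx]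
      have hxM : x ∈ M := ⟨w, _, hQ, rfl⟩
      have hxA : x ∈ Am := by
        rw [← hgx']
        exact Subgroup.mul_mem _ (Subgroup.mul_mem _ hA (hTP hvT).2) (Subgroup.inv_mem _ hA)
      have hxT : x ∈ T := by
        have := hc _ hvT _ hA (by rw [hgx']; exact ⟨hxM, hxA⟩)
        rwa [hgx'] at this
      obtain ⟨c, hck, hcl⟩ := h3 k₀ l₀
      set u : ι → ZMod 2 := Pi.single k₀ 1 + Pi.single c 1 with hu
      refine ⟨k₀, l₀, hkl, ?_⟩
      have h1 : sh u * x * (sh u)⁻¹ * x⁻¹ ∈ T :=
        T.mul_mem (hTn x hxT _ (hshP u (hpair _ _))) (T.inv_mem hxT)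
      show sh _ ∈ T
      convert h1 using 1
      have e : sh u * x * (sh u)⁻¹ * x⁻¹ =
          sh (R := R) (u + w + -(fun i => u ((Equiv.swap k₀ l₀)⁻¹ i)) + -w) := by
        rw [sh_add (_ + _) (-w), sh_add (u + w), sh_add u w, sh_neg, sh_neg, ← lift_conj_sh, hx]
        generalize sh (R := R) u = U
        group
      rw [e]
      congr 1
      funext i
      simp only [Pi.add_apply, Pi.neg_apply, Equiv.swap_inv, hu]
      rcases eq_or_ne i k₀ with rfl | hik
      · simp [hwdef, hkl, hkl.symm, hck.symm, hcl.symm]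
      rcases eq_or_ne i l₀ with rfl | hil
      · simp [hwdef, hkl, hkl.symm, hck.symm, hcl.symm]
      rw [Equiv.swap_apply_of_ne_of_ne hik hil, Pi.single_eq_of_ne hil, Pi.single_eq_of_ne hik]
      ring
  -- all even vectors
  have hpairs : ∀ c d : ι, Pi.single c (1 : ZMod 2) + Pi.single d 1 ∈ V := by
    intro c d
    rcases eq_or_ne c d with rfl | hcd
    · convert V.zero_mem using 1
      funext i
      exact CharTwo.add_self_eq_zero _
    obtain ⟨π, hπa, hπb⟩ : ∃ π : Perm ι, π a = c ∧ π b = d := by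
      refine ⟨Equiv.swap (Equiv.swap a c b) d * Equiv.swap a c, ?_, ?_⟩
      · rw [Perm.mul_apply, Equiv.swap_apply_left, Equiv.swap_apply_of_ne_of_ne _ hcd]
        intro e
        exact hab ((Equiv.swap a c).injective (by rw [Equiv.swap_apply_left]; exact e))
      · rw [Perm.mul_apply, Equiv.swap_apply_left]
    convert hperm π _ hw using 1
    funext i
    simp only [Pi.add_apply, Pi.single_apply, Perm.inv_eq_iff_eq, hπa, hπb]
  have hall : ∀ w : ι → ZMod 2, ∑ i, w i = 0 → w ∈ V := by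
    intro w hw0
    have e : w = ∑ i, if w i = 0 then 0 else (Pi.single i (1 : ZMod 2) + Pi.single k₀ 1) := by
      have h1 : ∀ i, (if w i = 0 then 0 else (Pi.single i (1 : ZMod 2) + Pi.single k₀ 1)) =
          (Pi.single i (w i) + Pi.single k₀ (w i) : ι → ZMod 2) := fun i => by
        by_cases h : w i = 0
        · simp [h]
        · simp [z2 _ h]
      simp only [h1, Finset.sum_add_distrib, Finset.univ_sum_single]
      funext j
      simp [Finset.sum_apply, Pi.single_apply, Finset.sum_ite_eq, hw0]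
    rw [e]
    refine V.sum_mem fun i _ => ?_
    split
    · exact V.zero_mem
    · exact hpairs i k₀
  -- involutions
  have hord : ∀ x ∈ P, x ^ 2 = 1 → x ∈ T := by
    intro x hxP hx2
    obtain ⟨g, s, hg⟩ := exists_conj_sh (by omega) hx2
    set t : Pm := sh (fun i => if i ∈ s then (1 : ZMod 2) else 0) with ht
    have htA : t ∈ Am := by
      rw [← hg]
      rw [Perm.mem_alternatingGroup, map_mul, map_mul, map_inv, Perm.mem_alternatingGroup.1 hxP.2,
        mul_one, mul_inv_cancel]
    have htT : t ∈ T := hall _ ((sign_sh_two _).1 (Perm.mem_alternatingGroup.1 htA))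
    obtain ⟨g', hg'A, hg'⟩ : ∃ g' ∈ Am, g' * x * g'⁻¹ = t := by
      rcases Int.units_eq_one_or (Perm.sign g) with hs | hs
      · exact ⟨g, Perm.mem_alternatingGroup.2 hs, hg⟩
      · refine ⟨sh (Pi.single k₀ (1 : ZMod 2)) * g, Perm.mem_alternatingGroup.2 ?_, ?_⟩
        · rw [map_mul, hs]
          rcases Int.units_eq_one_or (Perm.sign (sh (R := R) (Pi.single k₀ (1 : ZMod 2)))) with h | h
          · rw [sign_sh_two] at h
            simp [Finset.sum_pi_single'] at h
          · rw [h]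
            rfl
        · rw [show sh (Pi.single k₀ (1 : ZMod 2)) * g * x * (sh (Pi.single k₀ (1 : ZMod 2)) * g)⁻¹ =
            sh (Pi.single k₀ (1 : ZMod 2)) * (g * x * g⁻¹) * (sh (Pi.single k₀ (1 : ZMod 2)))⁻¹ by
              group, hg, ht, ← sh_add, add_comm, sh_add, mul_inv_cancel_right]
    have e : g'⁻¹ * t * g'⁻¹⁻¹ = x := by rw [← hg']; group
    have := hc t htT g'⁻¹ (inv_mem hg'A) (by rw [e]; exact hxP)
    rwa [e] at this
  refine le_antisymm hTP ?_
  rintro g ⟨⟨u, π, hπ, rfl⟩, hgA⟩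
  have hlA : lift (p := 2) (R := R) π ∈ Am := Perm.mem_alternatingGroup.2 (sign_lift_two π)
  refine T.mul_mem ?_ ?_
  · have hu : sh u ∈ Am := by
      have := Subgroup.mul_mem _ hgA (Subgroup.inv_mem _ hlA)
      rwa [mul_inv_cancel_right] at this
    exact hord _ ⟨sh_mem _ u, hu⟩ (sh_pow_p u)
  · refine (Subgroup.closure_le (K := T.comap (lift (p := 2) (R := R)))).2 ?_
      (sylow_gen _ _ rfl Q hπ)
    rintro y ⟨hy, hy2⟩
    exact hord _ ⟨lift_mem _ hy, Perm.mem_alternatingGroup.2 (sign_lift_two y)⟩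
      (by rw [← map_pow, hy2, map_one])

end Cfsg.Agent.Lib.Fusion.AltModel
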