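import Cfsg.Agent.Lib.Fusion.BinomialPrime
import Cfsg.Agent.Lib.Perm.Jordan
import Cfsg.Agent.S3573

/-!
# Elements of prime order without fixed points in coset actions of alternating groups
-/

set_option autoImplicit false

namespace Cfsg.Agent.Lib.Fusion.AltDerangement

open Equiv Equiv.Perm MulAction
open scoped Pointwise

variable {α : Type*} [Fintype α] [DecidableEq α]

/-- A transitive group with a cycle of prime length greater than half the degree is primitive. -/
theorem primitive_of_large_prime_cycle {H : Subgroup (Perm α)} [IsPretransitive H α] {p : ℕ}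
    (hp : p.Prime) (hlt : Fintype.card α < 2 * p) {g : Perm α} (hgc : g.IsCycle)
    (hgp : g.support.card = p) (hg : g ∈ H) : IsPreprimitive H α := by
  classical
  refine ⟨fun {B} hB => ?_⟩
  by_contra hcon
  rw [IsTrivialBlock, not_or] at hcon
  obtain ⟨hns, hnu⟩ := hcon
  have hne : B.Nonempty := Set.nonempty_iff_ne_empty.2 fun e => hns (e ▸ Set.subsingleton_empty)
  have hB2 : 1 < B.ncard := (Set.one_lt_ncard (Set.toFinite B)).2 (Set.not_subsingleton_iff.1 hns)
  have hBp : B.ncard < p := by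
    by_contra hle
    exact hnu (hB.eq_univ_of_card_lt (by rw [Nat.card_eq_fintype_card]; omega))
  have hkey := hB.ncard_block_mul_ncard_orbit_eq hne
  rw [Nat.card_eq_fintype_card] at hkey
  have hc : (orbit H B).ncard < p := by nlinarith
  obtain ⟨b, hb⟩ := hne
  obtain ⟨x, hx⟩ : g.support.Nonempty := Finset.card_pos.1 (hgp ▸ hp.pos)
  obtain ⟨h, hh⟩ := exists_smul_eq H b x
  set B' := h • B with hB'
  have hxB : x ∈ B' := hh ▸ Set.smul_mem_smul_set hb
  set g' : H := ⟨g, hg⟩ with hg'
  set Z := Subgroup.zpowers g' with hZ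
  have hZc : Nat.card Z = p := by
    rw [Nat.card_zpowers, ← Subgroup.orderOf_coe, hgc.orderOf, hgp]
  have hsub : orbit Z B' ⊆ orbit H B := by
    rintro _ ⟨z, rfl⟩
    exact ⟨(z : H) * h, (mul_smul (z : H) h B).trans rfl⟩
  have hidx : (orbit Z B').ncard ∣ p := by
    rw [← index_stabilizer, ← hZc]
    exact Subgroup.index_dvd_card _
  have hle : (orbit Z B').ncard < p := (Set.ncard_le_ncard hsub (Set.toFinite _)).trans_lt hc
  have h1 : (orbit Z B').ncard = 1 := ((Nat.dvd_prime hp).1 hidx).resolve_right hle.ne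
  obtain ⟨C, hC⟩ := Set.ncard_eq_one.1 h1
  have hfix : ∀ z : Z, z • B' = B' := fun z => by
    have e1 : z • B' ∈ orbit Z B' := mem_orbit _ z
    have e2 : B' ∈ orbit Z B' := mem_orbit_self _
    rw [hC, Set.mem_singleton_iff] at e1 e2
    rw [e1, e2]
  have hsupp : (g.support : Set α) ⊆ B' := by
    intro y hy
    obtain ⟨i, hi⟩ := hgc.sameCycle (mem_support.1 hx) (mem_support.1 hy)
    have e := hfix ⟨g' ^ i, Subgroup.zpow_mem _ (Subgroup.mem_zpowers g') i⟩
    rw [← e]
    exact ⟨x, hxB, by rw [← hi]; rfl⟩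
  have := Set.ncard_le_ncard hsupp (Set.toFinite _)
  rw [Set.ncard_coe_finset, hgp] at this
  have hcard : B'.ncard = B.ncard := Set.ncard_image_of_injective _ (MulAction.injective h)
  omega

/-- A subgroup of index prime to `q` contains a `q`-cycle. -/
theorem exists_cycle_mem {K : Subgroup (alternatingGroup α)} {q : ℕ} (hq : q.Prime) (hq2 : q ≠ 2)
    (hqn : q ≤ Fintype.card α) (hK : ¬ q ∣ K.index) :
    ∃ g ∈ K.map (alternatingGroup α).subtype, g.IsCycle ∧ g.support.card = q := by
  classical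
  haveI := Fact.mk hq
  obtain ⟨y, hy⟩ := (exists_with_cycleType_iff α (m := {q})).2
    ⟨by simpa using hqn, fun a ha => by rw [Multiset.mem_singleton.1 ha]; exact hq.two_le⟩
  have hyc : y.IsCycle := card_cycleType_eq_one.1 (by rw [hy]; rfl)
  have hys : y.support.card = q := by rw [← sum_cycleType, hy, Multiset.sum_singleton]
  have hyA : y ∈ alternatingGroup α := by
    rw [mem_alternatingGroup, hyc.sign, hys, (hq.odd_of_ne_two hq2).neg_one_pow, neg_neg]
  set y' : alternatingGroup α := ⟨y, hyA⟩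
  have ho : orderOf y' = q := by rw [← Subgroup.orderOf_coe, hyc.orderOf, hys]
  obtain ⟨P, hP⟩ := (IsPGroup.of_card (n := 1) (by rw [Nat.card_zpowers, ho, pow_one]) :
    IsPGroup q (Subgroup.zpowers y')).exists_le_sylow
  let Q : Sylow q K := default
  have hQc : Nat.card ((Q : Subgroup K).map K.subtype) =
      q ^ (Nat.card (alternatingGroup α)).factorization q := by
    rw [Subgroup.card_map_of_injective K.subtype_injective, Q.card_eq_multiplicity,
      ← K.index_mul_card, Nat.factorization_mul Subgroup.index_ne_zero_of_finite Nat.card_pos.ne',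
      Finsupp.add_apply, Nat.factorization_eq_zero_of_not_dvd hK, zero_add]
  obtain ⟨g, hg⟩ := exists_smul_eq (alternatingGroup α) P (Sylow.ofCard _ hQc)
  have hmem : g * y' * g⁻¹ ∈ ((g • P : Sylow q (alternatingGroup α)) : Subgroup _) := by
    rw [Sylow.smul_def]
    exact Subgroup.smul_mem_pointwise_smul y' (MulAut.conj g) _ (hP (Subgroup.mem_zpowers y'))
  rw [hg, Sylow.coe_ofCard] at hmem
  have hmemK : g * y' * g⁻¹ ∈ K := Subgroup.map_subtype_le _ hmem
  exact ⟨_, Subgroup.mem_map_of_mem _ hmemK, hyc.conj, card_support_conj.trans hys⟩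

/-- The complement of the large orbit. -/
theorem exists_subset {K : Subgroup (alternatingGroup α)} (hK : K ≠ ⊤)
    {p c : ℕ} (hp : p.Prime) (hlt : Fintype.card α < 2 * p) (hc : c.Prime)
    (hc' : c + 3 ≤ Fintype.card α ∨ c = 3) {g h : Perm α}
    (hg : g ∈ K.map (alternatingGroup α).subtype) (hgc : g.IsCycle) (hgp : g.support.card = p)
    (hh : h ∈ K.map (alternatingGroup α).subtype) (hhc : h.IsCycle) (hhp : h.support.card = c) :
    ∃ S : Finset α, 1 ≤ S.card ∧ S.card + p ≤ Fintype.card α ∧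
      (∀ a ∈ K, S.image (a : Perm α) = S) ∧
      ∀ σ : Perm α, (∀ k ∈ K.map (alternatingGroup α).subtype,
        σ * k * σ⁻¹ ∈ K.map (alternatingGroup α).subtype) → S.image σ = S := by
  classical
  set H := K.map (alternatingGroup α).subtype with hH
  have hntr : ¬ IsPretransitive H α := by
    intro htr
    have hprim := primitive_of_large_prime_cycle hp hlt hgc hgp hg
    have hle : alternatingGroup α ≤ H := by
      rcases hc' with hc' | rfl
      · exact Cfsg.Agent.Lib.Perm.alternatingGroup_le_of_prime_cycle H hprim hc hc' hhc hhp hh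
      · exact alternatingGroup_le_of_isPreprimitive_of_isThreeCycle_mem hprim
          (card_support_eq_three_iff.1 hhp) hh
    refine hK (eq_top_iff.2 fun a _ => ?_)
    obtain ⟨b, hb, hba⟩ := hle a.2
    rwa [← Subtype.ext hba]
  obtain ⟨x, hx⟩ : g.support.Nonempty := Finset.card_pos.1 (hgp ▸ hp.pos)
  set O := (orbit H x).toFinset with hO
  have hmemO : ∀ y, y ∈ O ↔ y ∈ orbit H x := fun y => Set.mem_toFinset
  have hsupp : g.support ⊆ O := by
    intro y hy
    obtain ⟨i, hi⟩ := hgc.sameCycle (mem_support.1 hx) (mem_support.1 hy)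
    exact (hmemO y).2 ⟨⟨g, hg⟩ ^ i, by rw [← hi]; rfl⟩
  have hOp : p ≤ O.card := hgp ▸ Finset.card_le_card hsupp
  have hne : O ≠ Finset.univ := by
    intro e
    refine hntr ⟨fun a b => ?_⟩
    have ha : a ∈ orbit H x := (hmemO a).1 (e ▸ Finset.mem_univ a)
    have hb : b ∈ orbit H x := (hmemO b).1 (e ▸ Finset.mem_univ b)
    rw [← orbit_eq_iff.2 ha] at hb
    exact hb
  have hle := Finset.card_le_univ O
  have hlt' : O.card < Fintype.card α := Finset.card_lt_card (Finset.ssubset_univ_iff.2 hne)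
  have himg : ∀ σ : Perm α, (∀ k ∈ H, σ * k * σ⁻¹ ∈ H) → O.image σ = O := by
    intro σ hσ
    have hsub : O.image σ ⊆ (orbit H (σ x)).toFinset := by
      intro y hy
      obtain ⟨z, hz, rfl⟩ := Finset.mem_image.1 hy
      obtain ⟨k, hk⟩ := (hmemO z).1 hz
      refine Set.mem_toFinset.2 ⟨⟨_, hσ k k.2⟩, ?_⟩
      rw [← hk]
      show (σ * (k : Perm α) * σ⁻¹) (σ x) = σ ((k : Perm α) x)
      simp
    have hcard : (O.image σ).card = O.card := Finset.card_image_of_injective _ σ.injective
    obtain ⟨z, hz⟩ : ∃ z, z ∈ O.image σ ∩ O := by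
      rw [← Finset.Nonempty, ← Finset.card_pos]
      have h1 := Finset.card_union_add_card_inter (O.image σ) O
      have h2 := Finset.card_le_univ (O.image σ ∪ O)
      omega
    rw [Finset.mem_inter] at hz
    have e : orbit H (σ x) = orbit H x :=
      (orbit_eq_iff.2 (Set.mem_toFinset.1 (hsub hz.1))).symm.trans (orbit_eq_iff.2 ((hmemO z).1 hz.2))
    refine Finset.eq_of_subset_of_card_le (fun y hy => (hmemO y).2 ?_) hcard.ge
    exact e ▸ Set.mem_toFinset.1 (hsub hy)
  have himgc : ∀ σ : Perm α, (∀ k ∈ H, σ * k * σ⁻¹ ∈ H) → Oᶜ.image σ = Oᶜ := fun σ hσ => by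
    refine Finset.eq_of_subset_of_card_le (fun y hy => ?_)
      (Finset.card_image_of_injective _ σ.injective).ge
    obtain ⟨z, hz, rfl⟩ := Finset.mem_image.1 hy
    refine Finset.mem_compl.2 fun hzO => Finset.mem_compl.1 hz ?_
    rw [← himg σ hσ, Finset.mem_image] at hzO
    obtain ⟨w, hw, hwz⟩ := hzO
    exact σ.injective hwz ▸ hw
  refine ⟨Oᶜ, ?_, ?_, fun a ha => himgc _ fun k hk => ?_, himgc⟩
  · rw [Finset.card_compl]; omega
  · rw [Finset.card_compl]; omega
  · exact mul_mem (mul_mem (Subgroup.mem_map_of_mem _ ha) hk)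
      (inv_mem (Subgroup.mem_map_of_mem _ ha))

theorem not_sq_dvd_factorial {r : ℕ} (hr : r.Prime) : ∀ n, n < 2 * r → ¬ r ^ 2 ∣ n.factorial := by
  intro n
  induction n with
  | zero =>
    intro _ h
    exact hr.not_dvd_one ((dvd_pow_self r two_ne_zero).trans h)
  | succ n ih =>
    intro hn h
    rw [Nat.factorial_succ] at h
    by_cases hd : r ∣ n + 1
    · obtain ⟨c, hc⟩ := hd
      have hc1 : c = 1 := by
        rcases c with _ | _ | c
        · omega
        · rfl
        · exfalso; nlinarith [hr.pos]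
      rw [hc, hc1, mul_one, sq] at h
      have := (Nat.Prime.dvd_factorial hr).1 (Nat.dvd_of_mul_dvd_mul_left hr.pos h)
      rw [hc1, mul_one] at hc
      omega
    · exact ih (by omega) (((hr.coprime_iff_not_dvd.2 hd).pow_left 2).dvd_of_dvd_mul_left h)

theorem mod_lt_of_dvd_choose {r m k : ℕ} (hr : r.Prime) (hk : k < r ∨ m / r < r) (hkm : k ≤ m)
    (hd : r ∣ m.choose k) : m % r < k % r := by
  haveI := Fact.mk hr
  by_contra hle
  have hmod := Choose.choose_modEq_choose_mod_mul_choose_div_nat (p := r) (n := m) (k := k)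
  have h1 := (Nat.modEq_zero_iff_dvd).1 (hmod.symm.trans (Nat.modEq_zero_iff_dvd.2 hd))
  have aux : ∀ a b, b ≤ a → a < r → ¬ r ∣ a.choose b := by
    intro a b hb ha h
    have h2 : r ∣ a.factorial := by
      rw [← Nat.choose_mul_factorial_mul_factorial hb, mul_assoc]
      exact h.mul_right _
    exact absurd ((Nat.Prime.dvd_factorial hr).1 h2) (not_le.2 ha)
  rcases hr.dvd_mul.1 h1 with h | h
  · exact aux _ _ (not_lt.1 hle) (Nat.mod_lt _ hr.pos) h
  · rcases hk with hk | hk
    · rw [Nat.div_eq_of_lt hk, Nat.choose_zero_right] at h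
      exact hr.not_dvd_one h
    · exact aux _ _ (Nat.div_le_div_right hkm) hk h

theorem sign_eq_one_of_odd_order {σ : Perm α} (h : Odd (orderOf σ)) : sign σ = 1 := by
  have h1 : sign σ ^ orderOf σ = 1 := by rw [← map_pow, pow_orderOf_eq_one, map_one]
  obtain ⟨k, hk⟩ := h
  rw [hk, pow_succ, pow_mul] at h1
  simpa using h1

/-- The main step. -/
theorem exists_avoiding {m : ℕ} (hm : 5 ≤ m) {K : Subgroup (alternatingGroup (Fin m))} {r : ℕ}
    (hr : r.Prime) (hrd : r ∣ K.index) (hmax : ∀ q : ℕ, q.Prime → q ∣ K.index → q ≤ r)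
    (hN : m ≠ 6 → ∀ S : Finset (Fin m), 1 ≤ S.card → 2 * S.card < m →
      (∀ σ : Perm (Fin m), (∀ k ∈ K.map (alternatingGroup (Fin m)).subtype,
        σ * k * σ⁻¹ ∈ K.map (alternatingGroup (Fin m)).subtype) → S.image σ = S) →
      ∀ a : alternatingGroup (Fin m), S.image (a : Perm (Fin m)) = S → a ∈ K) :
    ∃ s : alternatingGroup (Fin m), orderOf s = r ∧ ∀ g, g * s * g⁻¹ ∉ K := by
  classical
  haveI := Fact.mk hr
  by_cases hrK : r ∣ Nat.card K
  swap
  · obtain ⟨s, hs⟩ := exists_prime_orderOf_dvd_card' (G := (alternatingGroup (Fin m))) r (hrd.trans K.index_dvd_card)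
    refine ⟨s, hs, fun g hg => hrK ?_⟩
    have := K.orderOf_dvd_natCard hg
    rwa [← MulAut.conj_apply, MulEquiv.orderOf_eq, hs] at this
  have hr2m : 2 * r ≤ m := by
    by_contra hlt
    refine not_sq_dvd_factorial hr m (by omega) ?_
    have h1 : r ^ 2 ∣ Nat.card (alternatingGroup (Fin m)) := by
      rw [← K.index_mul_card, sq]; exact mul_dvd_mul hrd hrK
    refine h1.trans ?_
    have h2 := (alternatingGroup (Fin m)).card_subgroup_dvd_card
    rwa [Nat.card_perm, Nat.card_fin] at h2
  obtain ⟨p, hp, hp1, hp2⟩ := Nat.exists_prime_lt_and_le_two_mul (m / 2) (by omega)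
  have hrp : r < p := by omega
  have hpm : p ≤ m := by omega
  have hr2 := hr.two_le
  obtain ⟨g, hg, hgc, hgp⟩ := exists_cycle_mem (K := K) hp (by omega)
    (by rw [Fintype.card_fin]; exact hpm) (fun h => absurd (hmax p hp h) (not_le.2 hrp))
  by_cases hnoc : r ≠ 2 ∧ ∀ y ∈ K.map (alternatingGroup (Fin m)).subtype, ¬ (y.IsCycle ∧ y.support.card = r)
  · obtain ⟨y, hy⟩ := (exists_with_cycleType_iff (Fin m) (m := {r})).2
      ⟨by rw [Multiset.sum_singleton, Fintype.card_fin]; omega,
        fun a ha => by rw [Multiset.mem_singleton.1 ha]; exact hr.two_le⟩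
    have hyc : y.IsCycle := card_cycleType_eq_one.1 (by rw [hy]; rfl)
    have hys : y.support.card = r := by rw [← sum_cycleType, hy, Multiset.sum_singleton]
    have hyA : y ∈ (alternatingGroup (Fin m)) := by
      rw [mem_alternatingGroup, hyc.sign, hys, (hr.odd_of_ne_two hnoc.1).neg_one_pow, neg_neg]
    refine ⟨⟨y, hyA⟩, by rw [← Subgroup.orderOf_coe, hyc.orderOf, hys], fun u hu => ?_⟩
    exact hnoc.2 _ (Subgroup.mem_map_of_mem _ hu)
      ⟨hyc.conj, card_support_conj.trans hys⟩
  obtain ⟨c, h, hcp, hc', hh, hhc, hhp⟩ : ∃ c, ∃ h : Perm (Fin m), c.Prime ∧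
      (c + 3 ≤ Fintype.card (Fin m) ∨ c = 3) ∧
      h ∈ K.map (alternatingGroup (Fin m)).subtype ∧ h.IsCycle ∧ h.support.card = c := by
    by_cases h2 : r = 2
    · subst h2
      obtain ⟨h, hh, hhc, hhp⟩ := exists_cycle_mem (K := K) Nat.prime_three (by norm_num)
        (by rw [Fintype.card_fin]; omega) (fun h => absurd (hmax 3 Nat.prime_three h) (by norm_num))
      exact ⟨3, h, Nat.prime_three, Or.inr rfl, hh, hhc, hhp⟩
    · push Not at hnoc
      obtain ⟨h, hh, hhc, hhp⟩ := hnoc h2
      exact ⟨r, h, hr, Or.inl (by rw [Fintype.card_fin]; omega), hh, hhc, hhp⟩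
  have hKtop : K ≠ ⊤ := by
    rintro rfl
    rw [Subgroup.index_top] at hrd
    exact hr.not_dvd_one hrd
  obtain ⟨S, hS1, hSp, hSK, hSN⟩ := exists_subset hKtop hp (by rw [Fintype.card_fin]; omega) hcp hc'
    hg hgc hgp hh hhc hhp
  rw [Fintype.card_fin] at hSp
  set k := S.card with hk
  have h2k : 2 * k < m := by omega
  let s₀ : Set.powersetCard (Fin m) k := ⟨S, rfl⟩
  haveI := Set.powersetCard.isPretransitive_alternatingGroup (α := Fin m) (n := k)
    (by rw [Nat.card_eq_fintype_card, Fintype.card_fin]; omega)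
  set St := stabilizer (alternatingGroup (Fin m)) s₀
  have hStIdx : St.index = m.choose k := by
    rw [index_stabilizer_of_transitive, Set.powersetCard.card, Nat.card_eq_fintype_card,
      Fintype.card_fin]
  have hSt : ∀ a : (alternatingGroup (Fin m)), a ∈ St ↔ S.image (a : Perm (Fin m)) = S := by
    intro a
    rw [mem_stabilizer_iff, Subtype.ext_iff]
    rfl
  have hKSt : K ≤ St := fun a ha => (hSt a).2 (hSK a ha)
  -- arithmetic of `k`
  have facts : r ∣ m.choose k ∧ m % r < k % r ∧ (r = 2 → k = 1 ∧ 4 ∣ m) := by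
    by_cases h6 : m = 6
    · subst h6
      have hp5 : p = 5 := by
        have h46 : p = 4 ∨ p = 5 ∨ p = 6 := by omega
        rcases h46 with h | h | h
        · exact absurd (h ▸ hp) (by norm_num)
        · exact h
        · exact absurd (h ▸ hp) (by norm_num)
      have hk1 : k = 1 := by omega
      have hr3 : r = 3 := by
        rcases (show r = 2 ∨ r = 3 by omega) with h | h
        · exfalso
          have h1 := (Subgroup.index_dvd_of_le hKSt)
          rw [hStIdx, hk1, Nat.choose_one_right] at h1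
          have := hmax 3 Nat.prime_three ((by norm_num : 3 ∣ 6).trans h1)
          omega
        · exact h
      rw [hk1, hr3]
      norm_num
    have hKeq : St ≤ K := fun a ha => hN h6 S hS1 h2k hSN a ((hSt a).1 ha)
    have hidx : K.index = m.choose k := by rw [le_antisymm hKSt hKeq, hStIdx]
    rw [hidx] at hrd hmax
    obtain ⟨q, hq, hqd, hqbig⟩ := BinomialPrime.exists_large_prime hS1 h2k
    have hqr := hmax q hq hqd
    have hkr : k < r ∨ m / r < r := by
      rcases hqbig with h | h
      · exact Or.inl (by omega)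
      · exact Or.inr (Nat.div_lt_iff_lt_mul hr.pos |>.2 (h.trans_le (Nat.mul_le_mul hqr hqr)))
    refine ⟨hrd, mod_lt_of_dvd_choose hr hkr (by omega) hrd, ?_⟩
    rintro rfl
    have hk1 : k = 1 := by
      rcases hkr with h | h <;> omega
    refine ⟨hk1, ?_⟩
    rw [hk1, Nat.choose_one_right] at hrd hmax
    obtain ⟨j, hj⟩ := hrd
    by_contra h4
    have hjodd : ¬ 2 ∣ j := fun h => h4 (by omega)
    have hmin := Nat.minFac_prime (show j ≠ 1 by omega)
    have := hmax _ hmin (hj ▸ j.minFac_dvd.mul_left 2)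
    have h2 : j.minFac = 2 := le_antisymm this hmin.two_le
    exact hjodd (h2 ▸ j.minFac_dvd)
  obtain ⟨hrC, hcarry, htwo⟩ := facts
  have hres := Cfsg.Agent.S3573.result m k hS1 h2k r hr hrC
  obtain ⟨σ, hσo, hσ⟩ : ∃ σ : Perm (Fin m), orderOf σ = r ∧
      ∀ s : Finset (Fin m), s.card = k → s.image σ ≠ s := by
    by_cases h2 : r = 2
    · have h3 := (hres.2 h2).not.2 (by
        obtain ⟨hk1, h4⟩ := htwo h2
        rw [hk1, not_or, Nat.not_even_iff_odd, Nat.not_odd_iff_even, Nat.even_iff]
        exact ⟨odd_one, by omega⟩)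
      push Not at h3
      rw [h2]
      exact h3
    · have h3 := (hres.1 h2).not.2 (fun h => absurd h.2 (not_le.2 hcarry))
      push Not at h3
      exact h3
  have hσA : σ ∈ (alternatingGroup (Fin m)) := by
    rw [mem_alternatingGroup]
    by_cases h2 : r = 2
    · obtain ⟨hk1, h4⟩ := htwo h2
      obtain ⟨n, hn⟩ := cycleType_prime_order (hσo ▸ hr)
      rw [hσo, h2] at hn
      have hsupp : σ.support = Finset.univ := Finset.eq_univ_iff_forall.2 fun x =>
        mem_support.2 fun e => hσ {x} (by rw [Finset.card_singleton, hk1])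
          (by rw [Finset.image_singleton, e])
      have hsum : σ.cycleType.sum = m := by rw [sum_cycleType, hsupp]; simp
      rw [hn, Multiset.sum_replicate, smul_eq_mul] at hsum
      rw [sign_of_cycleType, hn, Multiset.sum_replicate, Multiset.card_replicate, smul_eq_mul,
        Even.neg_one_pow (by rw [Nat.even_iff]; omega)]
    · exact sign_eq_one_of_odd_order (hσo ▸ hr.odd_of_ne_two h2)
  refine ⟨⟨σ, hσA⟩, by rw [← Subgroup.orderOf_coe, hσo], fun u hu => ?_⟩
  have h1 := hSK _ hu
  set u' : Perm (Fin m) := Subtype.val u with hu'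
  refine hσ (S.image ⇑u'⁻¹) (Finset.card_image_of_injective _ (u'⁻¹).injective) ?_
  conv_rhs => rw [← h1]
  rw [Finset.image_image, Finset.image_image]
  refine Finset.image_congr fun x _ => ?_
  simp [u']

end Cfsg.Agent.Lib.Fusion.AltDerangement
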