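import Cfsg.Agent.Lib.Fusion.Essential

/-!
Maps agreeing on a centric subgroup, and membership in a saturated subsystem detected on a
centric subgroup.
-/

set_option autoImplicit false
set_option linter.unusedSectionVars false

namespace Cfsg.Agent.Lib.Fusion

open Cfsg Cfsg.FusionSystem

variable {Ω : Type*} [Group Ω] {S : Subgroup Ω} {p : ℕ} [Fact p.Prime] [Finite S]
  {F : FusionSystem S}

/-- Conjugation inside the source, as an element of `Ω`. -/
theorem conjHom_mem_self {N : Subgroup Ω} {z : Ω} (hz : z ∈ N) (x : N) : conjHom N z x ∈ N :=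
  N.mul_mem (N.mul_mem hz x.2) (N.inv_mem hz)

/-- An automorphism of `N` in the system that is trivial on a centric normal subgroup `Q` is
conjugation by an element of `Z(Q)`. -/
theorem exists_eq_conj_of_trivial_on_centric (hS : IsPGroup p S) (hF : F.IsSaturated p)
    {Q N : Subgroup Ω} (hQN : Q ≤ N) (hN : N ≤ S) (hNQ : N ≤ Subgroup.normalizer (Q : Set Ω))
    (hQ : F.IsCentric Q) {θ : MulAut N} (hθ : θ ∈ F.autGroup N)
    (hθQ : ∀ x : N, (x : Ω) ∈ Q → θ x = x) :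
    ∃ z ∈ centralizerIn S Q, ∀ x : N, ((θ x : N) : Ω) = z * (x : Ω) * z⁻¹ := by
  have := finite_of_le hN
  have := finite_mulAut hN
  have hθh := autHom_mem F hN hθ
  -- `x⁻¹ θ(x)` centralizes `Q`
  have hw : ∀ x : N, (x : Ω)⁻¹ * (θ x : Ω) ∈ Q := by
    intro x
    refine hQ.2 Q (isConj_refl F hQ.1) (mem_centralizerIn_iff_conj.2
      ⟨S.mul_mem (S.inv_mem (hN x.2)) (hN (θ x).2), fun q hq => ?_⟩)
    have hxq : (x : Ω) * q * (x : Ω)⁻¹ ∈ Q := conj_mem_of_mem_normalizer (hNQ x.2) hq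
    have h1 := hθQ (x * ⟨q, hQN hq⟩ * x⁻¹) hxq
    rw [map_mul, map_mul, map_inv, hθQ ⟨q, hQN hq⟩ hq] at h1
    have h2 := congrArg (fun y : N => (y : Ω)) h1
    simp only [Subgroup.coe_mul, Subgroup.coe_inv] at h2
    calc (x : Ω)⁻¹ * (θ x : Ω) * q * ((x : Ω)⁻¹ * (θ x : Ω))⁻¹
        = (x : Ω)⁻¹ * ((θ x : Ω) * q * (θ x : Ω)⁻¹) * (x : Ω) := by group
      _ = (x : Ω)⁻¹ * ((x : Ω) * q * (x : Ω)⁻¹) * (x : Ω) := by rw [h2]
      _ = q := by group
  obtain ⟨n, hn⟩ : ∃ n, Nat.card N = p ^ n := IsPGroup.iff_card.1 (hS.to_le hN)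
  have hθp : θ ^ p ^ n = 1 := by
    refine MulEquiv.ext fun x => ?_
    let w : N := x⁻¹ * θ x
    have hwQ : (w : Ω) ∈ Q := hw x
    have hk : ∀ k : ℕ, (θ ^ k) x = x * w ^ k := by
      intro k
      induction k with
      | zero => simp
      | succ k ih =>
        rw [pow_succ', MulAut.mul_apply, ih, map_mul, map_pow, hθQ w hwQ,
          show θ x = x * w from (mul_inv_cancel_left x (θ x)).symm, mul_assoc, ← pow_succ']
    rw [hk, ← hn, pow_card_eq_one', mul_one, MulAut.one_apply]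
  obtain ⟨M, hNM, hM⟩ := exists_fullyNormalized F hN
  obtain ⟨hMfa, -⟩ := IsSaturated.automized_receptive hS hF hM
  obtain ⟨χ, hχ, hχr⟩ := hNM
  let i := isoOf χ (F.injective_of_mem hχ) hχr
  obtain ⟨α, hα, hαY⟩ := IsFullyAutomized.exists_conj hMfa
    (X := (Subgroup.zpowers θ).map (MulAut.congr i).toMonoidHom)
    ((Subgroup.map_mono (Subgroup.zpowers_le.2 hθ)).trans (map_congr_autGroup F hχ hχr).le)
    ((show IsPGroup p (Subgroup.zpowers θ) by
      intro z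
      obtain ⟨j, hj⟩ := Subgroup.mem_zpowers_iff.1 z.2
      refine ⟨n, Subtype.ext ?_⟩
      rw [SubmonoidClass.coe_pow, ← hj, ← zpow_natCast, ← zpow_mul, mul_comm, zpow_mul,
        zpow_natCast, hθp, one_zpow]
      rfl).map _)
  obtain ⟨s, hsS, hs⟩ := mem_autInducedBy.1 (hαY _ ⟨θ, Subgroup.mem_zpowers _, rfl⟩)
  let ζ : N ≃* M := i.trans α
  have hs' : ∀ x : N, (ζ (θ x) : Ω) = s * (ζ x : Ω) * s⁻¹ := by
    intro x
    rw [← hs (ζ x)]
    show _ = ((α (i (θ (i.symm (α.symm (α (i x)))))) : M) : Ω)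
    rw [MulEquiv.symm_apply_apply, MulEquiv.symm_apply_apply]
    rfl
  have hχM : ∀ x, χ x ∈ M := fun x => hχr ▸ ⟨x, rfl⟩
  let χ' := compose χ (autHom α) hχM
  have hχ' : χ' ∈ F.Hom N := compose_mem F hχ (autHom_mem F hM.1 hα) hχM
  have hsQ : s ∈ img χ' Q := by
    refine hQ.2 _ (isConj_img F hχ' hQN) (mem_centralizerIn_iff_conj.2 ⟨hsS, ?_⟩)
    intro y hy
    obtain ⟨x, hxN, hxQ, rfl⟩ := mem_img.1 hy
    show s * (ζ ⟨x, hxN⟩ : Ω) * s⁻¹ = (ζ ⟨x, hxN⟩ : Ω)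
    rw [← hs', hθQ ⟨x, hxN⟩ hxQ]
  obtain ⟨z, hzN, hzQ, hzs⟩ := mem_img.1 hsQ
  have hθz : ∀ x : N, θ x = ⟨z, hzN⟩ * x * ⟨z, hzN⟩⁻¹ := by
    intro x
    apply ζ.injective
    apply Subtype.ext
    rw [hs', map_mul, map_mul, map_inv, ← hzs]
    rfl
  refine ⟨z, mem_centralizerIn_iff_conj.2 ⟨hN hzN, fun q hq => ?_⟩,
    fun x => congrArg Subtype.val (hθz x)⟩
  exact congrArg Subtype.val ((hθz ⟨q, hQN hq⟩).symm.trans (hθQ ⟨q, hQN hq⟩ hq))

/-- Maps agreeing on a centric subgroup differ by conjugation by an element of its centre. -/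
theorem exists_conj_of_agree (hS : IsPGroup p S) (hF : F.IsSaturated p) {P Q : Subgroup Ω}
    (hQP : Q ≤ P) (hQ : F.IsCentric Q) {φ φ' : P →* Ω} (hφ : φ ∈ F.Hom P) (hφ' : φ' ∈ F.Hom P)
    (h : ∀ x : P, (x : Ω) ∈ Q → φ x = φ' x) :
    ∃ z : P, (z : Ω) ∈ centralizerIn S Q ∧ (z : Ω) ∈ Q ∧
      ∀ y : P, φ' y = φ (z * y * z⁻¹) := by
  suffices key : ∀ n, ∀ Q : Subgroup Ω, Q ≤ P → F.IsCentric Q → Nat.card P ≤ Nat.card Q + n →
      ∀ φ ∈ F.Hom P, ∀ φ' ∈ F.Hom P, (∀ x : P, (x : Ω) ∈ Q → φ x = φ' x) →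
      ∃ z : P, (z : Ω) ∈ centralizerIn S Q ∧ ∀ y : P, φ' y = φ (z * y * z⁻¹) by
    obtain ⟨z, hz, hy⟩ := key (Nat.card P) Q hQP hQ (Nat.le_add_left _ _) φ hφ φ' hφ' h
    exact ⟨z, hz, hQ.2 Q (isConj_refl F hQ.1) hz, hy⟩
  intro n
  induction n with
  | zero =>
    intro Q hQP hQ hn φ hφ φ' hφ' h
    have := finite_of_le (source_le hφ)
    have e : Q = P := Subgroup.eq_of_le_of_card_ge hQP (by simpa using hn)
    exact ⟨1, Subgroup.one_mem _, fun y => by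
      simpa using (h y (e.symm ▸ y.2)).symm⟩
  | succ n ih =>
    intro Q hQP hQ hn φ hφ φ' hφ' h
    have hPS := source_le hφ
    have := finite_of_le hPS
    rcases hQP.eq_or_lt with e | hlt
    · exact ⟨1, Subgroup.one_mem _, fun y => by
        simpa using (h y (e.symm ▸ y.2)).symm⟩
    let N := normalizerIn P Q
    have hNP : N ≤ P := normalizerIn_le P Q
    have hQN : Q ≤ N := le_normalizerIn hQP
    have hcard : Nat.card Q < Nat.card N := by
      have := finite_of_le (hNP.trans hPS)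
      by_contra hge
      exact (lt_normalizerIn (hS.to_le hPS) hlt).ne
        (Subgroup.eq_of_le_of_card_ge hQN (not_lt.1 hge))
    let a := restr hNP φ
    let b := restr hNP φ'
    have ha : a ∈ F.Hom N := restr_mem F hφ hNP
    have hb : b ∈ F.Hom N := restr_mem F hφ' hNP
    have hφQ : F.IsConj Q (img φ Q) := isConj_img F hφ hQP
    -- the two images of `N` agree
    have hrange : ∀ x : N, b x ∈ a.range := by
      intro x
      have hc : (a x)⁻¹ * b x ∈ img φ Q := by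
        refine hQ.2 _ hφQ (mem_centralizerIn_iff_conj.2
          ⟨S.mul_mem (S.inv_mem (apply_mem ha x)) (apply_mem hb x), fun y hy => ?_⟩)
        obtain ⟨q, hqP, hqQ, rfl⟩ := mem_img.1 hy
        have hxq : (x : Ω) * q * (x : Ω)⁻¹ ∈ Q := conj_mem_of_mem_normalizer x.2.2 hqQ
        have h1 := h (⟨x, hNP x.2⟩ * ⟨q, hqP⟩ * ⟨x, hNP x.2⟩⁻¹) hxq
        rw [map_mul, map_mul, map_inv, map_mul, map_mul, map_inv, ← h ⟨q, hqP⟩ hqQ] at h1
        calc (a x)⁻¹ * b x * φ ⟨q, hqP⟩ * ((a x)⁻¹ * b x)⁻¹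
            = (a x)⁻¹ * (b x * φ ⟨q, hqP⟩ * (b x)⁻¹) * a x := by group
          _ = (a x)⁻¹ * (a x * φ ⟨q, hqP⟩ * (a x)⁻¹) * a x := by
              rw [show b x * φ ⟨q, hqP⟩ * (b x)⁻¹ = a x * φ ⟨q, hqP⟩ * (a x)⁻¹ from h1.symm]
          _ = φ ⟨q, hqP⟩ := by group
      obtain ⟨q, hqP, hqQ, hq⟩ := mem_img.1 hc
      refine ⟨x * ⟨q, hQN hqQ⟩, ?_⟩
      rw [map_mul, show a ⟨q, hQN hqQ⟩ = φ ⟨q, hqP⟩ from rfl, hq, mul_inv_cancel_left]
    obtain ⟨c, hc, hcr, hl, hl'⟩ := exists_inv F ha rfl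
    let t := compose b c hrange
    have ht : t ∈ F.Hom N := compose_mem F hb hc hrange
    have htN : ∀ x, t x ∈ N := fun x => hcr.le ⟨⟨b x, hrange x⟩, rfl⟩
    have hat : ∀ x, a ⟨t x, htN x⟩ = b x := fun x => hl' _ (htN x)
    have := finite_of_le (hNP.trans hPS)
    have htr : t.range = N := by
      refine Subgroup.eq_of_le_of_card_ge ?_ (card_range_eq (F.injective_of_mem ht)).ge
      rintro _ ⟨x, rfl⟩
      exact htN x
    let θ : MulAut N := isoOf t (F.injective_of_mem ht) htr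
    obtain ⟨z, hz, hθz⟩ := exists_eq_conj_of_trivial_on_centric hS hF hQN (hNP.trans hPS)
      inf_le_right hQ (θ := θ) (mem_autGroup_of_hom F ht) (fun x hx => by
        apply Subtype.ext
        apply congrArg (fun y : N => (y : Ω))
        refine (F.injective_of_mem ha) ((hat x).trans ?_)
        exact (h ⟨x, hNP x.2⟩ hx).symm)
    have hzQ : z ∈ Q := hQ.2 Q (isConj_refl F hQ.1) hz
    let φ₂ := compose (conjHom P z) φ (conjHom_mem_self (hQP hzQ))
    have hφ₂ : φ₂ ∈ F.Hom P := compose_mem F (F.conj_mem hPS hz.1) hφ _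
    have hagree : ∀ x : P, (x : Ω) ∈ N → φ₂ x = φ' x := by
      intro x hx
      show φ ⟨z * (x : Ω) * z⁻¹, _⟩ = φ' x
      have h1 := hat ⟨x, hx⟩
      have e : (⟨t ⟨x, hx⟩, htN ⟨x, hx⟩⟩ : N) =
          ⟨z * (x : Ω) * z⁻¹, N.mul_mem (N.mul_mem (hQN hzQ) hx) (N.inv_mem (hQN hzQ))⟩ :=
        Subtype.ext (hθz ⟨x, hx⟩)
      rw [e] at h1
      exact h1
    obtain ⟨z', hz', hy⟩ := ih N hNP (isCentric_of_le hQ hQN (hNP.trans hPS)) (by omega)
      φ₂ hφ₂ φ' hφ' hagree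
    refine ⟨⟨z, hQP hzQ⟩ * z', Subgroup.mul_mem _ hz ⟨hz'.1, fun q hq => hz'.2 q (hQN hq)⟩,
      fun y => ?_⟩
    rw [hy]
    show φ _ = φ _
    congr 1
    apply Subtype.ext
    simp [mul_assoc, conjHom]

/-- A map of `F` lying in a saturated subsystem `E` on a centric subgroup of its source lies
in `E`. -/
theorem mem_of_restr_mem (hS : IsPGroup p S) (hF : F.IsSaturated p) {E : FusionSystem S}
    (hE : E.IsSaturated p) (hEF : E ≤ F) {P Q : Subgroup Ω} (hQP : Q ≤ P) (hQ : F.IsCentric Q)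
    {φ : P →* Ω} (hφ : φ ∈ F.Hom P) (h : restr hQP φ ∈ E.Hom Q) : φ ∈ E.Hom P := by
  suffices key : ∀ n, ∀ Q : Subgroup Ω, ∀ hQP : Q ≤ P, F.IsCentric Q →
      Nat.card P ≤ Nat.card Q + n → restr hQP φ ∈ E.Hom Q → φ ∈ E.Hom P by
    exact key (Nat.card P) Q hQP hQ (Nat.le_add_left _ _) h
  have hPS := source_le hφ
  have := finite_of_le hPS
  intro n
  induction n with
  | zero =>
    intro Q hQP _ hn h
    have e : Q = P := Subgroup.eq_of_le_of_card_ge hQP (by simpa using hn)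
    subst e
    exact h
  | succ n ih =>
    intro Q hQP hQ hn h
    rcases hQP.eq_or_lt with e | hlt
    · subst e
      exact h
    let N := normalizerIn P Q
    have hNP : N ≤ P := normalizerIn_le P Q
    have hQN : Q ≤ N := le_normalizerIn hQP
    have hcard : Nat.card Q < Nat.card N := by
      have := finite_of_le (hNP.trans hPS)
      by_contra hge
      exact (lt_normalizerIn (hS.to_le hPS) hlt).ne
        (Subgroup.eq_of_le_of_card_ge hQN (not_lt.1 hge))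
    refine ih N hNP (isCentric_of_le hQ hQN (hNP.trans hPS)) (by omega) ?_
    let φ₀ := restr hQP φ
    have hQE : ∀ R, E.IsConj Q R → F.IsConj Q R := fun R ⟨f, hf, hr⟩ => ⟨f, hEF Q hf, hr⟩
    have hRc : E.IsCentric φ₀.range := by
      refine ⟨range_le h, fun R hR => hQ.2 R (hQE R ?_)⟩
      exact isConj_trans ⟨φ₀, h, rfl⟩ hR
    obtain ⟨χ, hχ, hext, -⟩ := IsReceptive.extend
      (IsSaturated.receptive hS hE (isFullyCentralized_of_isCentric hRc)) h rfl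
    have hle : N ≤ extender S Q φ₀ := by
      intro g hg
      refine mem_extender.2 ⟨hPS hg.1, hg.2, φ ⟨g, hg.1⟩, apply_mem hφ _, fun x hx => ?_⟩
      show φ ⟨g * x * g⁻¹, hQP hx⟩ = _
      have e : (⟨g * x * g⁻¹, hQP hx⟩ : P) = ⟨g, hg.1⟩ * ⟨x, hQP x.2⟩ * ⟨g, hg.1⟩⁻¹ := rfl
      rw [e, map_mul, map_mul, map_inv]
      rfl
    let b := restr hle χ
    have hb : b ∈ E.Hom N := restr_mem E hχ hle
    obtain ⟨z, hz, hzQ, hy⟩ := exists_conj_of_agree hS hF hQN hQ (φ := b) (φ' := restr hNP φ)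
      (hEF N hb) (restr_mem F hφ hNP) fun x hx => hext x hx (hle x.2)
    exact mem_of_comp E (E.conj_mem (hNP.trans hPS) hz.1) hb
      (conjHom_mem_self z.2) fun x => hy x

end Cfsg.Agent.Lib.Fusion
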