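import Cfsg.Agent.Lib.Fusion.SimpleCriterion
import Cfsg.Agent.Lib.Fusion.Centric

/-!
The simplicity criterion with generators coming from centric subgroups, normal in the Sylow
subgroup or not.
-/

set_option autoImplicit false

namespace Cfsg.Agent.Lib.Fusion

open Cfsg Cfsg.FusionSystem
open scoped Pointwise

variable {G : Type*} [Group G]

/-- Conjugates in `N(Q)` of elements of `N_S(Q)`. -/
def localElts (S Q : Subgroup G) : Set G :=
  {x | ∃ g ∈ Subgroup.normalizer (Q : Set G), ∃ s ∈ S, s ∈ Subgroup.normalizer (Q : Set G) ∧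
    x = g * s * g⁻¹}

/-- The generators of the normalizer of `S` allowed by the criterion. -/
def LocalGood (S : Subgroup G) : Set G :=
  {h | h ∈ Subgroup.normalizer (S : Set G) ∧ ∃ Q ≤ S, Subgroup.centralizer (Q : Set G) ≤ Q ∧
    h ∈ Subgroup.closure (localElts S Q)}

theorem localElts_le_normalizer (S Q : Subgroup G) :
    Subgroup.closure (localElts S Q) ≤ Subgroup.normalizer (Q : Set G) :=
  (Subgroup.closure_le _).2 fun _ ⟨_, hg, _, _, hs, e⟩ => e ▸ mul_mem (mul_mem hg hs) (inv_mem hg)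

variable {p : ℕ} [Fact p.Prime]

/-- **The criterion.** -/
theorem isSimple_of_localCriterion [Finite G] (S : Sylow p G) (hS : (S : Subgroup G) ≠ ⊥)
    (hcl : ClosedTrivial (S : Subgroup G))
    (hgen : Subgroup.normalizer ((S : Subgroup G) : Set G) ≤
      Subgroup.closure (((S : Subgroup G) : Set G) ∪ LocalGood (S : Subgroup G))) :
    (groupFusionSystem (S : Subgroup G)).IsSimple p := by
  classical
  refine ⟨group_isSaturated S, hS, fun T E hE => ?_⟩
  obtain ⟨⟨hEsat, -, hsub, hT, hinv, hfr⟩, -⟩ := hE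
  by_cases hT0 : T = ⊥
  · exact Or.inl hT0
  have hTS : T = S := by
    refine hcl T hT.1 hT0 fun x hx g hg => ?_
    have hle : Subgroup.zpowers x ≤ T := Subgroup.zpowers_le.2 hx
    refine hT.2 _ hle _ (conjHom_mem_group (g := g) (hle.trans hT.1) ?_) ⟨x, Subgroup.mem_zpowers x⟩
    rw [MonoidHom.map_zpowers, Subgroup.zpowers_le]
    exact hg
  subst hTS
  refine Or.inr ⟨rfl, fun P => Set.Subset.antisymm (hsub P) ?_⟩
  set F := groupFusionSystem (S : Subgroup G) with hF
  -- automorphisms of the subgroups normal in `S`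
  have hQaut : ∀ Q : Subgroup G, Q ≤ (S : Subgroup G) →
      ∀ x ∈ Subgroup.closure (localElts (S : Subgroup G) Q),
        ∃ hn : x ∈ Subgroup.normalizer (Q : Set G), conjAut hn ∈ E.autGroup Q := by
    intro Q hQS
    have hEF : E.autGroup Q ≤ F.autGroup Q := fun α hα =>
      mem_autGroup_of_hom F (hsub Q (autHom_mem E hQS hα))
    haveI : ((E.autGroup Q).subgroupOf (F.autGroup Q)).Normal := by
      constructor
      rintro ⟨β, hβF⟩ hβ ⟨α, hα⟩
      obtain ⟨α₀, hα₀, φ₀, hφ₀, h0⟩ := hfr Q hQS (autHom α) (autHom_mem F hQS hα)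
      have hβE : autHom β ∈ E.Hom Q := autHom_mem E hQS hβ
      obtain ⟨ψ, hψ, hψr, hl, -⟩ := exists_inv E hφ₀ rfl
      have hm : ∀ y, ψ y ∈ Q := fun y => hψr.le ⟨y, rfl⟩
      have hm2 : ∀ y, compose ψ (autHom β) hm y ∈ Q := fun y => (β _).2
      have hR : φ₀.range ≤ (S : Subgroup G) := range_le hφ₀
      have hc : compose (compose ψ (autHom β) hm) φ₀ hm2 ∈ E.Hom φ₀.range :=
        compose_mem E (compose_mem E hψ hβE hm) hφ₀ hm2
      obtain ⟨χ, hχ, hχe⟩ := hinv _ hR _ hc α₀ hα₀
      have himg : (φ₀.range.subgroupOf (S : Subgroup G)).map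
          ((S : Subgroup G).subtype.comp α₀.toMonoidHom) = Q := by
        ext y
        constructor
        · rintro ⟨⟨_, hw⟩, ⟨z, rfl⟩, rfl⟩
          exact Eq.mp (congrArg (· ∈ Q) (h0 z hw)) (α z).2
        · intro hy
          obtain ⟨z, hz⟩ := α.surjective ⟨y, hy⟩
          refine ⟨⟨φ₀ z, apply_mem hφ₀ z⟩, ⟨z, rfl⟩, ?_⟩
          exact (h0 z (apply_mem hφ₀ z)).symm.trans (congrArg Subtype.val hz)
      revert χ
      rw [himg]
      intro χ hχ hχe
      show α * β * α⁻¹ ∈ E.autGroup Q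
      refine mem_autGroup_of_hom E ?_
      have e : autHom (α * β * α⁻¹) = χ := by
        ext y
        obtain ⟨z, rfl⟩ := α.surjective y
        have e0 : (α₀ ⟨φ₀ z, hR ⟨z, rfl⟩⟩ : G) = ((α z : Q) : G) :=
          (h0 z (apply_mem hφ₀ z)).symm
        have hx : compose (compose ψ (autHom β) hm) φ₀ hm2 ⟨φ₀ z, ⟨z, rfl⟩⟩ ∈ (S : Subgroup G) :=
          apply_mem hc _
        have h1 := hχe ⟨φ₀ z, ⟨z, rfl⟩⟩ hx (e0 ▸ (α z).2)
        simp only [e0] at h1
        have e1 : compose (compose ψ (autHom β) hm) φ₀ hm2 ⟨φ₀ z, ⟨z, rfl⟩⟩ = φ₀ (β z) := by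
          refine congrArg φ₀ (Subtype.ext ?_)
          show ((β ⟨ψ ⟨φ₀ z, _⟩, _⟩ : Q) : G) = β z
          have e2 : (⟨ψ ⟨φ₀ z, ⟨z, rfl⟩⟩, hm _⟩ : Q) = z := Subtype.ext (hl z _)
          exact congrArg (fun w => ((β w : Q) : G)) e2
        simp only [e1] at h1
        refine Eq.trans ?_ h1.symm
        rw [← h0 (β z) (apply_mem hφ₀ _)]
        show ((α (β (α⁻¹ (α z))) : Q) : G) = (α (β z) : Q)
        rw [MulAut.inv_apply, MulEquiv.symm_apply_apply]
      rw [e]
      exact hχ
    intro x hx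
    induction hx using Subgroup.closure_induction with
    | mem x hx =>
      obtain ⟨g, hg, s, hs, hsn, rfl⟩ := hx
      have hn : g * s * g⁻¹ ∈ Subgroup.normalizer (Q : Set G) := mul_mem (mul_mem hg hsn) (inv_mem hg)
      refine ⟨hn, ?_⟩
      have hsE : conjAut hsn ∈ E.autGroup Q := conjAut_mem_autGroup E hQS hs hsn
      have hgF : conjAut hg ∈ F.autGroup Q := by
        rw [hF, autGroup_group hQS]
        exact conjAut_mem_autInducedBy (Subgroup.mem_top g) hg
      have hN : ((E.autGroup Q).subgroupOf (F.autGroup Q)).Normal := inferInstance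
      have h1 : conjAut hg * conjAut hsn * (conjAut hg)⁻¹ ∈ E.autGroup Q :=
        hN.conj_mem ⟨_, hEF hsE⟩ hsE ⟨_, hgF⟩
      rwa [conjAut, conjAut, ← map_inv, ← map_mul, ← map_mul] at h1
    | one =>
      refine ⟨one_mem _, ?_⟩
      convert one_mem (E.autGroup Q)
      exact map_one Q.normalizerMonoidHom
    | mul a b _ _ ha hb =>
      obtain ⟨hna, ha⟩ := ha
      obtain ⟨hnb, hb⟩ := hb
      refine ⟨mul_mem hna hnb, ?_⟩
      have := mul_mem ha hb
      rwa [conjAut, conjAut, ← map_mul] at this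
    | inv a _ ha =>
      obtain ⟨hna, ha⟩ := ha
      refine ⟨inv_mem hna, ?_⟩
      have := inv_mem ha
      rwa [conjAut, ← map_inv] at this
  -- the elements of the normalizer acting in `E`
  let K : Subgroup G :=
    { carrier := {g | ∃ hn : g ∈ Subgroup.normalizer ((S : Subgroup G) : Set G),
        conjAut hn ∈ E.autGroup (S : Subgroup G)}
      one_mem' := ⟨one_mem _, by
        convert one_mem (E.autGroup (S : Subgroup G))
        exact map_one (S : Subgroup G).normalizerMonoidHom⟩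
      mul_mem' := fun {a b} ha hb => by
        obtain ⟨hna, ha⟩ := ha
        obtain ⟨hnb, hb⟩ := hb
        refine ⟨mul_mem hna hnb, ?_⟩
        have := mul_mem ha hb
        rwa [conjAut, conjAut, ← map_mul] at this
      inv_mem' := fun {a} ha => by
        obtain ⟨hna, ha⟩ := ha
        refine ⟨inv_mem hna, ?_⟩
        have := inv_mem ha
        rwa [conjAut, ← map_inv] at this }
  have hSK : (S : Subgroup G) ≤ K := fun g hg =>
    ⟨Subgroup.le_normalizer hg, conjAut_mem_autGroup E le_rfl hg _⟩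
  have hgood : LocalGood (S : Subgroup G) ⊆ K := by
    rintro h ⟨hhS, Q, hQS, hQc, hh⟩
    obtain ⟨hn, hβ⟩ := hQaut Q hQS h hh
    refine ⟨hhS, mem_autGroup_of_hom E ?_⟩
    have hcent : F.IsCentric Q := by
      refine ⟨hQS, fun R hR c hc => ?_⟩
      obtain ⟨-, -, g, rfl⟩ := isConj_group_iff.1 hR
      rw [mem_map_conj]
      refine hQc fun y hy => ?_
      have h2 := hc.2 (g * y * g⁻¹) ⟨y, hy, rfl⟩
      calc y * (g⁻¹ * c * g) = g⁻¹ * (g * y * g⁻¹ * c) * g := by group
        _ = g⁻¹ * (c * (g * y * g⁻¹)) * g := by rw [h2]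
        _ = g⁻¹ * c * g * y := by group
    refine mem_of_restr_mem S.2 (group_isSaturated S) hEsat hsub hQS hcent
      (autHom_mem F le_rfl ?_) ?_
    · rw [hF, autGroup_group le_rfl]
      exact conjAut_mem_autInducedBy (Subgroup.mem_top h) hhS
    · have e : restr hQS (autHom (conjAut hhS)) = autHom (conjAut hn) := MonoidHom.ext fun _ => rfl
      rw [e]
      exact autHom_mem E hQS hβ
  intro φ hφ
  obtain ⟨α, hα, φ₀, hφ₀, h0⟩ := hfr P hφ.1 φ hφ
  rw [hF, autGroup_group le_rfl, mem_autInducedBy_iff_conjAut] at hα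
  obtain ⟨g, hn, -, rfl⟩ := hα
  obtain ⟨hn', hgE⟩ : g ∈ K :=
    (Subgroup.closure_le _).2 (Set.union_subset hSK hgood) (hgen hn)
  exact mem_of_comp E hφ₀ (autHom_mem E le_rfl hgE) (apply_mem hφ₀)
    fun x => h0 x (apply_mem hφ₀ x)

/-- The criterion transported along an isomorphism to any Sylow subgroup. -/
theorem isSimple_of_localCriterion' [Finite G] {G' : Type*} [Group G'] [Finite G'] (e : G ≃* G')
    (S₀ : Sylow p G) (hS : (S₀ : Subgroup G) ≠ ⊥) (hcl : ClosedTrivial (S₀ : Subgroup G))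
    (hgen : Subgroup.normalizer ((S₀ : Subgroup G) : Set G) ≤
      Subgroup.closure (((S₀ : Subgroup G) : Set G) ∪ LocalGood (S₀ : Subgroup G)))
    (S : Sylow p G') : (groupFusionSystem (S : Subgroup G')).IsSimple p := by
  set T : Sylow p G' := S₀.mapSurjective (f := e.toMonoidHom) e.surjective with hT
  obtain ⟨g, hg⟩ := MulAction.exists_smul_eq G' T S
  set f : G ≃* G' := e.trans (MulAut.conj g) with hf
  have key : (S : Subgroup G') = (S₀ : Subgroup G).map f.toMonoidHom := by
    rw [← hg, Sylow.coe_subgroup_smul, hT]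
    show MulAut.conj g • (S₀ : Subgroup G).map e.toMonoidHom = _
    ext x
    simp only [Subgroup.mem_map, Subgroup.mem_pointwise_smul_iff_inv_smul_mem, hf]
    constructor
    · rintro ⟨y, hy, hyx⟩
      exact ⟨y, hy, by
        show MulAut.conj g (e y) = x
        rw [show e y = (MulAut.conj g)⁻¹ • x from hyx]
        exact (MulAut.conj g).apply_symm_apply x⟩
    · rintro ⟨y, hy, rfl⟩
      exact ⟨y, hy, ((MulAut.conj g).symm_apply_apply (e y)).symm⟩
  have hmemN : ∀ (Q : Subgroup G) (x : G), x ∈ Subgroup.normalizer (Q : Set G) →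
      f x ∈ Subgroup.normalizer ((Q.map f.toMonoidHom : Subgroup G') : Set G') := fun Q x hx => by
    rw [← Subgroup.map_equiv_normalizer_eq Q f]
    exact Subgroup.mem_map_of_mem _ hx
  refine isSimple_of_localCriterion S ?_ ?_ ?_
  · rw [key, Ne, Subgroup.map_eq_bot_iff_of_injective _ f.injective]
    exact hS
  · rw [key]
    intro T hTS hT0 hc
    have e' : T = (T.comap f.toMonoidHom).map f.toMonoidHom :=
      (Subgroup.map_comap_eq_self_of_surjective f.surjective T).symm
    rw [e', hcl (T.comap f.toMonoidHom) ?_ ?_ ?_]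
    · intro x hx
      obtain ⟨y, hy, hyx⟩ := hTS hx
      rwa [← f.injective hyx]
    · intro h0
      apply hT0
      rw [e', h0, Subgroup.map_bot]
    · intro x hx a ha
      show f (a * x * a⁻¹) ∈ T
      rw [map_mul, map_mul, map_inv]
      exact hc _ hx (f a) ⟨a * x * a⁻¹, ha, by simp⟩
  · rw [key, ← Subgroup.map_equiv_normalizer_eq (S₀ : Subgroup G) f]
    refine (Subgroup.map_mono hgen).trans ?_
    rw [MonoidHom.map_closure, Set.image_union]
    refine Subgroup.closure_mono (Set.union_subset_union (le_of_eq (Subgroup.coe_map _ _).symm) ?_)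
    rintro _ ⟨h, ⟨hh, Q, hQS, hQc, hcl'⟩, rfl⟩
    refine ⟨hmemN _ h hh, Q.map f.toMonoidHom, Subgroup.map_mono hQS, ?_, ?_⟩
    · intro c hc
      refine ⟨f.symm c, hQc fun y hy => f.injective ?_, f.apply_symm_apply c⟩
      rw [map_mul, map_mul, f.apply_symm_apply]
      exact hc _ (Subgroup.mem_map_of_mem _ hy)
    · have h1 := Subgroup.mem_map_of_mem f.toMonoidHom hcl'
      rw [MonoidHom.map_closure] at h1
      refine Subgroup.closure_mono ?_ h1
      rintro _ ⟨x, ⟨a, ha, s, hs, hsn, rfl⟩, rfl⟩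
      exact ⟨f a, hmemN Q a ha, f s, Subgroup.mem_map_of_mem _ hs, hmemN Q s hsn, by
        show f (a * s * a⁻¹) = f a * f s * (f a)⁻¹
        rw [map_mul, map_mul, map_inv]⟩

end Cfsg.Agent.Lib.Fusion
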