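import Cfsg.Agent.Lib.Fusion.AltModel
import Cfsg.Agent.Lib.Fusion.SimpleCriterion2
import Cfsg.Agent.Lib.Solvable.Nilpotent
import Mathlib.GroupTheory.SpecificGroups.Alternating.Simple

/-!
Tools for the fusion systems of alternating groups: passing between the alternating and the
symmetric group, centralizers of the translations, and closed subgroups.
-/

set_option autoImplicit false
set_option linter.unusedSectionVars false

namespace Cfsg.Agent.Lib.Fusion.AltModel

open Equiv Equiv.Perm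

/-- Conjugates in `A ∩ N(Q)` of elements of `P ∩ N(Q)`. -/
def locSet {X : Type*} [Group X] (A P Q : Subgroup X) : Set X :=
  {x | ∃ g ∈ A, g ∈ Subgroup.normalizer (Q : Set X) ∧ ∃ s ∈ P, s ∈ Subgroup.normalizer (Q : Set X) ∧
    x = g * s * g⁻¹}

theorem conj_locSet {X : Type*} [Group X] {A P Q : Subgroup X} {g x : X} (hg : g ∈ A)
    (hgn : g ∈ Subgroup.normalizer (Q : Set X)) (hx : x ∈ Subgroup.closure (locSet A P Q)) :
    g * x * g⁻¹ ∈ Subgroup.closure (locSet A P Q) := by
  refine ((Subgroup.closure_le ((Subgroup.closure (locSet A P Q)).comap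
    (MulAut.conj g).toMonoidHom)).2 ?_ hx :)
  rintro _ ⟨a, ha, han, s, hs, hsn, rfl⟩
  exact Subgroup.subset_closure ⟨g * a, mul_mem hg ha, mul_mem hgn han, s, hs, hsn, by
    show g * (a * s * a⁻¹) * g⁻¹ = g * a * s * (g * a)⁻¹
    group⟩

/-- Closed subgroups, seen in the symmetric group. -/
theorem closedTrivial_subgroupOf {X : Type*} [Group X] {A P : Subgroup X} (hPA : P ≤ A)
    (h : ∀ T ≤ P, T ≠ ⊥ → (∀ x ∈ T, ∀ g ∈ A, g * x * g⁻¹ ∈ P → g * x * g⁻¹ ∈ T) → T = P) :
    ClosedTrivial (P.subgroupOf A) := by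
  intro T hT hT0 hc
  have h1 : T.map A.subtype = P := by
    refine h _ ?_ ?_ ?_
    · rintro _ ⟨x, hx, rfl⟩
      exact hT hx
    · rw [Ne, Subgroup.map_eq_bot_iff_of_injective _ Subtype.val_injective]
      exact hT0
    · rintro _ ⟨x, hx, rfl⟩ g hg hP
      exact ⟨_, hc x hx ⟨g, hg⟩ hP, rfl⟩
  refine le_antisymm hT fun x hx => ?_
  have hx' : (x : X) ∈ T.map A.subtype := by rw [h1]; exact hx
  obtain ⟨y, hy, e⟩ := hx'
  rwa [← Subtype.ext (a1 := y) (a2 := x) e]

/-- Good elements, seen in the symmetric group. -/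
theorem localGood_subgroupOf {X : Type*} [Group X] [Finite X] {A P Q : Subgroup X} (hPA : P ≤ A)
    (hQP : Q ≤ P) {h : X} (hA : h ∈ A) (hn : h ∈ Subgroup.normalizer (P : Set X))
    (hC : ∀ g ∈ A, (∀ q ∈ Q, q * g = g * q) → g ∈ Q)
    (hh : h ∈ Subgroup.closure (locSet A P Q)) :
    (⟨h, hA⟩ : A) ∈ LocalGood (P.subgroupOf A) := by
  have hnorm : ∀ (R : Subgroup X) (g : A), (g : X) ∈ Subgroup.normalizer (R : Set X) →
      g ∈ Subgroup.normalizer ((R.subgroupOf A : Subgroup A) : Set A) := fun R g hg =>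
    mem_normalizer_of_finite fun y hy => (Subgroup.mem_normalizer_iff.1 hg _).1 hy
  refine ⟨hnorm P _ hn, Q.subgroupOf A, fun x hx => hQP hx, ?_, ?_⟩
  · intro c hc
    exact hC c c.2 fun q hq => congrArg Subtype.val (hc ⟨q, hPA (hQP hq)⟩ hq)
  · have hle : Subgroup.closure (locSet A P Q) ≤
        (Subgroup.closure (localElts (P.subgroupOf A) (Q.subgroupOf A))).map A.subtype := by
      rw [Subgroup.closure_le]
      rintro _ ⟨g, hg, hgn, s, hs, hsn, rfl⟩
      exact ⟨⟨g, hg⟩ * ⟨s, hPA hs⟩ * ⟨g, hg⟩⁻¹, Subgroup.subset_closure ⟨⟨g, hg⟩, hnorm Q _ hgn,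
        ⟨s, hPA hs⟩, hs, hnorm Q _ hsn, rfl⟩, rfl⟩
    obtain ⟨y, hy, e⟩ := hle hh
    rwa [show (⟨h, hA⟩ : A) = y from Subtype.ext e.symm]

variable {p : ℕ} [Fact p.Prime] {ι R : Type} [Fintype ι] [DecidableEq ι] [Fintype R] [DecidableEq R]

set_option quotPrecheck false in
local notation "Pm" => Perm (Pt p ι R)

/-- The translations. -/
abbrev shSub : Subgroup (Perm (Pt p ι R)) := pmod (⊥ : Subgroup (Perm ι))

theorem mem_shSub {g : Pm} : g ∈ shSub (p := p) (ι := ι) (R := R) ↔ ∃ v, g = sh v := by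
  constructor
  · rintro ⟨v, π, hπ, rfl⟩
    exact ⟨v, by rw [Subgroup.mem_bot.1 hπ, map_one, mul_one]⟩
  · rintro ⟨v, rfl⟩
    exact sh_mem _ v

theorem shSub_le (Q : Subgroup (Perm ι)) : shSub (p := p) (R := R) ≤ pmod Q := fun g hg => by
  obtain ⟨v, rfl⟩ := mem_shSub.1 hg
  exact sh_mem Q v

theorem lift_normalizes_sh (π : Perm ι) :
    lift π ∈ Subgroup.normalizer ((shSub (p := p) (R := R) : Subgroup Pm) : Set Pm) :=
  mem_normalizer_of_finite fun x hx => by
    obtain ⟨v, rfl⟩ := mem_shSub.1 hx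
    rw [lift_conj_sh]
    exact sh_mem _ _

theorem sc_normalizes_sh (u : ι → (ZMod p)ˣ) :
    sc u ∈ Subgroup.normalizer ((shSub (p := p) (R := R) : Subgroup Pm) : Set Pm) :=
  mem_normalizer_of_finite fun x hx => by
    obtain ⟨v, rfl⟩ := mem_shSub.1 hx
    rw [sc_conj_sh]
    exact sh_mem _ _

theorem sh_normalizes_sh (v : ι → ZMod p) :
    sh v ∈ Subgroup.normalizer ((shSub (p := p) (R := R) : Subgroup Pm) : Set Pm) :=
  Subgroup.le_normalizer (sh_mem _ v)

theorem pmod_normalizes_sh {Q : Subgroup (Perm ι)} {g : Pm} (hg : g ∈ pmod Q) :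
    g ∈ Subgroup.normalizer ((shSub (p := p) (R := R) : Subgroup Pm) : Set Pm) := by
  obtain ⟨v, π, -, rfl⟩ := hg
  exact mul_mem (sh_normalizes_sh v) (lift_normalizes_sh π)

/-- A permutation commuting with enough translations is a translation. -/
theorem eq_sh_of_commute (hR : Fintype.card R ≤ 1) {g : Pm} (V : Set (ι → ZMod p))
    (hV : ∀ i : ι, ∀ z : ι × ZMod p, (∀ v ∈ V, v i ≠ 0 → v z.1 ≠ 0) → z.1 = i)
    (hV0 : ∀ i, ∃ v ∈ V, v i ≠ 0) (hVs : ∀ v ∈ V, ∀ c : ZMod p, c • v ∈ V)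
    (hg : ∀ v ∈ V, sh v * g = g * sh v) : ∃ w, g = sh w := by
  have hgz : ∀ v ∈ V, ∀ z, sh v (g z) = g (sh v z) := fun v hv z =>
    congrArg (fun σ : Pm => σ z) (hg v hv)
  have hblock : ∀ (i : ι) (a : ZMod p), ∃ b, g (Sum.inl (i, a)) = Sum.inl (i, b) := by
    intro i a
    rcases e : g (Sum.inl (i, a)) with ⟨j, b⟩ | r
    · refine ⟨b, ?_⟩
      have e1 : j = i := hV i (j, b) fun v hv hvi hvj => by
        have := hgz v hv (Sum.inl (i, a))
        rw [e, sh_inl, sh_inl, show v j = 0 from hvj, add_zero, ← e] at this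
        have h2 := g.injective this
        simp only [Sum.inl.injEq, Prod.mk.injEq, true_and] at h2
        exact hvi (left_eq_add.1 h2)
      rw [e1]
    · exfalso
      obtain ⟨v, hv, hvi⟩ := hV0 i
      have := hgz v hv (Sum.inl (i, a))
      rw [e, sh_inr, ← e, sh_inl] at this
      have h2 := g.injective this
      simp only [Sum.inl.injEq, Prod.mk.injEq, true_and] at h2
      exact hvi (left_eq_add.1 h2)
  choose b hb using hblock
  refine ⟨fun i => b i 0, ?_⟩
  have hba : ∀ i a, b i a = a + b i 0 := by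
    intro i a
    obtain ⟨v, hv, hvi⟩ := hV0 i
    have := hgz _ (hVs v hv (a / v i)) (Sum.inl (i, 0))
    rw [hb, sh_inl, sh_inl, Pi.smul_apply, smul_eq_mul, div_mul_cancel₀ a hvi, zero_add, hb] at this
    simp only [Sum.inl.injEq, Prod.mk.injEq, true_and] at this
    rw [← this, add_comm]
  ext (⟨i, a⟩ | r)
  · rw [hb, sh_inl, ← hba]
  · rw [sh_inr]
    rcases e : g (Sum.inr r) with ⟨j, c⟩ | r'
    · exfalso
      obtain ⟨c', hc'⟩ : ∃ c', c' + b j 0 = c := ⟨c - b j 0, sub_add_cancel _ _⟩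
      have h2 : g (Sum.inr r) = g (Sum.inl (j, c')) := by rw [e, hb, hba, hc']
      exact absurd (g.injective h2) (by simp)
    · haveI : Subsingleton R := Fintype.card_le_one_iff_subsingleton.1 hR
      rw [Subsingleton.elim r' r]

/-- Translations of single blocks suffice. -/
theorem eq_sh_of_commute_single (hR : Fintype.card R ≤ 1) {g : Pm}
    (hg : ∀ v : ι → ZMod p, sh v * g = g * sh v) : ∃ w, g = sh w :=
  eq_sh_of_commute hR Set.univ
    (fun i z h => by
      by_contra hne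
      exact h (Pi.single i 1) trivial (by simp) (Pi.single_eq_of_ne hne _))
    (fun i => ⟨Pi.single i 1, trivial, by simp⟩) (fun _ _ _ => trivial) fun v _ => hg v

theorem support_sh (v : ι → ZMod p) :
    (sh (R := R) v).support = ((Finset.univ.filter fun i => v i ≠ 0) ×ˢ Finset.univ).map
      Function.Embedding.inl := by
  ext (⟨i, a⟩ | r) <;> simp

theorem card_support_sh (v : ι → ZMod p) :
    (sh (R := R) v).support.card = (Finset.univ.filter fun i => v i ≠ 0).card * p := by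
  rw [support_sh, Finset.card_map, Finset.card_product, Finset.card_univ, ZMod.card]

/-- An element of prime order is conjugate in the symmetric group to a translation. -/
theorem exists_conj_sh (hR : Fintype.card R < p) {x : Pm} (hx : x ^ p = 1) :
    ∃ (g : Pm) (s : Finset ι),
      g * x * g⁻¹ = sh (fun i => if i ∈ s then (1 : ZMod p) else 0) := by
  by_cases hx1 : x = 1
  · refine ⟨1, ∅, ?_⟩
    subst hx1
    ext (⟨i, a⟩ | r) <;> simp
  have ho : orderOf x = p := orderOf_eq_prime hx hx1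
  obtain ⟨k, hk⟩ := cycleType_prime_order (by rw [ho]; exact (Fact.out : p.Prime))
  rw [ho] at hk
  have hle : k + 1 ≤ Fintype.card ι := by
    have h1 := sum_cycleType_le x
    rw [hk, Multiset.sum_replicate, smul_eq_mul, Fintype.card_sum, Fintype.card_prod, ZMod.card] at h1
    by_contra hcon
    have h2 : (Fintype.card ι + 1) * p ≤ (k + 1) * p := Nat.mul_le_mul_right p (by omega)
    rw [Nat.add_mul, one_mul] at h2
    omega
  obtain ⟨s, -, hs⟩ := Finset.exists_subset_card_eq
    (s := (Finset.univ : Finset ι)) (n := k + 1) (by rwa [Finset.card_univ])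
  set y : Pm := sh (fun i => if i ∈ s then (1 : ZMod p) else 0) with hy
  have hfil : (Finset.univ.filter fun i => (if i ∈ s then (1 : ZMod p) else 0) ≠ 0) = s := by
    ext i
    by_cases hi : i ∈ s <;> simp [hi]
  have hsupp := card_support_sh (R := R) (fun i => if i ∈ s then (1 : ZMod p) else 0)
  rw [hfil, hs] at hsupp
  have hy1 : y ≠ 1 := fun e => by
    rw [← hy, e, Perm.support_one, Finset.card_empty] at hsupp
    exact absurd hsupp.symm (Nat.mul_ne_zero (Nat.succ_ne_zero k) (Fact.out : p.Prime).ne_zero)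
  have hoy : orderOf y = p := orderOf_eq_prime (sh_pow_p _) hy1
  obtain ⟨k', hk'⟩ := cycleType_prime_order (σ := y) (by rw [hoy]; exact (Fact.out : p.Prime))
  rw [hoy] at hk'
  have hkk : k' + 1 = k + 1 := by
    have h1 := sum_cycleType y
    rw [hk', Multiset.sum_replicate, smul_eq_mul, ← hy] at *
    rw [hsupp] at h1
    exact Nat.eq_of_mul_eq_mul_right (Fact.out : p.Prime).pos h1
  obtain ⟨g, hg⟩ := isConj_iff.1 (isConj_iff_cycleType_eq.2 (hk.trans (by rw [hk', hkk])))
  exact ⟨g, s, hg⟩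

end Cfsg.Agent.Lib.Fusion.AltModel
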