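import Cfsg.Agent.Lib.Fusion.AltNormalizer

/-!
An element of each determinant in the normalizer of a Sylow subgroup of the alternating group, good
for the simplicity criterion: a product of transvections on the blocks of blocks of one orbit.
-/

set_option autoImplicit false
set_option linter.unusedSectionVars false

namespace Cfsg.Agent.Lib.Fusion.AltModel

attribute [-simp] ZMod.inv_coe_unit

open Equiv Equiv.Perm

variable {p : ℕ} [Fact p.Prime] {J R' R : Type} [Fintype J] [DecidableEq J] [Fintype R']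
  [DecidableEq R'] [Fintype R] [DecidableEq R]

set_option quotPrecheck false in
local notation "Pm" => Perm (Pt p (Pt p J R') R)

/-- Functions constant on the blocks of blocks. -/
def cstV (d : J → ZMod p) : Pt p J R' → ZMod p := Sum.elim (fun z => d z.1) 0

/-- Functions linear on the blocks of blocks. -/
def linV (d : J → ZMod p) : Pt p J R' → ZMod p := Sum.elim (fun z => d z.1 * z.2) 0

@[simp] theorem cstV_inl (d : J → ZMod p) (i : J) (y : ZMod p) :
    cstV (R' := R') d (Sum.inl (i, y)) = d i := rfl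

@[simp] theorem cstV_inr (d : J → ZMod p) (r : R') : cstV d (Sum.inr r) = 0 := rfl

@[simp] theorem linV_inl (d : J → ZMod p) (i : J) (y : ZMod p) :
    linV (R' := R') d (Sum.inl (i, y)) = d i * y := rfl

@[simp] theorem linV_inr (d : J → ZMod p) (r : R') : linV d (Sum.inr r) = 0 := rfl

/-- Exchange of the two coordinates on the blocks of blocks over `O`. -/
def swapFun (O : Finset J) : Pt p (Pt p J R') R → Pt p (Pt p J R') R
  | Sum.inl (Sum.inl (i, y), a) => if i ∈ O then Sum.inl (Sum.inl (i, a), y) else Sum.inl (Sum.inl (i, y), a)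
  | z => z

theorem swapFun_involutive (O : Finset J) :
    Function.Involutive (swapFun (p := p) (R' := R') (R := R) O) := by
  rintro (⟨⟨i, y⟩ | r', a⟩ | r)
  · by_cases h : i ∈ O <;> simp [swapFun, h]
  · rfl
  · rfl

/-- Exchange of the two coordinates, as a permutation. -/
def swapC (O : Finset J) : Pm := (swapFun_involutive O).toPerm _

@[simp] theorem swapC_mem {O : Finset J} {i : J} (h : i ∈ O) (y a : ZMod p) :
    swapC (R' := R') (R := R) O (Sum.inl (Sum.inl (i, y), a)) = Sum.inl (Sum.inl (i, a), y) := by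
  simp [swapC, swapFun, h]

@[simp] theorem swapC_not_mem {O : Finset J} {i : J} (h : i ∉ O) (y a : ZMod p) :
    swapC (R' := R') (R := R) O (Sum.inl (Sum.inl (i, y), a)) = Sum.inl (Sum.inl (i, y), a) := by
  simp [swapC, swapFun, h]

@[simp] theorem swapC_inner (O : Finset J) (r : R') (a : ZMod p) :
    swapC (R := R) O (Sum.inl (Sum.inr r, a)) = (Sum.inl (Sum.inr r, a) : Pt p (Pt p J R') R) := rfl

@[simp] theorem swapC_inr (O : Finset J) (r : R) :
    swapC O (Sum.inr r) = (Sum.inr r : Pt p (Pt p J R') R) := rfl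

theorem swapC_mul_self (O : Finset J) : swapC (p := p) (R' := R') (R := R) O * swapC O = 1 :=
  Equiv.ext fun z => swapFun_involutive O z

/-- The lower transvections. -/
def lowT (O : Finset J) (d : J → ZMod p) : Pm := swapC O * sh (linV d) * swapC O

theorem lift_sh_comm (O : Finset J) {b : J → ZMod p} {c : Pt p J R' → ZMod p}
    (hb : ∀ i ∉ O, b i = 0) (hc : ∀ i ∈ O, ∀ y, c (Sum.inl (i, y)) = c (Sum.inl (i, 0))) :
    lift (R := R) (sh b) * sh c = sh c * lift (sh b) := by
  rw [lift_sh]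
  congr 2
  funext z
  rw [← sh_neg]
  rcases z with ⟨i, y⟩ | r
  · by_cases h : i ∈ O
    · rw [sh_inl, hc i h, hc i h y]
    · rw [sh_inl, Pi.neg_apply, hb i h, neg_zero, add_zero]
  · rw [sh_inr]

/-- The two translations of the blocks of blocks over `O`. -/
def planeSub (O : Finset J) : Subgroup Pm where
  carrier := {g | ∃ (b : J → ZMod p) (c : Pt p J R' → ZMod p), (∀ i ∉ O, b i = 0) ∧
    (∀ i ∈ O, ∀ y, c (Sum.inl (i, y)) = c (Sum.inl (i, 0))) ∧ g = sh c * lift (sh b)}
  one_mem' := ⟨0, 0, fun _ _ => rfl, fun _ _ _ => rfl, by rw [sh_zero, sh_zero, map_one, one_mul]⟩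
  mul_mem' := by
    rintro _ _ ⟨b, c, hb, hc, rfl⟩ ⟨b', c', hb', hc', rfl⟩
    refine ⟨b + b', c + c', fun i hi => ?_, fun i hi y => ?_, ?_⟩
    · rw [Pi.add_apply, hb i hi, hb' i hi, add_zero]
    · rw [Pi.add_apply, Pi.add_apply, hc i hi, hc' i hi]
    · rw [sh_add, sh_add, map_mul]
      calc sh c * lift (sh b) * (sh c' * lift (sh b'))
          = sh c * (lift (sh b) * sh c') * lift (sh b') := by group
        _ = sh c * (sh c' * lift (sh b)) * lift (sh b') := by rw [lift_sh_comm O hb hc']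
        _ = _ := by group
  inv_mem' := by
    rintro _ ⟨b, c, hb, hc, rfl⟩
    refine ⟨-b, -c, fun i hi => ?_, fun i hi y => ?_, ?_⟩
    · rw [Pi.neg_apply, hb i hi, neg_zero]
    · rw [Pi.neg_apply, Pi.neg_apply, hc i hi]
    · rw [sh_neg, sh_neg, map_inv, ← mul_inv_rev, lift_sh_comm O hb hc]

theorem sh_mem_plane {O : Finset J} {c : Pt p J R' → ZMod p}
    (hc : ∀ i ∈ O, ∀ y, c (Sum.inl (i, y)) = c (Sum.inl (i, 0))) :
    sh c ∈ planeSub (R := R) O :=
  ⟨0, c, fun _ _ => rfl, hc, by rw [sh_zero, map_one, mul_one]⟩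

theorem lift_mem_plane {O : Finset J} {b : J → ZMod p} (hb : ∀ i ∉ O, b i = 0) :
    lift (sh b) ∈ planeSub (R' := R') (R := R) O :=
  ⟨b, 0, hb, fun _ _ _ => rfl, by rw [sh_zero, one_mul]⟩

theorem normalizes_plane {O : Finset J} {g : Pm}
    (h1 : ∀ c : Pt p J R' → ZMod p, (∀ i ∈ O, ∀ y, c (Sum.inl (i, y)) = c (Sum.inl (i, 0))) →
      g * sh c * g⁻¹ ∈ planeSub O)
    (h2 : ∀ b : J → ZMod p, (∀ i ∉ O, b i = 0) → g * lift (sh b) * g⁻¹ ∈ planeSub O) :
    g ∈ Subgroup.normalizer ((planeSub (p := p) (R' := R') (R := R) O : Subgroup Pm) : Set Pm) :=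
  mem_normalizer_of_finite fun x hx => by
    obtain ⟨b, c, hb, hc, rfl⟩ := hx
    rw [show g * (sh c * lift (sh b)) * g⁻¹ = (g * sh c * g⁻¹) * (g * lift (sh b) * g⁻¹) by group]
    exact mul_mem (h1 c hc) (h2 b hb)

theorem linV_normalizes (O : Finset J) (d : J → ZMod p) :
    sh (linV d) ∈ Subgroup.normalizer
      ((planeSub (p := p) (R' := R') (R := R) O : Subgroup Pm) : Set Pm) := by
  refine normalizes_plane (fun c hc => ?_) fun b hb => ?_
  · rw [← sh_add, add_comm, sh_add, mul_inv_cancel_right]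
    exact sh_mem_plane hc
  · have e : sh (linV d) * lift (sh b) = sh (cstV (fun i => d i * b i)) * lift (sh b) *
        sh (R := R) (linV (R' := R') d) := by
      ext (⟨⟨i, y⟩ | r', a⟩ | r) <;> simp [Perm.mul_apply] <;> ring
    rw [e, mul_inv_cancel_right]
    exact mul_mem (sh_mem_plane fun i _ y => rfl) (lift_mem_plane hb)

theorem swapC_normalizes (O : Finset J) :
    swapC O ∈ Subgroup.normalizer
      ((planeSub (p := p) (R' := R') (R := R) O : Subgroup Pm) : Set Pm) := by
  refine normalizes_plane (fun c hc => ?_) fun b hb => ?_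
  · set b' : J → ZMod p := fun i => if i ∈ O then c (Sum.inl (i, 0)) else 0 with hb'
    set c' : Pt p J R' → ZMod p :=
      Sum.elim (fun z => if z.1 ∈ O then 0 else c (Sum.inl z)) (fun r => c (Sum.inr r)) with hc'
    have e : swapC (R := R) O * sh c = sh c' * lift (sh b') * swapC O := by
      ext (⟨⟨i, y⟩ | r', a⟩ | r)
      · by_cases h : i ∈ O
        · simp [hb', hc', Perm.mul_apply, h, hc i h y]
        · simp [hb', hc', Perm.mul_apply, h]
      · simp [hc', Perm.mul_apply]
      · simp [Perm.mul_apply]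
    rw [e, mul_inv_cancel_right]
    refine mul_mem (sh_mem_plane fun i hi y => ?_) (lift_mem_plane fun i hi => ?_)
    · simp [hc', hi]
    · simp [hb', hi]
  · have e : swapC (R := R) O * lift (sh b) = sh (cstV b) * swapC (R' := R') O := by
      ext (⟨⟨i, y⟩ | r', a⟩ | r)
      · by_cases h : i ∈ O
        · simp [Perm.mul_apply, h]
        · simp [Perm.mul_apply, h, hb i h]
      · simp [Perm.mul_apply]
      · simp [Perm.mul_apply]
    rw [e, mul_inv_cancel_right]
    exact sh_mem_plane fun i _ y => rfl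

/-- The centralizer of the plane subgroup. -/
theorem plane_centralizer (hR : Fintype.card R ≤ 1) (O : Finset J) {g : Pm}
    (hg : ∀ q ∈ planeSub O, q * g = g * q) : g ∈ planeSub O := by
  classical
  have hgz : ∀ q ∈ planeSub O, ∀ z, q (g z) = g (q z) := fun q hq z =>
    congrArg (fun σ : Pm => σ z) (hg q hq)
  have hmove : ∀ (v : Pt p J R' → ZMod p), sh (R := R) v ∈ planeSub O → ∀ β x, v β ≠ 0 →
      ∃ β' x', v β' ≠ 0 ∧ g (Sum.inl (β, x)) = Sum.inl (β', x') := by
    intro v hv β x hβ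
    have h := hgz _ hv (Sum.inl (β, x))
    rw [sh_inl] at h
    rcases e : g (Sum.inl (β, x)) with ⟨β', x'⟩ | r
    · refine ⟨β', x', fun h0 => ?_, rfl⟩
      rw [e, sh_inl, h0, add_zero, ← e] at h
      exact hβ (by simpa using g.injective h)
    · rw [e, sh_inr, ← e] at h
      exact absurd (by simpa using g.injective h) hβ
  -- the blocks outside `O`
  have hout : ∀ β : Pt p J R', (∀ i ∈ O, ∀ y, β ≠ Sum.inl (i, y)) →
      ∃ c, ∀ x, g (Sum.inl (β, x)) = Sum.inl (β, x + c) := by
    intro β hβ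
    have hs : ∀ x : ZMod p, sh (R := R) (Pi.single β x) ∈ planeSub O := fun x =>
      sh_mem_plane fun i hi y => by
        rw [Pi.single_eq_of_ne (hβ i hi y).symm, Pi.single_eq_of_ne (hβ i hi 0).symm]
    obtain ⟨β', c, hβ', e⟩ := hmove _ (hs 1) β 0 (by simp)
    obtain rfl : β' = β := by
      by_contra h
      exact hβ' (Pi.single_eq_of_ne h _)
    refine ⟨c, fun x => ?_⟩
    have h := hgz _ (hs x) (Sum.inl (β', 0))
    rw [e, sh_inl, sh_inl, Pi.single_eq_same, zero_add] at h
    rw [← h, add_comm]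
  -- the blocks of blocks over `O`
  have hin : ∀ i ∈ O, ∃ t c, ∀ y x, g (Sum.inl (Sum.inl (i, y), x)) =
      Sum.inl (Sum.inl (i, y + t), x + c) := by
    intro i hi
    have hd : ∀ x : ZMod p, sh (R := R) (cstV (R' := R') (Pi.single i x)) ∈ planeSub O := fun x =>
      sh_mem_plane fun _ _ _ => rfl
    obtain ⟨β', c, hβ', e⟩ := hmove _ (hd 1) (Sum.inl (i, 0)) 0 (by simp)
    rcases β' with ⟨j, t⟩ | r
    · obtain rfl : j = i := by
        by_contra h
        exact hβ' (by simp [h])
      refine ⟨t, c, fun y x => ?_⟩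
      have hq : sh (cstV (Pi.single j x)) * lift (sh (Pi.single j y)) ∈ planeSub (R := R) O :=
        mul_mem (hd x) (lift_mem_plane fun k hk => Pi.single_eq_of_ne (fun e => hk (by rw [e]; exact hi)) _)
      have h := hgz _ hq (Sum.inl (Sum.inl (j, 0), 0))
      rw [e] at h
      simp only [Perm.mul_apply, lift_inl, sh_inl, cstV_inl, Pi.single_eq_same, zero_add] at h
      rw [← h, add_comm c, add_comm t]
    · exact absurd (cstV_inr _ r) hβ'
  choose co hco using hout
  choose ti ci hci using hin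
  let b : J → ZMod p := fun i => if h : i ∈ O then ti i h else 0
  let c : Pt p J R' → ZMod p :=
    Sum.elim (fun z => if h : z.1 ∈ O then ci z.1 h
        else co (Sum.inl z) (fun i hi y e => h (by cases e; exact hi)))
      (fun r => co (Sum.inr r) (fun i _ y => Sum.inr_ne_inl))
  have hb : ∀ i ∉ O, b i = 0 := fun i hi => dif_neg hi
  have hc : ∀ i ∈ O, ∀ y, c (Sum.inl (i, y)) = c (Sum.inl (i, 0)) := fun i hi y => by
    simp [c, hi]
  have hinl : ∀ z, g (Sum.inl z) = (sh c * lift (sh b) : Pm) (Sum.inl z) := by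
    rintro ⟨⟨i, y⟩ | r', x⟩
    · by_cases h : i ∈ O
      · rw [hci i h]
        simp [Perm.mul_apply, b, c, h]
      · rw [hco (Sum.inl (i, y)) fun j hj y' e => h (by cases e; exact hj)]
        simp [Perm.mul_apply, b, c, h]
    · rw [hco (Sum.inr r') fun _ _ _ => Sum.inr_ne_inl]
      simp [Perm.mul_apply, b, c]
  set q : Pm := sh c * lift (sh b) with hq
  refine ⟨b, c, hb, hc, ?_⟩
  ext (z | r)
  · exact hinl z
  · rcases e : g (Sum.inr r) with w | r'
    · exfalso
      obtain ⟨z', hz'⟩ := q.surjective (Sum.inl w)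
      rcases z' with z | r''
      · rw [← hinl z, ← e] at hz'
        simpa using g.injective hz'
      · simp [hq, Perm.mul_apply] at hz'
    · haveI : Subsingleton R := Fintype.card_le_one_iff_subsingleton.1 hR
      rw [Subsingleton.elim r' r]
      simp [hq, Perm.mul_apply]

theorem units_pow_pp (a : (ZMod p)ˣ) : ∀ k : ℕ, a ^ p ^ k = a := fun k =>
  Units.ext (by rw [Units.val_pow_eq_pow_val, ZMod.pow_card_pow])

theorem orbit_finset (Q : Subgroup (Perm J)) (hQ : IsPGroup p Q) (j : J) :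
    ∃ (O : Finset J) (k : ℕ), O.card = p ^ k ∧ j ∈ O ∧ ∀ π ∈ Q, ∀ i, π i ∈ O ↔ i ∈ O := by
  classical
  obtain ⟨k, hk⟩ := hQ.card_orbit (α := J) j
  refine ⟨(MulAction.orbit Q j).toFinset, k, ?_, by simp, fun π hπ i => ?_⟩
  · rw [Set.toFinset_card, ← hk, Nat.card_eq_fintype_card]
  · simp only [Set.mem_toFinset]
    exact MulAction.mem_orbit_iff.trans ⟨fun ⟨m, hm⟩ => MulAction.mem_orbit_iff.2
      ⟨⟨π, hπ⟩⁻¹ * m, by rw [mul_smul, hm]; exact π.symm_apply_apply i⟩,
      fun h => by
        obtain ⟨m, hm⟩ := MulAction.mem_orbit_iff.1 h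
        exact ⟨⟨π, hπ⟩ * m, by rw [mul_smul, hm]; rfl⟩⟩

/-- **The good element.** -/
theorem exists_good (hp : Odd p) (hR : Fintype.card R ≤ 1) (j₀ : J) (Q : Sylow p (Perm J))
    (a : (ZMod p)ˣ) :
    ∃ (τ : Perm (Pt p J R')) (u : Pt p J R' → (ZMod p)ˣ), ∏ i, u i = a ∧
      Perm.sign (lift τ * sc (R := R) u) = 1 ∧
      lift τ * sc (R := R) u ∈ Subgroup.normalizer
        ((pmod (R := R) (pmod (R := R') (Q : Subgroup (Perm J))) : Subgroup Pm) : Set Pm) ∧
      ∃ K ≤ pmod (R := R) (pmod (R := R') (Q : Subgroup (Perm J))),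
        (∀ g : Pm, (∀ q ∈ K, q * g = g * q) → g ∈ K) ∧
        lift τ * sc (R := R) u ∈ Subgroup.closure (locSet (alternatingGroup (Pt p (Pt p J R') R))
          (pmod (R := R) (pmod (R := R') (Q : Subgroup (Perm J)))) K) := by
  classical
  obtain ⟨O, k, hOc, hj₀, hO⟩ := orbit_finset (Q : Subgroup (Perm J)) Q.isPGroup' j₀
  set P : Subgroup Pm := pmod (R := R) (pmod (R := R') (Q : Subgroup (Perm J))) with hP
  set K : Subgroup Pm := planeSub O with hK
  have hKP : K ≤ P := by
    rintro _ ⟨b, c, -, -, rfl⟩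
    exact ⟨c, sh b, sh_mem _ b, rfl⟩
  let W0 : J → (ZMod p)ˣ := fun i => if i ∈ O then a⁻¹ else 1
  let V0 : J → (ZMod p)ˣ := fun i => if i ∈ O then a else 1
  let U0 : Pt p J R' → (ZMod p)ˣ := Sum.elim (fun z => V0 z.1) 1
  set τ : Perm (Pt p J R') := sc W0 with hτ
  have hprod : ∏ i, U0 i = a := by
    rw [Fintype.prod_sum_type, Fintype.prod_prod_type]
    simp only [U0, Sum.elim_inl, Sum.elim_inr, Pi.one_apply, Finset.prod_const_one, mul_one,
      Finset.prod_const, Finset.card_univ, ZMod.card]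
    simp only [V0]
    rw [Finset.prod_pow, Finset.prod_ite_mem, Finset.univ_inter, Finset.prod_const, hOc, ← pow_mul,
      ← pow_succ, units_pow_pp]
  have hsign : Perm.sign (lift τ * sc (R := R) U0) = 1 := by
    rw [map_mul, sign_lift, units_pow_odd hp, hτ, sign_sc, sign_sc, hprod]
    simp only [W0]
    rw [Finset.prod_ite_mem, Finset.univ_inter, Finset.prod_const, hOc, units_pow_pp, ← map_mul,
      inv_mul_cancel, map_one]
  refine ⟨τ, U0, hprod, hsign, ?_, K, hKP, fun g hg => plane_centralizer hR O hg, ?_⟩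
  · refine mem_normalizer_of_finite fun x hx => ?_
    obtain ⟨v, q, ⟨b, π, hπ, rfl⟩, rfl⟩ := hx
    have hU : (fun z : Pt p J R' => U0 (((sh b * lift π)⁻¹ : Perm (Pt p J R')) z)) = U0 := by
      funext z
      rw [mul_inv_rev, ← sh_neg, ← map_inv, Perm.mul_apply]
      rcases z with ⟨i, y⟩ | r
      · simp only [sh_inl, lift_inl, U0, V0, Sum.elim_inl, hO _ (inv_mem hπ) i]
      · rw [sh_inr, lift_inr]
    have hq : τ * (sh b * lift π) * τ⁻¹ = sh (fun i => (W0 i : ZMod p) * b i) * lift π := by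
      have hW : (fun i => W0 (π⁻¹ i)) = W0 := funext fun i => by
        simp only [W0, hO _ (inv_mem hπ) i]
      have e := lift_conj_sc (R := R') π W0
      rw [hW, mul_inv_eq_iff_eq_mul] at e
      rw [hτ, ← sc_conj_sh]
      calc sc W0 * (sh b * lift π) * (sc W0)⁻¹
          = sc W0 * sh b * (sc W0)⁻¹ * (sc W0 * lift π * (sc W0)⁻¹) := by group
        _ = _ := by rw [← e, mul_inv_cancel_right]
    have hl : sc U0 * lift (R := R) (sh b * lift π) * (sc U0)⁻¹ = lift (sh b * lift π) := by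
      have e := lift_conj_sc (R := R) (sh b * lift π) U0
      rw [hU, mul_inv_eq_iff_eq_mul] at e
      rw [mul_inv_eq_iff_eq_mul, ← e]
    rw [show lift τ * sc U0 * (sh v * lift (sh b * lift π)) * (lift τ * sc U0)⁻¹ =
      (lift τ * (sc U0 * sh v * (sc U0)⁻¹) * (lift τ)⁻¹) *
        (lift τ * (sc U0 * lift (sh b * lift π) * (sc U0)⁻¹) * (lift (R := R) τ)⁻¹) by group,
      hl, sc_conj_sh, lift_conj_sh, ← map_inv lift τ, ← map_mul lift, ← map_mul lift, hq]
    exact mul_mem (sh_mem _ _) (lift_mem _ (mul_mem (sh_mem _ _) (lift_mem _ hπ)))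
  -- the transvections
  set N : Subgroup Pm := Subgroup.closure (locSet (alternatingGroup (Pt p (Pt p J R') R)) P K) with hN
  have hU : ∀ d : J → ZMod p, sh (linV d) ∈ N := fun d =>
    Subgroup.subset_closure ⟨1, one_mem _, one_mem _, _, sh_mem _ _, linV_normalizes O d, by group⟩
  have hL : ∀ d : J → ZMod p, lowT O d ∈ N := by
    intro d
    rcases Int.units_eq_one_or (Perm.sign (swapC (p := p) (R' := R') (R := R) O)) with hs | hs
    · exact Subgroup.subset_closure ⟨_, Perm.mem_alternatingGroup.2 hs, swapC_normalizes O, _,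
        sh_mem _ _, linV_normalizes O d, by
          rw [lowT, inv_eq_of_mul_eq_one_right (swapC_mul_self O)]⟩
    · obtain ⟨δ, hδ⟩ := exists_eps_neg (p := p) hp
      let e : J → (ZMod p)ˣ := fun i => if i = j₀ then δ else 1
      let uD : Pt p J R' → (ZMod p)ˣ := Sum.elim (fun z => e z.1) 1
      have hD : Perm.sign (sc (R := R) uD) = -1 := by
        rw [sign_sc, Fintype.prod_sum_type, Fintype.prod_prod_type]
        simp only [uD, Sum.elim_inl, Sum.elim_inr, Pi.one_apply, Finset.prod_const_one, mul_one,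
          Finset.prod_const, Finset.card_univ, ZMod.card]
        simp only [e]
        rw [Finset.prod_pow, Finset.prod_ite_eq', if_pos (Finset.mem_univ _), map_pow, hδ,
          hp.neg_one_pow]
      refine Subgroup.subset_closure ⟨swapC O * sc uD, Perm.mem_alternatingGroup.2
        (by rw [map_mul, hs, hD]; rfl), mul_mem (swapC_normalizes O) ?_, _,
        sh_mem _ (linV fun i => (((e i)⁻¹ : (ZMod p)ˣ) : ZMod p) * d i), linV_normalizes O _, ?_⟩
      · refine normalizes_plane (fun c hc => ?_) fun b hb => ?_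
        · rw [sc_conj_sh]
          exact sh_mem_plane fun i hi y => by simp [uD, hc i hi y]
        · have h1 := lift_conj_sc (R := R) (sh b) uD
          rw [show (fun z => uD ((sh b)⁻¹ z)) = uD by
            funext z
            rw [← sh_neg]
            rcases z with ⟨i, y⟩ | r <;> simp [uD], mul_inv_eq_iff_eq_mul] at h1
          rw [show sc uD * lift (sh b) * (sc (R := R) uD)⁻¹ = lift (sh b) by
            rw [mul_inv_eq_iff_eq_mul, ← h1]]
          exact lift_mem_plane hb
      · rw [show swapC O * sc uD * sh (linV fun i => (((e i)⁻¹ : (ZMod p)ˣ) : ZMod p) * d i) *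
          (swapC O * sc uD)⁻¹ = swapC O *
            (sc uD * sh (linV fun i => (((e i)⁻¹ : (ZMod p)ˣ) : ZMod p) * d i) * (sc uD)⁻¹) *
            (swapC (R := R) O)⁻¹ by group, sc_conj_sh,
          inv_eq_of_mul_eq_one_right (swapC_mul_self O), lowT]
        congr 3
        funext z
        rcases z with ⟨i, y⟩ | r
        · simp [uD, ← mul_assoc]
        · simp
  let cO : ZMod p → J → ZMod p := fun s i => if i ∈ O then s else 0
  let wy : ZMod p → Pm := fun s =>
    sh (linV (cO s)) * lowT O (cO (-s⁻¹)) * sh (linV (cO s))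
  have hwy : ∀ s, wy s ∈ N := fun s => mul_mem (mul_mem (hU _) (hL _)) (hU _)
  suffices e : lift τ * sc U0 = wy (a : ZMod p) * wy (-1) by
    rw [e]
    exact mul_mem (hwy _) (hwy _)
  have hw1 : ∀ (s : ZMod p), s ≠ 0 → ∀ i ∈ O, ∀ y x,
      wy s (Sum.inl (Sum.inl (i, y), x)) = Sum.inl (Sum.inl (i, -x * s⁻¹), s * y) := by
    intro s hs i hi y x
    simp only [wy, lowT, Perm.mul_apply, sh_inl, linV_inl, swapC_mem hi, cO, hi, if_true]
    congr 3
    · field_simp
      ring
    · field_simp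
      ring
  have hw0 : ∀ (s : ZMod p), ∀ i ∉ O, ∀ y x,
      wy s (Sum.inl (Sum.inl (i, y), x)) = Sum.inl (Sum.inl (i, y), x) := by
    intro s i hi y x
    simp [wy, lowT, Perm.mul_apply, swapC_not_mem hi, cO, hi]
  ext (⟨⟨i, y⟩ | r', x⟩ | r)
  · by_cases hi : i ∈ O
    · rw [Perm.mul_apply, Perm.mul_apply, hw1 _ (neg_ne_zero.2 one_ne_zero) i hi, hw1 _ a.ne_zero i hi,
        sc_inl, lift_inl, hτ, sc_inl]
      simp only [U0, V0, W0, Sum.elim_inl, hi, if_true, Units.val_inv_eq_inv_val]
      congr 3 <;> simp [mul_comm]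
    · rw [Perm.mul_apply, Perm.mul_apply, hw0 _ i hi, hw0 _ i hi, sc_inl, lift_inl, hτ, sc_inl]
      simp [U0, V0, W0, hi]
  · simp [wy, lowT, Perm.mul_apply, U0, hτ]
  · simp [wy, lowT, Perm.mul_apply]

end Cfsg.Agent.Lib.Fusion.AltModel
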