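import Mathlib.GroupTheory.Perm.Cycle.Type
import Mathlib.GroupTheory.SpecificGroups.Alternating
import Mathlib.GroupTheory.Sylow
import Mathlib.NumberTheory.Padics.PadicVal.Basic
import Mathlib.FieldTheory.Finite.Basic

/-!
A model of the Sylow subgroups of symmetric groups: a Sylow subgroup of the group permuting the
blocks, extended by the translations of the blocks of size `p`.
-/

set_option autoImplicit false
set_option linter.unusedSectionVars false

namespace Cfsg.Agent.Lib.Fusion.AltModel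

open Equiv Equiv.Perm

/-- The points: blocks of size `p` and remaining points. -/
abbrev Pt (p : ℕ) (ι R : Type) : Type := ι × ZMod p ⊕ R

variable {p : ℕ} [Fact p.Prime] {ι R : Type} [Fintype ι] [DecidableEq ι] [Fintype R] [DecidableEq R]

/-- Permutations of the blocks. -/
def blk : (ι → Perm (ZMod p)) →* Perm (Pt p ι R) where
  toFun f := Equiv.sumCongr (Equiv.prodCongrRight f) (Equiv.refl R)
  map_one' := by ext (⟨i, a⟩ | r) <;> rfl
  map_mul' f g := by ext (⟨i, a⟩ | r) <;> rfl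

/-- Permutations of the set of blocks. -/
def lift : Perm ι →* Perm (Pt p ι R) where
  toFun π := Equiv.sumCongr (Equiv.prodCongrLeft fun _ : ZMod p => π) (Equiv.refl R)
  map_one' := by ext (⟨i, a⟩ | r) <;> rfl
  map_mul' f g := by ext (⟨i, a⟩ | r) <;> rfl

@[simp] theorem blk_inl (f : ι → Perm (ZMod p)) (i : ι) (a : ZMod p) :
    blk (R := R) f (Sum.inl (i, a)) = Sum.inl (i, f i a) := rfl

@[simp] theorem blk_inr (f : ι → Perm (ZMod p)) (r : R) :
    blk f (Sum.inr r) = (Sum.inr r : Pt p ι R) := rfl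

@[simp] theorem lift_inl (π : Perm ι) (i : ι) (a : ZMod p) :
    lift (R := R) π (Sum.inl (i, a)) = Sum.inl (π i, a) := rfl

@[simp] theorem lift_inr (π : Perm ι) (r : R) : lift π (Sum.inr r) = (Sum.inr r : Pt p ι R) := rfl

theorem lift_blk (π : Perm ι) (f : ι → Perm (ZMod p)) :
    lift (R := R) π * blk f = blk (fun i => f (π⁻¹ i)) * lift π := by
  ext (⟨i, a⟩ | r) <;> simp [Perm.mul_apply]

theorem lift_conj_blk (π : Perm ι) (f : ι → Perm (ZMod p)) :
    lift (R := R) π * blk f * (lift π)⁻¹ = blk (fun i => f (π⁻¹ i)) := by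
  rw [lift_blk, mul_inv_cancel_right]

theorem sign_blk (f : ι → Perm (ZMod p)) :
    Perm.sign (blk (R := R) f) = ∏ i, Perm.sign (f i) := by
  show Perm.sign (Equiv.sumCongr (Equiv.prodCongrRight f) (Equiv.refl R)) = _
  rw [sign_sumCongr, sign_prodCongrRight, Perm.sign_refl, mul_one]

theorem sign_lift (π : Perm ι) : Perm.sign (lift (p := p) (R := R) π) = Perm.sign π ^ p := by
  show Perm.sign (Equiv.sumCongr (Equiv.prodCongrLeft fun _ : ZMod p => π) (Equiv.refl R)) = _
  rw [sign_sumCongr, sign_prodCongrLeft, Perm.sign_refl, mul_one, Finset.prod_const,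
    Finset.card_univ, ZMod.card]

theorem units_pow_odd {p : ℕ} (hp : Odd p) (s : ℤˣ) : s ^ p = s := by
  rcases Int.units_eq_one_or s with rfl | rfl
  · exact one_pow p
  · exact hp.neg_one_pow

theorem blk_injective : Function.Injective (blk (p := p) (ι := ι) (R := R)) := fun f g h => by
  funext i
  ext a
  simpa using congrArg (fun σ : Perm (Pt p ι R) => σ (Sum.inl (i, a))) h

theorem lift_injective : Function.Injective (lift (p := p) (ι := ι) (R := R)) := fun f g h => by
  ext i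
  simpa using congrArg (fun σ : Perm (Pt p ι R) => σ (Sum.inl (i, 0))) h

/-! ### Translations and dilations -/

/-- Translations of the blocks. -/
def sh (v : ι → ZMod p) : Perm (Pt p ι R) := blk fun i => Equiv.addRight (v i)

@[simp] theorem sh_inl (v : ι → ZMod p) (i : ι) (a : ZMod p) :
    sh (R := R) v (Sum.inl (i, a)) = Sum.inl (i, a + v i) := rfl

@[simp] theorem sh_inr (v : ι → ZMod p) (r : R) : sh v (Sum.inr r) = (Sum.inr r : Pt p ι R) := rfl

theorem sh_zero : sh (R := R) (0 : ι → ZMod p) = 1 := by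
  ext (⟨i, a⟩ | r) <;> simp

theorem sh_add (v w : ι → ZMod p) : sh (R := R) (v + w) = sh v * sh w := by
  ext (⟨i, a⟩ | r) <;> simp [Perm.mul_apply] <;> ring

theorem sh_neg (v : ι → ZMod p) : sh (R := R) (-v) = (sh v)⁻¹ :=
  (inv_eq_of_mul_eq_one_right (by rw [← sh_add, add_neg_cancel, sh_zero])).symm

theorem sh_pow (v : ι → ZMod p) : ∀ k : ℕ, sh (R := R) v ^ k = sh (k • v)
  | 0 => by rw [pow_zero, zero_smul, sh_zero]
  | k + 1 => by rw [pow_succ, sh_pow v k, succ_nsmul, sh_add]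

theorem sh_pow_p (v : ι → ZMod p) : sh (R := R) v ^ p = 1 := by
  rw [sh_pow, ← sh_zero]
  congr 1
  funext i
  simp

theorem sh_injective : Function.Injective (sh (p := p) (ι := ι) (R := R)) := fun v w h => by
  funext i
  simpa using congrArg (fun σ : Perm (Pt p ι R) => σ (Sum.inl (i, 0))) h

theorem lift_sh (π : Perm ι) (v : ι → ZMod p) :
    lift (R := R) π * sh v = sh (fun i => v (π⁻¹ i)) * lift π := lift_blk π _

theorem lift_conj_sh (π : Perm ι) (v : ι → ZMod p) :
    lift (R := R) π * sh v * (lift π)⁻¹ = sh (fun i => v (π⁻¹ i)) := lift_conj_blk π _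

/-- Dilations of the blocks. -/
def sc : (ι → (ZMod p)ˣ) →* Perm (Pt p ι R) :=
  blk.comp
    { toFun := fun u i => (u i).mulLeft
      map_one' := by funext i; ext a; simp
      map_mul' := fun u w => by funext i; ext a; simp [Perm.mul_apply, mul_assoc] }

@[simp] theorem sc_inl (u : ι → (ZMod p)ˣ) (i : ι) (a : ZMod p) :
    sc (R := R) u (Sum.inl (i, a)) = Sum.inl (i, (u i : ZMod p) * a) := rfl

@[simp] theorem sc_inr (u : ι → (ZMod p)ˣ) (r : R) : sc u (Sum.inr r) = (Sum.inr r : Pt p ι R) := rfl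

theorem sc_conj_sh (u : ι → (ZMod p)ˣ) (v : ι → ZMod p) :
    sc (R := R) u * sh v * (sc u)⁻¹ = sh (fun i => (u i : ZMod p) * v i) := by
  rw [mul_inv_eq_iff_eq_mul]
  ext (⟨i, a⟩ | r) <;> simp [Perm.mul_apply, mul_add]

theorem lift_conj_sc (π : Perm ι) (u : ι → (ZMod p)ˣ) :
    lift (R := R) π * sc u * (lift π)⁻¹ = sc (fun i => u (π⁻¹ i)) := by
  rw [mul_inv_eq_iff_eq_mul]
  ext (⟨i, a⟩ | r) <;> simp [Perm.mul_apply]

/-- Multiplication by units. -/
def mulU : (ZMod p)ˣ →* Perm (ZMod p) where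
  toFun u := u.mulLeft
  map_one' := by ext a; simp
  map_mul' u w := by ext a; simp [Perm.mul_apply, mul_assoc]

/-- The sign of a dilation. -/
noncomputable def eps : (ZMod p)ˣ →* ℤˣ := Perm.sign.comp mulU

theorem sign_sc (u : ι → (ZMod p)ˣ) : Perm.sign (sc (R := R) u) = eps (∏ i, u i) := by
  rw [show sc (R := R) u = blk fun i => (u i).mulLeft from rfl, sign_blk, map_prod]
  rfl

theorem sign_sh_odd (hp : Odd p) (v : ι → ZMod p) : Perm.sign (sh (R := R) v) = 1 := by
  rw [← units_pow_odd hp (Perm.sign _), ← map_pow, sh_pow_p, map_one]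

theorem sign_eq_one_of_pow (hp : Odd p) {α : Type*} [Fintype α] [DecidableEq α] {g : Perm α}
    {k : ℕ} (h : g ^ p ^ k = 1) : Perm.sign g = 1 := by
  rw [← units_pow_odd (hp.pow (n := k)) (Perm.sign g), ← map_pow, h, map_one]

theorem exists_eps_neg (hp : Odd p) : ∃ δ : (ZMod p)ˣ, eps δ = -1 := by
  classical
  obtain ⟨δ, hδ⟩ := IsCyclic.exists_generator (α := (ZMod p)ˣ)
  have h2 : 2 < p := by
    have := (Fact.out : p.Prime).two_le
    obtain ⟨c, hc⟩ := hp
    omega
  have hδ1 : δ ≠ 1 := fun e => by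
    have h := orderOf_eq_card_of_forall_mem_zpowers hδ
    rw [e, orderOf_one, Nat.card_eq_fintype_card, ZMod.card_units] at h
    omega
  refine ⟨δ, ?_⟩
  show Perm.sign (δ.mulLeft : Perm (ZMod p)) = -1
  have hsupp : (δ.mulLeft : Perm (ZMod p)).support = Finset.univ.erase 0 := by
    ext a
    simp only [Perm.mem_support, Units.mulLeft_apply, Finset.mem_erase, Finset.mem_univ, and_true]
    refine ⟨fun h e => h (by rw [e, mul_zero]), fun h e => hδ1 (Units.ext ?_)⟩
    exact mul_right_cancel₀ h (e.trans (one_mul a).symm)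
  have hcyc : (δ.mulLeft : Perm (ZMod p)).IsCycle := by
    refine ⟨1, ?_, fun y hy => ?_⟩
    · simp only [Units.mulLeft_apply, mul_one, ne_eq]
      exact fun e => hδ1 (Units.ext e)
    · have hy0 : y ≠ 0 := fun e => hy (by simp [e])
      obtain ⟨k, hk⟩ := Subgroup.mem_zpowers_iff.1 (hδ (Units.mk0 y hy0))
      refine ⟨k, ?_⟩
      have e : ∀ j : ℤ, ((δ.mulLeft : Perm (ZMod p)) ^ j) 1 = ((δ ^ j : (ZMod p)ˣ) : ZMod p) := by
        intro j
        have h : (δ.mulLeft : Perm (ZMod p)) ^ j = mulU (δ ^ j) := (map_zpow mulU δ j).symm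
        rw [h]
        exact mul_one _
      rw [e, hk, Units.val_mk0]
  rw [hcyc.sign, hsupp, Finset.card_erase_of_mem (Finset.mem_univ _), Finset.card_univ, ZMod.card,
    Even.neg_one_pow]
  obtain ⟨c, hc⟩ := hp
  exact ⟨c, by omega⟩

/-! ### The model -/

/-- The translations, extended by a group permuting the blocks. -/
def pmod (Q : Subgroup (Perm ι)) : Subgroup (Perm (Pt p ι R)) where
  carrier := {g | ∃ v, ∃ π ∈ Q, g = sh v * lift π}
  one_mem' := ⟨0, 1, Q.one_mem, by rw [sh_zero, map_one, one_mul]⟩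
  mul_mem' := by
    rintro _ _ ⟨v, π, hπ, rfl⟩ ⟨w, ρ, hρ, rfl⟩
    refine ⟨v + fun i => w (π⁻¹ i), π * ρ, Q.mul_mem hπ hρ, ?_⟩
    rw [sh_add, map_mul, ← lift_conj_sh]
    group
  inv_mem' := by
    rintro _ ⟨v, π, hπ, rfl⟩
    refine ⟨fun i => (-v) (π⁻¹⁻¹ i), π⁻¹, Q.inv_mem hπ, ?_⟩
    rw [← lift_conj_sh, sh_neg, map_inv]
    group

theorem sh_mem (Q : Subgroup (Perm ι)) (v : ι → ZMod p) : sh v ∈ pmod (p := p) (R := R) Q :=
  ⟨v, 1, Q.one_mem, by rw [map_one, mul_one]⟩

theorem lift_mem (Q : Subgroup (Perm ι)) {π : Perm ι} (hπ : π ∈ Q) :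
    lift π ∈ pmod (p := p) (R := R) Q :=
  ⟨0, π, hπ, by rw [sh_zero, one_mul]⟩

theorem pair_injective {v w : ι → ZMod p} {π ρ : Perm ι}
    (h : sh (R := R) v * lift π = sh w * lift ρ) : v = w ∧ π = ρ := by
  have hπ : π = ρ := by
    ext i
    have h2 := congrArg (fun σ : Perm (Pt p ι R) => σ (Sum.inl (i, 0))) h
    simp only [Perm.mul_apply, lift_inl, sh_inl, Sum.inl.injEq, Prod.mk.injEq] at h2
    exact h2.1
  subst hπ
  exact ⟨sh_injective (mul_right_cancel h), rfl⟩

theorem card_pmod (Q : Subgroup (Perm ι)) :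
    Nat.card (pmod (p := p) (R := R) Q) = p ^ Fintype.card ι * Nat.card Q := by
  have e : Function.Bijective (fun x : (ι → ZMod p) × Q =>
      (⟨sh x.1 * lift x.2.1, x.1, x.2.1, x.2.2, rfl⟩ : pmod (p := p) (R := R) Q)) := by
    refine ⟨fun x y h => ?_, fun g => ?_⟩
    · obtain ⟨h1, h2⟩ := pair_injective (congrArg Subtype.val h)
      exact Prod.ext h1 (Subtype.ext h2)
    · obtain ⟨v, π, hπ, e⟩ := g.2
      exact ⟨(v, ⟨π, hπ⟩), Subtype.ext e.symm⟩
  rw [← Nat.card_eq_of_bijective _ e, Nat.card_prod, Nat.card_fun, Nat.card_zmod,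
    Nat.card_eq_fintype_card (α := ι)]

/-- The Sylow subgroup of the model. -/
noncomputable def sylowMod (hR : Fintype.card R < p) (Q : Sylow p (Perm ι)) :
    Sylow p (Perm (Pt p ι R)) :=
  Sylow.ofCard (pmod (Q : Subgroup (Perm ι))) (by
    rw [card_pmod, Sylow.card_eq_multiplicity, ← pow_add, Nat.card_perm, Nat.card_perm,
      Nat.card_sum, Nat.card_prod, Nat.card_zmod, Nat.factorization_def _ Fact.out,
      Nat.factorization_def _ Fact.out, Nat.card_eq_fintype_card (α := R),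
      Nat.card_eq_fintype_card (α := ι), mul_comm (Fintype.card ι) p,
      padicValNat_factorial_mul_add _ hR, padicValNat_factorial_mul, add_comm])

theorem coe_sylowMod (hR : Fintype.card R < p) (Q : Sylow p (Perm ι)) :
    (sylowMod (R := R) hR Q : Subgroup (Perm (Pt p ι R))) = pmod (Q : Subgroup (Perm ι)) :=
  Sylow.coe_ofCard _ _

/-- Conjugation invariance of a property of Sylow subgroups of symmetric groups. -/
theorem sylow_transfer {α β : Type} [Finite α] [Finite β] (e : α ≃ β) (Q : Sylow p (Perm α))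
    (P : Sylow p (Perm β)) :
    ∃ φ : Perm α ≃* Perm β, (Q : Subgroup (Perm α)).map φ.toMonoidHom = P := by
  set T : Sylow p (Perm β) :=
    Q.mapSurjective (f := e.permCongrHom.toMonoidHom) e.permCongrHom.surjective
  obtain ⟨g, hg⟩ := MulAction.exists_smul_eq (Perm β) T P
  refine ⟨e.permCongrHom.trans (MulAut.conj g), ?_⟩
  rw [← hg, Sylow.coe_subgroup_smul]
  ext x
  constructor
  · rintro ⟨y, hy, rfl⟩
    exact ⟨_, Subgroup.mem_map_of_mem e.permCongrHom.toMonoidHom hy, rfl⟩
  · rintro ⟨_, ⟨y, hy, rfl⟩, rfl⟩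
    exact ⟨y, hy, rfl⟩

/-- Sylow subgroups of symmetric groups are generated by elements of order `p`. -/
theorem sylow_gen : ∀ (n : ℕ) (α : Type) [Fintype α] [DecidableEq α], Fintype.card α = n →
    ∀ P : Sylow p (Perm α), (P : Subgroup (Perm α)) ≤
      Subgroup.closure {x | x ∈ (P : Subgroup (Perm α)) ∧ x ^ p = 1} := by
  intro n
  induction n using Nat.strong_induction_on with
  | _ n ih =>
    intro α _ _ hn P
    rcases Nat.eq_zero_or_pos n with h0 | h0
    · haveI : IsEmpty α := Fintype.card_eq_zero_iff.1 (hn.trans h0)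
      intro x _
      rw [Subsingleton.elim x 1]
      exact one_mem _
    have hp2 := (Fact.out : p.Prime).two_le
    have hlt : n / p < n := Nat.div_lt_self h0 hp2
    obtain ⟨e⟩ : Nonempty (Pt p (Fin (n / p)) (Fin (n % p)) ≃ α) := by
      rw [← Fintype.card_eq, Fintype.card_sum, Fintype.card_prod, Fintype.card_fin, Fintype.card_fin,
        ZMod.card, hn, mul_comm]
      exact Nat.div_add_mod n p
    have hR : Fintype.card (Fin (n % p)) < p := by
      rw [Fintype.card_fin]
      exact Nat.mod_lt _ (by omega)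
    obtain ⟨Q⟩ : Nonempty (Sylow p (Perm (Fin (n / p)))) := inferInstance
    have hQ := ih (n / p) hlt (Fin (n / p)) (Fintype.card_fin _) Q
    obtain ⟨φ, hφ⟩ := sylow_transfer e (sylowMod (R := Fin (n % p)) hR Q) P
    rw [← hφ, coe_sylowMod]
    rintro _ ⟨x, ⟨v, π, hπ, rfl⟩, rfl⟩
    rw [map_mul]
    refine mul_mem (Subgroup.subset_closure ⟨Subgroup.mem_map_of_mem _ (sh_mem _ v), ?_⟩) ?_
    · rw [← map_pow, sh_pow_p, map_one]
    refine (Subgroup.closure_le
      (K := (Subgroup.closure {x | x ∈ (pmod (Q : Subgroup (Perm (Fin (n / p))))).map φ.toMonoidHom ∧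
        x ^ p = 1}).comap (φ.toMonoidHom.comp (lift (p := p) (R := Fin (n % p))))) |>.2 ?_ (hQ hπ) :)
    rintro y ⟨hy, hyp⟩
    exact Subgroup.subset_closure ⟨Subgroup.mem_map_of_mem _ (lift_mem _ hy), by
      rw [← map_pow, hyp, map_one]⟩

end Cfsg.Agent.Lib.Fusion.AltModel
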