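import Cfsg.Agent.Lib.Fusion.AltFusion

/-!
The normalizers of the Sylow subgroups of alternating groups, odd primes.
-/

set_option autoImplicit false
set_option linter.unusedSectionVars false

namespace Cfsg.Agent.Lib.Fusion.AltModel

open Equiv Equiv.Perm

variable {p : ℕ} [Fact p.Prime] {ι R : Type} [Fintype ι] [DecidableEq ι] [Fintype R] [DecidableEq R]

set_option quotPrecheck false in
local notation "Pm" => Perm (Pt p ι R)
set_option quotPrecheck false in
local notation "Am" => alternatingGroup (Pt p ι R)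

/-- The normalizer of the model is monomial modulo the translations. -/
theorem exists_decomp (hR : Fintype.card R ≤ 1) {Q : Subgroup (Perm ι)} {x : Pm}
    (hx : x ∈ Subgroup.normalizer ((pmod (R := R) Q : Subgroup Pm) : Set Pm)) :
    ∃ (σ : Perm ι) (u : ι → (ZMod p)ˣ) (w : ι → ZMod p), x = lift σ * sc u * sh w := by
  classical
  have hone : ∀ i : ι, ∃ (j : ι) (c : (ZMod p)ˣ),
      x * sh (Pi.single i (1 : ZMod p)) * x⁻¹ = sh (Pi.single j (c : ZMod p)) := by
    intro i
    obtain ⟨v, π, -, e⟩ := (Subgroup.mem_normalizer_iff.1 hx _).1 (sh_mem Q (Pi.single i (1 : ZMod p)))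
    have hcard : (sh (R := R) v * lift π).support.card = p := by
      rw [← e, Perm.card_support_conj, card_support_sh]
      rw [show (Finset.univ.filter fun l => (Pi.single i (1 : ZMod p) : ι → ZMod p) l ≠ 0) = {i} by
        ext l; simp [Pi.single_apply]]
      rw [Finset.card_singleton, one_mul]
    have hπ : π = 1 := by
      by_contra hne
      have h1 : π.support ×ˢ (Finset.univ : Finset (ZMod p)) ⊆
          ((sh (R := R) v * lift π).support).preimage Sum.inl Sum.inl_injective.injOn := by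
        rintro ⟨l, a⟩ hl
        simp only [Finset.mem_product, Perm.mem_support] at hl
        simp only [Finset.mem_preimage, Perm.mem_support, Perm.mul_apply, lift_inl, sh_inl, ne_eq,
          Sum.inl.injEq, Prod.mk.injEq]
        exact fun h => hl.1 h.1
      have h2 := (Finset.card_le_card h1).trans (Finset.card_le_card_of_injOn Sum.inl
        (fun z hz => Finset.mem_preimage.1 hz) Sum.inl_injective.injOn)
      rw [hcard, Finset.card_product, Finset.card_univ, ZMod.card] at h2
      have h3 := Nat.mul_le_mul_right p (two_le_card_support_of_ne_one hne)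
      have h4 := (Fact.out : p.Prime).pos
      omega
    rw [hπ, map_one, mul_one] at e hcard
    rw [card_support_sh] at hcard
    have h1 : (Finset.univ.filter fun l => v l ≠ 0).card = 1 :=
      Nat.eq_of_mul_eq_mul_right (Fact.out : p.Prime).pos (hcard.trans (one_mul p).symm)
    obtain ⟨j, hj⟩ := Finset.card_eq_one.1 h1
    have hvj : ∀ l, v l ≠ 0 ↔ l = j := fun l => by
      simpa using congrArg (fun s => l ∈ s) hj
    refine ⟨j, Units.mk0 (v j) ((hvj j).2 rfl), ?_⟩
    rw [e]
    congr 1
    funext l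
    rcases eq_or_ne l j with rfl | hl
    · simp
    · rw [Pi.single_eq_of_ne hl]
      by_contra h
      exact hl ((hvj l).1 h)
  choose σ₀ c hc using hone
  have hinj : Function.Injective σ₀ := by
    intro i i' h
    have e : x * sh ((c i' : ZMod p) • Pi.single i (1 : ZMod p)) * x⁻¹ =
        x * sh ((c i : ZMod p) • Pi.single i' (1 : ZMod p)) * x⁻¹ := by
      have hpow : ∀ (a : ZMod p) (l : ι), x * sh (a • Pi.single l (1 : ZMod p)) * x⁻¹ =
          sh (R := R) (a • Pi.single (σ₀ l) (c l : ZMod p)) := fun a l => by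
        have hsm : ∀ f : ι → ZMod p, a • f = a.val • f := fun f => by
          funext m
          rw [Pi.smul_apply, Pi.smul_apply, smul_eq_mul, nsmul_eq_mul, ZMod.natCast_zmod_val]
        rw [hsm, hsm, ← sh_pow, ← sh_pow, ← conj_pow, hc]
      rw [hpow, hpow, h]
      congr 1
      funext l
      simp [Pi.single_apply, mul_comm]
    have e' := congrFun (sh_injective (mul_left_cancel (mul_right_cancel e))) i
    by_contra hne
    simp [hne] at e'
  set σ : Perm ι := Equiv.ofBijective σ₀ (Finite.injective_iff_bijective.1 hinj) with hσ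
  refine ⟨σ, c, ?_⟩
  set z : Pm := lift σ * sc c with hz
  have hzc : ∀ i, z * sh (Pi.single i (1 : ZMod p)) * z⁻¹ = sh (Pi.single (σ₀ i) (c i : ZMod p)) := by
    intro i
    rw [show z * sh (Pi.single i (1 : ZMod p)) * z⁻¹ =
      lift σ * (sc c * sh (Pi.single i (1 : ZMod p)) * (sc c)⁻¹) * (lift σ)⁻¹ by rw [hz]; group,
      sc_conj_sh, lift_conj_sh]
    congr 1
    funext l
    have hσi : σ i = σ₀ i := rfl
    rcases eq_or_ne l (σ₀ i) with rfl | hl
    · rw [← hσi]
      simp
    · rw [Pi.single_eq_of_ne hl, Pi.single_eq_of_ne, mul_zero]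
      intro h
      rw [Perm.inv_eq_iff_eq, hσi] at h
      exact hl h
  obtain ⟨w, hw⟩ := eq_sh_of_commute (g := z⁻¹ * x) hR
    {v | ∃ i c, v = Pi.single i c}
    (fun i y h => by
      by_contra hne
      exact h _ ⟨i, 1, rfl⟩ (by simp) (Pi.single_eq_of_ne hne _))
    (fun i => ⟨_, ⟨i, 1, rfl⟩, by simp⟩)
    (fun v ⟨i, c', hv⟩ a => ⟨i, a • c', by rw [hv, Pi.single_smul]⟩)
    (fun v ⟨i, c', hv⟩ => by
      have h1 : Commute (sh (R := R) (Pi.single i (1 : ZMod p))) (z⁻¹ * x) := by
        show _ = _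
        have h2 := (hc i).trans (hzc i).symm
        calc sh (Pi.single i (1 : ZMod p)) * (z⁻¹ * x)
            = z⁻¹ * (z * sh (Pi.single i (1 : ZMod p)) * z⁻¹) * x := by group
          _ = z⁻¹ * (x * sh (Pi.single i (1 : ZMod p)) * x⁻¹) * x := by rw [h2]
          _ = z⁻¹ * x * sh (Pi.single i (1 : ZMod p)) := by group
      have h3 := (h1.pow_left c'.val).eq
      rw [sh_pow, ← Pi.single_smul, nsmul_eq_mul, mul_one, ZMod.natCast_zmod_val] at h3
      rwa [hv])
  exact ⟨w, (inv_mul_eq_iff_eq_mul.1 hw).trans rfl⟩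

/-- The group generated by the conjugates acting on the translations. -/
abbrev CE (Q : Subgroup (Perm ι)) : Subgroup Pm :=
  Subgroup.closure (locSet Am (pmod Q) (shSub (p := p) (ι := ι) (R := R)))

theorem sh_mem_CE (Q : Subgroup (Perm ι)) (v : ι → ZMod p) : sh v ∈ CE (p := p) (R := R) Q :=
  Subgroup.subset_closure ⟨1, one_mem _, one_mem _, _, sh_mem Q v, sh_normalizes_sh v, by group⟩

/-- Lifts of `p`-cycles. -/
theorem lift_cycle_mem_CE (hp : Odd p) (Q : Sylow p (Perm ι)) {π : Perm ι} (hπp : π ^ p = 1)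
    (hπs : π.support.card = p) :
    lift π ∈ CE (p := p) (R := R) (Q : Subgroup (Perm ι)) := by
  classical
  have hpg : IsPGroup p (Subgroup.zpowers π) := by
    refine IsPGroup.of_card (n := 1) ?_
    rw [Nat.card_zpowers, pow_one]
    refine orderOf_eq_prime hπp fun e => ?_
    rw [e, Perm.support_one, Finset.card_empty] at hπs
    exact (Fact.out : p.Prime).ne_zero hπs.symm
  obtain ⟨U, hU⟩ := hpg.exists_le_sylow
  obtain ⟨h, hh⟩ := MulAction.exists_smul_eq (Perm ι) Q U
  have h1 := hU (Subgroup.mem_zpowers π)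
  rw [← hh, Sylow.coe_subgroup_smul] at h1
  obtain ⟨q, hq, hqπ⟩ := h1
  change h * q * h⁻¹ = π at hqπ
  have hqs : q.support.card = p := by
    rw [← hπs, ← hqπ, Perm.card_support_conj]
  obtain ⟨δ, hδ⟩ := exists_eps_neg (p := p) hp
  let u : ι → (ZMod p)ˣ := fun i => if i ∈ q.support then δ else 1
  have hu : Perm.sign (sc (R := R) u) = -1 := by
    rw [sign_sc, Finset.prod_ite_mem, Finset.univ_inter, Finset.prod_const, hqs, map_pow, hδ,
      hp.neg_one_pow]
  have huq : (fun i => u (q i)) = u := by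
    funext i
    simp only [u, Perm.apply_mem_support]
  have hcomm : sc u * lift q * (sc u)⁻¹ = lift (R := R) q := by
    have e : lift q * sc u * (lift q)⁻¹ = sc (R := R) u := by
      rw [lift_conj_sc]
      congr 1
      funext i
      conv_rhs => rw [← Equiv.apply_symm_apply q i]
      exact (congrFun huq _).symm
    rw [mul_inv_eq_iff_eq_mul] at e ⊢
    exact e.symm
  obtain ⟨g, hgA, hgn, hgq⟩ : ∃ g ∈ Am,
      g ∈ Subgroup.normalizer ((shSub (p := p) (ι := ι) (R := R) : Subgroup Pm) : Set Pm) ∧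
      g * lift q * g⁻¹ = lift π := by
    rcases Int.units_eq_one_or (Perm.sign (lift (p := p) (R := R) h)) with hs | hs
    · refine ⟨lift h, Perm.mem_alternatingGroup.2 hs, lift_normalizes_sh h, ?_⟩
      rw [← map_mul, ← map_inv, ← map_mul, hqπ]
    · refine ⟨lift h * sc u, Perm.mem_alternatingGroup.2 (by rw [map_mul, hs, hu]; rfl),
        mul_mem (lift_normalizes_sh h) (sc_normalizes_sh u), ?_⟩
      rw [show lift h * sc u * lift q * (lift h * sc u)⁻¹ =
        lift h * (sc u * lift q * (sc u)⁻¹) * (lift (R := R) h)⁻¹ by group, hcomm, ← map_mul,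
        ← map_inv, ← map_mul, hqπ]
  exact Subgroup.subset_closure ⟨g, hgA, hgn, lift q, lift_mem _ hq, lift_normalizes_sh q, hgq.symm⟩

/-- Lifts of even permutations. -/
theorem lift_alt_mem_CE (hp : Odd p) (hm : p ≤ Fintype.card ι) (Q : Sylow p (Perm ι)) {σ : Perm ι}
    (hσ : σ ∈ alternatingGroup ι) : lift σ ∈ CE (p := p) (R := R) (Q : Subgroup (Perm ι)) := by
  classical
  set C : Set (Perm ι) := {π | π ^ p = 1 ∧ π.support.card = p} with hC
  suffices h : alternatingGroup ι ≤ Subgroup.closure C by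
    refine (Subgroup.closure_le (K := (CE (R := R) (Q : Subgroup (Perm ι))).comap lift)).2 ?_ (h hσ)
    rintro π ⟨h1, h2⟩
    exact lift_cycle_mem_CE hp Q h1 h2
  have hp2 := (Fact.out : p.Prime).two_le
  obtain ⟨k, hk⟩ := hp
  by_cases hp3 : p = 3
  · rw [← Equiv.Perm.closure_three_cycles_eq_alternating]
    refine Subgroup.closure_mono fun π hπ => ⟨?_, ?_⟩
    · rw [hp3, ← hπ.orderOf, pow_orderOf_eq_one]
    · rw [hp3, hπ.card_support]
  have h5 : 5 ≤ Fintype.card ι := by omega
  haveI : IsSimpleGroup (alternatingGroup ι) :=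
    alternatingGroup.isSimpleGroup (by rwa [Nat.card_eq_fintype_card])
  haveI : (Subgroup.closure C).Normal := ⟨fun n hn g => by
    refine ((Subgroup.closure_le ((Subgroup.closure C).comap (MulAut.conj g).toMonoidHom)).2 ?_ hn :)
    rintro π ⟨h1, h2⟩
    refine Subgroup.subset_closure ⟨?_, ?_⟩
    · show (g * π * g⁻¹) ^ p = 1
      rw [conj_pow, h1, mul_one, mul_inv_cancel]
    · show (g * π * g⁻¹).support.card = p
      rw [Perm.card_support_conj, h2]⟩
  have hnt : (Subgroup.closure C).subgroupOf (alternatingGroup ι) ≠ ⊥ := by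
    obtain ⟨s, -, hs⟩ := Finset.exists_subset_card_eq
      (s := (Finset.univ : Finset ι)) (n := p) (by rwa [Finset.card_univ])
    set π := s.toList.formPerm with hπ
    have hl : 2 ≤ s.toList.length := by rw [Finset.length_toList, hs]; exact hp2
    have hnd := s.nodup_toList
    have hne : ∀ a, s.toList ≠ [a] := fun a h => by rw [h] at hl; simp at hl
    have hsupp : π.support = s := by
      rw [hπ, List.support_formPerm_of_nodup _ hnd hne, Finset.toList_toFinset]
    have hcyc : π.IsCycle := List.isCycle_formPerm hnd hl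
    have hpow : π ^ p = 1 := by
      rw [show p = orderOf π by rw [hcyc.orderOf, hsupp, hs], pow_orderOf_eq_one]
    have hA : π ∈ alternatingGroup ι := Perm.mem_alternatingGroup.2
      (sign_eq_one_of_pow (k := 1) ⟨k, hk⟩ (by rw [pow_one]; exact hpow))
    intro h
    have h1 := (Subgroup.eq_bot_iff_forall _).1 h ⟨π, hA⟩
      (Subgroup.subset_closure ⟨hpow, hsupp.symm ▸ hs⟩)
    have h2 : π = 1 := congrArg Subtype.val h1
    rw [h2, Perm.support_one] at hsupp
    rw [← hsupp, Finset.card_empty] at hs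
    omega
  have := (IsSimpleGroup.eq_bot_or_eq_top_of_normal
    ((Subgroup.closure C).subgroupOf (alternatingGroup ι)) inferInstance).resolve_left hnt
  rwa [Subgroup.subgroupOf_eq_top] at this

/-- Dilations with product one. -/
theorem sc_mem_CE (hp : Odd p) (hm : p ≤ Fintype.card ι) (Q : Sylow p (Perm ι))
    {u : ι → (ZMod p)ˣ} (hu : ∏ i, u i = 1) :
    sc u ∈ CE (p := p) (R := R) (Q : Subgroup (Perm ι)) := by
  classical
  have hpair : ∀ a b : ι, ∀ t : (ZMod p)ˣ,
      sc (Pi.mulSingle a t * Pi.mulSingle b t⁻¹) ∈ CE (p := p) (R := R) (Q : Subgroup (Perm ι)) := by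
    intro c a t
    rcases eq_or_ne c a with rfl | hca
    · rw [← Pi.mulSingle_mul, mul_inv_cancel, Pi.mulSingle_one, map_one]
      exact one_mem _
    obtain ⟨b, hbc, hba⟩ : ∃ b, b ≠ c ∧ b ≠ a := by
      by_contra hcon
      push Not at hcon
      have h1 : (Finset.univ : Finset ι) ⊆ {c, a} := fun z _ => by
        rcases eq_or_ne z c with h | h
        · simp [h]
        · simp [hcon z h]
      have h2 := (Finset.card_le_card h1).trans Finset.card_le_two
      rw [Finset.card_univ] at h2
      have := (Fact.out : p.Prime).two_le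
      obtain ⟨k, hk⟩ := hp
      omega
    set τ : Perm ι := Equiv.swap a b * Equiv.swap b c with hτ
    set w : ι → (ZMod p)ˣ := fun i => if i = a ∨ i = b then t else 1 with hw
    have hτA : τ ∈ alternatingGroup ι := by
      rw [Perm.mem_alternatingGroup, hτ, map_mul, Perm.sign_swap hba.symm, Perm.sign_swap hbc]
      rfl
    have hwA : sc w ∈ Am := by
      rw [Perm.mem_alternatingGroup, sign_sc, ← Finset.prod_subset (Finset.subset_univ {a, b})
        (fun i _ hi => by
          simp only [Finset.mem_insert, Finset.mem_singleton] at hi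
          simp [hw, hi]), Finset.prod_pair hba.symm, map_mul]
      simp only [hw, true_or, or_true, if_true]
      exact Int.units_mul_self _
    have hl := lift_alt_mem_CE (R := R) hp hm Q hτA
    have hmem := mul_mem hl (conj_locSet hwA (sc_normalizes_sh w) (inv_mem hl))
    convert hmem using 1
    rw [← mul_assoc, ← mul_assoc, lift_conj_sc, ← map_inv, ← map_mul]
    congr 1
    funext i
    have hinv : τ⁻¹ = Equiv.swap b c * Equiv.swap a b := by
      rw [hτ, mul_inv_rev, Equiv.swap_inv, Equiv.swap_inv]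
    rw [hinv]
    simp only [Pi.mul_apply, Pi.inv_apply, hw, Perm.mul_apply]
    rcases eq_or_ne i a with rfl | hia
    · simp [hca, hca.symm, hba, hba.symm, hbc, hbc.symm, Equiv.swap_apply_of_ne_of_ne]
    rcases eq_or_ne i b with rfl | hib
    · simp [hia, hia.symm, hca, hca.symm, hbc, hbc.symm, Equiv.swap_apply_of_ne_of_ne]
    rcases eq_or_ne i c with rfl | hic
    · simp [hia, hib, hca, hca.symm, hbc, hbc.symm, hba, Equiv.swap_apply_of_ne_of_ne]
    simp [hia, hib, hic, Equiv.swap_apply_of_ne_of_ne]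
  obtain ⟨k⟩ : Nonempty ι := Fintype.card_pos_iff.1
    (lt_of_lt_of_le (Fact.out : p.Prime).pos hm)
  have e : u = ∏ i, (Pi.mulSingle i (u i) * Pi.mulSingle k (u i)⁻¹) := by
    rw [Finset.prod_mul_distrib, Finset.univ_prod_mulSingle]
    funext j
    rw [Pi.mul_apply, Finset.prod_apply]
    rcases eq_or_ne j k with rfl | hjk
    · simp [Finset.prod_inv_distrib, hu]
    · simp [hjk]
  show u ∈ (CE (p := p) (R := R) (Q : Subgroup (Perm ι))).comap sc
  rw [e]
  exact prod_mem fun i _ => hpair i k (u i)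

/-- Reduction of the normalizer to one element for each parity. -/
theorem exists_mul_mem_CE (hp : Odd p) (hm : p ≤ Fintype.card ι) (hR : Fintype.card R ≤ 1)
    (Q : Sylow p (Perm ι)) {x : Pm}
    (hx : x ∈ Subgroup.normalizer ((pmod (R := R) (Q : Subgroup (Perm ι)) : Subgroup Pm) : Set Pm)) :
    ∃ a : (ZMod p)ˣ, ∀ (τ : Perm ι) (u : ι → (ZMod p)ˣ), Perm.sign x = 1 →
      ∏ i, u i = a → Perm.sign (lift τ * sc (R := R) u) = 1 →
      x * (lift τ * sc u)⁻¹ ∈ CE (p := p) (R := R) (Q : Subgroup (Perm ι)) := by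
  classical
  obtain ⟨σ, c, w, rfl⟩ := exists_decomp hR hx
  refine ⟨∏ i, c i, fun τ u hsx hua hst => ?_⟩
  rw [map_mul, map_mul, sign_lift, units_pow_odd hp, sign_sc, sign_sh_odd hp, mul_one] at hsx
  rw [map_mul, sign_lift, units_pow_odd hp, sign_sc, hua] at hst
  have hστ : σ * τ⁻¹ ∈ alternatingGroup ι := by
    rw [Perm.mem_alternatingGroup, map_mul, map_inv,
      mul_right_cancel (hsx.trans hst.symm), mul_inv_cancel]
  set c' : ι → (ZMod p)ˣ := fun i => c (τ⁻¹ i) with hc'
  set u' : ι → (ZMod p)ˣ := fun i => u (τ⁻¹ i) with hu'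
  have hprod : ∏ i, (c' * u'⁻¹) i = 1 := by
    simp only [Pi.mul_apply, Pi.inv_apply, Finset.prod_mul_distrib, Finset.prod_inv_distrib, hc', hu']
    rw [Equiv.prod_comp τ⁻¹ c, Equiv.prod_comp τ⁻¹ u, hua, mul_inv_cancel]
  have key : lift σ * sc c * sh w * (lift τ * sc u)⁻¹ =
      lift (σ * τ⁻¹) * sc (c' * u'⁻¹) *
        (lift τ * sc u * sh (R := R) w * (lift τ * sc u)⁻¹) := by
    rw [map_mul sc c' u'⁻¹, map_inv sc u', hc', hu', ← lift_conj_sc, ← lift_conj_sc, map_mul lift,
      map_inv lift]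
    group
  rw [key]
  refine mul_mem (mul_mem (lift_alt_mem_CE hp hm Q hστ) (sc_mem_CE hp hm Q hprod)) ?_
  rw [show lift τ * sc u * sh w * (lift τ * sc u)⁻¹ =
    lift τ * (sc u * sh w * (sc u)⁻¹) * (lift (R := R) τ)⁻¹ by group, sc_conj_sh, lift_conj_sh]
  exact sh_mem_CE _ _

end Cfsg.Agent.Lib.Fusion.AltModel
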