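import Cfsg.Agent.Lib.Fusion.AltClosedTwo
import Cfsg.Agent.Lib.Fusion.AltGood
import Cfsg.Agent.Lib.KnownA.SylowTwo

/-!
The fusion systems of alternating groups are simple.
-/

set_option autoImplicit false

namespace Cfsg.Agent.Lib.Fusion.AltModel

open Cfsg Equiv Equiv.Perm

theorem alt_isSimple_odd {p : ℕ} [Fact p.Prime] (hp : Odd p) (n : ℕ) (hnp : p ^ 2 ≤ n)
    (hb : n % p ≤ 1) (S : Sylow p (alternatingGroup (Fin n))) :
    (groupFusionSystem (S : Subgroup (alternatingGroup (Fin n)))).IsSimple p := by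
  classical
  have hp2 := (Fact.out : p.Prime).two_le
  set m := n / p with hm
  have hpm : p ≤ m := (Nat.le_div_iff_mul_le (by omega)).2 (by rwa [← sq])
  have hm' : 0 < m / p := Nat.div_pos hpm (by omega)
  have hR' : Fintype.card (Fin (m % p)) < p := by
    rw [Fintype.card_fin]; exact Nat.mod_lt _ (by omega)
  have hR : Fintype.card (Fin (n % p)) ≤ 1 := by rwa [Fintype.card_fin]
  have hι : Fintype.card (Pt p (Fin (m / p)) (Fin (m % p))) = m := by
    rw [Fintype.card_sum, Fintype.card_prod, Fintype.card_fin, Fintype.card_fin, ZMod.card,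
      mul_comm]
    exact Nat.div_add_mod m p
  obtain ⟨e⟩ : Nonempty (Pt p (Pt p (Fin (m / p)) (Fin (m % p))) (Fin (n % p)) ≃ Fin n) := by
    rw [← Fintype.card_eq, Fintype.card_sum, Fintype.card_prod, hι, Fintype.card_fin,
      Fintype.card_fin, ZMod.card, mul_comm, hm]
    exact Nat.div_add_mod n p
  obtain ⟨Q'⟩ : Nonempty (Sylow p (Perm (Fin (m / p)))) := inferInstance
  set Q : Sylow p (Perm (Pt p (Fin (m / p)) (Fin (m % p)))) := sylowMod hR' Q' with hQ
  set P₀ : Sylow p (Perm (Pt p (Pt p (Fin (m / p)) (Fin (m % p))) (Fin (n % p)))) :=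
    sylowMod (lt_of_le_of_lt hR (by omega)) Q with hP₀
  set A := alternatingGroup (Pt p (Pt p (Fin (m / p)) (Fin (m % p))) (Fin (n % p))) with hA
  set P : Subgroup (Perm (Pt p (Pt p (Fin (m / p)) (Fin (m % p))) (Fin (n % p)))) :=
    pmod (Q : Subgroup (Perm (Pt p (Fin (m / p)) (Fin (m % p))))) with hP
  obtain ⟨S₀, hS₀⟩ := exists_sylow_subgroupOf A P₀
  rw [hP₀, coe_sylowMod, ← hP] at hS₀
  have hPA : P ≤ A := fun g hg => by
    obtain ⟨k, hk⟩ := P₀.isPGroup' ⟨g, by rw [hP₀, coe_sylowMod]; exact hg⟩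
    exact Perm.mem_alternatingGroup.2 (sign_eq_one_of_pow hp (congrArg Subtype.val hk))
  refine isSimple_of_localCriterion' (Equiv.altCongrHom e) S₀ ?_ ?_ ?_ S
  · rw [hS₀, Ne, Subgroup.subgroupOf_eq_bot, disjoint_iff, inf_eq_left.2 hPA]
    intro h0
    set i₀ : Pt p (Fin (m / p)) (Fin (m % p)) := Sum.inl (⟨0, hm'⟩, 0)
    have h1 : sh (R := Fin (n % p)) (Pi.single i₀ (1 : ZMod p)) = 1 :=
      (Subgroup.eq_bot_iff_forall P).1 h0 _ (sh_mem _ _)
    rw [← sh_zero] at h1
    simpa using congrFun (sh_injective h1) i₀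
  · rw [hS₀, hP]
    exact closedTrivial_odd hp hR (by rw [hι]; exact hpm) Q
  · intro x hx
    rw [hS₀] at hx
    have hxn : x.1 ∈ Subgroup.normalizer (P : Set (Perm (Pt p (Pt p (Fin (m / p)) (Fin (m % p))) (Fin (n % p))))) :=
      mem_normalizer_of_finite fun y hy =>
        (Subgroup.mem_normalizer_iff.1 hx ⟨y, hPA hy⟩).1 hy
    obtain ⟨a, ha⟩ := exists_mul_mem_CE hp (by rw [hι]; exact hpm) hR Q hxn
    obtain ⟨τ, u, hua, hsign, hn, K, hKP, hKc, hcl⟩ :=
      exists_good (R' := Fin (m % p)) (R := Fin (n % p)) hp hR (⟨0, hm'⟩ : Fin (m / p)) Q' a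
    have hQc : (Q : Subgroup (Perm (Pt p (Fin (m / p)) (Fin (m % p))))) =
        pmod (Q' : Subgroup (Perm (Fin (m / p)))) := coe_sylowMod _ _
    rw [← hQc, ← hP] at hn hKP hcl
    have hmem := ha τ u (Perm.mem_alternatingGroup.1 x.2) hua hsign
    set h := lift τ * sc (R := Fin (n % p)) u with hh
    have hhA : h ∈ A := Perm.mem_alternatingGroup.2 hsign
    have hyA : x.1 * h⁻¹ ∈ A := A.mul_mem x.2 (A.inv_mem hhA)
    have g1 : (⟨_, hyA⟩ : A) ∈ LocalGood (S₀ : Subgroup A) := by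
      rw [hS₀]
      refine localGood_subgroupOf hPA (shSub_le _) hyA (mul_mem hxn (inv_mem hn)) ?_ hmem
      intro g _ hg
      obtain ⟨w, rfl⟩ := eq_sh_of_commute_single hR fun v => hg _ (sh_mem _ v)
      exact sh_mem _ w
    have g2 : (⟨_, hhA⟩ : A) ∈ LocalGood (S₀ : Subgroup A) := by
      rw [hS₀]
      exact localGood_subgroupOf hPA hKP hhA hn (fun g _ hg => hKc g hg) hcl
    rw [show x = (⟨_, hyA⟩ : A) * ⟨h, hhA⟩ from Subtype.ext (inv_mul_cancel_right x.1 h).symm]
    exact mul_mem (Subgroup.subset_closure (Or.inr g1)) (Subgroup.subset_closure (Or.inr g2))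

theorem alt_isSimple_two (n : ℕ) (hn : 6 ≤ n) (S : Sylow 2 (alternatingGroup (Fin n))) :
    (groupFusionSystem (S : Subgroup (alternatingGroup (Fin n)))).IsSimple 2 := by
  classical
  set m := n / 2 with hm
  have hR : Fintype.card (Fin (n % 2)) ≤ 1 := by rw [Fintype.card_fin]; omega
  obtain ⟨e⟩ : Nonempty (Pt 2 (Fin m) (Fin (n % 2)) ≃ Fin n) := by
    rw [← Fintype.card_eq, Fintype.card_sum, Fintype.card_prod, Fintype.card_fin, Fintype.card_fin,
      Fintype.card_fin, ZMod.card]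
    omega
  have hm3 : 3 ≤ m := by omega
  set k₀ : Fin m := ⟨0, by omega⟩ with hk₀
  set l₀ : Fin m := ⟨1, by omega⟩ with hl₀
  have hkl : k₀ ≠ l₀ := by simp [hk₀, hl₀]
  obtain ⟨Q, hQ⟩ := (IsPGroup.of_card (p := 2) (n := 1) (G := Subgroup.zpowers (Equiv.swap k₀ l₀)) (by
    rw [Nat.card_zpowers, pow_one]
    exact orderOf_eq_prime (by rw [pow_two, Equiv.swap_mul_self]) (by
      intro h
      exact hkl (swap_eq_one_iff.1 h)))).exists_le_sylow
  set P₀ := sylowMod (R := Fin (n % 2)) (lt_of_le_of_lt hR one_lt_two) Q with hP₀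
  set A := alternatingGroup (Pt 2 (Fin m) (Fin (n % 2))) with hA
  obtain ⟨S₀, hS₀⟩ := exists_sylow_subgroupOf A P₀
  rw [hP₀, coe_sylowMod] at hS₀
  refine isSimple_of_localCriterion' (Equiv.altCongrHom e) S₀ ?_ ?_ ?_ S
  · intro h0
    have hv : sh (R := Fin (n % 2)) (Pi.single k₀ (1 : ZMod 2) + Pi.single l₀ 1) ∈ A :=
      Perm.mem_alternatingGroup.2 ((sign_sh_two _).2 (by
        simp only [Pi.add_apply, Finset.sum_add_distrib, Finset.sum_pi_single', Finset.mem_univ,
          if_true]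
        rfl))
    have h1 : (⟨_, hv⟩ : A) ∈ (S₀ : Subgroup A) := by rw [hS₀]; exact sh_mem _ _
    rw [h0, Subgroup.mem_bot] at h1
    have h2 := congrArg Subtype.val h1
    rw [Subgroup.coe_one, ← sh_zero] at h2
    simpa [hkl] using congrFun (sh_injective h2) k₀
  · rw [hS₀]
    exact closedTrivial_two hR (by rw [Fintype.card_fin]; exact hm3) Q hkl
      (hQ (Subgroup.mem_zpowers _))
  · intro x hx
    refine Subgroup.subset_closure (Or.inl ?_)
    set E := Equiv.altCongrHom e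
    set T : Sylow 2 (alternatingGroup (Fin n)) := S₀.mapSurjective (f := E.toMonoidHom) E.surjective
      with hT
    have hxT : E x ∈ (T : Subgroup _) := by
      refine Cfsg.Agent.Lib.KnownA.SylowTwo.normalizer_alt_le hn T ?_
      show E x ∈ Subgroup.normalizer (((S₀ : Subgroup A).map E.toMonoidHom : Subgroup _) : Set _)
      rw [← Subgroup.map_equiv_normalizer_eq (S₀ : Subgroup A) E]
      exact Subgroup.mem_map_of_mem _ hx
    obtain ⟨y, hy, hyx⟩ := hxT
    rwa [← E.injective hyx]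

end Cfsg.Agent.Lib.Fusion.AltModel
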