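import Cfsg.Agent.Lib.Fusion.Saturation

/-!
Sources at the top, normalizers in a `p`-group, and the axiom system with a fully automized top
and receptive fully normalized subgroups.
-/

set_option autoImplicit false
set_option linter.unusedSectionVars false

namespace Cfsg.Agent.Lib.Fusion

open Cfsg Cfsg.FusionSystem

variable {Ω : Type*} [Group Ω] {S : Subgroup Ω}

/-- In a finite `p`-group a proper subgroup is properly contained in its normalizer. -/
theorem lt_normalizerIn {p : ℕ} [Fact p.Prime] [Finite S] (hS : IsPGroup p S) {P : Subgroup Ω}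
    (h : P < S) : P < normalizerIn S P := by
  refine lt_of_le_of_ne (le_normalizerIn h.le) fun he => ?_
  have hne : P.subgroupOf S ≠ ⊤ := by
    rw [Ne, Subgroup.subgroupOf_eq_top]
    exact h.not_ge
  have hnil : Group.IsNilpotent S := hS.isNilpotent
  obtain ⟨g, hg, hgP⟩ := SetLike.exists_of_lt
    (Group.normalizerCondition_of_isNilpotent (G := S) (P.subgroupOf S) (lt_top_iff_ne_top.2 hne))
  apply hgP
  show (g : Ω) ∈ P
  rw [he]
  have := finite_of_le h.le
  refine ⟨g.2, mem_normalizer_of_finite fun x hx => ?_⟩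
  exact conj_mem_of_mem_normalizer hg (show (⟨x, h.le hx⟩ : S) ∈ P.subgroupOf S from hx)

theorem isConj_self_top (F : FusionSystem S) [Finite S] {Q : Subgroup Ω} (h : F.IsConj S Q) :
    Q = S :=
  Subgroup.eq_of_le_of_card_ge (isConj_le_right h) (isConj_card h).le

theorem isFullyNormalized_top (F : FusionSystem S) [Finite S] : F.IsFullyNormalized S :=
  ⟨le_rfl, fun Q hQ => by rw [isConj_self_top F hQ]⟩

/-- If the top is fully automized and fully normalized subgroups are receptive then the system is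
saturated. -/
theorem isSaturated_of_top_and_receptive {p : ℕ} [Fact p.Prime] [Finite S] (hS : IsPGroup p S)
    {F : FusionSystem S} (htop : F.IsFullyAutomized p S)
    (hrec : ∀ P : Subgroup Ω, F.IsFullyNormalized P → F.IsReceptive P) : F.IsSaturated p := by
  suffices key : ∀ n, ∀ P : Subgroup Ω, F.IsFullyNormalized P → Nat.card S ≤ Nat.card P + n →
      F.IsFullyAutomized p P by
    intro P hP
    obtain ⟨Q, hPQ, hQ⟩ := exists_fullyNormalized F hP
    exact ⟨Q, hPQ, key (Nat.card S) Q hQ (Nat.le_add_left _ _), hrec Q hQ⟩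
  intro n
  induction n with
  | zero =>
    intro P hP hn
    rwa [Subgroup.eq_of_le_of_card_ge hP.1 (by simpa using hn)]
  | succ n ih =>
    intro P hP hn
    rcases hP.1.eq_or_lt with h | hlt
    · rwa [h]
    by_contra hcon
    have := finite_of_le hP.1
    have := finite_mulAut hP.1
    let A := F.autGroup P
    let X := (autInducedBy S P).subgroupOf A
    have hcX : Nat.card X = Nat.card (autInducedBy S P) :=
      Nat.card_congr (Subgroup.subgroupOfEquivOfLe (autInducedBy_le_autGroup F hP.1)).toEquiv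
    have hXp : IsPGroup p X :=
      (isPGroup_autInducedBy hS P).of_equiv
        (Subgroup.subgroupOfEquivOfLe (autInducedBy_le_autGroup F hP.1)).symm
    obtain ⟨T, hT⟩ := hXp.exists_le_sylow
    have hne : X ≠ (T : Subgroup A) := fun e => hcon ⟨hP.1, T, e.symm⟩
    have hTp : IsPGroup p T := T.2
    have hnil : Group.IsNilpotent T := hTp.isNilpotent
    have hne' : X.subgroupOf (T : Subgroup A) ≠ ⊤ := by
      rw [Ne, Subgroup.subgroupOf_eq_top]
      exact fun h => hne (le_antisymm hT h)
    obtain ⟨t, ht, htX⟩ := SetLike.exists_of_lt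
      (Group.normalizerCondition_of_isNilpotent (G := T) _ (lt_top_iff_ne_top.2 hne'))
    let φ : MulAut P := (t : A)
    have hφA : φ ∈ A := (t : A).2
    have hφX : φ ∉ autInducedBy S P := htX
    obtain ⟨a, ha⟩ := hTp t
    have hφp : φ ^ p ^ a = 1 :=
      congrArg (fun z : T => ((z : A) : MulAut P)) ha
    have hφN : ∀ ξ ∈ autInducedBy S P, φ * ξ * φ⁻¹ ∈ autInducedBy S P := fun ξ hξ =>
      conj_mem_of_mem_normalizer ht
        (show (⟨⟨ξ, autInducedBy_le_autGroup F hP.1 hξ⟩,
          hT (show (⟨ξ, autInducedBy_le_autGroup F hP.1 hξ⟩ : A) ∈ X from hξ)⟩ : T) ∈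
          X.subgroupOf (T : Subgroup A) from hξ)
    let N := normalizerIn S P
    have hNS : N ≤ S := normalizerIn_le S P
    have hPN : P ≤ N := le_normalizerIn hP.1
    have := finite_of_le hNS
    have := finite_mulAut hNS
    have hφh : autHom φ ∈ F.Hom P := autHom_mem F hP.1 hφA
    have hr := range_autHom φ
    obtain ⟨ψ, hψ, hext, hval⟩ := IsReceptive.extend (hrec P hP) hφh hr
    have hNe : N ≤ extender S P (autHom φ) := by
      intro g hg
      rw [mem_extender_iff_congr (F.injective_of_mem hφh) hr hg]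
      have e : isoOf (autHom φ) (F.injective_of_mem hφh) hr = φ :=
        MulEquiv.ext fun x => Subtype.ext rfl
      rw [e]
      exact hφN _ (conjAut_mem_autInducedBy hg.1 hg.2)
    let ψN := restr hNe ψ
    have hψN : ψN ∈ F.Hom N := restr_mem F hψ hNe
    have hrN : ψN.range = N := by
      refine Subgroup.eq_of_le_of_card_ge ?_ (card_range_eq (F.injective_of_mem hψN)).ge
      rintro _ ⟨x, rfl⟩
      exact hval _
    let β : MulAut N := isoOf ψN (F.injective_of_mem hψN) hrN
    have hβ : β ∈ F.autGroup N := mem_autGroup_of_hom F hψN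
    have hβx : ∀ x : P, β (Subgroup.inclusion hPN x) = Subgroup.inclusion hPN (φ x) :=
      fun x => Subtype.ext (hext x x.2 (hNe (hPN x.2)))
    have hβk : ∀ (k : ℕ) (x : P),
        (β ^ k) (Subgroup.inclusion hPN x) = Subgroup.inclusion hPN ((φ ^ k) x) := by
      intro k
      induction k with
      | zero => exact fun x => rfl
      | succ k ihk =>
        intro x
        rw [pow_succ, MulAut.mul_apply, hβx, ihk, pow_succ, MulAut.mul_apply]
    obtain ⟨c, m, hmp, hcm⟩ := Nat.exists_eq_pow_mul_and_not_dvd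
      (orderOf_pos β).ne' p (Fact.out : p.Prime).ne_one
    let β₀ : MulAut N := β ^ m
    have hβ₀p : β₀ ^ p ^ c = 1 := by
      rw [← pow_mul, mul_comm, ← hcm]
      exact pow_orderOf_eq_one β
    have hmX : φ ^ m ∉ autInducedBy S P := by
      intro hm
      apply hφX
      have hco : m.Coprime (orderOf φ) :=
        Nat.Coprime.coprime_dvd_right (orderOf_dvd_of_pow_eq_one hφp)
          (Nat.Coprime.pow_right _ ((Fact.out : p.Prime).coprime_iff_not_dvd.2 hmp).symm)
      obtain ⟨j, hj⟩ := exists_pow_eq_self_of_coprime hco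
      rw [← hj]
      exact Subgroup.pow_mem _ hm j
    have hPltN : P < N := lt_normalizerIn hS hlt
    obtain ⟨M, hNM, hM⟩ := exists_fullyNormalized F hNS
    have hMfa : F.IsFullyAutomized p M := by
      refine ih M hM ?_
      have h1 : Nat.card P < Nat.card N := by
        by_contra hge
        exact hPltN.ne (Subgroup.eq_of_le_of_card_ge hPltN.le (not_lt.1 hge))
      have h2 := isConj_card hNM
      omega
    have hMS := hMfa.1
    have := finite_mulAut hMS
    obtain ⟨χ, hχ, hχr⟩ := hNM
    let i := isoOf χ (F.injective_of_mem hχ) hχr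
    obtain ⟨α, hα, hαY⟩ := IsFullyAutomized.exists_conj hMfa
      (X := (Subgroup.zpowers β₀).map (MulAut.congr i).toMonoidHom)
      ((Subgroup.map_mono (Subgroup.zpowers_le.2 (Subgroup.pow_mem _ hβ m))).trans
        (map_congr_autGroup F hχ hχr).le)
      ((show IsPGroup p (Subgroup.zpowers β₀) by
        intro z
        obtain ⟨j, hj⟩ := Subgroup.mem_zpowers_iff.1 z.2
        refine ⟨c, Subtype.ext ?_⟩
        rw [SubmonoidClass.coe_pow, ← hj, ← zpow_natCast, ← zpow_mul, mul_comm, zpow_mul,
          zpow_natCast, hβ₀p, one_zpow]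
        rfl).map _)
    have h1 := hαY _ ⟨β₀, Subgroup.mem_zpowers _, rfl⟩
    obtain ⟨s, hsS, hs⟩ := mem_autInducedBy.1 h1
    let ζ : N ≃* M := i.trans α
    have hs' : ∀ x : N, (ζ (β₀ x) : Ω) = s * (ζ x : Ω) * s⁻¹ := by
      intro x
      rw [← hs (ζ x)]
      show _ = ((α (i (β₀ (i.symm (α.symm (α (i x)))))) : M) : Ω)
      rw [MulEquiv.symm_apply_apply, MulEquiv.symm_apply_apply]
      rfl
    have hχM : ∀ x, χ x ∈ M := fun x => hχr ▸ ⟨x, rfl⟩
    let χ' := compose χ (autHom α) hχM
    have hχ' : χ' ∈ F.Hom N := compose_mem F hχ (autHom_mem F hMS hα) hχM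
    have hχ'eq : ∀ x, χ' x = (ζ x : Ω) := fun x => rfl
    let P' := img χ' P
    have hPP' : F.IsConj P P' := isConj_img F hχ' hPN
    have hP'S := isConj_le_right hPP'
    have hMN : M ≤ normalizerIn S P' := by
      intro y hy
      obtain ⟨x, hx⟩ := ζ.surjective ⟨y, hy⟩
      have hxy : χ' x = y := by rw [hχ'eq, hx]
      have := finite_of_le hP'S
      refine ⟨hMS hy, mem_normalizer_of_finite fun z hz => ?_⟩
      obtain ⟨w, hwN, hwP, rfl⟩ := mem_img.1 hz
      refine mem_img.2 ⟨(x : Ω) * w * (x : Ω)⁻¹, (x * ⟨w, hwN⟩ * x⁻¹).2,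
        conj_mem_of_mem_normalizer x.2.2 hwP, ?_⟩
      show χ' (x * ⟨w, hwN⟩ * x⁻¹) = _
      rw [map_mul, map_mul, map_inv, hxy]
    have hsN : s ∈ normalizerIn S P' := by
      have := finite_of_le hP'S
      refine ⟨hsS, mem_normalizer_of_finite fun z hz => ?_⟩
      obtain ⟨w, hwN, hwP, rfl⟩ := mem_img.1 hz
      rw [hχ'eq, ← hs', ← hχ'eq]
      have e : β₀ ⟨w, hwN⟩ = Subgroup.inclusion hPN ((φ ^ m) ⟨w, hwP⟩) := hβk m ⟨w, hwP⟩
      rw [e]
      exact apply_mem_img χ' _ ((φ ^ m) ⟨w, hwP⟩).2
    have hMeq : M = normalizerIn S P' := by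
      have := finite_of_le (normalizerIn_le S P')
      refine Subgroup.eq_of_le_of_card_ge hMN ?_
      rw [← Nat.card_congr ζ.toEquiv]
      exact hP.2 P' hPP'
    obtain ⟨n₀, hn₀⟩ := ζ.surjective ⟨s, hMeq.symm ▸ hsN⟩
    apply hmX
    rw [mem_autInducedBy]
    refine ⟨n₀, n₀.2.1, fun x => ?_⟩
    have h3 : β₀ (Subgroup.inclusion hPN x) = n₀ * Subgroup.inclusion hPN x * n₀⁻¹ := by
      apply ζ.injective
      apply Subtype.ext
      rw [hs', map_mul, map_mul, map_inv, hn₀]
      rfl
    rw [show β₀ (Subgroup.inclusion hPN x) = Subgroup.inclusion hPN ((φ ^ m) x) from hβk m x] at h3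
    exact congrArg Subtype.val h3

end Cfsg.Agent.Lib.Fusion
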