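import Cfsg.Prelude.Def_FusionSystem

/-!
Basic API of fusion systems: restriction, identity maps, composition, the automorphism group of a
subgroup, conjugacy of subgroups, transport of structure along maps of the system.
-/

set_option autoImplicit false

namespace Cfsg.Agent.Lib.Fusion

open Cfsg Cfsg.FusionSystem

variable {Ω : Type*} [Group Ω] {S : Subgroup Ω}

/-! ### Homomorphisms defined on subgroups -/

/-- Restriction of a homomorphism defined on `P` to a subgroup `R ≤ P`. -/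
def restr {R P : Subgroup Ω} (h : R ≤ P) (φ : P →* Ω) : R →* Ω :=
  φ.comp (Subgroup.inclusion h)

@[simp] theorem restr_apply {R P : Subgroup Ω} (h : R ≤ P) (φ : P →* Ω) (x : R) :
    restr h φ x = φ ⟨x, h x.2⟩ := rfl

theorem restr_restr {T R P : Subgroup Ω} (h' : T ≤ R) (h : R ≤ P) (φ : P →* Ω) :
    restr h' (restr h φ) = restr (h'.trans h) φ := rfl

/-- The image of `R` under a homomorphism defined on `P` (that of `R ⊓ P` in general). -/
def img {P : Subgroup Ω} (φ : P →* Ω) (R : Subgroup Ω) : Subgroup Ω :=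
  (R.subgroupOf P).map φ

theorem mem_img {P : Subgroup Ω} {φ : P →* Ω} {R : Subgroup Ω} {y : Ω} :
    y ∈ img φ R ↔ ∃ (x : Ω) (hx : x ∈ P), x ∈ R ∧ φ ⟨x, hx⟩ = y := by
  constructor
  · rintro ⟨⟨x, hx⟩, hxR, rfl⟩
    exact ⟨x, hx, hxR, rfl⟩
  · rintro ⟨x, hx, hxR, rfl⟩
    exact ⟨⟨x, hx⟩, hxR, rfl⟩

theorem apply_mem_img {P : Subgroup Ω} (φ : P →* Ω) {R : Subgroup Ω} (x : P)
    (hx : (x : Ω) ∈ R) : φ x ∈ img φ R :=
  ⟨x, hx, rfl⟩

theorem img_mono {P : Subgroup Ω} (φ : P →* Ω) {R R' : Subgroup Ω} (h : R ≤ R') :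
    img φ R ≤ img φ R' := by
  rintro _ ⟨x, hx, rfl⟩
  exact ⟨x, h hx, rfl⟩

theorem img_le_range {P : Subgroup Ω} (φ : P →* Ω) (R : Subgroup Ω) : img φ R ≤ φ.range := by
  rintro _ ⟨x, -, rfl⟩
  exact ⟨x, rfl⟩

theorem range_restr {R P : Subgroup Ω} (h : R ≤ P) (φ : P →* Ω) :
    (restr h φ).range = img φ R := by
  ext y
  constructor
  · rintro ⟨x, rfl⟩
    exact ⟨⟨x, h x.2⟩, x.2, rfl⟩
  · rintro ⟨x, hx, rfl⟩
    exact ⟨⟨x, hx⟩, rfl⟩

theorem img_self {P : Subgroup Ω} (φ : P →* Ω) : img φ P = φ.range := by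
  rw [← range_restr le_rfl φ]
  congr 1

theorem img_eq_iff_le {P : Subgroup Ω} {φ : P →* Ω} {R T : Subgroup Ω} (hR : R ≤ P)
    (hT : T ≤ img φ R) (hRT : ∀ x : R, φ ⟨x, hR x.2⟩ ∈ T) : img φ R = T := by
  refine le_antisymm ?_ hT
  rintro _ ⟨x, hx, rfl⟩
  exact hRT ⟨x, hx⟩

theorem card_img {P : Subgroup Ω} {φ : P →* Ω} (hφ : Function.Injective φ) {R : Subgroup Ω}
    (hR : R ≤ P) : Nat.card (img φ R) = Nat.card R := by
  rw [← range_restr hR φ]
  exact (Nat.card_congr (MonoidHom.ofInjective (f := restr hR φ)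
    (hφ.comp (Subgroup.inclusion_injective hR))).toEquiv).symm

theorem card_range_eq {P : Subgroup Ω} {φ : P →* Ω} (hφ : Function.Injective φ) :
    Nat.card φ.range = Nat.card P :=
  (Nat.card_congr (MonoidHom.ofInjective hφ).toEquiv).symm

/-- Subgroups of a subgroup with finite carrier are finite. -/
theorem finite_of_le {P : Subgroup Ω} [Finite S] (h : P ≤ S) : Finite P :=
  Finite.of_injective (Subgroup.inclusion h) (Subgroup.inclusion_injective h)

theorem eq_of_le_of_card {A B : Subgroup Ω} [Finite B] (h : A ≤ B)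
    (hc : Nat.card B ≤ Nat.card A) : A = B :=
  Subgroup.eq_of_le_of_card_ge h hc

theorem finite_subgroups_le [Finite S] : {P : Subgroup Ω | P ≤ S}.Finite := by
  refine Set.Finite.of_injOn (f := fun P : Subgroup Ω => P.subgroupOf S)
    (t := Set.univ) (fun _ _ => Set.mem_univ _) ?_ Set.finite_univ
  intro P hP Q hQ h
  exact (Subgroup.subgroupOf_inj.mp h) |> fun e => by
    rwa [inf_eq_left.mpr hP, inf_eq_left.mpr hQ] at e

/-- The inclusion of a subgroup, as a map. -/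
theorem subtype_eq_conjHom_one (P : Subgroup Ω) : P.subtype = conjHom P 1 := by
  ext x
  simp [conjHom]

/-! ### Maps of a fusion system -/

/-- Two fusion systems with the same maps are equal. -/
theorem ext_hom {F E : FusionSystem S} (h : ∀ P, F.Hom P = E.Hom P) : F = E := by
  cases F
  cases E
  congr
  exact funext h

theorem le_antisymm_hom {F E : FusionSystem S} (h₁ : F ≤ E) (h₂ : E ≤ F) : F = E :=
  ext_hom fun P => Set.Subset.antisymm (h₁ P) (h₂ P)

theorem source_le {F : FusionSystem S} {P : Subgroup Ω} {φ : P →* Ω} (hφ : φ ∈ F.Hom P) :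
    P ≤ S :=
  (F.le_of_mem hφ).1

theorem apply_mem {F : FusionSystem S} {P : Subgroup Ω} {φ : P →* Ω} (hφ : φ ∈ F.Hom P)
    (x : P) : φ x ∈ S :=
  (F.le_of_mem hφ).2 x

theorem range_le {F : FusionSystem S} {P : Subgroup Ω} {φ : P →* Ω} (hφ : φ ∈ F.Hom P) :
    φ.range ≤ S := by
  rintro _ ⟨x, rfl⟩
  exact apply_mem hφ x

theorem subtype_mem (F : FusionSystem S) {P : Subgroup Ω} (h : P ≤ S) :
    P.subtype ∈ F.Hom P := by
  rw [subtype_eq_conjHom_one]
  exact F.conj_mem h S.one_mem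

theorem restr_mem (F : FusionSystem S) {R P : Subgroup Ω} {φ : P →* Ω} (hφ : φ ∈ F.Hom P)
    (h : R ≤ P) : restr h φ ∈ F.Hom R :=
  F.comp_mem (subtype_mem F (h.trans (source_le hφ))) hφ (fun x => h x.2)

/-- A map obtained by composing two maps, stated pointwise. -/
theorem mem_of_comp (F : FusionSystem S) {P Q : Subgroup Ω} {φ : P →* Ω} {ψ : Q →* Ω}
    (hφ : φ ∈ F.Hom P) (hψ : ψ ∈ F.Hom Q) (h : ∀ x, φ x ∈ Q) {χ : P →* Ω}
    (hχ : ∀ x, χ x = ψ ⟨φ x, h x⟩) : χ ∈ F.Hom P := by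
  have : χ = ψ.comp (φ.codRestrict Q h) := MonoidHom.ext hχ
  rw [this]
  exact F.comp_mem hφ hψ h

/-- The composite of two maps. -/
def compose {P Q : Subgroup Ω} (φ : P →* Ω) (ψ : Q →* Ω) (h : ∀ x, φ x ∈ Q) : P →* Ω :=
  ψ.comp (φ.codRestrict Q h)

@[simp] theorem compose_apply {P Q : Subgroup Ω} (φ : P →* Ω) (ψ : Q →* Ω) (h : ∀ x, φ x ∈ Q)
    (x : P) : compose φ ψ h x = ψ ⟨φ x, h x⟩ := rfl

theorem compose_mem (F : FusionSystem S) {P Q : Subgroup Ω} {φ : P →* Ω} {ψ : Q →* Ω}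
    (hφ : φ ∈ F.Hom P) (hψ : ψ ∈ F.Hom Q) (h : ∀ x, φ x ∈ Q) :
    compose φ ψ h ∈ F.Hom P :=
  F.comp_mem hφ hψ h

theorem range_compose {P Q : Subgroup Ω} (φ : P →* Ω) (ψ : Q →* Ω) (h : ∀ x, φ x ∈ Q) :
    (compose φ ψ h).range = img ψ φ.range := by
  ext y
  constructor
  · rintro ⟨x, rfl⟩
    exact ⟨⟨φ x, h x⟩, ⟨x, rfl⟩, rfl⟩
  · rintro ⟨x, ⟨z, hz⟩, rfl⟩
    exact ⟨z, by simp [hz]⟩

/-- The inverse of a map of the system, with source any subgroup equal to its image. -/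
theorem exists_inv (F : FusionSystem S) {P Q : Subgroup Ω} {φ : P →* Ω} (hφ : φ ∈ F.Hom P)
    (hQ : φ.range = Q) :
    ∃ ψ ∈ F.Hom Q, ψ.range = P ∧
      (∀ (x : P) (hx : φ x ∈ Q), ψ ⟨φ x, hx⟩ = x) ∧
      ∀ (y : Q) (hy : ψ y ∈ P), φ ⟨ψ y, hy⟩ = y := by
  subst hQ
  obtain ⟨ψ, hψ, h⟩ := F.inv_mem hφ
  refine ⟨ψ, hψ, ?_, fun x hx => h x, ?_⟩
  · ext y
    constructor
    · rintro ⟨⟨_, x, rfl⟩, rfl⟩
      rw [h x]
      exact x.2
    · exact fun hy => ⟨⟨φ ⟨y, hy⟩, _, rfl⟩, h ⟨y, hy⟩⟩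
  · rintro ⟨_, x, rfl⟩ hy
    exact congrArg φ (Subtype.ext (h x))

/-! ### Conjugacy of subgroups -/

theorem isConj_refl (F : FusionSystem S) {P : Subgroup Ω} (h : P ≤ S) : F.IsConj P P :=
  ⟨P.subtype, subtype_mem F h, P.range_subtype⟩

theorem isConj_symm {F : FusionSystem S} {P Q : Subgroup Ω} (h : F.IsConj P Q) :
    F.IsConj Q P := by
  obtain ⟨φ, hφ, hQ⟩ := h
  obtain ⟨ψ, hψ, hr, -, -⟩ := exists_inv F hφ hQ
  exact ⟨ψ, hψ, hr⟩

theorem isConj_trans {F : FusionSystem S} {P Q R : Subgroup Ω} (h₁ : F.IsConj P Q)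
    (h₂ : F.IsConj Q R) : F.IsConj P R := by
  obtain ⟨φ, hφ, hQ⟩ := h₁
  obtain ⟨ψ, hψ, hR⟩ := h₂
  have h : ∀ x, φ x ∈ Q := fun x => hQ ▸ ⟨x, rfl⟩
  exact ⟨compose φ ψ h, compose_mem F hφ hψ h, by rw [range_compose, hQ, img_self, hR]⟩

theorem isConj_le_left {F : FusionSystem S} {P Q : Subgroup Ω} (h : F.IsConj P Q) : P ≤ S :=
  source_le h.choose_spec.1

theorem isConj_le_right {F : FusionSystem S} {P Q : Subgroup Ω} (h : F.IsConj P Q) : Q ≤ S :=
  isConj_le_left (isConj_symm h)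

theorem isConj_card {F : FusionSystem S} {P Q : Subgroup Ω} (h : F.IsConj P Q) :
    Nat.card P = Nat.card Q := by
  obtain ⟨φ, hφ, rfl⟩ := h
  exact (card_range_eq (F.injective_of_mem hφ)).symm

theorem isConj_img (F : FusionSystem S) {R P : Subgroup Ω} {φ : P →* Ω} (hφ : φ ∈ F.Hom P)
    (h : R ≤ P) : F.IsConj R (img φ R) :=
  ⟨restr h φ, restr_mem F hφ h, range_restr h φ⟩

/-- The isomorphism onto the image that a map of the system induces. -/
noncomputable def isoOf {P Q : Subgroup Ω} (φ : P →* Ω) (hi : Function.Injective φ)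
    (hQ : φ.range = Q) : P ≃* Q :=
  (MonoidHom.ofInjective hi).trans (MulEquiv.subgroupCongr hQ)

@[simp] theorem isoOf_coe {P Q : Subgroup Ω} (φ : P →* Ω) (hi : Function.Injective φ)
    (hQ : φ.range = Q) (x : P) : (isoOf φ hi hQ x : Ω) = φ x := rfl

/-! ### Automorphism groups -/

/-- An automorphism of `P` as a homomorphism into the ambient group. -/
def autHom {P : Subgroup Ω} (α : MulAut P) : P →* Ω := P.subtype.comp α.toMonoidHom

@[simp] theorem autHom_apply {P : Subgroup Ω} (α : MulAut P) (x : P) :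
    autHom α x = ((α x : P) : Ω) := rfl

theorem range_autHom {P : Subgroup Ω} (α : MulAut P) : (autHom α).range = P := by
  ext y
  constructor
  · rintro ⟨x, rfl⟩
    exact (α x).2
  · exact fun hy => ⟨α.symm ⟨y, hy⟩, by simp⟩

theorem mem_autGroup_of_hom (F : FusionSystem S) {P : Subgroup Ω} {α : MulAut P}
    (h : autHom α ∈ F.Hom P) : α ∈ F.autGroup P :=
  Subgroup.subset_closure h

theorem autHom_mem (F : FusionSystem S) {P : Subgroup Ω} (hP : P ≤ S) {α : MulAut P}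
    (hα : α ∈ F.autGroup P) : autHom α ∈ F.Hom P := by
  induction hα using Subgroup.closure_induction with
  | mem β hβ => exact hβ
  | one =>
    have : autHom (1 : MulAut P) = P.subtype := by ext x; rfl
    rw [this]
    exact subtype_mem F hP
  | mul β γ _ _ hβ hγ =>
    exact mem_of_comp F hγ hβ (fun x => (γ x).2) (fun x => rfl)
  | inv β _ hβ =>
    obtain ⟨ψ, hψ, -, hl, -⟩ := exists_inv F hβ (range_autHom β)
    convert hψ using 1
    ext y
    obtain ⟨x, rfl⟩ : ∃ x, β x = y := ⟨β⁻¹ y, β.apply_symm_apply y⟩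
    rw [autHom_apply, MulAut.inv_apply, MulEquiv.symm_apply_apply]
    exact (hl x (β x).2).symm

theorem mem_autGroup_iff (F : FusionSystem S) {P : Subgroup Ω} (hP : P ≤ S) {α : MulAut P} :
    α ∈ F.autGroup P ↔ autHom α ∈ F.Hom P :=
  ⟨autHom_mem F hP, mem_autGroup_of_hom F⟩

end Cfsg.Agent.Lib.Fusion
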