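import Mathlib

/-!
# Large prime divisors of binomial coefficients

For `1 ≤ k` and `2 * k < m` some prime divisor of `m.choose k` exceeds `k` or has square exceeding `m`.
This is a weak form of the theorem of Sylvester and Schur.
-/

set_option autoImplicit false

namespace Cfsg.Agent.Lib.Fusion.BinomialPrime

open Finset

theorem card_primes_two_mul_lt : ∀ j : ℕ, 9 ≤ j → 2 * ((range (j + 1)).filter Nat.Prime).card < j := by
  intro j
  induction j using Nat.strong_induction_on with
  | _ j ih =>
    intro hj
    rcases Nat.lt_or_ge j 11 with h | h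
    · interval_cases j <;> decide +kernel
    · obtain ⟨i, rfl⟩ : ∃ i, j = i + 2 := ⟨j - 2, by omega⟩
      have h1 := ih i (by omega) (by omega)
      have h2 : ((range (i + 2 + 1)).filter Nat.Prime).card ≤
          ((range (i + 1)).filter Nat.Prime).card + 1 := by
        rw [range_add_one, range_add_one (n := i + 1), filter_insert, filter_insert]
        by_cases ha : Nat.Prime (i + 2)
        · have hb : ¬ Nat.Prime (i + 1) := by
            intro hb
            have := ha.odd_of_ne_two (by omega)
            have := hb.odd_of_ne_two (by omega)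
            simp only [Nat.odd_iff] at *
            omega
          rw [if_pos ha, if_neg hb]
          exact card_insert_le _ _
        · rw [if_neg ha]
          by_cases hb : Nat.Prime (i + 1)
          · rw [if_pos hb]; exact card_insert_le _ _
          · rw [if_neg hb]; omega
      omega

theorem pow_le_choose_mul : ∀ k m : ℕ, k ≤ m → m ^ k ≤ m.choose k * k ^ k := by
  intro k
  induction k with
  | zero => simp
  | succ k ih =>
    intro m hkm
    obtain ⟨m, rfl⟩ : ∃ i, m = i + 1 := ⟨m - 1, by omega⟩
    rcases Nat.eq_zero_or_pos k with rfl | hk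
    · simp
    have h1 := ih m (by omega)
    have h2 : (m + 1) ^ k * k ^ k ≤ m ^ k * (k + 1) ^ k := by
      rw [← mul_pow, ← mul_pow]
      exact Nat.pow_le_pow_left (by nlinarith) k
    have h3 := Nat.add_one_mul_choose_eq m k
    refine Nat.le_of_mul_le_mul_right ?_ (pow_pos hk k)
    calc (m + 1) ^ (k + 1) * k ^ k = (m + 1) * ((m + 1) ^ k * k ^ k) := by ring
      _ ≤ (m + 1) * (m ^ k * (k + 1) ^ k) := Nat.mul_le_mul_left _ h2
      _ ≤ (m + 1) * (m.choose k * k ^ k * (k + 1) ^ k) :=
          Nat.mul_le_mul_left _ (Nat.mul_le_mul_right _ h1)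
      _ = (m + 1) * m.choose k * ((k + 1) ^ k * k ^ k) := by ring
      _ = (m + 1).choose (k + 1) * (k + 1) * ((k + 1) ^ k * k ^ k) := by rw [h3]
      _ = (m + 1).choose (k + 1) * (k + 1) ^ (k + 1) * k ^ k := by ring

theorem choose_mono_half {m i k : ℕ} (hik : i ≤ k) (hk : 2 * k ≤ m) : m.choose i ≤ m.choose k := by
  induction k, hik using Nat.le_induction with
  | base => exact le_rfl
  | succ a _ ih => exact (ih (by omega)).trans (Nat.choose_le_succ_of_lt_half_left (by omega))

/-- The primes below one hundred. -/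
def primes : List ℕ :=
  [2, 3, 5, 7, 11, 13, 17, 19, 23, 29, 31, 37, 41, 43, 47, 53, 59, 61, 67, 71, 73, 79, 83, 89, 97]

theorem small_check : ∀ m < 94, ∀ k < 47, 2 ≤ k → 2 * k < m →
    primes.any (fun q => (m.descFactorial k / k.factorial) % q == 0 && (k < q || m < q * q)) = true := by
  decide +kernel

theorem exists_large_prime {m k : ℕ} (hk1 : 1 ≤ k) (hkm : 2 * k < m) :
    ∃ q, q.Prime ∧ q ∣ m.choose k ∧ (k < q ∨ m < q * q) := by
  rcases Nat.lt_or_ge k 2 with hk | hk
  · obtain rfl : k = 1 := by omega
    rw [Nat.choose_one_right]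
    exact ⟨m.minFac, Nat.minFac_prime (by omega), m.minFac_dvd,
      Or.inl (Nat.minFac_prime (by omega)).one_lt⟩
  by_cases hsmall : m < 94
  · have h := small_check m hsmall k (by omega) hk hkm
    rw [List.any_eq_true] at h
    obtain ⟨q, hq, hq'⟩ := h
    simp only [Bool.and_eq_true, beq_iff_eq, Bool.or_eq_true, decide_eq_true_eq] at hq'
    have hp : q.Prime := by
      simp only [primes, List.mem_cons, List.not_mem_nil, or_false] at hq
      rcases hq with rfl | rfl | rfl | rfl | rfl | rfl | rfl | rfl | rfl | rfl | rfl | rfl | rfl |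
        rfl | rfl | rfl | rfl | rfl | rfl | rfl | rfl | rfl | rfl | rfl | rfl <;> norm_num
    refine ⟨q, hp, ?_, hq'.2⟩
    rw [Nat.choose_eq_descFactorial_div_factorial]
    exact Nat.dvd_of_mod_eq_zero hq'.1
  by_contra hcon
  push Not at hcon
  set j := min k m.sqrt with hj
  have hsq : 9 ≤ m.sqrt := Nat.le_sqrt'.2 (by omega)
  have hj2 : 2 ≤ j := le_min hk (by omega)
  have hjm : j * j ≤ m := (Nat.mul_self_le_mul_self (min_le_right _ _)).trans m.sqrt_le
  set S := (range (j + 1)).filter Nat.Prime
  set n := m.choose k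
  have hn0 : n ≠ 0 := (Nat.choose_pos (by omega)).ne'
  have hfac : n.factorization.support ⊆ S := by
    intro p hp
    rw [Nat.support_factorization, Nat.mem_primeFactors] at hp
    obtain ⟨h1, h2⟩ := hcon p hp.1 hp.2.1
    exact mem_filter.2 ⟨mem_range.2 (Nat.lt_succ_of_le (le_min h1 (Nat.le_sqrt.2 h2))), hp.1⟩
  have hup : n ≤ m ^ S.card := by
    conv_lhs => rw [← Nat.prod_factorization_pow_eq_self hn0]
    rw [Finsupp.prod]
    refine (prod_le_pow_card _ _ m fun p _ => ?_).trans
      (Nat.pow_le_pow_right (by omega) (card_le_card hfac))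
    exact Nat.pow_factorization_choose_le (by omega)
  have hlow : m ^ j ≤ m ^ S.card * j ^ j :=
    (pow_le_choose_mul j m (by omega)).trans
      (Nat.mul_le_mul_right _ ((choose_mono_half (min_le_left _ _) (by omega)).trans hup))
  have hlt : S.card < j := by
    refine (card_lt_card (t := Icc 1 j) ?_).trans_le (by simp)
    rw [ssubset_iff_of_subset]
    · exact ⟨1, mem_Icc.2 ⟨le_rfl, by omega⟩, fun h => Nat.not_prime_one (mem_filter.1 h).2⟩
    · intro p hp
      rw [mem_filter, mem_range] at hp
      exact mem_Icc.2 ⟨hp.2.one_le, by omega⟩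
  have hdiv : m ^ (j - S.card) ≤ j ^ j := by
    refine Nat.le_of_mul_le_mul_left ?_ (pow_pos (show 0 < m by omega) S.card)
    rw [← pow_add, Nat.add_sub_cancel' hlt.le]
    exact hlow
  by_cases hj9 : 9 ≤ j
  · have h2 : 2 * S.card < j := card_primes_two_mul_lt j hj9
    have h3 : (j * j) ^ (j - S.card) ≤ j ^ j := (Nat.pow_le_pow_left hjm _).trans hdiv
    rw [← sq, ← pow_mul] at h3
    have := (Nat.pow_le_pow_iff_right (by omega : 1 < j)).1 h3
    omega
  · have h4 : 94 ^ (j - S.card) ≤ j ^ j := (Nat.pow_le_pow_left (by omega) _).trans hdiv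
    clear_value j
    have hS : S = (range (j + 1)).filter Nat.Prime := rfl
    rw [hS] at h4
    revert h4
    clear * - hj2 hj9
    have h : j < 9 := by omega
    interval_cases j <;> decide +kernel

end Cfsg.Agent.Lib.Fusion.BinomialPrime
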