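import Cfsg.Agent.Lib.Fusion.NormalCriteria

/-!
Central series of normal subgroups of a fusion system, extension to automorphisms, central
subgroups.
-/

set_option autoImplicit false
set_option linter.unusedSectionVars false

namespace Cfsg.Agent.Lib.Fusion

open Cfsg Cfsg.FusionSystem

variable {Ω : Type*} [Group Ω] {S : Subgroup Ω}

theorem lcs_characteristic (Q : Subgroup Ω) (k : ℕ) :
    ((Q.lowerCentralSeries k).subgroupOf Q).Characteristic := by
  rw [← Subgroup.top_subtype_lowerCentralSeries, Subgroup.subgroupOf,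
    Subgroup.comap_map_eq_self_of_injective Q.subtype_injective]
  refine Subgroup.characteristic_iff_map_eq.2 fun e => ?_
  rw [Subgroup.map_lowerCentralSeries, Subgroup.map_top_of_surjective _ e.surjective]

theorem img_autHom_of_characteristic {Q L : Subgroup Ω} (hL : L ≤ Q)
    (hc : (L.subgroupOf Q).Characteristic) (α : MulAut Q) : img (autHom α) L = L := by
  rw [img, autHom, ← Subgroup.map_map, Subgroup.characteristic_iff_map_eq.1 hc α,
    Subgroup.map_subgroupOf_eq_of_le hL]

theorem exists_lcs_series {p : ℕ} [Fact p.Prime] [Finite S] (hS : IsPGroup p S)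
    {Q : Subgroup Ω} (hQ : Q ≤ S) :
    ∃ (n : ℕ) (C : Fin (n + 1) → Subgroup Ω), C 0 = ⊥ ∧ C (Fin.last n) = Q ∧ Monotone C ∧
      (∀ i : Fin n, ⁅C i.succ, Q⁆ ≤ C i.castSucc) ∧
      ∀ j, ∃ k, C j = Q.lowerCentralSeries k := by
  have := finite_of_le hQ
  have hnil : Group.IsNilpotent Q := (hS.to_le hQ).isNilpotent
  obtain ⟨n, hn⟩ := (Subgroup.isNilpotent_iff_lowerCentralSeries Q).1 hnil
  refine ⟨n, fun j => Q.lowerCentralSeries (n - j.1), ?_, ?_, ?_, ?_, fun j => ⟨_, rfl⟩⟩
  · simpa using hn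
  · simp
  · exact fun a b hab => Q.lowerCentralSeries_antitone (Nat.sub_le_sub_left hab n)
  · intro i
    show ⁅Q.lowerCentralSeries (n - (i.1 + 1)), Q⁆ ≤ Q.lowerCentralSeries (n - i.1)
    rw [← Subgroup.lowerCentralSeries_succ, show n - (i.1 + 1) + 1 = n - i.1 by omega]

variable {p : ℕ} [Fact p.Prime] [Finite S] {F : FusionSystem S}

theorem IsNormal.lcs {Q : Subgroup Ω} (hQ : F.IsNormal Q) (k : ℕ) :
    F.IsNormal (Q.lowerCentralSeries k) :=
  isNormal_of_characteristic hQ (Q.lowerCentralSeries_le_self k) (lcs_characteristic Q k)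

/-- Extension of every map on a subgroup of `R` to an automorphism of `R`. -/
theorem normal_of_extends (hS : IsPGroup p S) (hF : F.IsSaturated p) {R : Subgroup Ω}
    (hRS : R ≤ S)
    (h : ∀ (P : Subgroup Ω) (hPR : P ≤ R) (φ : P →* Ω), φ ∈ F.Hom P →
      ∃ α ∈ F.autGroup R, ∀ x : P, ((α (Subgroup.inclusion hPR x) : R) : Ω) = φ x) :
    F.IsNormal R := by
  have hsc : F.StronglyClosed R := by
    refine ⟨hRS, fun P hPR φ hφ x => ?_⟩
    obtain ⟨α, -, hα⟩ := h P hPR φ hφ
    rw [← hα x]
    exact (α _).2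
  obtain ⟨n, C, h0, hn, hmono, hcomm, hk⟩ := exists_lcs_series hS hRS
  refine normal_of_series hS hF hsc C h0 hn hmono hcomm fun i => ?_
  obtain ⟨k, hk⟩ := hk i.castSucc
  rw [hk]
  have hle := R.lowerCentralSeries_le_self k
  refine ⟨hle.trans hRS, fun φ hφ => ?_⟩
  obtain ⟨α, -, hα⟩ := h _ hle φ hφ
  have e : φ = restr hle (autHom α) := MonoidHom.ext fun x => (hα x).symm
  rw [e, range_restr, img_autHom_of_characteristic hle (lcs_characteristic R k)]

theorem IsNormal.extends_aut {R : Subgroup Ω} (hR : F.IsNormal R) (P : Subgroup Ω) (hPR : P ≤ R)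
    (φ : P →* Ω) (hφ : φ ∈ F.Hom P) :
    ∃ α ∈ F.autGroup R, ∀ x : P, ((α (Subgroup.inclusion hPR x) : R) : Ω) = φ x := by
  obtain ⟨ψ, hψ, hext, himg⟩ := hR.2 P φ hφ
  have hle : R ≤ P ⊔ R := le_sup_right
  have hr : (restr hle ψ).range = R := (range_restr hle ψ).trans himg
  exact ⟨isoOf (restr hle ψ) (F.injective_of_mem (restr_mem F hψ hle)) hr,
    mem_autGroup_of_hom F (restr_mem F hψ hle), fun x => hext x⟩

/-- The criterion for centrality. -/
theorem central_iff (hS : IsPGroup p S) (hF : F.IsSaturated p) (Q : Subgroup Ω) :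
    F.IsCentral Q ↔ (Q ≤ S ∧ ∀ x ∈ Q, ∀ y : Ω, F.IsConjElt x y → y = x) := by
  constructor
  · rintro ⟨hQS, h⟩
    refine ⟨hQS, fun x hx y ⟨φ, hφ, hy⟩ => ?_⟩
    obtain ⟨ψ, -, hext, hfix⟩ := h _ φ hφ
    have h1 := hext ⟨x, Subgroup.mem_zpowers x⟩
    have h2 := hfix ⟨x, hx⟩
    rw [← hy, ← h1]
    exact h2
  · rintro ⟨hQS, h⟩
    have hN : centralizerIn S Q = S := by
      refine inf_eq_left.2 fun g hg x hx => ?_
      have hle : Subgroup.zpowers x ≤ S := Subgroup.zpowers_le.2 (hQS hx)
      have h1 := h x hx (g * x * g⁻¹) ⟨conjHom _ g, F.conj_mem hle hg, rfl⟩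
      calc x * g = g * x * g⁻¹ * g := by rw [h1]
        _ = g * x := by group
    let E := recast (centralizerSystem F Q hQS) hN
    have hle : F ≤ E := alperin hS hF E fun P hP α hα => by
      have hPS : P ≤ S := by
        rcases hP with rfl | hP
        · exact le_rfl
        · exact hP.1.1
      have hQP : Q ≤ P := by
        rcases hP with rfl | hP
        · exact hQS
        · intro x hx
          refine hP.1.2 P (isConj_refl F hPS) ⟨hQS hx, fun y hy => ?_⟩
          have h1 : y ∈ centralizerIn S Q := hN.symm ▸ hPS hy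
          exact (h1.2 x hx).symm
      have hα' := autHom_mem F hPS hα
      refine mem_autGroup_of_hom E ⟨hα', hN.symm ▸ hPS, fun x => hN.symm ▸ apply_mem hα' x,
        restr (sup_le le_rfl hQP) (autHom α), restr_mem F hα' _, fun x => rfl, fun x => ?_⟩
      exact h x x.2 _ ⟨restr (Subgroup.zpowers_le.2 (hQP x.2)) (autHom α),
        restr_mem F hα' _, rfl⟩
    exact ⟨hQS, fun P φ hφ => (hle P hφ).2.2.2⟩

theorem isNormal_center_of_normal {Q : Subgroup Ω} (hQ : F.IsNormal Q) :
    F.IsNormal ((Subgroup.center Q).map Q.subtype) := by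
  refine isNormal_of_characteristic hQ (Subgroup.map_subtype_le _) ?_
  rw [Subgroup.subgroupOf, Subgroup.comap_map_eq_self_of_injective Q.subtype_injective]
  infer_instance

/-- A nontrivial largest normal subgroup is the same as a nontrivial strongly closed abelian
subgroup. -/
theorem core_ne_bot_iff (hS : IsPGroup p S) (hF : F.IsSaturated p) :
    F.core ≠ ⊥ ↔ ∃ Q : Subgroup Ω, Q ≠ ⊥ ∧ IsMulCommutative Q ∧ F.StronglyClosed Q := by
  constructor
  · intro h
    have hN := isNormal_core F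
    have := finite_of_le hN.1
    have : Nontrivial F.core := F.core.nontrivial_iff_ne_bot.2 h
    have hc := (hS.to_le hN.1).bot_lt_center
    refine ⟨(Subgroup.center F.core).map F.core.subtype, ?_, ?_,
      IsNormal.stronglyClosed (isNormal_center_of_normal hN)⟩
    · rw [Ne, Subgroup.map_eq_bot_iff_of_injective _ F.core.subtype_injective]
      exact hc.ne'
    · refine ⟨⟨?_⟩⟩
      rintro ⟨_, a, ha, rfl⟩ ⟨_, b, hb, rfl⟩
      exact Subtype.ext (congrArg (fun z : F.core => (z : Ω)) ((Subgroup.mem_center_iff.1 hb) a))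
  · rintro ⟨Q, hne, hab, hsc⟩ h
    apply hne
    rw [eq_bot_iff, ← h]
    refine le_core (normal_of_series hS hF hsc (n := 1) ![⊥, Q] rfl rfl ?_ ?_ ?_)
    · intro a b hab
      fin_cases a <;> fin_cases b <;> simp_all
    · intro i
      fin_cases i
      show ⁅Q, Q⁆ ≤ ⊥
      refine le_of_eq (Subgroup.commutator_eq_bot_iff_le_centralizer.2 fun x hx y hy => ?_)
      exact congrArg Subtype.val (mul_comm' (⟨y, hy⟩ : Q) ⟨x, hx⟩)
    · intro i
      fin_cases i
      exact StronglyClosed.weaklyClosed (IsNormal.stronglyClosed (isNormal_bot F))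

end Cfsg.Agent.Lib.Fusion
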