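import Cfsg.Agent.Lib.Fusion.Subsystem
import Cfsg.Agent.Lib.Fusion.Series
import Cfsg.Prelude.Def_FusionComponents

/-!
The inner fusion system of a subgroup, as a saturated and (weakly) normal subsystem.
-/

set_option autoImplicit false
set_option linter.unusedSectionVars false

namespace Cfsg.Agent.Lib.Fusion

open Cfsg Cfsg.FusionSystem

variable {Ω : Type*} [Group Ω] {S : Subgroup Ω} {p : ℕ} [Fact p.Prime] [Finite S]

/-- The inner fusion system of a finite `p`-group is saturated. -/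
theorem inner_isSaturated (hS : IsPGroup p S) : (innerFusionSystem S).IsSaturated p := by
  intro P hP
  refine ⟨P, isConj_refl _ hP, ⟨hP, ?_⟩, hP, ?_⟩
  · have := finite_mulAut hP
    rw [autGroup_inner hP, Subgroup.subgroupOf_self]
    refine ⟨⟨⊤, ?_, fun _ _ => top_unique ‹_›⟩, rfl⟩
    exact (isPGroup_autInducedBy hS P).of_equiv Subgroup.topEquiv.symm
  · intro R φ hφ _
    obtain ⟨hR, g, hg, he⟩ := hφ
    exact ⟨conjHom _ g, (innerFusionSystem S).conj_mem (extender_le S R φ) hg,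
      fun x hx hN => (he ⟨x, hx⟩).symm⟩

theorem inner_isSubsystemOf (F : FusionSystem S) {T : Subgroup Ω} (hT : T ≤ S) :
    (innerFusionSystem T).IsSubsystemOf F := by
  rintro P φ ⟨hP, g, hg, h⟩
  have e : φ = conjHom P g := MonoidHom.ext h
  rw [e]
  exact F.conj_mem (hP.trans hT) (hT hg)

theorem inner_source_le_of_subsystem {T : Subgroup Ω} {E : FusionSystem T} {F : FusionSystem S}
    (h : E.IsSubsystemOf F) : T ≤ S :=
  source_le (h T (subtype_mem E le_rfl))

/-- The inner system of a normal subgroup is invariant. -/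
theorem inner_isInvariantIn {F : FusionSystem S} {Q : Subgroup Ω} (hQ : F.IsNormal Q) :
    (innerFusionSystem Q).IsInvariantIn F := by
  refine ⟨inner_isSubsystemOf F hQ.1, IsNormal.stronglyClosed hQ, ?_, ?_⟩
  · intro P hPQ φ hφ α hα
    obtain ⟨-, g, hg, he⟩ := hφ
    refine ⟨conjHom _ ((α ⟨g, hg⟩ : Q) : Ω), (innerFusionSystem Q).conj_mem ?_ (α _).2, ?_⟩
    · rintro _ ⟨x, -, rfl⟩
      exact (α x).2
    · intro x hx hαx
      show ((α ⟨g, hg⟩ : Q) : Ω) * ((α ⟨x, hPQ x.2⟩ : Q) : Ω) * ((α ⟨g, hg⟩ : Q) : Ω)⁻¹ = _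
      have e : (⟨φ x, hx⟩ : Q) = ⟨g, hg⟩ * ⟨x, hPQ x.2⟩ * ⟨g, hg⟩⁻¹ := Subtype.ext (he x)
      rw [e, map_mul, map_mul, map_inv]
      rfl
  · intro P hP φ hφ
    obtain ⟨α, hα, he⟩ := IsNormal.extends_aut hQ P hP φ hφ
    exact ⟨α, hα, P.subtype, subtype_mem _ hP, fun x hx => (he x).symm⟩

theorem isNormal_iff_inner_weaklyNormal (hS : IsPGroup p S) {F : FusionSystem S}
    (hF : F.IsSaturated p) {Q : Subgroup Ω} (hQ : Q ≤ S) :
    F.IsNormal Q ↔ (innerFusionSystem Q).IsWeaklyNormalIn F p := by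
  have := finite_of_le hQ
  refine ⟨fun h => ⟨inner_isSaturated (hS.to_le hQ), hF, inner_isInvariantIn h⟩, fun h => ?_⟩
  obtain ⟨-, -, -, hsc, -, hfr⟩ := h
  obtain ⟨n, C, h0, hn, hmono, hcomm, hk⟩ := exists_lcs_series hS hQ
  refine normal_of_series hS hF hsc C h0 hn hmono hcomm fun i => ?_
  obtain ⟨k, hk⟩ := hk i.castSucc
  rw [hk]
  have hle := Q.lowerCentralSeries_le_self k
  refine ⟨hle.trans hQ, fun φ hφ => ?_⟩
  obtain ⟨α, -, φ₀, ⟨-, g, hg, hg'⟩, he⟩ := hfr _ hle φ hφ
  let β : MulAut Q := α * MulAut.conj ⟨g, hg⟩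
  have e : φ = restr hle (autHom β) := by
    ext x
    rw [he x (hg' x ▸ Q.mul_mem (Q.mul_mem hg (hle x.2)) (Q.inv_mem hg))]
    show _ = ((α (⟨g, hg⟩ * ⟨x, hle x.2⟩ * ⟨g, hg⟩⁻¹) : Q) : Ω)
    congr 2
    exact Subtype.ext (hg' x)
  rw [e, range_restr, img_autHom_of_characteristic hle (lcs_characteristic Q k)]

/-- Fully normalized subgroups persist in subnormal subsystems. -/
theorem IsSubnormalIn.le_and_fullyNormalized {F : FusionSystem S} {T : Subgroup Ω}
    {E : FusionSystem T} (hE : E.IsSubnormalIn F p) :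
    Fact p.Prime → IsPGroup p S → F.IsSaturated p → Finite S →
      T ≤ S ∧ ∀ P : Subgroup Ω, P ≤ T → F.IsFullyNormalized P → E.IsFullyNormalized P := by
  induction hE with
  | refl F p => exact fun _ _ _ _ => ⟨le_rfl, fun _ _ h => h⟩
  | step hED hDF ih =>
    rename_i T U S E D F p
    intro hp hS hF _
    obtain ⟨⟨hDs, -, hsub, hsc, -, -⟩, -⟩ := hDF
    have := finite_of_le hsc.1
    obtain ⟨hTU, h⟩ := ih hp (hS.to_le hsc.1) hDs this
    exact ⟨hTU.trans hsc.1, fun P hP hn => h P hP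
      (isFullyNormalized_subsystem hS hF hsc D hsub (hP.trans hTU) hn)⟩

/-- A saturated system over an abelian group in which every subgroup is weakly closed has the top
normal. -/
theorem isNormal_top_of_abelian (hS : IsPGroup p S) {F : FusionSystem S} (hF : F.IsSaturated p)
    (hab : ∀ x ∈ S, ∀ y ∈ S, x * y = y * x) : F.IsNormal S := by
  refine normal_of_series hS hF (n := 1) ?_ ![⊥, S] rfl rfl ?_ ?_ ?_
  · exact ⟨le_rfl, fun R _ φ hφ x => apply_mem hφ x⟩
  · intro a b hab
    fin_cases a <;> fin_cases b <;> simp_all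
  · intro i
    fin_cases i
    show ⁅S, S⁆ ≤ ⊥
    refine le_of_eq (Subgroup.commutator_eq_bot_iff_le_centralizer.2 fun x hx y hy => ?_)
    exact hab y hy x hx
  · intro i
    fin_cases i
    exact StronglyClosed.weaklyClosed (IsNormal.stronglyClosed (isNormal_bot F))

/-- A simple saturated system over an abelian group lives on a group of prime order. -/
theorem isSimple_abelian_iff (hS : IsPGroup p S) {F : FusionSystem S} (hF : F.IsSaturated p)
    (hab : ∀ x ∈ S, ∀ y ∈ S, x * y = y * x) :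
    F.IsSimple p ↔ (Nat.card S = p ∧ ∀ P : Subgroup Ω, F.Hom P = (innerFusionSystem S).Hom P) := by
  constructor
  · intro hsimple
    have hN := isNormal_top_of_abelian hS hF hab
    have hnorm : (innerFusionSystem S).IsNormalIn F p := by
      refine ⟨⟨inner_isSaturated hS, hF, inner_isInvariantIn hN⟩, fun α hα => ?_⟩
      refine ⟨1, Subgroup.one_mem _, fun x => ?_, fun c hc => ?_⟩
      · obtain ⟨-, g, hg, hg'⟩ := autHom_mem _ le_rfl hα
        show (x : Ω) = _
        have h1 : ((α x : S) : Ω) = g * (x : Ω) * g⁻¹ := hg' x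
        rw [h1, hab g hg x x.2, mul_inv_cancel_right]
      · show (c : Ω)⁻¹ * (c : Ω) ∈ _
        rw [inv_mul_cancel]
        exact Subgroup.one_mem _
    rcases hsimple.2.2 S _ hnorm with h | ⟨-, hFi⟩
    · exact absurd h hsimple.2.1
    have hFi' : F = innerFusionSystem S := ext_hom fun P => (hFi P).symm
    refine ⟨?_, fun P => (hFi P).symm⟩
    have hnt : Nontrivial S := S.nontrivial_iff_ne_bot.2 hsimple.2.1
    obtain ⟨k, hk, hc⟩ := hS.nontrivial_iff_card.1 hnt
    obtain ⟨a, ha⟩ := exists_prime_orderOf_dvd_card' (G := S) p (hc ▸ dvd_pow_self p hk.ne')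
    let T : Subgroup Ω := Subgroup.zpowers (a : Ω)
    have hT : T ≤ S := Subgroup.zpowers_le.2 a.2
    have := finite_of_le hT
    have htriv : ∀ (P : Subgroup Ω) (φ : P →* Ω), φ ∈ F.Hom P → ∀ x, φ x = x := by
      intro P φ hφ x
      obtain ⟨hP, g, hg, hg'⟩ := (hFi P).symm.le hφ
      rw [hg' x, hab g hg x (hP x.2), mul_inv_cancel_right]
    have hTn : F.IsNormal T := by
      refine ⟨hT, fun P φ hφ => ⟨(P ⊔ T).subtype,
        subtype_mem F (sup_le (source_le hφ) hT), fun x => (htriv P φ hφ x).symm, ?_⟩⟩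
      exact Subgroup.map_subgroupOf_eq_of_le le_sup_right
    have hTnorm : (innerFusionSystem T).IsNormalIn F p := by
      refine ⟨⟨inner_isSaturated (hS.to_le hT), hF, inner_isInvariantIn hTn⟩, fun α hα => ?_⟩
      refine ⟨1, Subgroup.one_mem _, fun x => ?_, fun c hc => ?_⟩
      · exact (htriv T _ (inner_isSubsystemOf F hT T (autHom_mem _ le_rfl hα)) x).symm
      · show (c : Ω)⁻¹ * (c : Ω) ∈ _
        rw [inv_mul_cancel]
        exact Subgroup.one_mem _
    rcases hsimple.2.2 T _ hTnorm with h | ⟨h, -⟩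
    · exfalso
      have : (a : Ω) = 1 := by
        rw [← Subgroup.mem_bot, ← h]
        exact Subgroup.mem_zpowers _
      have h1 : a = 1 := Subtype.ext this
      rw [h1, orderOf_one] at ha
      exact (Fact.out : p.Prime).one_lt.ne ha
    · rw [← h, Nat.card_zpowers, Subgroup.orderOf_coe, ha]
  · rintro ⟨hc, hFi⟩
    refine ⟨hF, fun h => ?_, fun T E hE => ?_⟩
    · rw [h, Nat.card_unique] at hc
      exact (Fact.out : p.Prime).one_lt.ne hc
    obtain ⟨⟨-, -, hsub, hsc, -, -⟩, -⟩ := hE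
    have := finite_of_le hsc.1
    rcases (Nat.dvd_prime (Fact.out : p.Prime)).1 (hc ▸ Subgroup.card_dvd_of_le hsc.1) with h | h
    · exact Or.inl (Subgroup.eq_bot_of_card_eq T h)
    · have hTS : T = S := Subgroup.eq_of_le_of_card_ge hsc.1 (by rw [hc, h])
      subst hTS
      refine Or.inr ⟨rfl, fun P => Set.Subset.antisymm (hsub P) ?_⟩
      rw [hFi P]
      exact inner_le E P

end Cfsg.Agent.Lib.Fusion
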