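import Cfsg.Agent.Lib.Fusion.Aut

/-!
Saturated fusion systems: receptive, fully automized, fully centralized and fully normalized
subgroups, and the two standard axiom systems.
-/

set_option autoImplicit false
set_option linter.unusedSectionVars false

namespace Cfsg.Agent.Lib.Fusion

open Cfsg Cfsg.FusionSystem

variable {Ω : Type*} [Group Ω] {S : Subgroup Ω}

theorem finite_mulAut [Finite S] {P : Subgroup Ω} (hP : P ≤ S) : Finite (MulAut P) := by
  have := finite_of_le hP
  exact Finite.of_injective _ (DFunLike.coe_injective (F := MulAut P))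

theorem isPGroup_of_le {p : ℕ} (hS : IsPGroup p S) {P : Subgroup Ω} (hP : P ≤ S) :
    IsPGroup p P :=
  hS.to_le hP

/-! ### Fully automized subgroups -/

theorem IsFullyAutomized.card_eq {F : FusionSystem S} {p : ℕ} [Fact p.Prime] [Finite S]
    {P : Subgroup Ω} (h : F.IsFullyAutomized p P) :
    Nat.card (autInducedBy S P) = p ^ (Nat.card (F.autGroup P)).factorization p := by
  obtain ⟨hP, R, hR⟩ := h
  have := finite_mulAut hP
  rw [← R.card_eq_multiplicity, hR]
  exact (Nat.card_congr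
    (Subgroup.subgroupOfEquivOfLe (autInducedBy_le_autGroup F hP)).toEquiv).symm

theorem isFullyAutomized_of_card {F : FusionSystem S} {p : ℕ} [Fact p.Prime] [Finite S]
    {P : Subgroup Ω} (hP : P ≤ S)
    (h : Nat.card (autInducedBy S P) = p ^ (Nat.card (F.autGroup P)).factorization p) :
    F.IsFullyAutomized p P := by
  have := finite_mulAut hP
  refine ⟨hP, Sylow.ofCard ((autInducedBy S P).subgroupOf (F.autGroup P)) ?_, rfl⟩
  rwa [Nat.card_congr (Subgroup.subgroupOfEquivOfLe (autInducedBy_le_autGroup F hP)).toEquiv]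

/-- A `p`-subgroup of the automorphism group of a fully automized subgroup is conjugate into the
automorphisms induced by `S`. -/
theorem IsFullyAutomized.exists_conj {F : FusionSystem S} {p : ℕ} [Fact p.Prime] [Finite S]
    {P : Subgroup Ω} (h : F.IsFullyAutomized p P) {X : Subgroup (MulAut P)}
    (hX : X ≤ F.autGroup P) (hXp : IsPGroup p X) :
    ∃ α ∈ F.autGroup P, ∀ ξ ∈ X, α * ξ * α⁻¹ ∈ autInducedBy S P := by
  obtain ⟨hP, R, hR⟩ := h
  have := finite_mulAut hP
  have hXp' : IsPGroup p (X.subgroupOf (F.autGroup P)) :=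
    hXp.of_equiv (Subgroup.subgroupOfEquivOfLe hX).symm
  obtain ⟨T, hT⟩ := hXp'.exists_le_sylow
  obtain ⟨g, hg⟩ := MulAction.exists_smul_eq (F.autGroup P) T R
  refine ⟨g, g.2, fun ξ hξ => ?_⟩
  have h1 : (⟨ξ, hX hξ⟩ : F.autGroup P) ∈ (T : Subgroup (F.autGroup P)) := hT hξ
  have h2 : g * ⟨ξ, hX hξ⟩ * g⁻¹ ∈ (R : Subgroup (F.autGroup P)) := by
    rw [← hg, Sylow.coe_subgroup_smul]
    exact ⟨_, h1, rfl⟩
  rw [hR] at h2
  exact h2

/-- The automorphisms induced by `S` on a conjugate, transported to `Q`. -/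
theorem exists_congr_mem {F : FusionSystem S} {p : ℕ} [Fact p.Prime] [Finite S]
    (hS : IsPGroup p S) {P Q : Subgroup Ω} (h : F.IsFullyAutomized p Q) {φ : P →* Ω}
    (hφ : φ ∈ F.Hom P) (hQ : φ.range = Q) :
    ∃ α ∈ F.autGroup Q, ∀ ξ ∈ autInducedBy S P,
      α * MulAut.congr (isoOf φ (F.injective_of_mem hφ) hQ) ξ * α⁻¹ ∈ autInducedBy S Q := by
  obtain ⟨α, hα, hX⟩ := IsFullyAutomized.exists_conj h
    (X := (autInducedBy S P).map (MulAut.congr (isoOf φ (F.injective_of_mem hφ) hQ)).toMonoidHom)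
    ((Subgroup.map_mono (autInducedBy_le_autGroup F (source_le hφ))).trans
      (map_congr_autGroup F hφ hQ).le)
    ((isPGroup_autInducedBy hS P).map _)
  exact ⟨α, hα, fun ξ hξ => hX _ ⟨ξ, hξ, rfl⟩⟩

/-! ### Receptive subgroups -/

/-- The extension property of a receptive subgroup. -/
theorem IsReceptive.extend [Finite S] {F : FusionSystem S} {P Q : Subgroup Ω} (h : F.IsReceptive Q)
    {φ : P →* Ω} (hφ : φ ∈ F.Hom P) (hQ : φ.range = Q) :
    ∃ ψ ∈ F.Hom (extender S P φ),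
      (∀ (x : Ω) (hP : x ∈ P) (hN : x ∈ extender S P φ), ψ ⟨x, hN⟩ = φ ⟨x, hP⟩) ∧
      ∀ x, ψ x ∈ normalizerIn S Q := by
  obtain ⟨ψ, hψ, hext⟩ := h.2 P φ hφ hQ
  refine ⟨ψ, hψ, hext, fun x => ⟨apply_mem hψ x, ?_⟩⟩
  have hPN : P ≤ extender S P φ := le_extender (source_le hφ) (apply_mem hφ)
  have hfin : Finite φ.range := by
    have := finite_of_le (extender_le S P φ)
    have := Finite.of_injective _ (Subgroup.inclusion_injective hPN)
    exact Finite.of_surjective φ.rangeRestrict φ.rangeRestrict_surjective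
  subst hQ
  exact apply_mem_normalizer rfl hext hPN x.2 (mem_extender.1 x.2).2.1

/-- A receptive subgroup is fully centralized. -/
theorem IsReceptive.isFullyCentralized {F : FusionSystem S} [Finite S] {P : Subgroup Ω}
    (h : F.IsReceptive P) : F.IsFullyCentralized P := by
  refine ⟨h.1, fun Q hQ => ?_⟩
  obtain ⟨φ, hφ, hr⟩ := isConj_symm hQ
  obtain ⟨ψ, hψ, hext, -⟩ := IsReceptive.extend h hφ hr
  have hPN : Q ≤ extender S Q φ := le_extender (source_le hφ) (apply_mem hφ)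
  have : Finite (centralizerIn S P) := finite_of_le (centralizerIn_le S P)
  refine Nat.card_le_card_of_injective
    (fun g : centralizerIn S Q => (⟨ψ ⟨g, centralizerIn_le_extender φ g.2⟩,
      apply_mem_centralizerIn hr hψ hext hPN _ g.2⟩ : centralizerIn S P)) ?_
  intro a b hab
  have := F.injective_of_mem hψ (congrArg Subtype.val hab)
  exact Subtype.ext (congrArg (fun z : extender S Q φ => (z : Ω)) this)

/-- If `P` is fully automized and receptive, every conjugate of it has its normalizer mapped into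
the normalizer of `P`, and the map may be taken to extend a given map up to an automorphism. -/
theorem exists_normalizer_map {F : FusionSystem S} {p : ℕ} [Fact p.Prime] [Finite S]
    (hS : IsPGroup p S) {P Q : Subgroup Ω} (h₁ : F.IsFullyAutomized p P) (h₂ : F.IsReceptive P)
    (hQ : F.IsConj Q P) :
    ∃ ψ ∈ F.Hom (normalizerIn S Q), (∀ x, ψ x ∈ normalizerIn S P) ∧ img ψ Q = P := by
  obtain ⟨φ, hφ, hr⟩ := hQ
  obtain ⟨α, hα, hαX⟩ := exists_congr_mem hS h₁ hφ hr
  have hφP : ∀ x, φ x ∈ P := fun x => hr ▸ ⟨x, rfl⟩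
  let φ' := compose φ (autHom α) hφP
  have hφ' : φ' ∈ F.Hom Q := compose_mem F hφ (autHom_mem F h₁.1 hα) hφP
  have hr' : φ'.range = P := by rw [range_compose, hr, img_self, range_autHom]
  have hN : extender S Q φ' = normalizerIn S Q := by
    refine le_antisymm (extender_le_normalizerIn S Q φ') fun g hg => ?_
    rw [mem_extender_iff_congr (F.injective_of_mem hφ') hr' hg]
    convert hαX _ (conjAut_mem_autInducedBy (K := S) hg.1 hg.2) using 1
    have e : isoOf φ' (F.injective_of_mem hφ') hr' =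
        (isoOf φ (F.injective_of_mem hφ) hr).trans α :=
      MulEquiv.ext fun x => Subtype.ext (congrArg (fun z : P => ((α z : P) : Ω)) (Subtype.ext rfl))
    rw [e]
    rfl
  obtain ⟨ψ, hψ, hext, hval⟩ := IsReceptive.extend h₂ hφ' hr'
  refine ⟨restr hN.ge ψ, restr_mem F hψ hN.ge, fun x => hval _, ?_⟩
  ext y
  rw [mem_img]
  constructor
  · rintro ⟨x, hxN, hx, rfl⟩
    rw [restr_apply, hext x hx (hN.ge hxN)]
    exact hr' ▸ ⟨_, rfl⟩
  · intro hy
    rw [← hr'] at hy
    obtain ⟨x, rfl⟩ := hy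
    exact ⟨x, le_normalizerIn (source_le hφ) x.2, x.2, by
      rw [restr_apply, hext x x.2 (hN.ge (le_normalizerIn (source_le hφ) x.2))]⟩

/-! ### Existence of fully normalized conjugates -/

theorem exists_fullyNormalized (F : FusionSystem S) [Finite S] {P : Subgroup Ω} (hP : P ≤ S) :
    ∃ Q, F.IsConj P Q ∧ F.IsFullyNormalized Q := by
  have hfin : {Q | F.IsConj P Q}.Finite :=
    finite_subgroups_le.subset fun Q hQ => isConj_le_right hQ
  obtain ⟨Q, hQ, hmax⟩ := Set.exists_max_image _ (fun Q => Nat.card (normalizerIn S Q)) hfin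
    ⟨P, isConj_refl F hP⟩
  exact ⟨Q, hQ, isConj_le_right hQ, fun R hR => hmax R (isConj_trans hQ hR)⟩

/-! ### Consequences of saturation -/

section Saturated

variable {p : ℕ} [Fact p.Prime] [Finite S] {F : FusionSystem S}

theorem fullyNormalized_of_automized_receptive (hS : IsPGroup p S) {P : Subgroup Ω}
    (h₁ : F.IsFullyAutomized p P) (h₂ : F.IsReceptive P) : F.IsFullyNormalized P := by
  refine ⟨h₁.1, fun Q hQ => ?_⟩
  obtain ⟨ψ, hψ, hval, -⟩ := exists_normalizer_map hS h₁ h₂ (isConj_symm hQ)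
  have : Finite (normalizerIn S P) := finite_of_le (normalizerIn_le S P)
  exact Nat.card_le_card_of_injective (fun g => (⟨ψ g, hval g⟩ : normalizerIn S P))
    fun a b hab => F.injective_of_mem hψ (congrArg Subtype.val hab)

/-- In a saturated system, a fully centralized subgroup is receptive. -/
theorem IsSaturated.receptive (hS : IsPGroup p S) (hF : F.IsSaturated p) {P : Subgroup Ω}
    (hP : F.IsFullyCentralized P) : F.IsReceptive P := by
  obtain ⟨Q, hPQ, hQa, hQr⟩ := hF P hP.1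
  obtain ⟨ψ, hψ, hval, himg⟩ := exists_normalizer_map hS hQa hQr hPQ
  have hPN := le_normalizerIn (S := S) hP.1
  let ψ₀ := restr hPN ψ
  have hψ₀ : ψ₀ ∈ F.Hom P := restr_mem F hψ hPN
  have hr₀ : ψ₀.range = Q := by rw [range_restr, himg]
  have hext₀ : ∀ (x : Ω) (hx : x ∈ P) (hN : x ∈ normalizerIn S P),
      ψ ⟨x, hN⟩ = ψ₀ ⟨x, hx⟩ := fun x hx hN => rfl
  -- `ψ` maps `C_S(P)` onto `C_S(Q)`
  have hCQ : ∀ c ∈ centralizerIn S Q, ∃ g, ψ g = c := by
    have := finite_of_le (centralizerIn_le S P)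
    have := finite_of_le (centralizerIn_le S Q)
    let f : centralizerIn S P → centralizerIn S Q := fun g =>
      ⟨ψ ⟨g, centralizerIn_le_normalizerIn S P g.2⟩,
        apply_mem_centralizerIn hr₀ hψ hext₀ hPN _ g.2⟩
    have hf : Function.Injective f := fun a b hab =>
      Subtype.ext (congrArg (fun z : normalizerIn S P => (z : Ω))
        (F.injective_of_mem hψ (congrArg Subtype.val hab)))
    have hcard : Nat.card (centralizerIn S P) = Nat.card (centralizerIn S Q) :=
      le_antisymm (Nat.card_le_card_of_injective f hf) (hP.2 Q hPQ)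
    have hsurj := ((Nat.bijective_iff_injective_and_card f).2 ⟨hf, hcard⟩).2
    intro c hc
    obtain ⟨g, hg⟩ := hsurj ⟨c, hc⟩
    exact ⟨_, congrArg Subtype.val hg⟩
  refine ⟨hP.1, fun R φ hφ hr => ?_⟩
  have hφN : ∀ x, φ x ∈ normalizerIn S P := fun x => hPN (hr ▸ ⟨x, rfl⟩)
  let φ' := compose φ ψ hφN
  have hφ' : φ' ∈ F.Hom R := compose_mem F hφ hψ hφN
  have hr' : φ'.range = Q := by rw [range_compose, hr, himg]
  have hle : extender S R φ ≤ extender S R φ' := by
    intro g hg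
    obtain ⟨hgS, hgN, h, hh, H⟩ := mem_extender.1 hg
    have hhN : h ∈ normalizerIn S P := by
      have := finite_of_le hP.1
      refine ⟨hh, mem_normalizer_of_finite fun y hy => ?_⟩
      rw [← hr] at hy
      obtain ⟨x, rfl⟩ := hy
      rw [← H x (conj_mem_of_mem_normalizer hgN x.2), ← hr]
      exact ⟨_, rfl⟩
    refine mem_extender.2 ⟨hgS, hgN, ψ ⟨h, hhN⟩, apply_mem hψ _, fun x hx => ?_⟩
    have e : (⟨φ ⟨g * x * g⁻¹, hx⟩, hφN _⟩ : normalizerIn S P) =
        ⟨h, hhN⟩ * ⟨φ x, hφN x⟩ * ⟨h, hhN⟩⁻¹ := Subtype.ext (H x hx)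
    show ψ ⟨φ ⟨g * x * g⁻¹, hx⟩, hφN _⟩ = _
    rw [e, map_mul, map_mul, map_inv]
    rfl
  obtain ⟨χ, hχ, hext, hχval⟩ := IsReceptive.extend hQr hφ' hr'
  let χ' := restr hle χ
  have hχ' : χ' ∈ F.Hom (extender S R φ) := restr_mem F hχ hle
  have hRN : R ≤ extender S R φ := le_extender (source_le hφ) (apply_mem hφ)
  -- the image of `χ'` lies in the image of `ψ`
  have himgψ : ∀ x, ∃ y, ψ y = χ' x := by
    intro x
    obtain ⟨hgS, hgN, h, hh, H⟩ := mem_extender.1 x.2
    have hhN : h ∈ normalizerIn S P := by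
      have := finite_of_le hP.1
      refine ⟨hh, mem_normalizer_of_finite fun y hy => ?_⟩
      rw [← hr] at hy
      obtain ⟨x, rfl⟩ := hy
      rw [← H x (conj_mem_of_mem_normalizer hgN x.2), ← hr]
      exact ⟨_, rfl⟩
    have hc : (ψ ⟨h, hhN⟩)⁻¹ * χ' x ∈ centralizerIn S Q := by
      refine mem_centralizerIn_iff_conj.2
        ⟨S.mul_mem (S.inv_mem (apply_mem hψ _)) (apply_mem hχ' x), fun y hy => ?_⟩
      rw [← hr'] at hy
      obtain ⟨r, rfl⟩ := hy
      have h1 := map_conj (φ := φ') (ψ := χ') (fun z hz hN => hext z hz (hle hN)) hRN x.2 r.2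
        (conj_mem_of_mem_normalizer hgN r.2)
      have e : (⟨φ ⟨(x : Ω) * r * (x : Ω)⁻¹, conj_mem_of_mem_normalizer hgN r.2⟩, hφN _⟩ :
          normalizerIn S P) = ⟨h, hhN⟩ * ⟨φ r, hφN r⟩ * ⟨h, hhN⟩⁻¹ :=
        Subtype.ext (H r (conj_mem_of_mem_normalizer hgN r.2))
      have h2 : φ' ⟨(x : Ω) * r * (x : Ω)⁻¹, conj_mem_of_mem_normalizer hgN r.2⟩ =
          ψ ⟨h, hhN⟩ * φ' r * (ψ ⟨h, hhN⟩)⁻¹ := by
        show ψ ⟨φ ⟨(x : Ω) * r * (x : Ω)⁻¹, _⟩, hφN _⟩ = _
        rw [e, map_mul, map_mul, map_inv]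
        rfl
      have h3 := h1.symm.trans h2
      calc (ψ ⟨h, hhN⟩)⁻¹ * χ' x * φ' r * ((ψ ⟨h, hhN⟩)⁻¹ * χ' x)⁻¹
          = (ψ ⟨h, hhN⟩)⁻¹ * (χ' x * φ' r * (χ' x)⁻¹) * ψ ⟨h, hhN⟩ := by group
        _ = (ψ ⟨h, hhN⟩)⁻¹ * (ψ ⟨h, hhN⟩ * φ' r * (ψ ⟨h, hhN⟩)⁻¹) * ψ ⟨h, hhN⟩ :=
            congrArg (fun z => (ψ ⟨h, hhN⟩)⁻¹ * z * ψ ⟨h, hhN⟩) h3
        _ = φ' r := by group
    obtain ⟨c, hc⟩ := hCQ _ hc
    exact ⟨⟨h, hhN⟩ * c, by rw [map_mul, hc, mul_inv_cancel_left]⟩
  obtain ⟨ψi, hψi, -, hl, -⟩ := exists_inv F hψ rfl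
  have hm : ∀ x, χ' x ∈ ψ.range := fun x => himgψ x
  refine ⟨compose χ' ψi hm, compose_mem F hχ' hψi hm, fun x hxR hxN => ?_⟩
  have e : χ' ⟨x, hxN⟩ = ψ ⟨φ ⟨x, hxR⟩, hφN _⟩ := hext x hxR (hle hxN)
  simp only [compose_apply, e]
  exact hl _ _

/-- In a saturated system, a fully normalized subgroup is fully automized and receptive. -/
theorem IsSaturated.automized_receptive (hS : IsPGroup p S) (hF : F.IsSaturated p)
    {P : Subgroup Ω} (hP : F.IsFullyNormalized P) :
    F.IsFullyAutomized p P ∧ F.IsReceptive P := by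
  obtain ⟨Q, hPQ, hQa, hQr⟩ := hF P hP.1
  obtain ⟨ψ, hψ, hval, himg⟩ := exists_normalizer_map hS hQa hQr hPQ
  have := finite_of_le (normalizerIn_le S P)
  have := finite_of_le (normalizerIn_le S Q)
  have hPN := le_normalizerIn (S := S) hP.1
  let f : normalizerIn S P → normalizerIn S Q := fun g => ⟨ψ g, hval g⟩
  have hf : Function.Injective f := fun a b hab =>
    F.injective_of_mem hψ (congrArg Subtype.val hab)
  have hcard : Nat.card (normalizerIn S P) = Nat.card (normalizerIn S Q) :=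
    le_antisymm (Nat.card_le_card_of_injective f hf) (hP.2 Q hPQ)
  have hsurj := ((Nat.bijective_iff_injective_and_card f).2 ⟨hf, hcard⟩).2
  have hψ₀ : restr hPN ψ ∈ F.Hom P := restr_mem F hψ hPN
  have hr₀ : (restr hPN ψ).range = Q := by rw [range_restr, himg]
  have hext₀ : ∀ (x : Ω) (hx : x ∈ P) (hN : x ∈ normalizerIn S P),
      ψ ⟨x, hN⟩ = restr hPN ψ ⟨x, hx⟩ := fun x hx hN => rfl
  have hc : Nat.card (centralizerIn S Q) ≤ Nat.card (centralizerIn S P) := by
    have := finite_of_le (centralizerIn_le S P)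
    have hpre : ∀ c : centralizerIn S Q, ∃ g : centralizerIn S P,
        ψ ⟨g, centralizerIn_le_normalizerIn S P g.2⟩ = c := by
      intro c
      obtain ⟨g, hg⟩ := hsurj ⟨c, centralizerIn_le_normalizerIn S Q c.2⟩
      refine ⟨⟨g, mem_centralizerIn_iff_conj.2 ⟨g.2.1, fun x hx => ?_⟩⟩, congrArg Subtype.val hg⟩
      have h1 := map_conj (φ := restr hPN ψ) hext₀ hPN g.2 hx
        (conj_mem_of_mem_normalizer g.2.2 hx)
      have h2 : ψ ⟨g, g.2⟩ = c := congrArg Subtype.val hg
      rw [h2, (mem_centralizerIn_iff_conj.1 c.2).2 _ (hr₀ ▸ ⟨_, rfl⟩)] at h1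
      exact congrArg Subtype.val (F.injective_of_mem hψ₀ h1)
    choose k hk using hpre
    refine Nat.card_le_card_of_injective k fun a b hab => Subtype.ext ?_
    rw [← hk a, ← hk b, hab]
  have hPfc : F.IsFullyCentralized P :=
    ⟨hP.1, fun R hR => ((IsReceptive.isFullyCentralized hQr).2 R
      (isConj_trans (isConj_symm hPQ) hR)).trans hc⟩
  refine ⟨isFullyAutomized_of_card hP.1 ?_, IsSaturated.receptive hS hF hPfc⟩
  have hcc : Nat.card (centralizerIn S P) = Nat.card (centralizerIn S Q) :=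
    le_antisymm ((IsReceptive.isFullyCentralized hQr).2 P (isConj_symm hPQ)) hc
  have h1 := card_normalizerIn S P
  rw [hcard, card_normalizerIn, hcc] at h1
  have := finite_of_le (centralizerIn_le S Q)
  rw [card_autGroup_congr hPQ, ← IsFullyAutomized.card_eq hQa]
  exact (Nat.eq_of_mul_eq_mul_left Nat.card_pos h1).symm

theorem IsSaturated.fullyCentralized (hS : IsPGroup p S) (hF : F.IsSaturated p)
    {P : Subgroup Ω} (hP : F.IsFullyNormalized P) : F.IsFullyCentralized P :=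
  IsReceptive.isFullyCentralized (IsSaturated.automized_receptive hS hF hP).2

/-- Any conjugate of a fully normalized subgroup has its normalizer mapped into its normalizer. -/
theorem IsSaturated.exists_normalizer_map (hS : IsPGroup p S) (hF : F.IsSaturated p)
    {P Q : Subgroup Ω} (hP : F.IsFullyNormalized P) (hQ : F.IsConj Q P) :
    ∃ ψ ∈ F.Hom (normalizerIn S Q), (∀ x, ψ x ∈ normalizerIn S P) ∧ img ψ Q = P :=
  Cfsg.Agent.Lib.Fusion.exists_normalizer_map hS (IsSaturated.automized_receptive hS hF hP).1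
    (IsSaturated.automized_receptive hS hF hP).2 hQ

theorem centralizerIn_inf_of_conj {P Q : Subgroup Ω} (hQ : F.IsConj P Q)
    (hC : centralizerIn S P ≤ P) :
    Nat.card (centralizerIn S P) = Nat.card (centralizerIn S Q ⊓ Q : Subgroup Ω) := by
  obtain ⟨φ, hφ, hr⟩ := hQ
  subst hr
  have hi := F.injective_of_mem hφ
  have he : img φ (centralizerIn S P) = centralizerIn S φ.range ⊓ φ.range := by
    ext y
    rw [mem_img, Subgroup.mem_inf]
    constructor
    · rintro ⟨x, hxP, hx, rfl⟩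
      refine ⟨mem_centralizerIn.2 ⟨apply_mem hφ _, ?_⟩, ⟨_, rfl⟩⟩
      rintro _ ⟨r, rfl⟩
      rw [← map_mul, ← map_mul]
      exact congrArg φ (Subtype.ext (hx.2 r r.2))
    · rintro ⟨hy, ⟨x, rfl⟩⟩
      refine ⟨x, x.2, mem_centralizerIn.2 ⟨source_le hφ x.2, fun r hr => ?_⟩, rfl⟩
      have := hy.2 _ ⟨⟨r, hr⟩, rfl⟩
      rw [← map_mul, ← map_mul] at this
      exact congrArg Subtype.val (hi this)
  rw [← he, card_img hi hC]

/-- A fully centralized subgroup containing its centralizer is centric. -/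
theorem isCentric_of_fullyCentralized {P : Subgroup Ω} (hP : F.IsFullyCentralized P)
    (hC : centralizerIn S P ≤ P) : F.IsCentric P := by
  refine ⟨hP.1, fun Q hQ => ?_⟩
  have := finite_of_le (centralizerIn_le S Q)
  have e : centralizerIn S Q ⊓ Q = centralizerIn S Q :=
    Subgroup.eq_of_le_of_card_ge inf_le_left
      ((hP.2 Q hQ).trans (centralizerIn_inf_of_conj hQ hC).le)
  exact inf_eq_left.1 e

theorem isCentric_of_isConj {P Q : Subgroup Ω} (hP : F.IsCentric P) (h : F.IsConj P Q) :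
    F.IsCentric Q :=
  ⟨isConj_le_right h, fun R hR => hP.2 R (isConj_trans h hR)⟩

theorem isFullyCentralized_of_isCentric {P : Subgroup Ω} (hP : F.IsCentric P) :
    F.IsFullyCentralized P := by
  refine ⟨hP.1, fun Q hQ => le_of_eq ?_⟩
  rw [centralizerIn_inf_of_conj hQ (hP.2 P (isConj_refl F hP.1)), inf_eq_left.2 (hP.2 Q hQ)]

theorem isCentric_of_le {P Q : Subgroup Ω} (hP : F.IsCentric P) (hPQ : P ≤ Q) (hQ : Q ≤ S) :
    F.IsCentric Q := by
  refine ⟨hQ, fun R hR => ?_⟩
  obtain ⟨φ, hφ, rfl⟩ := hR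
  intro g hg
  refine img_le_range φ P (hP.2 _ (isConj_img F hφ hPQ) ⟨hg.1, fun y hy => ?_⟩)
  exact hg.2 y (img_le_range φ P hy)

end Saturated

end Cfsg.Agent.Lib.Fusion
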