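import Cfsg.Prelude.Def_FusionComponents
import Cfsg.Agent.Lib.Fusion.Saturation

/-!
Direct products of fusion systems: existence and saturation.
-/

set_option autoImplicit false

namespace Cfsg.Agent.Lib.Fusion

open Cfsg Cfsg.FusionSystem

variable {Ω₁ Ω₂ : Type*} [Group Ω₁] [Group Ω₂] {S₁ : Subgroup Ω₁} {S₂ : Subgroup Ω₂}

/-- The projection of a subgroup of a product to the first factor, as a map. -/
def toFst (P : Subgroup (Ω₁ × Ω₂)) : P →* P.map (MonoidHom.fst Ω₁ Ω₂) :=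
  ((MonoidHom.fst Ω₁ Ω₂).comp P.subtype).codRestrict _ fun x => ⟨x, x.2, rfl⟩

/-- The projection of a subgroup of a product to the second factor, as a map. -/
def toSnd (P : Subgroup (Ω₁ × Ω₂)) : P →* P.map (MonoidHom.snd Ω₁ Ω₂) :=
  ((MonoidHom.snd Ω₁ Ω₂).comp P.subtype).codRestrict _ fun x => ⟨x, x.2, rfl⟩

/-- The map `(x₁, x₂) ↦ (φ₁ x₁, φ₂ x₂)` restricted to `P`. -/
def prodMap (P : Subgroup (Ω₁ × Ω₂)) (φ₁ : P.map (MonoidHom.fst Ω₁ Ω₂) →* Ω₁)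
    (φ₂ : P.map (MonoidHom.snd Ω₁ Ω₂) →* Ω₂) : P →* Ω₁ × Ω₂ :=
  (φ₁.comp (toFst P)).prod (φ₂.comp (toSnd P))

theorem prodMap_injective {P : Subgroup (Ω₁ × Ω₂)} {φ₁ : P.map (MonoidHom.fst Ω₁ Ω₂) →* Ω₁}
    {φ₂ : P.map (MonoidHom.snd Ω₁ Ω₂) →* Ω₂} (h₁ : Function.Injective φ₁)
    (h₂ : Function.Injective φ₂) : Function.Injective (prodMap P φ₁ φ₂) := by
  intro a b hab
  refine Subtype.ext (Prod.ext ?_ ?_)
  · exact congrArg Subtype.val (h₁ (congrArg Prod.fst hab) :)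
  · exact congrArg Subtype.val (h₂ (congrArg Prod.snd hab) :)

theorem map_fst_range {P : Subgroup (Ω₁ × Ω₂)} {φ₁ : P.map (MonoidHom.fst Ω₁ Ω₂) →* Ω₁}
    {φ₂ : P.map (MonoidHom.snd Ω₁ Ω₂) →* Ω₂} :
    (prodMap P φ₁ φ₂).range.map (MonoidHom.fst Ω₁ Ω₂) = φ₁.range := by
  ext y
  constructor
  · rintro ⟨_, ⟨x, rfl⟩, rfl⟩
    exact ⟨toFst P x, rfl⟩
  · rintro ⟨⟨_, x, hx, rfl⟩, rfl⟩
    exact ⟨_, ⟨⟨x, hx⟩, rfl⟩, rfl⟩

theorem map_snd_range {P : Subgroup (Ω₁ × Ω₂)} {φ₁ : P.map (MonoidHom.fst Ω₁ Ω₂) →* Ω₁}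
    {φ₂ : P.map (MonoidHom.snd Ω₁ Ω₂) →* Ω₂} :
    (prodMap P φ₁ φ₂).range.map (MonoidHom.snd Ω₁ Ω₂) = φ₂.range := by
  ext y
  constructor
  · rintro ⟨_, ⟨x, rfl⟩, rfl⟩
    exact ⟨toSnd P x, rfl⟩
  · rintro ⟨⟨_, x, hx, rfl⟩, rfl⟩
    exact ⟨_, ⟨⟨x, hx⟩, rfl⟩, rfl⟩

theorem map_fst_le {P : Subgroup (Ω₁ × Ω₂)} (h : P ≤ S₁.prod S₂) :
    P.map (MonoidHom.fst Ω₁ Ω₂) ≤ S₁ := by
  rintro _ ⟨x, hx, rfl⟩
  exact (h hx).1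

theorem map_snd_le {P : Subgroup (Ω₁ × Ω₂)} (h : P ≤ S₁.prod S₂) :
    P.map (MonoidHom.snd Ω₁ Ω₂) ≤ S₂ := by
  rintro _ ⟨x, hx, rfl⟩
  exact (h hx).2

/-- The direct product of two fusion systems. -/
def productSystem (F₁ : FusionSystem S₁) (F₂ : FusionSystem S₂) :
    FusionSystem (S₁.prod S₂) where
  Hom P := {φ | P ≤ S₁.prod S₂ ∧ ∃ φ₁ ∈ F₁.Hom (P.map (MonoidHom.fst Ω₁ Ω₂)),
    ∃ φ₂ ∈ F₂.Hom (P.map (MonoidHom.snd Ω₁ Ω₂)), φ = prodMap P φ₁ φ₂}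
  le_of_mem := by
    rintro P φ ⟨hP, φ₁, h₁, φ₂, h₂, rfl⟩
    exact ⟨hP, fun x => ⟨apply_mem h₁ _, apply_mem h₂ _⟩⟩
  injective_of_mem := by
    rintro P φ ⟨hP, φ₁, h₁, φ₂, h₂, rfl⟩
    exact prodMap_injective (F₁.injective_of_mem h₁) (F₂.injective_of_mem h₂)
  conj_mem := by
    intro P g hP hg
    exact ⟨hP, _, F₁.conj_mem (map_fst_le hP) hg.1, _, F₂.conj_mem (map_snd_le hP) hg.2, rfl⟩
  comp_mem := by
    rintro P Q φ ψ ⟨hP, φ₁, h₁, φ₂, h₂, rfl⟩ ⟨-, ψ₁, k₁, ψ₂, k₂, rfl⟩ h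
    have m₁ : ∀ y, φ₁ y ∈ Q.map (MonoidHom.fst Ω₁ Ω₂) := by
      rintro ⟨_, x, hx, rfl⟩
      exact ⟨_, h ⟨x, hx⟩, rfl⟩
    have m₂ : ∀ y, φ₂ y ∈ Q.map (MonoidHom.snd Ω₁ Ω₂) := by
      rintro ⟨_, x, hx, rfl⟩
      exact ⟨_, h ⟨x, hx⟩, rfl⟩
    exact ⟨hP, _, compose_mem F₁ h₁ k₁ m₁, _, compose_mem F₂ h₂ k₂ m₂,
      MonoidHom.ext fun x => rfl⟩
  inv_mem := by
    rintro P φ ⟨hP, φ₁, h₁, φ₂, h₂, rfl⟩
    obtain ⟨ψ₁, k₁, -, l₁, -⟩ := exists_inv F₁ h₁ map_fst_range.symm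
    obtain ⟨ψ₂, k₂, -, l₂, -⟩ := exists_inv F₂ h₂ map_snd_range.symm
    refine ⟨prodMap _ ψ₁ ψ₂, ⟨?_, ψ₁, k₁, ψ₂, k₂, rfl⟩, fun x => Prod.ext ?_ ?_⟩
    · rintro _ ⟨x, rfl⟩
      exact ⟨apply_mem h₁ _, apply_mem h₂ _⟩
    · exact l₁ (toFst P x) _
    · exact l₂ (toSnd P x) _

theorem productSystem_spec (F₁ : FusionSystem S₁) (F₂ : FusionSystem S₂) :
    IsProductSystem F₁ F₂ (productSystem F₁ F₂) := by
  intro P φ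
  constructor
  · rintro ⟨hP, φ₁, h₁, φ₂, h₂, rfl⟩
    exact ⟨hP, φ₁, h₁, φ₂, h₂, fun x _ _ => rfl⟩
  · rintro ⟨hP, φ₁, h₁, φ₂, h₂, h⟩
    exact ⟨hP, φ₁, h₁, φ₂, h₂, MonoidHom.ext fun x => h x _ _⟩

theorem eq_productSystem {F₁ : FusionSystem S₁} {F₂ : FusionSystem S₂}
    {E : FusionSystem (S₁.prod S₂)} (hE : IsProductSystem F₁ F₂ E) :
    E = productSystem F₁ F₂ :=
  ext_hom fun P => Set.ext fun φ => (hE P φ).trans (productSystem_spec F₁ F₂ P φ).symm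

instance finite_prod [Finite S₁] [Finite S₂] : Finite (S₁.prod S₂) :=
  Finite.of_equiv _ (S₁.prodEquiv S₂).symm.toEquiv

theorem isPGroup_prod {p : ℕ} (h₁ : IsPGroup p S₁) (h₂ : IsPGroup p S₂) :
    IsPGroup p (S₁.prod S₂) := by
  rintro ⟨⟨a, b⟩, ha, hb⟩
  obtain ⟨i, hi⟩ := h₁ ⟨a, ha⟩
  obtain ⟨j, hj⟩ := h₂ ⟨b, hb⟩
  have hi' : a ^ p ^ i = 1 := congrArg Subtype.val hi
  have hj' : b ^ p ^ j = 1 := congrArg Subtype.val hj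
  refine ⟨i + j, Subtype.ext (Prod.ext ?_ ?_)⟩
  · show a ^ p ^ (i + j) = 1
    rw [pow_add, pow_mul, hi', one_pow]
  · show b ^ p ^ (i + j) = 1
    rw [pow_add, mul_comm, pow_mul, hj', one_pow]

section Saturated

variable {F₁ : FusionSystem S₁} {F₂ : FusionSystem S₂}

theorem receptive_product {Q : Subgroup (Ω₁ × Ω₂)} (hQ : Q ≤ S₁.prod S₂)
    (r₁ : F₁.IsReceptive (Q.map (MonoidHom.fst Ω₁ Ω₂)))
    (r₂ : F₂.IsReceptive (Q.map (MonoidHom.snd Ω₁ Ω₂))) :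
    (productSystem F₁ F₂).IsReceptive Q := by
  refine ⟨hQ, ?_⟩
  rintro R φ ⟨hR, φ₁, h₁, φ₂, h₂, rfl⟩ hr
  obtain ⟨ψ₁, k₁, e₁⟩ := r₁.2 _ φ₁ h₁ (by rw [← hr, map_fst_range])
  obtain ⟨ψ₂, k₂, e₂⟩ := r₂.2 _ φ₂ h₂ (by rw [← hr, map_snd_range])
  set N := extender (S₁.prod S₂) R (prodMap R φ₁ φ₂)
  have hN₁ : N.map (MonoidHom.fst Ω₁ Ω₂) ≤
      extender S₁ (R.map (MonoidHom.fst Ω₁ Ω₂)) φ₁ := by
    rintro _ ⟨g, hg, rfl⟩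
    obtain ⟨hgS, hgN, h, hh, H⟩ := mem_extender.1 hg
    refine mem_extender.2 ⟨hgS.1, mem_normalizer_iff'.2 ⟨?_, ?_⟩, h.1, hh.1, ?_⟩
    · rintro _ ⟨x, hx, rfl⟩
      exact ⟨g * x * g⁻¹, conj_mem_of_mem_normalizer hgN hx, rfl⟩
    · rintro _ ⟨x, hx, rfl⟩
      exact ⟨g⁻¹ * x * g, (mem_normalizer_iff'.1 hgN).2 x hx, rfl⟩
    · rintro ⟨_, x, hx, rfl⟩ hy
      exact congrArg Prod.fst (H ⟨x, hx⟩ (conj_mem_of_mem_normalizer hgN hx))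
  have hN₂ : N.map (MonoidHom.snd Ω₁ Ω₂) ≤
      extender S₂ (R.map (MonoidHom.snd Ω₁ Ω₂)) φ₂ := by
    rintro _ ⟨g, hg, rfl⟩
    obtain ⟨hgS, hgN, h, hh, H⟩ := mem_extender.1 hg
    refine mem_extender.2 ⟨hgS.2, mem_normalizer_iff'.2 ⟨?_, ?_⟩, h.2, hh.2, ?_⟩
    · rintro _ ⟨x, hx, rfl⟩
      exact ⟨g * x * g⁻¹, conj_mem_of_mem_normalizer hgN hx, rfl⟩
    · rintro _ ⟨x, hx, rfl⟩
      exact ⟨g⁻¹ * x * g, (mem_normalizer_iff'.1 hgN).2 x hx, rfl⟩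
    · rintro ⟨_, x, hx, rfl⟩ hy
      exact congrArg Prod.snd (H ⟨x, hx⟩ (conj_mem_of_mem_normalizer hgN hx))
  refine ⟨prodMap N (restr hN₁ ψ₁) (restr hN₂ ψ₂), ⟨extender_le _ _ _, _, restr_mem F₁ k₁ hN₁, _,
    restr_mem F₂ k₂ hN₂, rfl⟩, fun x hP hN => Prod.ext ?_ ?_⟩
  · exact e₁ x.1 ⟨x, hP, rfl⟩ (hN₁ ⟨x, hN, rfl⟩)
  · exact e₂ x.2 ⟨x, hP, rfl⟩ (hN₂ ⟨x, hN, rfl⟩)

variable {p : ℕ} [Fact p.Prime] [Finite S₁] [Finite S₂]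

theorem exists_automized_product (h₁ : IsPGroup p S₁) (h₂ : IsPGroup p S₂)
    {Q : Subgroup (Ω₁ × Ω₂)} (hQ : Q ≤ S₁.prod S₂)
    (a₁ : F₁.IsFullyAutomized p (Q.map (MonoidHom.fst Ω₁ Ω₂)))
    (a₂ : F₂.IsFullyAutomized p (Q.map (MonoidHom.snd Ω₁ Ω₂))) :
    ∃ Q' : Subgroup (Ω₁ × Ω₂), (productSystem F₁ F₂).IsConj Q Q' ∧
      (productSystem F₁ F₂).IsFullyAutomized p Q' ∧
      Q'.map (MonoidHom.fst Ω₁ Ω₂) = Q.map (MonoidHom.fst Ω₁ Ω₂) ∧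
      Q'.map (MonoidHom.snd Ω₁ Ω₂) = Q.map (MonoidHom.snd Ω₁ Ω₂) := by
  set E := productSystem F₁ F₂
  have hcomp : ∀ β : E.autGroup Q, ∃ β₁ ∈ F₁.autGroup (Q.map (MonoidHom.fst Ω₁ Ω₂)),
      ∃ β₂ ∈ F₂.autGroup (Q.map (MonoidHom.snd Ω₁ Ω₂)),
      ∀ x : Q, toFst Q ((β : MulAut Q) x) = β₁ (toFst Q x) ∧
        toSnd Q ((β : MulAut Q) x) = β₂ (toSnd Q x) := by
    intro β
    obtain ⟨-, φ₁, k₁, φ₂, k₂, he⟩ := autHom_mem E hQ β.2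
    have r₁ : φ₁.range = Q.map (MonoidHom.fst Ω₁ Ω₂) := by
      rw [← map_fst_range (φ₂ := φ₂), ← he, range_autHom]
    have r₂ : φ₂.range = Q.map (MonoidHom.snd Ω₁ Ω₂) := by
      rw [← map_snd_range (φ₁ := φ₁), ← he, range_autHom]
    refine ⟨isoOf φ₁ (F₁.injective_of_mem k₁) r₁, mem_autGroup_of_hom F₁ k₁,
      isoOf φ₂ (F₂.injective_of_mem k₂) r₂, mem_autGroup_of_hom F₂ k₂, fun x => ?_⟩
    have := DFunLike.congr_fun he x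
    exact ⟨Subtype.ext (congrArg Prod.fst this), Subtype.ext (congrArg Prod.snd this)⟩
  choose π₁ hπ₁ π₂ hπ₂ hπ using hcomp
  let f₁ : E.autGroup Q →* MulAut (Q.map (MonoidHom.fst Ω₁ Ω₂)) :=
    MonoidHom.mk' π₁ fun a b => MulEquiv.ext fun ⟨y, x, hx, hy⟩ => by
      subst hy
      show π₁ (a * b) (toFst Q ⟨x, hx⟩) = π₁ a (π₁ b (toFst Q ⟨x, hx⟩))
      rw [← (hπ (a * b) _).1, ← (hπ b _).1, ← (hπ a _).1]
      rfl
  let f₂ : E.autGroup Q →* MulAut (Q.map (MonoidHom.snd Ω₁ Ω₂)) :=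
    MonoidHom.mk' π₂ fun a b => MulEquiv.ext fun ⟨y, x, hx, hy⟩ => by
      subst hy
      show π₂ (a * b) (toSnd Q ⟨x, hx⟩) = π₂ a (π₂ b (toSnd Q ⟨x, hx⟩))
      rw [← (hπ (a * b) _).2, ← (hπ b _).2, ← (hπ a _).2]
      rfl
  have := finite_of_le hQ
  have := finite_mulAut hQ
  obtain ⟨T⟩ := (inferInstance : Nonempty (Sylow p (E.autGroup Q)))
  obtain ⟨c₁, hc₁, hX₁⟩ := IsFullyAutomized.exists_conj a₁
    (X := (T : Subgroup (E.autGroup Q)).map f₁)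
    (by rintro _ ⟨t, -, rfl⟩; exact hπ₁ t) (T.2.map f₁)
  obtain ⟨c₂, hc₂, hX₂⟩ := IsFullyAutomized.exists_conj a₂
    (X := (T : Subgroup (E.autGroup Q)).map f₂)
    (by rintro _ ⟨t, -, rfl⟩; exact hπ₂ t) (T.2.map f₂)
  let ρ := prodMap Q (autHom c₁) (autHom c₂)
  have hρ : ρ ∈ E.Hom Q :=
    ⟨hQ, _, autHom_mem F₁ a₁.1 hc₁, _, autHom_mem F₂ a₂.1 hc₂, rfl⟩
  have hQ' : ρ.range ≤ S₁.prod S₂ := range_le hρ
  have hconj : E.IsConj Q ρ.range := ⟨ρ, hρ, rfl⟩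
  have := finite_of_le hQ'
  have := finite_mulAut hQ'
  refine ⟨ρ.range, hconj, isFullyAutomized_of_card hQ' ?_, ?_, ?_⟩
  · let e := MulAut.congr (isoOf ρ (E.injective_of_mem hρ) rfl)
    let j : T → autInducedBy (S₁.prod S₂) ρ.range := fun t => ⟨e ((t : E.autGroup Q) : MulAut Q),
      by
        obtain ⟨g₁, hg₁, H₁⟩ := mem_autInducedBy.1 (hX₁ _ ⟨_, t.2, rfl⟩)
        obtain ⟨g₂, hg₂, H₂⟩ := mem_autInducedBy.1 (hX₂ _ ⟨_, t.2, rfl⟩)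
        refine mem_autInducedBy.2 ⟨(g₁, g₂), ⟨hg₁, hg₂⟩, fun y => ?_⟩
        obtain ⟨x, rfl⟩ := (isoOf ρ (E.injective_of_mem hρ) rfl).surjective y
        have hlhs : ((e ((t : E.autGroup Q) : MulAut Q)
            (isoOf ρ (E.injective_of_mem hρ) rfl x) : ρ.range) : Ω₁ × Ω₂) =
            ρ (((t : E.autGroup Q) : MulAut Q) x) := by
          simp [e, MulAut.congr]
        rw [hlhs, isoOf_coe]
        refine Prod.ext ?_ ?_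
        · have h := H₁ (c₁ (toFst Q x))
          rw [MulAut.mul_apply, MulAut.mul_apply, MulAut.inv_apply, MulEquiv.symm_apply_apply]
            at h
          show ((c₁ (toFst Q ((((t : E.autGroup Q) : MulAut Q)) x)) : _) : Ω₁) = _
          rw [(hπ _ x).1]
          exact h
        · have h := H₂ (c₂ (toSnd Q x))
          rw [MulAut.mul_apply, MulAut.mul_apply, MulAut.inv_apply, MulEquiv.symm_apply_apply]
            at h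
          show ((c₂ (toSnd Q ((((t : E.autGroup Q) : MulAut Q)) x)) : _) : Ω₂) = _
          rw [(hπ _ x).2]
          exact h⟩
    have hj : Function.Injective j := fun a b hab =>
      Subtype.ext (Subtype.ext (e.injective (congrArg Subtype.val hab)))
    refine le_antisymm ?_ ?_
    · obtain ⟨T', hT'⟩ := ((isPGroup_autInducedBy (isPGroup_prod h₁ h₂) ρ.range).of_equiv
        (Subgroup.subgroupOfEquivOfLe (autInducedBy_le_autGroup E hQ')).symm).exists_le_sylow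
      rw [← T'.card_eq_multiplicity,
        ← Nat.card_congr (Subgroup.subgroupOfEquivOfLe (autInducedBy_le_autGroup E hQ')).toEquiv]
      exact Subgroup.card_le_of_le hT'
    · rw [← card_autGroup_congr hconj, ← T.card_eq_multiplicity]
      exact Nat.card_le_card_of_injective j hj
  · rw [map_fst_range, range_autHom]
  · rw [map_snd_range, range_autHom]

theorem product_isSaturated (h₁ : IsPGroup p S₁) (h₂ : IsPGroup p S₂)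
    (hF₁ : F₁.IsSaturated p) (hF₂ : F₂.IsSaturated p) :
    (productSystem F₁ F₂).IsSaturated p := by
  intro P hP
  obtain ⟨R₁, ⟨χ₁, hχ₁, hr₁⟩, hR₁⟩ := exists_fullyNormalized F₁ (map_fst_le hP)
  obtain ⟨R₂, ⟨χ₂, hχ₂, hr₂⟩, hR₂⟩ := exists_fullyNormalized F₂ (map_snd_le hP)
  set E := productSystem F₁ F₂
  have hρ : prodMap P χ₁ χ₂ ∈ E.Hom P := ⟨hP, _, hχ₁, _, hχ₂, rfl⟩
  have e₁ : (prodMap P χ₁ χ₂).range.map (MonoidHom.fst Ω₁ Ω₂) = R₁ := by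
    rw [map_fst_range, hr₁]
  have e₂ : (prodMap P χ₁ χ₂).range.map (MonoidHom.snd Ω₁ Ω₂) = R₂ := by
    rw [map_snd_range, hr₂]
  obtain ⟨Q', hc, ha, f₁, f₂⟩ := exists_automized_product (F₁ := F₁) (F₂ := F₂) h₁ h₂
    (range_le hρ)
    (e₁.symm ▸ (IsSaturated.automized_receptive h₁ hF₁ hR₁).1)
    (e₂.symm ▸ (IsSaturated.automized_receptive h₂ hF₂ hR₂).1)
  exact ⟨Q', isConj_trans ⟨_, hρ, rfl⟩ hc, ha, receptive_product ha.1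
    ((f₁.trans e₁).symm ▸ (IsSaturated.automized_receptive h₁ hF₁ hR₁).2)
    ((f₂.trans e₂).symm ▸ (IsSaturated.automized_receptive h₂ hF₂ hR₂).2)⟩

end Saturated

end Cfsg.Agent.Lib.Fusion
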