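import Cfsg.Agent.Lib.Fusion.Completion
import Cfsg.Agent.Lib.Fusion.Product
import Cfsg.Agent.Lib.Fusion.Essential
import Cfsg.Agent.Lib.Fusion.Inner

/-!
Existence of a characteristic biset for a saturated fusion system.
-/

set_option autoImplicit false
set_option linter.unusedSectionVars false

namespace Cfsg.Agent.Lib.Fusion

open Cfsg Cfsg.FusionSystem MulAction

variable {Ω : Type*} [Group Ω] {S : Subgroup Ω}

/-- The graph of a homomorphism defined on a subgroup. -/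
def graph (P : Subgroup Ω) (φ : P →* Ω) : Subgroup (Ω × Ω) := (P.subtype.prod φ).range

theorem mem_graph {P : Subgroup Ω} {φ : P →* Ω} {z : Ω × Ω} :
    z ∈ graph P φ ↔ ∃ h : z.1 ∈ P, φ ⟨z.1, h⟩ = z.2 := by
  constructor
  · rintro ⟨x, rfl⟩
    exact ⟨x.2, rfl⟩
  · rintro ⟨h, e⟩
    exact ⟨⟨z.1, h⟩, Prod.ext rfl e⟩

theorem map_fst_graph (P : Subgroup Ω) (φ : P →* Ω) :
    (graph P φ).map (MonoidHom.fst Ω Ω) = P := by
  ext x
  constructor
  · rintro ⟨z, hz, rfl⟩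
    exact (mem_graph.1 hz).1
  · exact fun hx => ⟨(x, φ ⟨x, hx⟩), mem_graph.2 ⟨hx, rfl⟩, rfl⟩

theorem card_graph (P : Subgroup Ω) (φ : P →* Ω) : Nat.card (graph P φ) = Nat.card P :=
  (Nat.card_congr (MonoidHom.ofInjective (f := P.subtype.prod φ)
    fun _ _ h => Subtype.ext (congrArg Prod.fst h)).toEquiv).symm

theorem eq_graph_of_le {P : Subgroup Ω} {φ : P →* Ω} {R : Subgroup (Ω × Ω)}
    (h : R ≤ graph P φ) :
    ∃ hle : R.map (MonoidHom.fst Ω Ω) ≤ P,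
      R = graph (R.map (MonoidHom.fst Ω Ω)) (restr hle φ) := by
  refine ⟨by rintro _ ⟨z, hz, rfl⟩; exact (mem_graph.1 (h hz)).1, ?_⟩
  ext z
  rw [mem_graph]
  constructor
  · intro hz
    exact ⟨⟨z, hz, rfl⟩, (mem_graph.1 (h hz)).2⟩
  · rintro ⟨⟨w, hw, hw1⟩, e⟩
    obtain ⟨_, e'⟩ := mem_graph.1 (h hw)
    rwa [show z = w from Prod.ext hw1.symm (by
      rw [← e, ← e', restr_apply]
      exact congrArg φ (Subtype.ext hw1.symm))]

theorem graph_le_prod (F : FusionSystem S) {P : Subgroup Ω} {φ : P →* Ω} (hφ : φ ∈ F.Hom P) :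
    graph P φ ≤ S.prod S := by
  rintro _ ⟨x, rfl⟩
  exact ⟨source_le hφ x.2, apply_mem hφ x⟩

/-- A conjugate in `F × inner` of the graph of a map of `F` is the graph of such a map. -/
theorem exists_graph_of_isConj {F : FusionSystem S} {P : Subgroup Ω} {φ : P →* Ω}
    (hφ : φ ∈ F.Hom P) {R : Subgroup (Ω × Ω)}
    (h : (productSystem F (innerFusionSystem S)).IsConj (graph P φ) R) :
    ∃ (P' : Subgroup Ω) (φ' : P' →* Ω), φ' ∈ F.Hom P' ∧ R = graph P' φ' ∧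
      Nat.card P' = Nat.card P := by
  obtain ⟨χ, ⟨-, χ₁, h₁, χ₂, h₂, rfl⟩, rfl⟩ := h
  have h₂' : χ₂ ∈ F.Hom ((graph P φ).map (MonoidHom.snd Ω Ω)) := by
    obtain ⟨hP, g, hg, hx⟩ := h₂
    rw [show χ₂ = conjHom _ g from MonoidHom.ext hx]
    exact F.conj_mem hP hg
  have hl : P ≤ (graph P φ).map (MonoidHom.fst Ω Ω) := (map_fst_graph P φ).ge
  let γ := restr hl χ₁
  have hγ : γ ∈ F.Hom P := restr_mem F h₁ hl
  have hm : ∀ x : P, φ x ∈ (graph P φ).map (MonoidHom.snd Ω Ω) := fun x =>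
    ⟨((x : Ω), φ x), mem_graph.2 ⟨x.2, rfl⟩, rfl⟩
  obtain ⟨δ, hδ, hδr, hδl, -⟩ := exists_inv F hγ rfl
  obtain ⟨c, hc, hcP, hcv⟩ : ∃ c ∈ F.Hom γ.range, (∀ y, c y ∈ P) ∧
      ∀ (x : P) (hy : γ x ∈ γ.range), c ⟨γ x, hy⟩ = x :=
    ⟨δ, hδ, fun y => hδr.le ⟨y, rfl⟩, fun x hy => hδl x hy⟩
  refine ⟨γ.range, compose (compose c φ hcP) χ₂ fun y => hm _,
    compose_mem F (compose_mem F hc hφ hcP) h₂' fun y => hm _, ?_,
    card_range_eq (F.injective_of_mem hγ)⟩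
  ext z
  rw [mem_graph]
  have key : ∀ (x : P) (hy : γ x ∈ γ.range),
      compose (compose c φ hcP) χ₂ (fun y => hm _) ⟨γ x, hy⟩ = χ₂ ⟨φ x, hm x⟩ := fun x hy => by
    show χ₂ ⟨φ ⟨c ⟨γ x, hy⟩, hcP _⟩, hm _⟩ = χ₂ ⟨φ x, hm x⟩
    simp only [hcv x hy]
  constructor
  · rintro ⟨⟨w, hw⟩, rfl⟩
    obtain ⟨h1, h2⟩ := mem_graph.1 hw
    refine ⟨⟨⟨w.1, h1⟩, rfl⟩, (key ⟨w.1, h1⟩ ⟨⟨w.1, h1⟩, rfl⟩).trans ?_⟩
    exact congrArg χ₂ (Subtype.ext h2)
  · rintro ⟨⟨x, hx⟩, e⟩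
    refine ⟨⟨((x : Ω), φ x), mem_graph.2 ⟨x.2, rfl⟩⟩, Prod.ext hx ?_⟩
    show χ₂ _ = z.2
    rw [← e]
    have h' : (⟨z.1, ⟨x, hx⟩⟩ : γ.range) = ⟨γ x, ⟨x, rfl⟩⟩ := Subtype.ext hx.symm
    rw [h', key x ⟨x, rfl⟩]
    rfl

theorem markList_ofFn (T : Subgroup Ω) :
    ∀ {n : ℕ} (f : Fin n → Subgroup Ω) (P : Subgroup Ω),
      markList T (List.ofFn f) P = ∑ i, markOne T (f i) P
  | 0, f, P => by
    rw [List.ofFn_zero, markList]
    simp
  | n + 1, f, P => by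
    rw [List.ofFn_succ, markList_cons, markList_ofFn T, Fin.sum_univ_succ]

variable [Finite S] {F : FusionSystem S} {p : ℕ} [Fact p.Prime]

theorem card_normalizer_graph {β : MulAut S} :
    Nat.card (normalizerIn (S.prod S) (graph S (autHom β))) =
      Nat.card S * Nat.card (centralizerIn S S) := by
  have : Finite (graph S (autHom β)) :=
    Finite.of_injective (fun z => (⟨z.1.1, (mem_graph.1 z.2).1⟩ : S)) fun z w e => by
      have e1 : z.1.1 = w.1.1 := congrArg Subtype.val e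
      obtain ⟨_, a⟩ := mem_graph.1 z.2
      obtain ⟨_, b⟩ := mem_graph.1 w.2
      exact Subtype.ext (Prod.ext e1 (a.symm.trans ((congrArg (autHom β) (Subtype.ext e1)).trans b)))
  rw [← Nat.card_prod]
  have conj_iff : ∀ (a : S) (b : Ω), b ∈ S →
      (((a : Ω), b) ∈ Subgroup.normalizer ((graph S (autHom β) : Subgroup (Ω × Ω)) : Set (Ω × Ω)) ↔
      ((β a : S) : Ω)⁻¹ * b ∈ centralizerIn S S) := by
    intro a b hb
    constructor
    · intro hn
      refine mem_centralizerIn.2 ⟨S.mul_mem (S.inv_mem (β a).2) hb, fun y hy => ?_⟩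
      obtain ⟨x, hx⟩ := β.surjective ⟨y, hy⟩
      have := conj_mem_of_mem_normalizer hn
        (show ((x : Ω), y) ∈ graph S (autHom β) from mem_graph.2 ⟨x.2, congrArg Subtype.val hx⟩)
      obtain ⟨h1, h2⟩ := mem_graph.1 this
      have h2' : ((β (a * x * a⁻¹) : S) : Ω) = b * y * b⁻¹ := h2
      rw [map_mul, map_mul, map_inv, hx] at h2'
      simp only [Subgroup.coe_mul, Subgroup.coe_inv] at h2'
      have h3 := congrArg (fun t : Ω => ((β a : S) : Ω)⁻¹ * t * b) h2'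
      simpa [mul_assoc] using h3
    · intro hc
      obtain ⟨-, hc⟩ := mem_centralizerIn.1 hc
      refine mem_normalizer_of_finite fun z hz => ?_
      obtain ⟨h1, h2⟩ := mem_graph.1 hz
      refine mem_graph.2 ⟨S.mul_mem (S.mul_mem a.2 h1) (S.inv_mem a.2), ?_⟩
      show ((β (a * ⟨z.1, h1⟩ * a⁻¹) : S) : Ω) = b * z.2 * b⁻¹
      rw [map_mul, map_mul, map_inv]
      simp only [Subgroup.coe_mul, Subgroup.coe_inv]
      have hz2 : z.2 ∈ S := h2 ▸ (β ⟨z.1, h1⟩).2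
      have h2' : ((β ⟨z.1, h1⟩ : S) : Ω) = z.2 := h2
      rw [h2']
      have h3 := congrArg (fun t : Ω => ((β a : S) : Ω) * t * b⁻¹) (hc z.2 hz2)
      simpa [mul_assoc] using h3
  refine Nat.card_congr ⟨fun n => (⟨n.1.1, n.2.1.1⟩,
      ⟨_, (conj_iff ⟨n.1.1, n.2.1.1⟩ n.1.2 n.2.1.2).1 n.2.2⟩),
    fun x => ⟨((x.1 : Ω), ((β x.1 : S) : Ω) * x.2), ⟨x.1.2, S.mul_mem (β x.1).2 x.2.2.1⟩,
      (conj_iff x.1 _ (S.mul_mem (β x.1).2 x.2.2.1)).2 (by rw [inv_mul_cancel_left]; exact x.2.2)⟩,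
    fun n => Subtype.ext (Prod.ext rfl (mul_inv_cancel_left _ _)),
    fun x => Prod.ext rfl (Subtype.ext (inv_mul_cancel_left _ _))⟩

theorem normIndex_graph (β : MulAut S) :
    normIndex (S.prod S) (graph S (autHom β)) = Nat.card (centralizerIn S S) := by
  have h := normIndex_mul (T := S.prod S) (R := graph S (autHom β)) (by
    rintro _ ⟨x, rfl⟩
    exact ⟨x.2, (β x).2⟩)
  rw [card_normalizer_graph, card_graph, mul_comm (Nat.card S)] at h
  exact Nat.eq_of_mul_eq_mul_right Nat.card_pos h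

theorem conj_graph_eq {α β : MulAut S} {g : Ω × Ω} (hg : g ∈ S.prod S)
    (h : ∀ x ∈ graph S (autHom α), g⁻¹ * x * g ∈ graph S (autHom β)) :
    α * β⁻¹ ∈ Inn S := by
  let a : S := ⟨g.1, hg.1⟩
  let b : S := ⟨g.2, hg.2⟩
  rw [← autInducedBy_self, mem_autInducedBy]
  refine ⟨(b * (β a)⁻¹ : S), (b * (β a)⁻¹ : S).2, fun y => ?_⟩
  have hy : β (a⁻¹ * β⁻¹ y * a) = b⁻¹ * α (β⁻¹ y) * b := by
    obtain ⟨h1, h2⟩ := mem_graph.1 (h (((β⁻¹ y : S) : Ω), ((α (β⁻¹ y) : S) : Ω))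
      (mem_graph.2 ⟨(β⁻¹ y).2, rfl⟩))
    exact Subtype.ext h2
  rw [map_mul, map_mul, map_inv, MulAut.apply_inv_self] at hy
  have : (α * β⁻¹) y = b * (β a)⁻¹ * y * (b * (β a)⁻¹)⁻¹ := by
    rw [MulAut.mul_apply]
    have h3 := congrArg (fun t : S => b * t * b⁻¹) hy
    simpa [mul_assoc] using h3.symm
  exact congrArg Subtype.val this

/-- A stable family of transitive bisets: for each index a map `φ i` of the system on `P i`. -/
structure StableBiset (F : FusionSystem S) where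
  n : ℕ
  P : Fin n → Subgroup Ω
  φ : ∀ i, P i →* Ω
  mem : ∀ i, φ i ∈ F.Hom (P i)
  stable : ∀ (Q : Subgroup Ω) (ψ : Q →* Ω), ψ ∈ F.Hom Q →
    ∃ ε : (Σ i, S ⧸ (P i).subgroupOf S) ≃ (Σ i, S ⧸ (P i).subgroupOf S),
      (∀ (x : S) (hx : (x : Ω) ∈ Q) (hy : ψ ⟨x, hx⟩ ∈ S) (y : Σ i, S ⧸ (P i).subgroupOf S),
        ε (x • y) = (⟨_, hy⟩ : S) • ε y) ∧
      ∀ (x : S) (hx : (x : Ω) ∈ Q) (i : Fin n) (u : S) (hu : (u : Ω)⁻¹ * x * u ∈ P i),
        ∃ (j : Fin n) (v : S) (hv : (v : Ω)⁻¹ * ψ ⟨x, hx⟩ * v ∈ P j) (a : Ω), a ∈ S ∧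
          ε ⟨i, QuotientGroup.mk u⟩ = ⟨j, QuotientGroup.mk v⟩ ∧
          φ j ⟨_, hv⟩ = a * φ i ⟨_, hu⟩ * a⁻¹

open Classical in
/-- Every saturated fusion system has a stable biset of degree prime to `p`. -/
theorem exists_stableBiset (hS : IsPGroup p S) (hF : F.IsSaturated p) :
    ∃ B : StableBiset F, ¬ p ∣ ∑ i, ((B.P i).subgroupOf S).index := by
  set T := S.prod S with hTdef
  set E := productSystem F (innerFusionSystem S) with hEdef
  have hE : E.IsSaturated p := product_isSaturated hS hS hF (inner_isSaturated hS)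
  set 𝒳 := {R : Subgroup (Ω × Ω) | ∃ (P : Subgroup Ω) (φ : P →* Ω),
    φ ∈ F.Hom P ∧ P ≠ S ∧ R = graph P φ}
  have h𝒳 : ∀ R ∈ 𝒳, R ≤ T := by
    rintro R ⟨P, φ, hφ, -, rfl⟩
    exact graph_le_prod F hφ
  have hdown : ∀ R ∈ 𝒳, ∀ P ≤ R, P ∈ 𝒳 := by
    rintro R ⟨P, φ, hφ, hne, rfl⟩ R' hR'
    obtain ⟨hle, e⟩ := eq_graph_of_le hR'
    exact ⟨_, _, restr_mem F hφ hle,
      fun h => hne (le_antisymm (source_le hφ) (h ▸ hle)), e⟩
  have hconj : ∀ R ∈ 𝒳, ∀ R', E.IsConj R R' → R' ∈ 𝒳 := by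
    rintro R ⟨P, φ, hφ, hne, rfl⟩ R' h
    obtain ⟨P', φ', h1, h2, h3⟩ := exists_graph_of_isConj hφ h
    refine ⟨P', φ', h1, fun e => hne ?_, h2⟩
    exact eq_of_le_of_card (source_le hφ) (by rw [← h3, e])
  have := finite_mulAut (le_refl S)
  set C := F.autGroup S ⧸ (Inn S).subgroupOf (F.autGroup S)
  let e := Finite.equivFin C
  let α : Fin (Nat.card C) → F.autGroup S := fun i => (e.symm i).out
  let L₀ := List.ofFn fun i => graph S (autHom (α i : MulAut S))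
  have hαS : ∀ i, autHom (α i : MulAut S) ∈ F.Hom S := fun i => autHom_mem F le_rfl (α i).2
  have hauto : ∀ φ : S →* Ω, φ ∈ F.Hom S → ∃ β : F.autGroup S, autHom (β : MulAut S) = φ := by
    intro φ hφ
    have hr : φ.range = S := eq_of_le_of_card (range_le hφ)
      (card_range_eq (F.injective_of_mem hφ)).ge
    exact ⟨⟨isoOf φ (F.injective_of_mem hφ) hr, mem_autGroup_of_hom F hφ⟩, rfl⟩
  have htop : ∀ β : F.autGroup S, markList T L₀ (graph S (autHom (β : MulAut S))) =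
      Nat.card (centralizerIn S S) := by
    intro β
    rw [markList_ofFn, Finset.sum_eq_single (e (QuotientGroup.mk β))]
    · have hle : ∀ γ : MulAut S, graph S (autHom γ) ≤ T := fun γ => by
        rintro _ ⟨x, rfl⟩
        exact ⟨x.2, (γ x).2⟩
      rcases markOne_eq_zero_or (hle (α (e (QuotientGroup.mk β)))) (hle β)
        (by rw [card_graph, card_graph]) with h0 | ⟨-, -, -, h1⟩
      · obtain ⟨g, hg, hgv⟩ := mem_autInducedBy.1 (show
            ((β⁻¹ * α (e (QuotientGroup.mk β)) : F.autGroup S) : MulAut S) ∈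
              autInducedBy S S by
          rw [autInducedBy_self]
          exact Subgroup.mem_subgroupOf.1 (QuotientGroup.eq.1 (
            show (QuotientGroup.mk β : C) = QuotientGroup.mk (e.symm (e (QuotientGroup.mk β))).out
            by rw [Equiv.symm_apply_apply, QuotientGroup.out_eq'])))
        refine absurd h0 (Nat.card_ne_zero.2 ⟨⟨⟨QuotientGroup.mk (⟨(g, 1), hg, S.one_mem⟩ : T),
          ?_⟩⟩, inferInstance⟩)
        rw [stab_mk_iff (hle β)]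
        intro z hz
        obtain ⟨h1, h2⟩ := mem_graph.1 hz
        have hS' : g⁻¹ * z.1 * g ∈ S := S.mul_mem (S.mul_mem (S.inv_mem hg) h1) hg
        refine mem_graph.2 ⟨by simpa using hS', ?_⟩
        have hv := hgv ⟨g⁻¹ * z.1 * g, hS'⟩
        simp only [Subgroup.coe_mul, MulAut.mul_apply, Subgroup.coe_inv] at hv
        have hv' : ((β : MulAut S)⁻¹ ((α (e (QuotientGroup.mk β)) : MulAut S)
            ⟨g⁻¹ * z.1 * g, hS'⟩)) = ⟨z.1, h1⟩ :=
          Subtype.ext (hv.trans (by simp [mul_assoc]))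
        have h3 := congrArg (β : MulAut S) hv'
        rw [MulAut.apply_inv_self] at h3
        simp only [autHom, MonoidHom.comp_apply] at h2 ⊢
        simp only [Prod.fst_mul, Prod.fst_inv, Prod.snd_mul, Prod.snd_inv, inv_one, one_mul, mul_one]
        rw [← h2]
        exact congrArg Subtype.val h3
      · rw [h1, normIndex_graph]
    · intro i _ hi
      by_contra hne
      obtain ⟨g, hg, hgv⟩ := exists_of_markOne_ne_zero
        (graph_le_prod F (autHom_mem F le_rfl β.2)) hne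
      refine hi (e.symm.injective ?_)
      rw [Equiv.symm_apply_apply, ← QuotientGroup.out_eq' (e.symm i), QuotientGroup.eq]
      have hin := conj_graph_eq hg hgv
      show ((α i : MulAut S))⁻¹ * (β : MulAut S) ∈ Inn S
      have hnorm : ((Inn S).subgroupOf (F.autGroup S)).Normal := inferInstance
      have := hnorm.conj_mem ⟨_, inn_le_autGroup F le_rfl hin⟩ hin (α i)⁻¹
      simpa [Subgroup.mem_subgroupOf, mul_assoc] using this
    · simp
  have hL₀top : ∀ R, R ∉ 𝒳 → R ≤ T → markList T L₀ R ≠ 0 →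
      ∃ β : F.autGroup S, R = graph S (autHom (β : MulAut S)) := by
    intro R hR hRT hne
    rw [markList_ofFn] at hne
    obtain ⟨i, -, hi⟩ := Finset.exists_ne_zero_of_sum_ne_zero hne
    obtain ⟨g, hg, hgv⟩ := exists_of_markOne_ne_zero hRT hi
    have hsub : R.map (MulAut.conj g⁻¹).toMonoidHom ≤ graph S (autHom (α i : MulAut S)) := by
      rintro _ ⟨x, hx, rfl⟩
      simpa using hgv x hx
    obtain ⟨hle, he⟩ := eq_graph_of_le hsub
    obtain ⟨P', φ', h1, h2, h3⟩ := exists_graph_of_isConj (restr_mem F (hαS i) hle)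
      (he ▸ isConj_symm (isConj_conj E (T.inv_mem hg) hRT))
    by_cases hP' : P' = S
    · subst hP'
      obtain ⟨β, rfl⟩ := hauto φ' h1
      exact ⟨β, h2⟩
    · exact absurd ⟨P', φ', h1, hP', h2⟩ hR
  have h₀ : ∀ R R', E.IsConj R R' → R ∉ 𝒳 → markList T L₀ R = markList T L₀ R' := by
    intro R R' hc hR
    have hR' : R' ∉ 𝒳 := fun h => hR (hconj _ h _ (isConj_symm hc))
    have key : ∀ A B, E.IsConj A B → (∃ β : F.autGroup S, A = graph S (autHom (β : MulAut S))) →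
        ∃ β : F.autGroup S, B = graph S (autHom (β : MulAut S)) := by
      rintro A B hAB ⟨β, rfl⟩
      obtain ⟨P', φ', h1, h2, h3⟩ := exists_graph_of_isConj (autHom_mem F le_rfl β.2) hAB
      obtain rfl : P' = S := eq_of_le_of_card (source_le h1) h3.ge
      obtain ⟨γ, rfl⟩ := hauto φ' h1
      exact ⟨γ, h2⟩
    by_cases h : markList T L₀ R = 0 ∧ markList T L₀ R' = 0
    · rw [h.1, h.2]
    · obtain ⟨β, hβ⟩ : ∃ β : F.autGroup S, R = graph S (autHom (β : MulAut S)) := by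
        rcases not_and_or.1 h with h | h
        · exact hL₀top R hR (isConj_le_left hc) h
        · exact key R' R (isConj_symm hc) (hL₀top R' hR' (isConj_le_right hc) h)
      obtain ⟨γ, hγ⟩ := key R R' hc ⟨β, hβ⟩
      rw [hβ, hγ, htop, htop]
  obtain ⟨L₁, hL₁, hstab⟩ := exists_stable_completion E (isPGroup_prod hS hS) hE 𝒳 h𝒳 hdown
    hconj L₀ h₀
  set L := L₁ ++ L₀
  have hL : ∀ R ∈ L, ∃ (φ : R.map (MonoidHom.fst Ω Ω) →* Ω),
      φ ∈ F.Hom (R.map (MonoidHom.fst Ω Ω)) ∧ R = graph _ φ := by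
    intro R hR
    obtain ⟨P, φ, hφ, rfl⟩ : ∃ (P : Subgroup Ω) (φ : P →* Ω), φ ∈ F.Hom P ∧ R = graph P φ := by
      rcases List.mem_append.1 hR with h | h
      · obtain ⟨P, φ, hφ, -, rfl⟩ := hL₁ R h
        exact ⟨P, φ, hφ, rfl⟩
      · obtain ⟨i, rfl⟩ := List.mem_ofFn.1 h
        exact ⟨S, _, hαS i, rfl⟩
    obtain ⟨hle, e⟩ := eq_graph_of_le (le_refl (graph P φ))
    exact ⟨restr hle φ, restr_mem F hφ hle, e⟩
  choose φ hφ hgr using fun i : Fin L.length => hL (L.get i) (List.get_mem L i)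
  let Pf : Fin L.length → Subgroup Ω := fun i => (L.get i).map (MonoidHom.fst Ω Ω)
  let X := Σ i : Fin L.length, T ⧸ (L.get i).subgroupOf T
  let Y := Σ i : Fin L.length, S ⧸ (Pf i).subgroupOf S
  let f₁ : T →* S := ((MonoidHom.fst Ω Ω).comp T.subtype).codRestrict S fun x => x.2.1
  have hπ : ∀ i (a b : T), QuotientGroup.leftRel ((L.get i).subgroupOf T) a b →
      (QuotientGroup.mk (f₁ a) : S ⧸ (Pf i).subgroupOf S) = QuotientGroup.mk (f₁ b) := by
    intro i a b hab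
    rw [QuotientGroup.leftRel_apply, Subgroup.mem_subgroupOf] at hab
    rw [QuotientGroup.eq, Subgroup.mem_subgroupOf]
    exact ⟨_, hab, rfl⟩
  let π : X → Y := fun X₀ => ⟨X₀.1, Quotient.liftOn' X₀.2 (fun a => QuotientGroup.mk (f₁ a))
    (hπ X₀.1)⟩
  have hπmk : ∀ i (a : T), π ⟨i, QuotientGroup.mk a⟩ = ⟨i, QuotientGroup.mk (f₁ a)⟩ :=
    fun i a => rfl
  have hπsmul : ∀ (t : T) (X₀ : X), π (t • X₀) = f₁ t • π X₀ := by
    rintro t ⟨i, q⟩
    obtain ⟨a, rfl⟩ := QuotientGroup.mk_surjective q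
    rfl
  have hπfib : ∀ X₀ X₁ : X, π X₀ = π X₁ → ∃ t : T, f₁ t = 1 ∧ t • X₀ = X₁ := by
    rintro ⟨i, q⟩ ⟨j, q'⟩ h
    obtain ⟨a, rfl⟩ := QuotientGroup.mk_surjective q
    obtain ⟨b, rfl⟩ := QuotientGroup.mk_surjective q'
    rw [hπmk, hπmk] at h
    obtain rfl : i = j := congrArg Sigma.fst h
    have h' := QuotientGroup.eq.1 (eq_of_heq (Sigma.mk.inj h).2)
    rw [Subgroup.mem_subgroupOf] at h'
    set w : Ω × Ω := (((f₁ a)⁻¹ * f₁ b : S) , φ i ⟨_, h'⟩)
    have hw : w ∈ L.get i := by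
      rw [hgr i]
      exact mem_graph.2 ⟨h', rfl⟩
    have hwT : w ∈ T := (graph_le_prod F (hφ i)) (mem_graph.2 ⟨h', rfl⟩)
    refine ⟨b * (⟨w, hwT⟩ : T)⁻¹ * a⁻¹, ?_, ?_⟩
    · rw [map_mul, map_mul, map_inv, map_inv]
      have : f₁ ⟨w, hwT⟩ = (f₁ a)⁻¹ * f₁ b := rfl
      rw [this]
      group
    · rw [Sigma.smul_mk]
      refine Sigma.ext rfl (heq_of_eq ?_)
      rw [MulAction.Quotient.smul_coe, QuotientGroup.eq, Subgroup.mem_subgroupOf]
      simpa [mul_assoc] using hw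
  refine ⟨⟨L.length, Pf, φ, hφ, fun Q ψ hψ => ?_⟩, ?_⟩
  · have hQS : Q ≤ S := source_le hψ
    have : Finite Q := finite_of_le hQS
    let G := Q.prod S
    have hGT : G ≤ T := Subgroup.prod_mono hQS le_rfl
    have : Finite G := Finite.of_equiv _ (Q.prodEquiv S).symm.toEquiv
    let q₁ : G →* Q := ((MonoidHom.fst Ω Ω).comp G.subtype).codRestrict Q fun x => x.2.1
    let q₂ : G →* Ω := (MonoidHom.snd Ω Ω).comp G.subtype
    let Ψ : G →* Ω × Ω := (ψ.comp q₁).prod q₂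
    have hΨ : Ψ ∈ E.Hom G := by
      refine (productSystem_spec F (innerFusionSystem S) G Ψ).2 ⟨hGT,
        restr (show G.map (MonoidHom.fst Ω Ω) ≤ Q by rintro _ ⟨z, hz, rfl⟩; exact hz.1) ψ,
        restr_mem F hψ _, (G.map (MonoidHom.snd Ω Ω)).subtype,
        subtype_mem _ (by rintro _ ⟨z, hz, rfl⟩; exact hz.2), fun x _ _ => rfl⟩
    let a : G →* T := Subgroup.inclusion hGT
    let b : G →* T := Ψ.codRestrict T fun x => ⟨apply_mem hψ _, x.2.2⟩
    obtain ⟨ee, hee⟩ := exists_semiconj (X := X) a b (fun H => by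
      have ha : H.map a = (H.map G.subtype).subgroupOf T := by
        ext x
        exact ⟨fun ⟨y, hy, h⟩ => ⟨y, hy, congrArg Subtype.val h⟩,
          fun ⟨y, hy, h⟩ => ⟨y, hy, Subtype.ext h⟩⟩
      have hb : H.map b = (img Ψ (H.map G.subtype)).subgroupOf T := by
        ext x
        rw [Subgroup.mem_subgroupOf, mem_img]
        constructor
        · rintro ⟨y, hy, rfl⟩
          exact ⟨y, y.2, ⟨y, hy, rfl⟩, rfl⟩
        · rintro ⟨_, hyN, ⟨y, hy, rfl⟩, h⟩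
          exact ⟨y, hy, Subtype.ext h⟩
      rw [ha, hb, card_sigma_fix, card_sigma_fix]
      exact hstab _ _ (isConj_img E hΨ (Subgroup.map_subtype_le H)))
    let ι : Y → X := fun y => ⟨y.1, QuotientGroup.mk (⟨(((y.2.out : S) : Ω), 1),
      y.2.out.2, S.one_mem⟩ : T)⟩
    have hι : ∀ y, π (ι y) = y := by
      rintro ⟨i, q⟩
      exact Sigma.ext rfl (heq_of_eq (QuotientGroup.out_eq' q))
    have hfac : ∀ X₀ X₁ : X, π X₀ = π X₁ → π (ee X₀) = π (ee X₁) := by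
      intro X₀ X₁ h
      obtain ⟨t, ht, rfl⟩ := hπfib X₀ X₁ h
      have ht1 : (t : Ω × Ω).1 = 1 := congrArg Subtype.val ht
      let g : G := ⟨t, ⟨ht1 ▸ Q.one_mem, t.2.2⟩⟩
      have : t = a g := rfl
      rw [this, hee g X₀, hπsmul]
      have : f₁ (b g) = 1 := Subtype.ext (by
        show ψ (q₁ g) = 1
        rw [show q₁ g = 1 from Subtype.ext ht1, map_one])
      rw [this, one_smul]
    let ε₀ : Y → Y := fun y => π (ee (ι y))
    have hε : ∀ X₀, ε₀ (π X₀) = π (ee X₀) := fun X₀ => hfac _ _ (hι _)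
    have hbij : Function.Bijective ε₀ := Finite.surjective_iff_bijective.1 fun y =>
      ⟨π (ee.symm (ι y)), by rw [hε, Equiv.apply_symm_apply, hι]⟩
    refine ⟨Equiv.ofBijective ε₀ hbij, fun x hx hy y => ?_, fun x hx i u hu => ?_⟩
    · let g : G := ⟨((x : Ω), 1), hx, S.one_mem⟩
      show ε₀ (x • y) = _ • ε₀ y
      rw [← hι y, show x • π (ι y) = π (a g • ι y) by rw [hπsmul]; rfl, hε, hε, hee, hπsmul]
      rfl
    · set X₀ : X := ⟨i, QuotientGroup.mk (⟨((u : Ω), 1), u.2, S.one_mem⟩ : T)⟩ with hX₀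
      let g : G := ⟨((x : Ω), φ i ⟨_, hu⟩), hx, apply_mem (hφ i) _⟩
      have hfix : a g • X₀ = X₀ := by
        refine Sigma.ext rfl (heq_of_eq ?_)
        refine mem_stabilizer_iff.1 ?_
        refine ((stab_mk_iff (T := T) (R := L.get i) (P := Subgroup.zpowers (g : Ω × Ω))
          (Subgroup.zpowers_le.2 (hGT g.2)) _).2 ?_)
          (x := a g) (Subgroup.mem_zpowers (g : Ω × Ω))
        intro z hz
        have hmem : ((u : Ω), (1 : Ω))⁻¹ * (g : Ω × Ω) * ((u : Ω), (1 : Ω)) ∈ L.get i := by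
          rw [hgr i]
          exact mem_graph.2 ⟨hu, by simp [g]⟩
        have hle : Subgroup.zpowers (g : Ω × Ω) ≤
            (L.get i).map (MulAut.conj ((u : Ω), (1 : Ω))).toMonoidHom := by
          rw [Subgroup.zpowers_le]
          refine ⟨_, hmem, ?_⟩
          show ((u : Ω), (1 : Ω)) * _ * ((u : Ω), (1 : Ω))⁻¹ = _
          generalize ((u : Ω), (1 : Ω)) = c
          group
        obtain ⟨w, hw, rfl⟩ := hle hz
        show ((u : Ω), (1 : Ω))⁻¹ * (((u : Ω), (1 : Ω)) * w * ((u : Ω), (1 : Ω))⁻¹) *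
          ((u : Ω), (1 : Ω)) ∈ L.get i
        generalize ((u : Ω), (1 : Ω)) = c
        rwa [show c⁻¹ * (c * w * c⁻¹) * c = w by group]
      have hfix' : b g • ee X₀ = ee X₀ := by rw [← hee, hfix]
      obtain ⟨j, q, hq⟩ : ∃ (j : Fin L.length) (q : T ⧸ (L.get j).subgroupOf T),
        ee X₀ = ⟨j, q⟩ := ⟨_, _, rfl⟩
      obtain ⟨t, rfl⟩ := QuotientGroup.mk_surjective q
      rw [hq, Sigma.smul_mk] at hfix'
      have hmem := QuotientGroup.eq.1 (eq_of_heq (Sigma.mk.inj hfix').2).symm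
      rw [Subgroup.mem_subgroupOf, hgr j] at hmem
      obtain ⟨h1, h2⟩ := mem_graph.1 hmem
      have hv : ((f₁ t : S) : Ω)⁻¹ * ψ ⟨x, hx⟩ * (f₁ t : S) ∈ Pf j := by
        have h1' : (t : Ω × Ω).1⁻¹ * (ψ ⟨x, hx⟩ * (t : Ω × Ω).1) ∈ Pf j := h1
        rw [mul_assoc]
        exact h1'
      refine ⟨j, f₁ t, hv, ((t : Ω × Ω).2)⁻¹, S.inv_mem t.2.2, ?_, ?_⟩
      · show ε₀ (π X₀) = _
        rw [hε, hq]
        rfl
      · have h2' : φ j ⟨_, h1⟩ = (t : Ω × Ω).2⁻¹ * (φ i ⟨_, hu⟩ * (t : Ω × Ω).2) := h2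
        exact (congrArg (φ j) (Subtype.ext (mul_assoc _ _ _))).trans
          (h2'.trans (by rw [inv_inv]; exact (mul_assoc _ _ _).symm))
  · let idx : Subgroup (Ω × Ω) → ℕ := fun R => ((R.map (MonoidHom.fst Ω Ω)).subgroupOf S).index
    show ¬ p ∣ ∑ i : Fin L.length, idx (L.get i)
    rw [← List.sum_ofFn, show List.ofFn (fun i : Fin L.length => idx (L.get i)) = L.map idx from
      List.ofFn_getElem_eq_map L idx, List.map_append, List.sum_append]
    have h1 : p ∣ (L₁.map idx).sum := List.dvd_sum fun n hn => by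
      obtain ⟨R, hR, rfl⟩ := List.mem_map.1 hn
      obtain ⟨P, ψ, hψ, hne, rfl⟩ := hL₁ R hR
      show p ∣ (((graph P ψ).map (MonoidHom.fst Ω Ω)).subgroupOf S).index
      rw [map_fst_graph]
      obtain ⟨n, hn⟩ := hS.index (P.subgroupOf S)
      rw [hn]
      refine dvd_pow_self p fun hn0 => hne (le_antisymm (source_le hψ) ?_)
      rw [hn0, pow_zero, Subgroup.index_eq_one, Subgroup.subgroupOf_eq_top] at hn
      exact hn
    have h2 : (L₀.map idx).sum = Nat.card C := by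
      rw [List.map_ofFn, List.sum_ofFn, Finset.sum_eq_card_nsmul (b := 1) (fun i _ => ?_)]
      · simp
      · show (((graph S _).map (MonoidHom.fst Ω Ω)).subgroupOf S).index = 1
        rw [map_fst_graph, Subgroup.subgroupOf_self, Subgroup.index_top]
    have h3 : ¬ p ∣ Nat.card C := by
      obtain ⟨-, R, hR⟩ := (IsSaturated.automized_receptive hS hF (isFullyNormalized_top F)).1
      rw [autInducedBy_self] at hR
      show ¬ p ∣ ((Inn S).subgroupOf (F.autGroup S)).index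
      rw [← hR]
      exact R.not_dvd_index
    rw [h2]
    exact fun h => h3 ((Nat.dvd_add_right h1).1 h)

end Cfsg.Agent.Lib.Fusion
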