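import Cfsg.Agent.Lib.Fusion.GroupSystem
import Cfsg.Agent.Lib.Fusion.Normal
import Cfsg.Prelude.Def_FusionComponents

/-!
Systems realized by an injective homomorphism into a finite group.
-/

set_option autoImplicit false
set_option linter.unusedSectionVars false

namespace Cfsg.Agent.Lib.Fusion

open Cfsg Cfsg.FusionSystem

variable {Ω : Type*} [Group Ω] {S : Subgroup Ω} {G : Type*} [Group G] {ι : S →* G}

theorem mem_imageAlong {P : Subgroup Ω} {y : G} :
    y ∈ imageAlong ι P ↔ ∃ (x : Ω) (hx : x ∈ S), x ∈ P ∧ ι ⟨x, hx⟩ = y := by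
  constructor
  · rintro ⟨⟨x, hx⟩, hxP, rfl⟩
    exact ⟨x, hx, hxP, rfl⟩
  · rintro ⟨x, hx, hxP, rfl⟩
    exact ⟨⟨x, hx⟩, hxP, rfl⟩

theorem apply_mem_imageAlong (ι : S →* G) {P : Subgroup Ω} (x : S) (hx : (x : Ω) ∈ P) :
    ι x ∈ imageAlong ι P :=
  ⟨x, hx, rfl⟩

theorem imageAlong_le_range (ι : S →* G) (P : Subgroup Ω) : imageAlong ι P ≤ ι.range := by
  rintro _ ⟨x, -, rfl⟩
  exact ⟨x, rfl⟩

theorem apply_mem_imageAlong_iff (hi : Function.Injective ι) {P : Subgroup Ω} {x : S} :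
    ι x ∈ imageAlong ι P ↔ (x : Ω) ∈ P :=
  Subgroup.mem_map_iff_mem hi

theorem mem_preimageAlong {P' : Subgroup G} {x : Ω} :
    x ∈ preimageAlong ι P' ↔ ∃ hx : x ∈ S, ι ⟨x, hx⟩ ∈ P' := by
  constructor
  · rintro ⟨⟨x, hx⟩, hxP, rfl⟩
    exact ⟨hx, hxP⟩
  · rintro ⟨hx, h⟩
    exact ⟨⟨x, hx⟩, h, rfl⟩

theorem preimageAlong_le (ι : S →* G) (P' : Subgroup G) : preimageAlong ι P' ≤ S :=
  Subgroup.map_subtype_le _

theorem imageAlong_preimageAlong {P' : Subgroup G} (h : P' ≤ ι.range) :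
    imageAlong ι (preimageAlong ι P') = P' := by
  rw [imageAlong, preimageAlong, Subgroup.subgroupOf,
    Subgroup.comap_map_eq_self_of_injective S.subtype_injective,
    Subgroup.map_comap_eq_self h]

theorem preimageAlong_imageAlong (hi : Function.Injective ι) {P : Subgroup Ω} (h : P ≤ S) :
    preimageAlong ι (imageAlong ι P) = P := by
  rw [imageAlong, preimageAlong, Subgroup.comap_map_eq_self_of_injective hi,
    Subgroup.map_subgroupOf_eq_of_le h]

theorem imageAlong_top (ι : S →* G) : imageAlong ι S = ι.range := by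
  rw [imageAlong, Subgroup.subgroupOf_self, MonoidHom.range_eq_map]

/-- The isomorphism of a subgroup with its image. -/
noncomputable def pushEquiv (hi : Function.Injective ι) {P : Subgroup Ω} (hP : P ≤ S) :
    P ≃* imageAlong ι P :=
  (Subgroup.subgroupOfEquivOfLe hP).symm.trans
    (Subgroup.equivMapOfInjective (P.subgroupOf S) ι hi)

@[simp] theorem pushEquiv_coe (hi : Function.Injective ι) {P : Subgroup Ω} (hP : P ≤ S) (x : P) :
    (pushEquiv hi hP x : G) = ι ⟨x, hP x.2⟩ := rfl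

theorem card_imageAlong (hi : Function.Injective ι) {P : Subgroup Ω} (hP : P ≤ S) :
    Nat.card (imageAlong ι P) = Nat.card P :=
  (Nat.card_congr (pushEquiv hi hP).toEquiv).symm

theorem push_mem_normalizer (hi : Function.Injective ι) {P : Subgroup Ω} (hP : P ≤ S) {x : S} :
    ι x ∈ Subgroup.normalizer (imageAlong ι P : Set G) ↔
      (x : Ω) ∈ Subgroup.normalizer (P : Set Ω) := by
  constructor
  · intro h
    refine mem_normalizer_iff'.2 ⟨fun y hy => ?_, fun y hy => ?_⟩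
    · have h1 := (mem_normalizer_iff'.1 h).1 _ (apply_mem_imageAlong ι ⟨y, hP hy⟩ hy)
      rw [← map_inv, ← map_mul, ← map_mul] at h1
      exact (apply_mem_imageAlong_iff hi).1 h1
    · have h1 := (mem_normalizer_iff'.1 h).2 _ (apply_mem_imageAlong ι ⟨y, hP hy⟩ hy)
      rw [← map_inv, ← map_mul, ← map_mul] at h1
      exact (apply_mem_imageAlong_iff hi).1 h1
  · intro h
    refine mem_normalizer_iff'.2 ⟨?_, ?_⟩ <;> rintro _ ⟨⟨y, hyS⟩, hy, rfl⟩
    · rw [← map_inv, ← map_mul, ← map_mul]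
      exact apply_mem_imageAlong ι _ ((mem_normalizer_iff'.1 h).1 y hy)
    · rw [← map_inv, ← map_mul, ← map_mul]
      exact apply_mem_imageAlong ι _ ((mem_normalizer_iff'.1 h).2 y hy)

theorem map_autInducedBy_push (hi : Function.Injective ι) {K P : Subgroup Ω} (hK : K ≤ S)
    (hP : P ≤ S) :
    (autInducedBy K P).map (MulAut.congr (pushEquiv hi hP)).toMonoidHom =
      autInducedBy (imageAlong ι K) (imageAlong ι P) := by
  refine le_antisymm ?_ fun β hβ => ?_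
  · rintro _ ⟨α, hα, rfl⟩
    obtain ⟨g, hg, he⟩ := mem_autInducedBy.1 hα
    refine mem_autInducedBy.2 ⟨ι ⟨g, hK hg⟩, apply_mem_imageAlong ι _ hg, fun y => ?_⟩
    obtain ⟨x, rfl⟩ := (pushEquiv hi hP).surjective y
    show ((pushEquiv hi hP (α ((pushEquiv hi hP).symm (pushEquiv hi hP x))) : imageAlong ι P) : G) =
      _
    rw [MulEquiv.symm_apply_apply, pushEquiv_coe, pushEquiv_coe, ← map_inv, ← map_mul, ← map_mul]
    exact congrArg ι (Subtype.ext (he x))
  · obtain ⟨h, hh, he⟩ := mem_autInducedBy.1 hβ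
    obtain ⟨g, hgS, hgK, rfl⟩ := mem_imageAlong.1 hh
    refine ⟨(MulAut.congr (pushEquiv hi hP)).symm β, mem_autInducedBy.2 ⟨g, hgK, fun x => ?_⟩,
      MulEquiv.apply_symm_apply _ _⟩
    show (((pushEquiv hi hP).symm (β (pushEquiv hi hP x)) : P) : Ω) = _
    have h1 := he (pushEquiv hi hP x)
    generalize β (pushEquiv hi hP x) = y at h1
    obtain ⟨z, rfl⟩ := (pushEquiv hi hP).surjective y
    rw [MulEquiv.symm_apply_apply]
    rw [pushEquiv_coe, pushEquiv_coe, ← map_inv, ← map_mul, ← map_mul] at h1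
    exact congrArg Subtype.val (hi h1)

variable {F : FusionSystem S}

theorem IsRealizedBy.exists_conj (h : F.IsRealizedBy ι) {P : Subgroup Ω} {φ : P →* Ω}
    (hφ : φ ∈ F.Hom P) :
    ∃ g : G, ∀ x : P, ι ⟨φ x, apply_mem hφ x⟩ = g * ι ⟨x, source_le hφ x.2⟩ * g⁻¹ :=
  (h.2 P (source_le hφ) φ (apply_mem hφ)).1 hφ

theorem IsRealizedBy.isConj_iff (h : F.IsRealizedBy ι) {P Q : Subgroup Ω} :
    F.IsConj P Q ↔ P ≤ S ∧ Q ≤ S ∧
      ∃ g : G, (imageAlong ι P).map (MulAut.conj g).toMonoidHom = imageAlong ι Q := by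
  constructor
  · intro hPQ
    refine ⟨isConj_le_left hPQ, isConj_le_right hPQ, ?_⟩
    obtain ⟨φ, hφ, rfl⟩ := hPQ
    obtain ⟨g, hg⟩ := IsRealizedBy.exists_conj h hφ
    refine ⟨g, le_antisymm ?_ ?_⟩
    · rintro _ ⟨_, ⟨⟨x, hxS⟩, hx, rfl⟩, rfl⟩
      exact mem_imageAlong.2 ⟨_, apply_mem hφ _, ⟨⟨x, hx⟩, rfl⟩, hg ⟨x, hx⟩⟩
    · intro y hy
      obtain ⟨_, hS', ⟨x, rfl⟩, rfl⟩ := mem_imageAlong.1 hy
      exact ⟨_, apply_mem_imageAlong ι ⟨x, source_le hφ x.2⟩ x.2, (hg x).symm⟩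
  · rintro ⟨hP, hQ, g, hg⟩
    have hmem : ∀ x : P, ∃ y : S, (y : Ω) ∈ Q ∧ ι y = g * ι ⟨x, hP x.2⟩ * g⁻¹ := by
      intro x
      obtain ⟨y, hy, he⟩ := hg.le
        ⟨_, apply_mem_imageAlong ι (⟨x, hP x.2⟩ : S) x.2, rfl⟩
      exact ⟨y, hy, he⟩
    choose f hfQ hf using hmem
    have hone : f 1 = 1 := by
      apply h.1
      rw [hf, map_one]
      have : (⟨((1 : P) : Ω), hP (1 : P).2⟩ : S) = 1 := rfl
      rw [this, map_one, mul_one, mul_inv_cancel]
    have hmul : ∀ a b, f (a * b) = f a * f b := by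
      intro a b
      apply h.1
      rw [hf, map_mul, hf, hf]
      have : (⟨((a * b : P) : Ω), hP (a * b).2⟩ : S) = ⟨a, hP a.2⟩ * ⟨b, hP b.2⟩ := rfl
      rw [this, map_mul]
      group
    let φ : P →* Ω :=
      { toFun := fun x => (f x : Ω)
        map_one' := congrArg Subtype.val hone
        map_mul' := fun a b => congrArg Subtype.val (hmul a b) }
    refine ⟨φ, (h.2 P hP φ fun x => (f x).2).2 ⟨g, fun x => hf x⟩, le_antisymm ?_ fun y hy => ?_⟩
    · rintro _ ⟨x, rfl⟩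
      exact hfQ x
    · obtain ⟨z, hz, he⟩ := hg.ge (apply_mem_imageAlong ι (⟨y, hQ hy⟩ : S) hy)
      obtain ⟨x, hxS, hx, rfl⟩ := mem_imageAlong.1 hz
      exact ⟨⟨x, hx⟩, congrArg Subtype.val (h.1 ((hf ⟨x, hx⟩).trans he))⟩

theorem IsRealizedBy.autGroup (h : F.IsRealizedBy ι) {P : Subgroup Ω} (hP : P ≤ S) :
    (F.autGroup P).map (MulAut.congr (pushEquiv h.1 hP)).toMonoidHom =
      autInducedBy ⊤ (imageAlong ι P) := by
  refine le_antisymm ?_ fun β hβ => ?_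
  · rintro _ ⟨α, hα, rfl⟩
    obtain ⟨g, hg⟩ := IsRealizedBy.exists_conj h (autHom_mem F hP hα)
    refine mem_autInducedBy.2 ⟨g, trivial, fun y => ?_⟩
    obtain ⟨x, rfl⟩ := (pushEquiv h.1 hP).surjective y
    show ((pushEquiv h.1 hP (α ((pushEquiv h.1 hP).symm (pushEquiv h.1 hP x))) :
      imageAlong ι P) : G) = _
    rw [MulEquiv.symm_apply_apply]
    exact hg x
  · obtain ⟨g, -, he⟩ := mem_autInducedBy.1 hβ
    refine ⟨(MulAut.congr (pushEquiv h.1 hP)).symm β, mem_autGroup_of_hom F ?_,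
      MulEquiv.apply_symm_apply _ _⟩
    refine (h.2 P hP _ fun x => hP (SetLike.coe_mem _)).2 ⟨g, fun x => ?_⟩
    have h1 := he (pushEquiv h.1 hP x)
    obtain ⟨z, hz⟩ := (pushEquiv h.1 hP).surjective (β (pushEquiv h.1 hP x))
    rw [← hz, pushEquiv_coe, pushEquiv_coe] at h1
    refine Eq.trans (congrArg ι (Subtype.ext ?_)) h1
    show (((pushEquiv h.1 hP).symm (β (pushEquiv h.1 hP x)) : P) : Ω) = z
    rw [← hz, MulEquiv.symm_apply_apply]

variable [Finite G] {p : ℕ} [Fact p.Prime]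

/-- A system realized on a Sylow subgroup of a finite group is saturated. -/
theorem IsRealizedBy.isSaturated (h : F.IsRealizedBy ι) (T : Sylow p G)
    (hT : (T : Subgroup G) = ι.range) : F.IsSaturated p := by
  have : Finite S := Finite.of_injective ι h.1
  intro P hP
  obtain ⟨g, hg, hN⟩ := exists_conj_hasSylowNormalizer T
    (P := imageAlong ι P) (hT.symm ▸ imageAlong_le_range ι P)
  let Q' := (imageAlong ι P).map (MulAut.conj g).toMonoidHom
  let Q := preimageAlong ι Q'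
  have hQS : Q ≤ S := preimageAlong_le ι Q'
  have hQ' : imageAlong ι Q = Q' := imageAlong_preimageAlong (le_of_le_of_eq hg hT)
  have hN' : HasSylowNormalizer p (T : Subgroup G) (imageAlong ι Q) := by
    rw [hQ']
    exact hN
  refine ⟨Q, (IsRealizedBy.isConj_iff h).2 ⟨hP, hQS, g, hQ'.symm⟩, ?_, hQS, ?_⟩
  · refine isFullyAutomized_of_card hQS ?_
    obtain ⟨R, hR⟩ := hN'.automizer T
    have h1 := R.card_eq_multiplicity
    rw [hR, Nat.card_congr (Subgroup.subgroupOfEquivOfLe (autInducedBy_mono le_top)).toEquiv,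
      hT, ← imageAlong_top ι, ← map_autInducedBy_push h.1 le_rfl hQS, ← IsRealizedBy.autGroup h hQS,
      Subgroup.card_map_of_injective (MulEquiv.injective _),
      Subgroup.card_map_of_injective (MulEquiv.injective _)] at h1
    exact h1
  · intro R φ hφ hr
    obtain ⟨g₀, hg₀⟩ := IsRealizedBy.exists_conj h hφ
    have hR := source_le hφ
    have hmap : (imageAlong ι R).map (MulAut.conj g₀).toMonoidHom = imageAlong ι Q := by
      refine le_antisymm ?_ ?_
      · rintro _ ⟨_, ⟨⟨x, hxS⟩, hx, rfl⟩, rfl⟩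
        exact mem_imageAlong.2 ⟨_, apply_mem hφ _, hr.le ⟨⟨x, hx⟩, rfl⟩, hg₀ ⟨x, hx⟩⟩
      · intro y hy
        obtain ⟨z, hzS, hz, rfl⟩ := mem_imageAlong.1 hy
        obtain ⟨x, rfl⟩ := hr.ge hz
        exact ⟨_, apply_mem_imageAlong ι ⟨x, hR x.2⟩ x.2, (hg₀ x).symm⟩
    have hQT : imageAlong ι Q ≤ (T : Subgroup G) := hT.symm ▸ imageAlong_le_range ι Q
    have hRT : imageAlong ι R ≤ (T : Subgroup G) := hT.symm ▸ imageAlong_le_range ι R
    have hc : conjHom (imageAlong ι R) g₀ ∈ (groupFusionSystem (T : Subgroup G)).Hom _ :=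
      conjHom_mem_group hRT (le_of_eq_of_le hmap hQT)
    obtain ⟨ψ', hψ', hext, -⟩ := IsReceptive.extend (hN'.receptive T hQT) hc
      (by rw [range_conjHom]; exact hmap)
    obtain ⟨-, hψT, k, hk⟩ := hψ'
    have hmem : ∀ x : extender S R φ, ι ⟨x, extender_le S R φ x.2⟩ ∈
        extender (T : Subgroup G) (imageAlong ι R) (conjHom (imageAlong ι R) g₀) := by
      intro x
      obtain ⟨hxS, hxN, c, hc, H⟩ := mem_extender.1 x.2
      refine mem_extender.2 ⟨hT.symm ▸ ⟨_, rfl⟩, (push_mem_normalizer h.1 hR).2 hxN, ι ⟨c, hc⟩,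
        hT.symm ▸ ⟨_, rfl⟩, ?_⟩
      rintro ⟨_, ⟨⟨y, hyS⟩, hy, rfl⟩⟩ hy'
      have h2 := hg₀ ⟨(x : Ω) * y * (x : Ω)⁻¹, conj_mem_of_mem_normalizer hxN hy⟩
      have h3 := hg₀ ⟨y, hy⟩
      show g₀ * (ι ⟨x, hxS⟩ * ι ⟨y, hyS⟩ * (ι ⟨x, hxS⟩)⁻¹) * g₀⁻¹ = _
      rw [← map_inv, ← map_mul, ← map_mul]
      have e1 : (⟨x, hxS⟩ : S) * ⟨y, hyS⟩ * (⟨x, hxS⟩ : S)⁻¹ =
          ⟨(x : Ω) * y * (x : Ω)⁻¹, hR (conj_mem_of_mem_normalizer hxN hy)⟩ := rfl
      rw [e1, ← h2]
      show _ = ι ⟨c, hc⟩ * (g₀ * ι ⟨y, hyS⟩ * g₀⁻¹) * (ι ⟨c, hc⟩)⁻¹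
      rw [← h3, ← map_inv, ← map_mul, ← map_mul]
      exact congrArg ι (Subtype.ext (H ⟨y, hy⟩ _))
    have hex : ∀ x : extender S R φ, ∃ y : S, ι y = k * ι ⟨x, extender_le S R φ x.2⟩ * k⁻¹ := by
      intro x
      have h2 := hψT ⟨_, hmem x⟩
      rw [hk] at h2
      replace h2 := hT.le h2
      exact h2
    choose f hf using hex
    have hone : f 1 = 1 := by
      apply h.1
      rw [hf, map_one,
        show (⟨((1 : extender S R φ) : Ω), extender_le S R φ (1 : extender S R φ).2⟩ : S) = 1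
          from rfl, map_one, mul_one, mul_inv_cancel]
    have hmul : ∀ a b, f (a * b) = f a * f b := by
      intro a b
      apply h.1
      rw [hf, map_mul, hf, hf, show (⟨((a * b : extender S R φ) : Ω),
          extender_le S R φ (a * b).2⟩ : S) =
          ⟨a, extender_le S R φ a.2⟩ * ⟨b, extender_le S R φ b.2⟩ from rfl, map_mul]
      group
    let ψ : extender S R φ →* Ω :=
      { toFun := fun x => (f x : Ω)
        map_one' := congrArg Subtype.val hone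
        map_mul' := fun a b => congrArg Subtype.val (hmul a b) }
    refine ⟨ψ, (h.2 _ (extender_le S R φ) ψ fun x => (f x).2).2 ⟨k, fun x => hf x⟩,
      fun x hxR hxN => congrArg Subtype.val (h.1 (a₂ := ⟨φ ⟨x, hxR⟩, apply_mem hφ _⟩) ?_)⟩
    rw [hf, hg₀]
    have h4 := hext _ (apply_mem_imageAlong ι ⟨x, hR hxR⟩ hxR) (hmem ⟨x, hxN⟩)
    rw [hk] at h4
    exact h4

theorem fusionSystemOfSubgroup_realized {H T : Subgroup Ω} (hTH : T ≤ H) :
    (fusionSystemOfSubgroup H T hTH).IsRealizedBy (Subgroup.inclusion hTH) :=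
  ⟨Subgroup.inclusion_injective hTH, fun _ hP φ hφ =>
    ⟨fun ⟨_, _, g, hg, h⟩ => ⟨⟨g, hg⟩, fun x => Subtype.ext (h x)⟩,
      fun ⟨g, hg⟩ => ⟨hP, hφ, g, g.2, fun x => congrArg Subtype.val (hg x)⟩⟩⟩

theorem fusionSystemOfSubgroup_isSaturated [Finite Ω] {H T : Subgroup Ω} (hTH : T ≤ H)
    (R : Sylow p H) (hR : (R : Subgroup H) = T.subgroupOf H) :
    (fusionSystemOfSubgroup H T hTH).IsSaturated p :=
  IsRealizedBy.isSaturated (fusionSystemOfSubgroup_realized hTH) R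
    (by rw [hR, Subgroup.inclusion_range])

end Cfsg.Agent.Lib.Fusion
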