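import Cfsg.Agent.Lib.Fusion.Essential
import Cfsg.Agent.Lib.Fusion.Axioms
import Cfsg.Agent.Lib.Fusion.Realized
import Cfsg.Agent.Lib.Transfer.Tate
import Mathlib.GroupTheory.Solvable

/-!
The focal and hyperfocal subgroups: `foc = hyp · S′`, strong closure, the hyperfocal subgroup
theorem for groups.
-/

set_option autoImplicit false
set_option linter.unusedSectionVars false

namespace Cfsg.Agent.Lib.Fusion

open Cfsg Cfsg.FusionSystem
open scoped commutatorElement

variable {Ω : Type*} [Group Ω] {S : Subgroup Ω} {F : FusionSystem S}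

theorem inv_mul_conj_eq (g x : Ω) : x⁻¹ * (g * x * g⁻¹) = ⁅x⁻¹, g⁆ := by
  rw [commutatorElement_def, inv_inv]
  simp [mul_assoc]

theorem hyperfocal_mem {p : ℕ} {P : Subgroup Ω} (hP : P ≤ S) {α : F.autGroup P}
    (hα : α ∈ pResidual p (F.autGroup P)) (x : P) :
    (x : Ω)⁻¹ * (((α : MulAut P) x : P) : Ω) ∈ F.hyperfocalSubgroup p :=
  Subgroup.subset_closure ⟨P, α, x, hP, hα, rfl⟩

theorem focal_mem {P : Subgroup Ω} {φ : P →* Ω} (hφ : φ ∈ F.Hom P) (x : P) :
    (x : Ω)⁻¹ * φ x ∈ F.focalSubgroup :=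
  Subgroup.subset_closure ⟨P, φ, x, hφ, rfl⟩

theorem hyperfocal_le (F : FusionSystem S) (p : ℕ) : F.hyperfocalSubgroup p ≤ S := by
  refine (Subgroup.closure_le _).2 ?_
  rintro _ ⟨P, α, x, hP, -, rfl⟩
  exact S.mul_mem (S.inv_mem (hP x.2)) (hP ((α : MulAut P) x).2)

theorem hyperfocal_le_focal (F : FusionSystem S) (p : ℕ) :
    F.hyperfocalSubgroup p ≤ F.focalSubgroup := by
  refine (Subgroup.closure_le _).2 ?_
  rintro _ ⟨P, α, x, hP, -, rfl⟩
  exact focal_mem (autHom_mem F hP α.2) x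

theorem commutator_le_focal (F : FusionSystem S) : ⁅S, S⁆ ≤ F.focalSubgroup := by
  refine Subgroup.commutator_le.2 fun a ha b hb => ?_
  have h := focal_mem (F.conj_mem (le_refl S) hb) ⟨a⁻¹, S.inv_mem ha⟩
  have e : ((⟨a⁻¹, S.inv_mem ha⟩ : S) : Ω)⁻¹ * conjHom S b ⟨a⁻¹, S.inv_mem ha⟩ = ⁅a, b⁆ := by
    show a⁻¹⁻¹ * (b * a⁻¹ * b⁻¹) = _
    rw [inv_mul_conj_eq, inv_inv]
  rwa [e] at h

/-- Conjugation by elements of `S` preserves the hyperfocal subgroup. -/
theorem conj_mem_hyperfocal (F : FusionSystem S) (p : ℕ) {g : Ω} (hg : g ∈ S) {x : Ω}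
    (hx : x ∈ F.hyperfocalSubgroup p) : g * x * g⁻¹ ∈ F.hyperfocalSubgroup p := by
  have hle : F.hyperfocalSubgroup p ≤
      (F.hyperfocalSubgroup p).comap (MulAut.conj g).toMonoidHom := by
    refine (Subgroup.closure_le _).2 ?_
    rintro _ ⟨P, α, y, hP, hα, rfl⟩
    have hφ := F.conj_mem hP hg
    let j := isoOf (conjHom P g) (F.injective_of_mem hφ) rfl
    let c : F.autGroup P →* F.autGroup (conjHom P g).range :=
      ((MulAut.congr j).toMonoidHom.comp (F.autGroup P).subtype).codRestrict _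
        fun β => exists_mulAut_congr F hφ rfl β.2
    have h1 := hyperfocal_mem (range_le hφ)
      (Cfsg.Agent.Lib.Transfer.map_pResidual_le c ⟨α, hα, rfl⟩) (j y)
    show g * ((y : Ω)⁻¹ * (((α : MulAut P) y : P) : Ω)) * g⁻¹ ∈ F.hyperfocalSubgroup p
    convert h1 using 1
    show _ = (g * (y : Ω) * g⁻¹)⁻¹ * ((j ((α : MulAut P) (j.symm (j y))) : _) : Ω)
    rw [MulEquiv.symm_apply_apply]
    show _ = (g * (y : Ω) * g⁻¹)⁻¹ * (g * (((α : MulAut P) y : P) : Ω) * g⁻¹)
    group
  exact hle hx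

variable {p : ℕ} [Fact p.Prime] [Finite S]

/-- A system containing, at every fully normalized subgroup, the residual part of the
automorphisms contains the whole system. -/
theorem le_of_residual (hS : IsPGroup p S) (hF : F.IsSaturated p) (E : FusionSystem S)
    (h : ∀ P : Subgroup Ω, F.IsFullyNormalized P →
      ∀ α : F.autGroup P, α ∈ pResidual p (F.autGroup P) → (α : MulAut P) ∈ E.autGroup P) :
    F ≤ E := by
  refine alperin hS hF E fun P hP α hα => ?_
  have hn : F.IsFullyNormalized P := by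
    rcases hP with rfl | hP
    · exact isFullyNormalized_top F
    · exact hP.2.1
  obtain ⟨-, R, hR⟩ := (IsSaturated.automized_receptive hS hF hn).1
  have := finite_mulAut hn.1
  have htop : (⟨α, hα⟩ : F.autGroup P) ∈
      (R : Subgroup (F.autGroup P)) ⊔ pResidual p (F.autGroup P) := by
    rw [Cfsg.Agent.Lib.Transfer.sylow_sup_pResidual]
    trivial
  obtain ⟨r, hr, k, hk, hrk⟩ := Subgroup.mem_sup_of_normal_right.1 htop
  have e : α = (r : MulAut P) * k := congrArg Subtype.val hrk.symm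
  rw [e]
  rw [hR] at hr
  exact Subgroup.mul_mem _ (autInducedBy_le_autGroup E hn.1 hr) (h P hn k hk)

/-- The maps moving every element inside its coset of `M`. -/
def cosetSystem (F : FusionSystem S) (M : Subgroup Ω) (hM : ⁅S, S⁆ ≤ M) : FusionSystem S where
  Hom P := {φ | φ ∈ F.Hom P ∧ ∀ x : P, (x : Ω)⁻¹ * φ x ∈ M}
  le_of_mem h := F.le_of_mem h.1
  injective_of_mem h := F.injective_of_mem h.1
  conj_mem {P g} hP hg := ⟨F.conj_mem hP hg, fun x => by
    show (x : Ω)⁻¹ * (g * x * g⁻¹) ∈ M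
    rw [inv_mul_conj_eq]
    exact hM (Subgroup.commutator_mem_commutator (S.inv_mem (hP x.2)) hg)⟩
  comp_mem {P Q φ ψ} hφ hψ h := ⟨F.comp_mem hφ.1 hψ.1 h, fun x => by
    have := M.mul_mem (hφ.2 x) (hψ.2 ⟨φ x, h x⟩)
    rwa [mul_assoc, mul_inv_cancel_left] at this⟩
  inv_mem := by
    rintro P φ ⟨hφ, hM'⟩
    obtain ⟨c, hc, -, hl, -⟩ := exists_inv F hφ rfl
    refine ⟨c, ⟨hc, ?_⟩, fun x => hl x _⟩
    rintro ⟨_, x, rfl⟩
    have hm : φ x ∈ φ.range := ⟨x, rfl⟩
    show (φ x)⁻¹ * c ⟨φ x, hm⟩ ∈ M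
    rw [hl x hm]
    have := M.inv_mem (hM' x)
    rwa [mul_inv_rev, inv_inv] at this

/-- `foc = hyp · S′`. -/
theorem focal_eq (hS : IsPGroup p S) (hF : F.IsSaturated p) :
    F.focalSubgroup = F.hyperfocalSubgroup p ⊔ ⁅S, S⁆ := by
  refine le_antisymm ((Subgroup.closure_le _).2 ?_)
    (sup_le (hyperfocal_le_focal F p) (commutator_le_focal F))
  have hle : F ≤ cosetSystem F (F.hyperfocalSubgroup p ⊔ ⁅S, S⁆) le_sup_right :=
    le_of_residual hS hF _ fun P hn α hα => mem_autGroup_of_hom _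
      ⟨autHom_mem F hn.1 α.2, fun x => Subgroup.mem_sup_left (hyperfocal_mem hn.1 hα x)⟩
  rintro _ ⟨P, φ, x, hφ, rfl⟩
  exact (hle P hφ).2 x

/-- The maps preserving membership in `H`. -/
def preserveSystem (F : FusionSystem S) (H : Subgroup Ω)
    (hH : ∀ g ∈ S, ∀ x ∈ H, g * x * g⁻¹ ∈ H) : FusionSystem S where
  Hom P := {φ | φ ∈ F.Hom P ∧ ∀ x : P, φ x ∈ H ↔ (x : Ω) ∈ H}
  le_of_mem h := F.le_of_mem h.1
  injective_of_mem h := F.injective_of_mem h.1
  conj_mem {P g} hP hg := ⟨F.conj_mem hP hg, fun x => ⟨fun h => by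
    have := hH g⁻¹ (S.inv_mem hg) _ h
    simpa [conjHom, mul_assoc] using this, fun h => hH g hg _ h⟩⟩
  comp_mem {P Q φ ψ} hφ hψ h := ⟨F.comp_mem hφ.1 hψ.1 h,
    fun x => (hψ.2 ⟨φ x, h x⟩).trans (hφ.2 x)⟩
  inv_mem := by
    rintro P φ ⟨hφ, hH'⟩
    obtain ⟨c, hc, -, hl, -⟩ := exists_inv F hφ rfl
    refine ⟨c, ⟨hc, ?_⟩, fun x => hl x _⟩
    rintro ⟨_, x, rfl⟩
    have hm : φ x ∈ φ.range := ⟨x, rfl⟩
    show c ⟨φ x, hm⟩ ∈ H ↔ φ x ∈ H
    rw [hl x hm]
    exact (hH' x).symm

/-- The hyperfocal subgroup is strongly closed. -/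
theorem hyperfocal_stronglyClosed (hS : IsPGroup p S) (hF : F.IsSaturated p) :
    F.StronglyClosed (F.hyperfocalSubgroup p) := by
  set H := F.hyperfocalSubgroup p
  refine ⟨hyperfocal_le F p, fun R hR φ hφ x => ?_⟩
  have hle : F ≤ preserveSystem F H (fun g hg x hx => conj_mem_hyperfocal F p hg hx) :=
    le_of_residual hS hF _ fun P hn α hα => mem_autGroup_of_hom _
      ⟨autHom_mem F hn.1 α.2, fun x => by
        have h1 := hyperfocal_mem hn.1 hα x
        refine ⟨fun h => ?_, fun h => ?_⟩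
        · have := H.mul_mem h (H.inv_mem h1)
          rwa [autHom_apply, mul_inv_rev, inv_inv, mul_inv_cancel_left] at this
        · have := H.mul_mem h h1
          rwa [mul_inv_cancel_left] at this⟩
  exact ((hle R hφ).2 x).2 (hR x.2)

/-- In a finite `p`-group a normal subgroup supplementing the derived subgroup is everything. -/
theorem eq_top_of_sup_commutator {T : Type*} [Group T] [Finite T] (hT : IsPGroup p T)
    (N : Subgroup T) [N.Normal] (h : N ⊔ commutator T = ⊤) : N = ⊤ := by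
  by_contra hne
  have : Nontrivial (T ⧸ N) := QuotientGroup.nontrivial_iff.2 hne
  have hnil : Group.IsNilpotent (T ⧸ N) := (hT.to_quotient N).isNilpotent
  have : Group.IsSolvable (T ⧸ N) := inferInstance
  refine (Group.IsSolvable.commutator_lt_top_of_nontrivial (G := T ⧸ N)).ne ?_
  rw [eq_top_iff, ← Subgroup.map_top_of_surjective (QuotientGroup.mk' N)
    (QuotientGroup.mk'_surjective N), ← h, Subgroup.map_sup, QuotientGroup.map_mk'_self, bot_sup_eq,
    commutator_def, commutator_def, Subgroup.map_commutator]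
  exact Subgroup.commutator_mono le_top le_top

variable {G : Type*} [Group G] [Finite G]

/-- Puig's hyperfocal subgroup theorem. -/
theorem hyperfocal_group (T₀ : Sylow p G) :
    (groupFusionSystem (T₀ : Subgroup G)).hyperfocalSubgroup p =
      (T₀ : Subgroup G) ⊓ pResidual p G := by
  set F := groupFusionSystem (T₀ : Subgroup G)
  refine le_antisymm (le_inf (hyperfocal_le F p) ((Subgroup.closure_le _).2 ?_)) ?_
  · rintro _ ⟨P, α, x, hP, hα, rfl⟩
    have hsurj : ∀ β : F.autGroup P, ∃ g : Subgroup.normalizer (P : Set G),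
        P.normalizerMonoidHom g = (β : MulAut P) := by
      intro β
      obtain ⟨-, -, g, hg⟩ := autHom_mem F hP β.2
      refine ⟨⟨g, mem_normalizer_of_finite fun y hy => ?_⟩,
        MulEquiv.ext fun y => Subtype.ext (hg y).symm⟩
      rw [← hg ⟨y, hy⟩]
      exact ((β : MulAut P) ⟨y, hy⟩).2
    let f : Subgroup.normalizer (P : Set G) →* F.autGroup P :=
      P.normalizerMonoidHom.codRestrict _ fun g => mem_autGroup_of_hom F
        ⟨hP, fun y => hP (P.normalizerMonoidHom g y).2, g, fun _ => rfl⟩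
    have hf : Function.Surjective f := fun β => by
      obtain ⟨g, hg⟩ := hsurj β
      exact ⟨g, Subtype.ext hg⟩
    rw [← Cfsg.Agent.Lib.Transfer.pResidual_map_of_surjective f hf] at hα
    obtain ⟨g, hg, rfl⟩ := hα
    have h1 : (g : G) ∈ pResidual p G :=
      Cfsg.Agent.Lib.Transfer.map_pResidual_le (Subgroup.normalizer (P : Set G)).subtype
        ⟨g, hg, rfl⟩
    show (x : G)⁻¹ * ((g : G) * x * (g : G)⁻¹) ∈ pResidual p G
    have h2 := (Cfsg.Agent.Lib.Transfer.pResidual_normal (G := G) (p := p)).conj_mem _ h1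
      (x : G)⁻¹
    have h3 := Subgroup.mul_mem _ h2 (Subgroup.inv_mem _ h1)
    simpa [mul_assoc] using h3
  · set K := pResidual p G
    set T := (T₀ : Subgroup G) ⊓ K with hTdef
    have := Cfsg.Agent.Lib.Transfer.pResidual_normal (G := G) (p := p)
    obtain ⟨R, hR⟩ := exists_sylow_subgroupOf_normal T₀ K
    have hR' : (R : Subgroup K) = T.subgroupOf K := by
      rw [hR, Subgroup.inf_subgroupOf_right]
    let F' := fusionSystemOfSubgroup K T inf_le_right
    have hF' : F'.IsSaturated p := fusionSystemOfSubgroup_isSaturated inf_le_right R hR'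
    have hsub : ∀ P, F'.Hom P ⊆ F.Hom P := by
      rintro P φ ⟨hP, hv, g, -, hg⟩
      exact ⟨hP.trans inf_le_left, fun x => (hv x).1, g, hg⟩
    have hTp : IsPGroup p T := T₀.2.to_le inf_le_left
    have hmono : F'.hyperfocalSubgroup p ≤ F.hyperfocalSubgroup p := by
      refine (Subgroup.closure_le _).2 ?_
      rintro _ ⟨P, α, x, hP, hα, rfl⟩
      let inc : F'.autGroup P →* F.autGroup P :=
        Subgroup.inclusion fun β hβ =>
          mem_autGroup_of_hom F (hsub P (autHom_mem F' hP hβ))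
      exact hyperfocal_mem (hP.trans inf_le_left)
        (Cfsg.Agent.Lib.Transfer.map_pResidual_le inc ⟨α, hα, rfl⟩) x
    have hfoc : T ≤ F'.focalSubgroup := by
      intro t ht
      have h1 : (⟨t, ht.2⟩ : K) ∈ (R : Subgroup K) ⊓ pResidual p K := by
        rw [Cfsg.Agent.Lib.Transfer.pResidual_pResidual_eq_top, inf_top_eq, hR']
        exact ht
      have h2 := Cfsg.Agent.Lib.Transfer.inf_pResidual_le_focalSubgroup R h1
      have h3 : Subgroup.focalSubgroup (R : Subgroup K) ≤ F'.focalSubgroup.subgroupOf K := by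
        rw [Cfsg.Agent.Lib.Transfer.focalSubgroup_le_iff]
        intro y hy g hgy
        rw [hR'] at hy hgy
        have hz : Subgroup.zpowers (y : G) ≤ T := Subgroup.zpowers_le.2 hy
        have hφ : conjHom (Subgroup.zpowers (y : G)) (g : G) ∈ F'.Hom _ := by
          refine ⟨hz, ?_, g, g.2, fun _ => rfl⟩
          rintro ⟨_, k, rfl⟩
          show (g : G) * (y : G) ^ k * (g : G)⁻¹ ∈ T
          rw [← conj_zpow]
          exact Subgroup.zpow_mem _ hgy k
        exact focal_mem hφ ⟨(y : G), Subgroup.mem_zpowers _⟩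
      exact h3 h2
    rw [focal_eq hTp hF'] at hfoc
    have hHT : T ≤ F'.hyperfocalSubgroup p := by
      have hn : ((F'.hyperfocalSubgroup p).subgroupOf T).Normal :=
        ⟨fun x hx g => conj_mem_hyperfocal F' p g.2 hx⟩
      have htop : (F'.hyperfocalSubgroup p).subgroupOf T ⊔ commutator T = ⊤ := by
        apply Subgroup.map_injective T.subtype_injective
        rw [Subgroup.map_sup, Subgroup.map_subgroupOf_eq_of_le (hyperfocal_le F' p),
          Subgroup.map_subtype_commutator, ← MonoidHom.range_eq_map, Subgroup.range_subtype]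
        exact le_antisymm (sup_le (hyperfocal_le F' p) (Subgroup.commutator_le.2 fun a ha b hb =>
          T.mul_mem (T.mul_mem (T.mul_mem ha hb) (T.inv_mem ha)) (T.inv_mem hb))) hfoc
      exact Subgroup.subgroupOf_eq_top.1 (eq_top_of_sup_commutator hTp _ htop)
    exact hHT.trans hmono

end Cfsg.Agent.Lib.Fusion
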