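import Cfsg.Agent.Lib.Fusion.Biset
import Cfsg.Agent.Lib.Fusion.Hyperfocal
import Mathlib.GroupTheory.Transfer

/-!
The transfer attached to a stable biset.
-/

set_option autoImplicit false
set_option linter.unusedSectionVars false

namespace Cfsg.Agent.Lib.Fusion

open Cfsg Cfsg.FusionSystem MulAction

variable {Ω : Type*} [Group Ω] {S : Subgroup Ω} [Finite S] {F : FusionSystem S}
  {A : Type*} [CommGroup A]

/-- Invariance under conjugation by `S` of a function defined on the ambient group. -/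
def IsSInvariant (S : Subgroup Ω) (f : Ω → A) : Prop :=
  ∀ a ∈ S, ∀ z ∈ S, f (a * z * a⁻¹) = f z

namespace StableBiset

variable (B : StableBiset F)

/-- The points of the biset modulo the right action. -/
abbrev Pts := Σ i, S ⧸ (B.P i).subgroupOf S

theorem out_conj_mem (x : S) (y : B.Pts) :
    ((y.2.out⁻¹ * x ^ Function.minimalPeriod (fun z : B.Pts => x • z) y * y.2.out : S) : Ω) ∈
      B.P y.1 := by
  obtain ⟨i, q⟩ := y
  have h := Function.isPeriodicPt_minimalPeriod (fun z : B.Pts => x • z) ⟨i, q⟩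
  rw [Function.IsPeriodicPt, Function.IsFixedPt, smul_iterate] at h
  dsimp only at h
  rw [Sigma.smul_mk] at h
  have h' : (x ^ Function.minimalPeriod (fun z : B.Pts => x • z) ⟨i, q⟩) •
      (QuotientGroup.mk q.out : S ⧸ (B.P i).subgroupOf S) = QuotientGroup.mk q.out := by
    rw [QuotientGroup.out_eq']
    exact eq_of_heq (Sigma.mk.inj h).2
  rw [MulAction.Quotient.smul_coe, eq_comm, QuotientGroup.eq, Subgroup.mem_subgroupOf] at h'
  simpa [mul_assoc] using h'

/-- The value of `f` attached to a point and an element. -/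
noncomputable def ptVal (f : Ω → A) (x : S) (y : B.Pts) : A :=
  f (B.φ y.1 ⟨_, B.out_conj_mem x y⟩)

theorem ptVal_eq {f : Ω → A} (hf : IsSInvariant S f) (x : S) (i : Fin B.n) (u : S)
    (hu : (u : Ω)⁻¹ * (x : Ω) ^ Function.minimalPeriod (fun z : B.Pts => x • z)
      ⟨i, QuotientGroup.mk u⟩ * u ∈ B.P i) :
    B.ptVal f x ⟨i, QuotientGroup.mk u⟩ = f (B.φ i ⟨_, hu⟩) := by
  set q : S ⧸ (B.P i).subgroupOf S := QuotientGroup.mk u with hq
  have hw : u⁻¹ * q.out ∈ (B.P i).subgroupOf S := QuotientGroup.eq.1 (QuotientGroup.out_eq' q).symm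
  rw [Subgroup.mem_subgroupOf] at hw
  let w : B.P i := ⟨_, hw⟩
  have e : (⟨_, B.out_conj_mem x ⟨i, q⟩⟩ : B.P i) = w⁻¹ * ⟨_, hu⟩ * w := by
    refine Subtype.ext ?_
    show ((q.out⁻¹ * x ^ Function.minimalPeriod (fun z : B.Pts => x • z) ⟨i, q⟩ * q.out : S) : Ω) = _
    simp [w, mul_assoc, SubgroupClass.coe_pow]
  show f (B.φ i ⟨_, B.out_conj_mem x ⟨i, q⟩⟩) = _
  rw [e, map_mul, map_mul, map_inv]
  conv_lhs => arg 1; arg 2; rw [← inv_inv (B.φ i w)]
  exact hf _ (S.inv_mem (apply_mem (B.mem i) w)) _ (apply_mem (B.mem i) _)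

theorem minimalPeriod_smul (x : S) (k : ℤ) (y : B.Pts) :
    Function.minimalPeriod (fun z : B.Pts => x • z) (x ^ k • y) =
      Function.minimalPeriod (fun z : B.Pts => x • z) y := by
  refine Function.minimalPeriod_eq_minimalPeriod_iff.2 fun n => ?_
  rw [Function.IsPeriodicPt, Function.IsPeriodicPt, Function.IsFixedPt, Function.IsFixedPt,
    smul_iterate]
  show x ^ n • x ^ k • y = x ^ k • y ↔ _
  rw [← mul_smul, ← zpow_natCast, ← zpow_add, add_comm, zpow_add, mul_smul, smul_left_cancel_iff]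

theorem ptVal_smul {f : Ω → A} (hf : IsSInvariant S f) (x : S) (k : ℤ) (y : B.Pts) :
    B.ptVal f x (x ^ k • y) = B.ptVal f x y := by
  obtain ⟨i, q⟩ := y
  obtain ⟨u, rfl⟩ := QuotientGroup.mk_surjective q
  have hu : (u : Ω)⁻¹ * (x : Ω) ^ Function.minimalPeriod (fun z : B.Pts => x • z)
      ⟨i, QuotientGroup.mk u⟩ * u ∈ B.P i := by
    have := B.out_conj_mem x ⟨i, (QuotientGroup.mk u : S ⧸ (B.P i).subgroupOf S)⟩
    have hw : u⁻¹ * (QuotientGroup.mk u : S ⧸ (B.P i).subgroupOf S).out ∈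
        (B.P i).subgroupOf S := QuotientGroup.eq.1 (QuotientGroup.out_eq' _).symm
    rw [Subgroup.mem_subgroupOf] at hw
    have h2 := (B.P i).mul_mem ((B.P i).mul_mem hw this) ((B.P i).inv_mem hw)
    simpa [mul_assoc, SubgroupClass.coe_pow] using h2
  have hl := B.minimalPeriod_smul x k ⟨i, QuotientGroup.mk u⟩
  rw [Sigma.smul_mk, MulAction.Quotient.smul_coe] at hl ⊢
  have hu' : ((x ^ k • u : S) : Ω)⁻¹ * (x : Ω) ^ Function.minimalPeriod (fun z : B.Pts => x • z)
      ⟨i, QuotientGroup.mk (x ^ k • u)⟩ * (x ^ k • u : S) ∈ B.P i := by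
    rw [hl]
    convert hu using 1
    simp only [smul_eq_mul, Subgroup.coe_mul, SubgroupClass.coe_zpow]
    group
  rw [B.ptVal_eq hf x i _ hu', B.ptVal_eq hf x i u hu]
  refine congrArg f (congrArg (B.φ i) (Subtype.ext ?_))
  dsimp only
  rw [hl]
  simp only [smul_eq_mul, Subgroup.coe_mul, SubgroupClass.coe_zpow]
  group

/-- The product over the orbits of `x` of the values of `f`. -/
noncomputable def orbitProd (f : Ω → A) (x : S) : A :=
  letI := Fintype.ofFinite (Quotient (orbitRel (Subgroup.zpowers x) B.Pts))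
  ∏ o : Quotient (orbitRel (Subgroup.zpowers x) B.Pts), B.ptVal f x o.out

theorem ptVal_eq_of_rel {f : Ω → A} (hf : IsSInvariant S f) (x : S) {y y' : B.Pts}
    (h : orbitRel (Subgroup.zpowers x) B.Pts y y') : B.ptVal f x y = B.ptVal f x y' := by
  obtain ⟨⟨_, k, rfl⟩, rfl⟩ := h
  exact B.ptVal_smul hf x k y'

/-- Stability: conjugate elements have the same orbit product. -/
theorem orbitProd_map {f : Ω → A} (hf : IsSInvariant S f) {Q : Subgroup Ω} {ψ : Q →* Ω}
    (hψ : ψ ∈ F.Hom Q) (x : S) (hx : (x : Ω) ∈ Q) (hy : ψ ⟨x, hx⟩ ∈ S) :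
    B.orbitProd f x = B.orbitProd f ⟨ψ ⟨x, hx⟩, hy⟩ := by
  obtain ⟨ε, hε, hv⟩ := B.stable Q ψ hψ
  set x' : S := ⟨ψ ⟨x, hx⟩, hy⟩
  have hsemi : ∀ y, ε (x • y) = x' • ε y := fun y => hε x hx hy y
  have hzk : ∀ (k : ℤ) (y : B.Pts), ε (x ^ k • y) = x' ^ k • ε y := by
    intro k
    induction k with
    | zero => simp
    | succ n ih => intro y; rw [zpow_add_one, mul_smul, ih, hsemi, ← mul_smul, ← zpow_add_one]
    | pred n ih =>
      intro y
      have h1 : ε (x⁻¹ • y) = x'⁻¹ • ε y := by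
        rw [eq_inv_smul_iff, ← hsemi, smul_inv_smul]
      rw [zpow_sub_one, mul_smul, ih, h1, ← mul_smul, ← zpow_sub_one]
  have hrel : ∀ y₁ y₂, orbitRel (Subgroup.zpowers x) B.Pts y₁ y₂ ↔
      orbitRel (Subgroup.zpowers x') B.Pts (ε y₁) (ε y₂) := by
    intro y₁ y₂
    constructor
    · rintro ⟨⟨_, k, rfl⟩, rfl⟩
      exact ⟨⟨_, k, rfl⟩, (hzk k y₂).symm⟩
    · rintro ⟨⟨_, k, rfl⟩, he⟩
      exact ⟨⟨_, k, rfl⟩, ε.injective ((hzk k y₂).trans he)⟩
  letI := Fintype.ofFinite (Quotient (orbitRel (Subgroup.zpowers x) B.Pts))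
  letI := Fintype.ofFinite (Quotient (orbitRel (Subgroup.zpowers x') B.Pts))
  refine Fintype.prod_equiv (Quotient.congr ε fun a b => hrel a b) _ _ fun o => ?_
  induction o using Quotient.inductionOn with
  | h y₀ =>
    rw [Quotient.congr_mk]
    set y := (Quotient.mk (orbitRel (Subgroup.zpowers x) B.Pts) y₀).out
    have h1 : orbitRel (Subgroup.zpowers x) B.Pts y y₀ := Quotient.mk_out y₀
    have h2 : orbitRel (Subgroup.zpowers x') B.Pts
        (Quotient.mk (orbitRel (Subgroup.zpowers x') B.Pts) (ε y₀)).out (ε y) :=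
      Setoid.trans' _ (Quotient.mk_out (ε y₀)) (Setoid.symm' _ ((hrel y y₀).1 h1))
    rw [B.ptVal_eq_of_rel hf x' h2]
    obtain ⟨i, q⟩ := y
    obtain ⟨u, rfl⟩ := QuotientGroup.mk_surjective q
    set ℓ := Function.minimalPeriod (fun z : B.Pts => x • z) ⟨i, QuotientGroup.mk u⟩ with hℓ
    have hℓ' : Function.minimalPeriod (fun z : B.Pts => x' • z)
        (ε ⟨i, QuotientGroup.mk u⟩) = ℓ := by
      refine Function.minimalPeriod_eq_minimalPeriod_iff.2 fun n => ?_
      rw [Function.IsPeriodicPt, Function.IsPeriodicPt, Function.IsFixedPt, Function.IsFixedPt,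
        smul_iterate, smul_iterate]
      show x' ^ n • _ = _ ↔ x ^ n • _ = _
      rw [← zpow_natCast, ← hzk, ε.apply_eq_iff_eq, zpow_natCast]
    have hu : (u : Ω)⁻¹ * (x : Ω) ^ ℓ * u ∈ B.P i := by
      have hfix : x ^ ℓ • (⟨i, QuotientGroup.mk u⟩ : B.Pts) = ⟨i, QuotientGroup.mk u⟩ := by
        have := Function.isPeriodicPt_minimalPeriod (fun z : B.Pts => x • z) ⟨i, QuotientGroup.mk u⟩
        rwa [Function.IsPeriodicPt, Function.IsFixedPt, smul_iterate] at this
      rw [Sigma.smul_mk, MulAction.Quotient.smul_coe] at hfix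
      have h3 := (eq_of_heq (Sigma.mk.inj hfix).2).symm
      rw [QuotientGroup.eq, Subgroup.mem_subgroupOf] at h3
      simpa [mul_assoc] using h3
    obtain ⟨j, v, hv', a, ha, he, hval⟩ := hv (x ^ ℓ) (Q.pow_mem hx ℓ) i u
      (by simpa using hu)
    have hpow : ψ ⟨((x ^ ℓ : S) : Ω), Q.pow_mem hx ℓ⟩ = ψ ⟨x, hx⟩ ^ ℓ :=
      map_pow ψ ⟨x, hx⟩ ℓ
    rw [he] at hℓ' ⊢
    have hvv : (v : Ω)⁻¹ * (x' : Ω) ^ Function.minimalPeriod (fun z : B.Pts => x' • z)
        ⟨j, QuotientGroup.mk v⟩ * v ∈ B.P j := by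
      rw [hℓ']
      have := hv'
      rwa [hpow] at this
    rw [B.ptVal_eq hf x i u hu, B.ptVal_eq hf x' j v hvv]
    have e1 : (⟨_, hvv⟩ : B.P j) = ⟨_, hv'⟩ := Subtype.ext (by
      show (v : Ω)⁻¹ * (x' : Ω) ^ _ * v = (v : Ω)⁻¹ * ψ ⟨((x ^ ℓ : S) : Ω), _⟩ * v
      rw [hℓ', hpow])
    rw [e1, hval, hf a ha _ (apply_mem (B.mem i) _)]
    exact congrArg f (congrArg (B.φ i) (Subtype.ext (by simp [hℓ])))

/-- The transfer of homomorphisms given on the sources. -/
noncomputable def transferHom (χ : ∀ i, (B.P i).subgroupOf S →* A) : S →* A :=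
  ∏ i, MonoidHom.transfer (χ i)

theorem transferHom_apply (χ : ∀ i, (B.P i).subgroupOf S →* A) (x : S) :
    B.transferHom χ x = ∏ i, MonoidHom.transfer (χ i) x := by
  simp [transferHom, MonoidHom.finsetProd_apply]

/-- The transfer as a product over the orbits of `x`. -/
theorem transferHom_eq (χ : ∀ i, (B.P i).subgroupOf S →* A) (x : S)
    [∀ i, Fintype (Quotient (orbitRel (Subgroup.zpowers x) (S ⧸ (B.P i).subgroupOf S)))] :
    B.transferHom χ x = ∏ i, ∏ q : Quotient (orbitRel (Subgroup.zpowers x)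
      (S ⧸ (B.P i).subgroupOf S)), χ i
        ⟨q.out.out⁻¹ * x ^ Function.minimalPeriod (x • ·) q.out * q.out.out,
          QuotientGroup.out_conj_pow_minimalPeriod_mem _ x q.out⟩ := by
  rw [transferHom_apply]
  exact Finset.prod_congr rfl fun i _ =>
    MonoidHom.transfer_eq_prod_quotient_orbitRel_zpowers_quot (χ i) x

theorem orbitProd_eq {f : Ω → A} (hf : IsSInvariant S f) (x : S)
    [∀ i, Fintype (Quotient (orbitRel (Subgroup.zpowers x) (S ⧸ (B.P i).subgroupOf S)))] :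
    B.orbitProd f x = ∏ i, ∏ q : Quotient (orbitRel (Subgroup.zpowers x)
      (S ⧸ (B.P i).subgroupOf S)), f (B.φ i
        ⟨((q.out.out⁻¹ * x ^ Function.minimalPeriod (x • ·) q.out * q.out.out : S) : Ω),
          QuotientGroup.out_conj_pow_minimalPeriod_mem _ x q.out⟩) := by
  classical
  letI := Fintype.ofFinite (Quotient (orbitRel (Subgroup.zpowers x) B.Pts))
  let r := orbitRel (Subgroup.zpowers x) B.Pts
  let g : (Σ i, Quotient (orbitRel (Subgroup.zpowers x) (S ⧸ (B.P i).subgroupOf S))) →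
      Quotient r := fun a => Quotient.mk r ⟨a.1, a.2.out⟩
  have hg : Function.Bijective g := by
    constructor
    · rintro ⟨i, q⟩ ⟨j, q'⟩ h
      obtain ⟨⟨_, k, rfl⟩, he⟩ := Quotient.exact h
      obtain rfl : j = i := congrArg Sigma.fst he
      refine Sigma.ext rfl (heq_of_eq ?_)
      rw [← q.out_eq, ← q'.out_eq]
      exact Quotient.sound ⟨⟨_, k, rfl⟩, eq_of_heq (Sigma.mk.inj he).2⟩
    · intro o
      obtain ⟨⟨i, q⟩, rfl⟩ := Quotient.exists_rep o
      refine ⟨⟨i, Quotient.mk _ q⟩, Quotient.sound ?_⟩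
      obtain ⟨⟨_, k, rfl⟩, he⟩ := Quotient.mk_out (s := orbitRel (Subgroup.zpowers x)
        (S ⧸ (B.P i).subgroupOf S)) q
      exact ⟨⟨_, k, rfl⟩, by rw [← he]; rfl⟩
  rw [← Finset.prod_sigma Finset.univ (fun _ => Finset.univ)
    (fun a : (Σ i, Quotient (orbitRel (Subgroup.zpowers x) (S ⧸ (B.P i).subgroupOf S))) =>
    f (B.φ a.1 ⟨((a.2.out.out⁻¹ * x ^ Function.minimalPeriod (x • ·) a.2.out * a.2.out.out : S) : Ω),
      QuotientGroup.out_conj_pow_minimalPeriod_mem _ x a.2.out⟩)), Finset.univ_sigma_univ]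
  symm
  refine Fintype.prod_bijective g hg _ _ ?_
  rintro ⟨i, q⟩
  rw [B.ptVal_eq_of_rel hf x (Quotient.mk_out (s := r) ⟨i, q.out⟩)]
  have hmp : Function.minimalPeriod (fun z : B.Pts => x • z) ⟨i, q.out⟩ =
      Function.minimalPeriod (x • ·) q.out := by
    refine Function.minimalPeriod_eq_minimalPeriod_iff.2 fun n => ?_
    rw [Function.IsPeriodicPt, Function.IsPeriodicPt, Function.IsFixedPt, Function.IsFixedPt,
      smul_iterate, smul_iterate]
    show (⟨i, x ^ n • q.out⟩ : B.Pts) = _ ↔ _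
    exact ⟨fun h => eq_of_heq (Sigma.mk.inj h).2, fun h => Sigma.ext rfl (heq_of_eq h)⟩
  refine congrArg f (congrArg (B.φ i) (Subtype.ext ?_))
  dsimp only
  rw [hmp]

end StableBiset

end Cfsg.Agent.Lib.Fusion
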