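import Cfsg.Agent.Lib.Fusion.CenterFunctor
import Mathlib.Data.Fintype.Quotient

/-!
If the centre of `S` lies in the core then the centre of the system is a direct factor of it.
-/

set_option autoImplicit false
set_option linter.unusedSectionVars false

namespace Cfsg.Agent.Lib.Fusion

open Cfsg Cfsg.FusionSystem

universe u

variable {p : ℕ} [Fact p.Prime] {Ω : Type u} [Group Ω] {S : Subgroup Ω} [Finite S]

omit [Finite S] in
/-- Elements of a central subgroup are fixed by all maps. -/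
theorem IsCentral.fixesElt {F : FusionSystem S} {Z : Subgroup Ω} (hZ : F.IsCentral Z) {z : Ω}
    (hz : z ∈ Z) {X : Subgroup Ω} {φ : X →* Ω} (hφ : φ ∈ F.Hom X) : FixesElt z φ := by
  intro x
  obtain ⟨ψ, hψ, hext, hf⟩ := hZ.2 X φ hφ
  rw [← hext x]
  constructor
  · intro hx
    rw [show Subgroup.inclusion le_sup_left x = Subgroup.inclusion le_sup_right (⟨z, hz⟩ : Z) from
      Subtype.ext hx]
    exact hf ⟨z, hz⟩
  · intro hx
    exact congrArg Subtype.val (F.injective_of_mem hψ (hx.trans (hf ⟨z, hz⟩).symm))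

/-- The centre of a system lies in the centre of `S`. -/
theorem center_le_center (F : FusionSystem S) : F.center ≤ S ⊓ Subgroup.centralizer (S : Set Ω) := by
  intro z hz
  have hZ := isCentral_center F
  refine ⟨hZ.1 hz, fun s hs => ?_⟩
  have h1 := (IsCentral.fixesElt hZ hz (F.conj_mem hZ.1 hs) ⟨z, hz⟩).1 rfl
  exact mul_inv_eq_iff_eq_mul.1 (show s * z * s⁻¹ = z from h1)

/-- If `Z(S) ≤ O_p(F)` then `Z(F)` has a complement in `Z(S)`. -/
theorem exists_center_compl (hS : IsPGroup p S) {F : FusionSystem S} (hF : F.IsSaturated p)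
    (hZ : S ⊓ Subgroup.centralizer (S : Set Ω) ≤ F.core) :
    ∃ K : Subgroup Ω, K ≤ S ⊓ Subgroup.centralizer (S : Set Ω) ∧ F.center ⊓ K = ⊥ ∧
      F.center ⊔ K = S ⊓ Subgroup.centralizer (S : Set Ω) := by
  classical
  set ZS := S ⊓ Subgroup.centralizer (S : Set Ω)
  set Λ := F.core
  have hΛn := isNormal_core F
  have hΛS : Λ ≤ S := hΛn.1
  have : Finite Λ := finite_of_le hΛS
  have hnΛ : S ≤ Subgroup.normalizer (Λ : Set Ω) :=
    WeaklyClosed.le_normalizer (StronglyClosed.weaklyClosed (IsNormal.stronglyClosed hΛn))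
  have hΛfn : F.IsFullyNormalized Λ := ⟨hΛS, fun R _ => by
    rw [show normalizerIn S Λ = S from le_antisymm (normalizerIn_le S Λ) fun g hg => ⟨hg, hnΛ hg⟩]
    exact Subgroup.card_le_of_le (normalizerIn_le S R)⟩
  set A := F.autGroup Λ with hAdef
  obtain ⟨-, R, hR⟩ := (IsSaturated.automized_receptive hS hF hΛfn).1
  have hA : Finite (MulAut Λ) := finite_mulAut hΛS
  let := Fintype.ofFinite (A ⧸ (R : Subgroup A))
  let act : A → Subgroup.center Λ →* Subgroup.center Λ := fun g =>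
    { toFun := fun x => ⟨(g : MulAut Λ) x, Subgroup.mem_center_iff.2 fun y => by
        obtain ⟨w, rfl⟩ := (g : MulAut Λ).surjective y
        rw [← map_mul, ← map_mul, Subgroup.mem_center_iff.1 x.2 w]⟩
      map_one' := Subtype.ext (map_one _)
      map_mul' := fun a b => Subtype.ext (map_mul (g : MulAut Λ) (a : Λ) (b : Λ)) }
  have hact : ∀ (g h : A) x, act (g * h) x = act g (act h x) := fun g h x => rfl
  -- the elements fixed by the Sylow subgroup of the automizer
  have hfixR : ∀ (x : Subgroup.center Λ), ((x : Λ) : Ω) ∈ ZS → ∀ r ∈ (R : Subgroup A),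
      act r x = x := by
    intro x hx r hr
    rw [hR, Subgroup.mem_subgroupOf] at hr
    obtain ⟨g, hg, hge⟩ := mem_autInducedBy.1 hr
    refine Subtype.ext (Subtype.ext ?_)
    show (((r : MulAut Λ) x : Λ) : Ω) = _
    rw [hge, (Subgroup.mem_inf.1 hx).2 g hg, mul_inv_cancel_right]
  have hcen : ∀ z ∈ ZS, ∀ hzΛ : z ∈ Λ, (⟨z, hzΛ⟩ : Λ) ∈ Subgroup.center Λ := fun z hz hzΛ =>
    Subgroup.mem_center_iff.2 fun y => Subtype.ext ((Subgroup.mem_inf.1 hz).2 y (hΛS y.2))
  let Zs : Subgroup (Subgroup.center Λ) := ZS.comap (Λ.subtype.comp (Subgroup.center Λ).subtype)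
  -- the norm
  let τ : Subgroup.center Λ →* Subgroup.center Λ := ∏ q : A ⧸ (R : Subgroup A), act q.out
  have hτ : ∀ x, τ x = ∏ q : A ⧸ (R : Subgroup A), act q.out x := fun x =>
    MonoidHom.finsetProd_apply _ _ _
  have hrep : ∀ x ∈ Zs, ∀ g : A,
      act ((g : A ⧸ (R : Subgroup A))).out x = act g x := by
    intro x hx g
    have h1 : g⁻¹ * ((g : A ⧸ (R : Subgroup A))).out ∈ (R : Subgroup A) := by
      rw [← QuotientGroup.eq, QuotientGroup.out_eq']
    rw [show ((g : A ⧸ (R : Subgroup A))).out = g * (g⁻¹ * ((g : A ⧸ (R : Subgroup A))).out) by group,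
      hact, hfixR x hx _ h1]
  have hτfix : ∀ x ∈ Zs, ∀ g : A, act g (τ x) = τ x := by
    intro x hx g
    rw [hτ, map_prod]
    refine Fintype.prod_equiv (MulAction.toPerm g) _ _ fun q => ?_
    obtain ⟨a, rfl⟩ := QuotientGroup.mk_surjective q
    rw [hrep x hx]
    show act g (act a x) = act ((g * a : A) : A ⧸ (R : Subgroup A)).out x
    rw [hrep x hx, hact]
  -- fixed elements are central in the system
  have hfixc : ∀ x ∈ (⊤ : Subgroup (Subgroup.center Λ)), (∀ g : A, act g x = x) →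
      ((x : Λ) : Ω) ∈ F.center := by
    intro x _ hfix
    set z : Ω := ((x : Λ) : Ω)
    have hzΛ : z ∈ Λ := (x : Λ).2
    have hcent : F.IsCentral (Subgroup.zpowers z) := by
      refine ⟨Subgroup.zpowers_le.2 (hΛS hzΛ), fun X φ hφ => ?_⟩
      obtain ⟨ψ, hψ, hψe, hψΛ⟩ := hΛn.2 X φ hφ
      have hle : X ⊔ Subgroup.zpowers z ≤ X ⊔ Λ := sup_le_sup_left (Subgroup.zpowers_le.2 hzΛ) _
      refine ⟨restr hle ψ, restr_mem F hψ hle, fun w => hψe w, ?_⟩
      have hc := restr_mem F hψ (le_sup_right : Λ ≤ X ⊔ Λ)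
      have hcr : (restr le_sup_right ψ).range = Λ := (range_restr _ ψ).trans hψΛ
      let α : MulAut Λ := isoOf _ (F.injective_of_mem hc) hcr
      have hα : α ∈ A := mem_autGroup_of_hom F (by
        rw [show autHom α = restr le_sup_right ψ from MonoidHom.ext fun w => rfl]
        exact hc)
      have hz1 : ψ ⟨z, Subgroup.mem_sup_right hzΛ⟩ = z :=
        congrArg (fun w : Subgroup.center Λ => ((w : Λ) : Ω)) (hfix ⟨α, hα⟩)
      rintro ⟨w, i, rfl⟩
      show ψ ⟨z ^ i, _⟩ = z ^ i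
      rw [show (⟨z ^ i, hle (Subgroup.mem_sup_right ⟨i, rfl⟩)⟩ : ↥(X ⊔ Λ)) =
        (⟨z, Subgroup.mem_sup_right hzΛ⟩ : ↥(X ⊔ Λ)) ^ i from Subtype.ext (by simp), map_zpow, hz1]
    exact (le_sSup hcent : Subgroup.zpowers z ≤ F.center) (Subgroup.mem_zpowers z)
  have hcfix : ∀ x : Subgroup.center Λ, ((x : Λ) : Ω) ∈ F.center → ∀ g : A, act g x = x := by
    intro x hx g
    refine Subtype.ext (Subtype.ext ?_)
    exact (IsCentral.fixesElt (isCentral_center F) hx (autHom_mem F hΛS g.2) (x : Λ)).1 rfl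
  have hτZ : ∀ x ∈ Zs, ((τ x : Λ) : Ω) ∈ F.center := fun x hx =>
    hfixc _ (Subgroup.mem_top _) (hτfix x hx)
  set m := Fintype.card (A ⧸ (R : Subgroup A))
  have hτc : ∀ x : Subgroup.center Λ, ((x : Λ) : Ω) ∈ F.center → τ x = x ^ m := by
    intro x hx
    rw [hτ, Finset.prod_congr rfl (fun q _ => hcfix x hx q.out), Finset.prod_const]
    rfl
  have hm : ¬ p ∣ m := by
    have h := R.not_dvd_index
    rwa [Subgroup.index, Nat.card_eq_fintype_card] at h
  have hCp : IsPGroup p (Subgroup.center Λ) :=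
    ((hS.to_le hΛS : IsPGroup p Λ)).to_subgroup _
  obtain ⟨a, ha⟩ := IsPGroup.iff_card.1 hCp
  have hco : (Nat.card (Subgroup.center Λ)).Coprime m := by
    rw [ha]
    exact ((Nat.Prime.coprime_iff_not_dvd Fact.out).2 hm).pow_left a
  have hFZ : F.center ≤ ZS := center_le_center F
  refine ⟨(τ.ker ⊓ Zs).map (Λ.subtype.comp (Subgroup.center Λ).subtype), ?_, ?_, ?_⟩
  · rintro _ ⟨x, hx, rfl⟩
    exact hx.2
  · refine (Subgroup.eq_bot_iff_forall _).2 ?_
    rintro z ⟨hz1, x, ⟨hx1, -⟩, rfl⟩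
    have h1 : powCoprime hco x = 1 := (hτc x hz1).symm.trans hx1
    rw [show x = 1 from (powCoprime hco).injective (h1.trans (powCoprime_one hco).symm)]
    exact map_one _
  · refine le_antisymm (sup_le hFZ (by rintro _ ⟨x, hx, rfl⟩; exact hx.2)) fun z hz => ?_
    set x : Subgroup.center Λ := ⟨⟨z, hZ hz⟩, hcen z hz _⟩
    set c : Subgroup.center Λ := (powCoprime hco).symm (τ x)
    have hcm : c ^ m = τ x := (powCoprime hco).apply_symm_apply (τ x)
    have hcZ : ((c : Λ) : Ω) ∈ F.center := by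
      refine hfixc c (Subgroup.mem_top _) fun g => (powCoprime hco).injective ?_
      show (act g c) ^ m = c ^ m
      rw [← map_pow, hcm, hτfix x hz g]
    rw [show z = ((c : Λ) : Ω) * (((c⁻¹ * x : Subgroup.center Λ) : Λ) : Ω) by simp [x]]
    refine mul_mem (Subgroup.mem_sup_left hcZ)
      (Subgroup.mem_sup_right ⟨c⁻¹ * x, ⟨?_, ?_⟩, rfl⟩)
    · show τ (c⁻¹ * x) = 1
      rw [map_mul, map_inv, hτc c hcZ, hcm, inv_mul_cancel]
    · exact ZS.mul_mem (ZS.inv_mem (hFZ hcZ)) hz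

end Cfsg.Agent.Lib.Fusion
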