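import Cfsg.Agent.Lib.Fusion.CenterFunctor

/-!
Control of the fusion of `p`-th powers of central elements by characteristic functors.
-/

set_option autoImplicit false
set_option linter.unusedSectionVars false

namespace Cfsg.Agent.Lib.Fusion

open Cfsg Cfsg.FusionSystem
open scoped commutatorElement

universe u

/-- A functor on `p`-groups controlling `p`-th powers of central elements inside `O_p`. -/
structure IsPowCenterFunctor (p : ℕ) (W : ∀ (Q : Type u) [Group Q], Subgroup Q) : Prop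
    extends IsPFunctor p W where
  control : ∀ (G : Type u) [Group G] [Finite G] (P : Sylow p G), ∀ x ∈ pCore p G,
    (∃ z ∈ (P : Subgroup G) ⊓ Subgroup.centralizer ((P : Subgroup G) : Set G), z ^ p = x) →
    x ∈ (Subgroup.center ↥(Subgroup.normalizer (((W ↥(P : Subgroup G)).map (P : Subgroup G).subtype :
        Subgroup G) : Set G))).map
      (Subgroup.normalizer (((W ↥(P : Subgroup G)).map (P : Subgroup G).subtype :
        Subgroup G) : Set G)).subtype →
    x ∈ Subgroup.center G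

/-- `z` is the `p`-th power of a central element of `S`. -/
def IsPowCentral (p : ℕ) {Ω : Type u} [Group Ω] (S : Subgroup Ω) (z : Ω) : Prop :=
  ∃ w ∈ centralizerIn S S, w ^ p = z

theorem IsPowCentral.central {p : ℕ} {Ω : Type u} [Group Ω] {S : Subgroup Ω} {z : Ω}
    (h : IsPowCentral p S z) : z ∈ centralizerIn S S := by
  obtain ⟨w, hw, rfl⟩ := h
  exact pow_mem hw p

theorem IsPowCentral.normalizerIn {p : ℕ} {Ω : Type u} [Group Ω] {S : Subgroup Ω} [Finite S]
    {z : Ω} (h : IsPowCentral p S z) {P : Subgroup Ω} (hP : P ≤ S) :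
    IsPowCentral p (FusionSystem.normalizerIn S P) z := by
  obtain ⟨w, hw, hwz⟩ := h
  exact ⟨w, central_mem_centralizerIn hw (normalizerIn_le S P) (central_mem_normalizerIn hw hP),
    hwz⟩

/-- The relative functor at `K` controls the fusion of central elements in `F`. -/
def PowCtrl (p : ℕ) (W : ∀ (Q : Type u) [Group Q], Subgroup Q) {Ω : Type u} [Group Ω] {S : Subgroup Ω}
    (F : FusionSystem S) (K : Subgroup Ω) : Prop :=
  ∀ z, IsPowCentral p S z →
    (∀ (X : Subgroup Ω) (φ : X →* Ω), φ ∈ F.normalizerHom (relFunctor W K S) X → FixesElt z φ) →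
    ∀ (X : Subgroup Ω) (φ : X →* Ω), φ ∈ F.Hom X → FixesElt z φ

/-- The hypothesis on smaller groups. -/
def PowCtrlSmaller (p : ℕ) (W : ∀ (Q : Type u) [Group Q], Subgroup Q) (n : ℕ) : Prop :=
  ∀ {Ω : Type u} [Group Ω] {S : Subgroup Ω} [Finite S], Nat.card S < n → IsPGroup p S →
    ∀ F : FusionSystem S, F.IsSaturated p → ∀ K : Subgroup Ω, F.IsNormal K →
      IsPGroup p (F.autGroup K) → PowCtrl p W F K

/-- The hypothesis on proper subsystems. -/
def PowCtrlProper (p : ℕ) (W : ∀ (Q : Type u) [Group Q], Subgroup Q) {Ω : Type u} [Group Ω]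
    {S : Subgroup Ω} (F : FusionSystem S) : Prop :=
  ∀ F' : FusionSystem S, F' ≤ F → F' ≠ F → F'.IsSaturated p → ∀ K : Subgroup Ω, F'.IsNormal K →
    IsPGroup p (F'.autGroup K) → PowCtrl p W F' K

variable {p : ℕ} [Fact p.Prime] {W : ∀ (Q : Type u) [Group Q], Subgroup Q}
  {Ω : Type u} [Group Ω] {S : Subgroup Ω} [Finite S] {F : FusionSystem S}

/-- The local step: central elements fixed by the normalizer of the relative functor are central
in the model. -/
theorem pow_local_control (hW : IsPowCenterFunctor p W) (hS : IsPGroup p S) (hF : F.IsConstrained p)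
    {K : Subgroup Ω} (hK : F.IsNormal K) (hKp : IsPGroup p (F.autGroup K))
    {z : Ω} (hz : IsPowCentral p S z)
    (hN : ∀ (X : Subgroup Ω) (φ : X →* Ω), φ ∈ F.normalizerHom (relFunctor W K S) X → FixesElt z φ)
    {X₀ : Subgroup Ω} {φ₀ : X₀ →* Ω} (hφ₀ : φ₀ ∈ F.Hom X₀) : FixesElt z φ₀ := by
  have hzp := hz
  replace hz := hz.central
  obtain ⟨L, _, ι, hL⟩ := exists_model hS hF
  have : Finite L := hL.1
  have hi := hL.2.1.1
  obtain ⟨T, hT⟩ := hL.2.2.1
  have hKS := hK.1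
  have hnK : S ≤ Subgroup.normalizer (K : Set Ω) :=
    WeaklyClosed.le_normalizer (StronglyClosed.weaklyClosed (IsNormal.stronglyClosed hK))
  have hKfn : F.IsFullyNormalized K := ⟨hKS, fun R _ => by
    rw [show normalizerIn S K = S from le_antisymm (normalizerIn_le S K) fun g hg => ⟨hg, hnK hg⟩]
    exact Subgroup.card_le_of_le (normalizerIn_le S R)⟩
  let Kn := imageAlong ι K
  have hKn : Kn.Normal := IsModel.image_normal hL hK
  -- the action on `K` is that of `S`
  have hact : ∀ g : L, ∃ s : S, ∀ k : S, (k : Ω) ∈ K →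
      g * ι k * g⁻¹ = ι (s * k * s⁻¹) := by
    intro g
    obtain ⟨φ, hφ, hφe⟩ := IsRealizedBy.exists_hom hL.2.1 hKS g fun k =>
      imageAlong_le_range ι K (hKn.conj_mem _ (apply_mem_imageAlong ι (⟨k, hKS k.2⟩ : S) k.2) g)
    have hr : φ.range = K := (StronglyClosed.weaklyClosed (IsNormal.stronglyClosed hK)).2 φ hφ
    obtain ⟨s, hs, hse⟩ := exists_conj_of_isPGroup_autGroup hS hF.1 hKfn hKp
      (α := isoOf φ (F.injective_of_mem hφ) hr) (mem_autGroup_of_hom F hφ)
    refine ⟨⟨s, hs⟩, fun k hk => (hφe ⟨k, hk⟩).symm.trans (congrArg ι (Subtype.ext ?_))⟩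
    exact hse ⟨k, hk⟩
  have hCn : (pCore p L).Normal := pCore_normal p L
  have hcore : pCore p L = imageAlong ι F.core := Model.pCore_eq hL
  set zS : S := ⟨z, hz.1⟩
  have hzcomm : ∀ s : S, s * zS = zS * s :=
    fun s => Subtype.ext ((mem_centralizerIn.1 hz).2 s s.2)
  have hzP : ι zS ∈ pCore p L := by
    refine hL.2.2.2 (Subgroup.mem_centralizer_iff.2 fun y hy => ?_)
    obtain ⟨w, hwS, -, rfl⟩ := mem_imageAlong.1 (hcore ▸ hy)
    rw [← map_mul, ← map_mul, hzcomm]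
  let q : L →* L ⧸ Kn := QuotientGroup.mk' Kn
  have hq := QuotientGroup.mk'_surjective Kn
  let Tq : Sylow p (L ⧸ Kn) := T.mapSurjective hq
  have hctrl := hW.control (L ⧸ Kn) Tq
  set V := relFunctor W K S
  have hVS : V ≤ S := relFunctor_le W K S
  set Wq : Subgroup (L ⧸ Kn) := (W ↥(Tq : Subgroup (L ⧸ Kn))).map (Tq : Subgroup (L ⧸ Kn)).subtype
  -- the functor of the quotient Sylow subgroup
  have hWq : Wq = (imageAlong ι V).map q := by
    have := subgroupOf_normal_of_le hnK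
    let K₀ := (K.subgroupOf S).normalCore
    have hK₀ : K₀ = K.subgroupOf S := Subgroup.normalCore_eq_self _
    let f : S →* ↥(Tq : Subgroup (L ⧸ Kn)) := (q.comp ι).codRestrict _ fun s => by
      rw [Sylow.coe_mapSurjective, hT]
      exact ⟨_, ⟨s, rfl⟩, rfl⟩
    have hfk : f.ker = K₀ := by
      ext s
      rw [MonoidHom.mem_ker, hK₀, Subgroup.mem_subgroupOf, ← apply_mem_imageAlong_iff hi,
        ← QuotientGroup.eq_one_iff]
      exact ⟨fun h => congrArg Subtype.val h, fun h => Subtype.ext h⟩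
    have hfs : Function.Surjective f := by
      rintro ⟨y, hy⟩
      rw [Sylow.coe_mapSurjective, hT] at hy
      obtain ⟨_, ⟨s, rfl⟩, rfl⟩ := hy
      exact ⟨s, rfl⟩
    let e : ↥S ⧸ K₀ ≃* ↥(Tq : Subgroup (L ⧸ Kn)) :=
      (QuotientGroup.quotientMulEquivOfEq hfk.symm).trans
        (QuotientGroup.quotientKerEquivOfSurjective f hfs)
    have hn := hW.natural _ _ (hS.to_quotient K₀) e
    have hV : imageAlong ι V = ((W (↥S ⧸ K₀)).comap (QuotientGroup.mk' K₀)).map ι := by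
      show ((((W (↥S ⧸ K₀)).comap (QuotientGroup.mk' K₀)).map S.subtype).subgroupOf S).map ι = _
      rw [Subgroup.subgroupOf, Subgroup.comap_map_eq_self_of_injective S.subtype_injective]
    rw [show Wq = (W ↥(Tq : Subgroup (L ⧸ Kn))).map (Tq : Subgroup (L ⧸ Kn)).subtype from rfl, ← hn,
      hV]
    ext y
    constructor
    · rintro ⟨_, ⟨w, hw, rfl⟩, rfl⟩
      obtain ⟨s, rfl⟩ := QuotientGroup.mk'_surjective K₀ w
      exact ⟨ι s, ⟨s, hw, rfl⟩, rfl⟩
    · rintro ⟨_, ⟨s, hs, rfl⟩, rfl⟩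
      exact ⟨e (QuotientGroup.mk' K₀ s), ⟨_, hs, rfl⟩, rfl⟩
  let M : Subgroup L := (Subgroup.normalizer (Wq : Set (L ⧸ Kn))).comap q
  have hKV : Kn ≤ imageAlong ι V :=
    Subgroup.map_mono fun s hs => le_relFunctor hKS hnK hs
  have hMV : ∀ g ∈ M, ∀ y ∈ imageAlong ι V, g * y * g⁻¹ ∈ imageAlong ι V := by
    intro g hg y hy
    have h1 := conj_mem_of_mem_normalizer hg (hWq.symm ▸ ⟨y, hy, rfl⟩ : q y ∈ Wq)
    rw [hWq, ← map_inv, ← map_mul, ← map_mul] at h1
    obtain ⟨w, hw, hwe⟩ := h1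
    have h2 := (imageAlong ι V).mul_mem hw (hKV (QuotientGroup.eq.1 hwe))
    rwa [mul_inv_cancel_left] at h2
  have hTM : (T : Subgroup L) ≤ M := by
    intro t ht
    have := Finite.of_surjective q hq
    refine mem_normalizer_of_finite fun y hy => ?_
    rw [hWq] at hy ⊢
    obtain ⟨w, hw, rfl⟩ := hy
    obtain ⟨v, hvS, hv, rfl⟩ := mem_imageAlong.1 hw
    rw [hT] at ht
    obtain ⟨s, rfl⟩ := ht
    refine ⟨ι (s * ⟨v, hvS⟩ * s⁻¹), apply_mem_imageAlong ι _ ?_, by simp [map_mul]⟩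
    exact conj_mem_of_mem_normalizer
      (normalizer_le_relFunctor hW.toIsPFunctor hS hnK ⟨Subgroup.le_normalizer s.2, hnK s.2⟩) hv
  have hfixM : ∀ g ∈ M, g * ι zS * g⁻¹ = ι zS := by
    intro g hg
    let X := Subgroup.zpowers z ⊔ V
    have hXS : X ≤ S := sup_le (Subgroup.zpowers_le.2 hz.1) hVS
    have hnV : S ≤ Subgroup.normalizer (V : Set Ω) := fun s hs =>
      normalizer_le_relFunctor hW.toIsPFunctor hS hnK ⟨Subgroup.le_normalizer hs, hnK hs⟩
    have hgz : g * ι zS * g⁻¹ ∈ ι.range := by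
      have h1 := hCn.conj_mem _ hzP g
      rw [hcore] at h1
      exact imageAlong_le_range ι _ h1
    obtain ⟨φ, hφ, hφe⟩ := IsRealizedBy.exists_hom hL.2.1 hXS g fun w => by
      have h3 : X ≤ ((ι.range.comap ((MulAut.conj g).toMonoidHom.comp ι)).map S.subtype) :=
        sup_le (Subgroup.zpowers_le.2 ⟨zS, hgz, rfl⟩)
          fun v hv => ⟨⟨v, hVS hv⟩, imageAlong_le_range ι V
            (hMV g hg _ (apply_mem_imageAlong ι (⟨v, hVS hv⟩ : S) hv)), rfl⟩
      obtain ⟨u, hu, hue⟩ := h3 w.2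
      rwa [show (⟨(w : Ω), hXS w.2⟩ : S) = u from Subtype.ext hue.symm]
    have hle : X ⊔ V ≤ X := sup_le le_rfl le_sup_right
    have himg : img φ V = V := by
      have := finite_of_le hVS
      refine Subgroup.eq_of_le_of_card_ge ?_
        (card_img (F.injective_of_mem hφ) le_sup_right).ge
      intro w hw
      obtain ⟨v, hvX, hv, rfl⟩ := mem_img.1 hw
      refine (apply_mem_imageAlong_iff hi (x := ⟨φ ⟨v, hvX⟩, apply_mem hφ _⟩)).1 ?_
      rw [hφe]
      exact hMV g hg _ (apply_mem_imageAlong ι (⟨v, hXS hvX⟩ : S) hv)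
    have h4 := hN X φ ⟨hφ, fun w hw => ⟨hXS hw, hnV (hXS hw)⟩,
      fun w => ⟨apply_mem hφ w, hnV (apply_mem hφ w)⟩, restr hle φ, restr_mem F hφ hle,
      fun w => rfl, (img_restr hle φ le_sup_right).trans himg⟩
      ⟨z, Subgroup.mem_sup_left (Subgroup.mem_zpowers z)⟩
    exact (hφe ⟨z, Subgroup.mem_sup_left (Subgroup.mem_zpowers z)⟩).symm.trans
      (congrArg ι (Subtype.ext (h4.1 rfl)))
  -- central modulo `K`
  have hzM : ι zS ∈ M := hTM (hT ▸ ⟨zS, rfl⟩)
  have hqz : q (ι zS) ∈ Subgroup.center (L ⧸ Kn) := by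
    have h1 : q (ι zS) ∈ pCore p (L ⧸ Kn) :=
      (le_sSup ⟨hCn.map q hq, (isPGroup_pCore_aux (p := p)).map q⟩ :
        (pCore p L).map q ≤ pCore p (L ⧸ Kn)) ⟨_, hzP, rfl⟩
    refine hctrl (q (ι zS)) h1 ?_ ⟨⟨q (ι zS), hzM⟩, Subgroup.mem_center_iff.2 fun y => Subtype.ext ?_, rfl⟩
    · obtain ⟨w, hw, hwp⟩ := hzp
      refine ⟨q (ι ⟨w, hw.1⟩), Subgroup.mem_inf.2 ⟨?_, ?_⟩, ?_⟩
      · rw [Sylow.coe_mapSurjective, hT]
        exact ⟨_, ⟨_, rfl⟩, rfl⟩
      · intro y hy
        rw [Sylow.coe_mapSurjective, hT] at hy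
        obtain ⟨_, ⟨s, rfl⟩, rfl⟩ := hy
        rw [← map_mul, ← map_mul, ← map_mul, ← map_mul]
        exact congrArg (fun t => q (ι t)) (Subtype.ext ((mem_centralizerIn.1 hw).2 s s.2))
      · rw [← map_pow, ← map_pow]
        exact congrArg (fun t => q (ι t)) (Subtype.ext hwp)
    obtain ⟨g, hg⟩ := hq (y : L ⧸ Kn)
    show (y : L ⧸ Kn) * q (ι zS) = q (ι zS) * (y : L ⧸ Kn)
    have hgM : g ∈ M := by
      show q g ∈ Subgroup.normalizer (Wq : Set (L ⧸ Kn))
      rw [hg]; exact y.2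
    rw [← hg, ← map_mul, ← map_mul, mul_inv_eq_iff_eq_mul.1 (hfixM g hgM)]
  let C : Subgroup L := Subgroup.centralizer {ι zS}
  have hTC : (T : Subgroup L) ≤ C := by
    intro t ht
    rw [hT] at ht
    obtain ⟨s, rfl⟩ := ht
    intro y hy
    rw [Set.mem_singleton_iff.1 hy, ← map_mul, ← map_mul, hzcomm]
  have hp' : ∀ g : L, (orderOf g).Coprime p → g ∈ C := by
    intro g hord
    have hgK : ∀ k : S, (k : Ω) ∈ K → g * ι k * g⁻¹ = ι k := by
      intro k hk
      obtain ⟨s, hs⟩ := hact g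
      -- powers of `g` act as powers of `s`
      have hpow : ∀ (n : ℕ) (k : S), (k : Ω) ∈ K → g ^ n * ι k * (g ^ n)⁻¹ =
          ι (s ^ n * k * (s ^ n)⁻¹) := by
        intro n
        induction n with
        | zero => intro k _; simp
        | succ n ihn =>
          intro k hk
          have hk' : ((s ^ n * k * (s ^ n)⁻¹ : S) : Ω) ∈ K := by
            push_cast
            exact conj_mem_of_mem_normalizer (pow_mem (hnK s.2) n) hk
          rw [pow_succ', show g * g ^ n * ι k * (g * g ^ n)⁻¹ =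
            g * (g ^ n * ι k * (g ^ n)⁻¹) * g⁻¹ by group, ihn k hk, hs _ hk']
          congr 1
          rw [pow_succ']
          group
      obtain ⟨a, ha⟩ := hS s
      have h1 := hpow (orderOf g) k hk
      rw [pow_orderOf_eq_one, one_mul, inv_one, mul_one] at h1
      -- `s ^ orderOf g` and `s ^ p ^ a` act trivially
      let H₀ : Subgroup S :=
        { carrier := {w | w * k * w⁻¹ = k}
          one_mem' := by simp
          mul_mem' := fun {w v} hw hv => by
            show w * v * k * (w * v)⁻¹ = k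
            rw [show w * v * k * (w * v)⁻¹ = w * (v * k * v⁻¹) * w⁻¹ by group, hv, hw]
          inv_mem' := fun {w} hw => by
            show w⁻¹ * k * w⁻¹⁻¹ = k
            conv_lhs => rw [← show w * k * w⁻¹ = k from hw]
            group }
      have h2 : s ∈ H₀ := by
        have hA : s ^ orderOf g ∈ H₀ := (hi h1).symm
        have hB : s ^ p ^ a ∈ H₀ := by rw [ha]; exact H₀.one_mem
        have hco : Nat.gcd (orderOf g) (p ^ a) = 1 := hord.pow_right a
        have := Nat.gcd_eq_gcd_ab (orderOf g) (p ^ a)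
        rw [hco] at this
        have h3 : s ^ ((orderOf g : ℤ) * (orderOf g).gcdA (p ^ a) +
            ((p ^ a : ℕ) : ℤ) * (orderOf g).gcdB (p ^ a)) ∈ H₀ := by
          rw [zpow_add, zpow_mul, zpow_mul, zpow_natCast, zpow_natCast]
          exact H₀.mul_mem (H₀.zpow_mem hA _) (H₀.zpow_mem hB _)
        rw [← this, Nat.cast_one, zpow_one] at h3
        exact h3
      rw [hs k hk, show s * k * s⁻¹ = k from h2]
    obtain ⟨k, hkS, hk, hke⟩ := mem_imageAlong.1
      (QuotientGroup.eq.1 (Subgroup.mem_center_iff.1 hqz (q g)).symm : (ι zS * g)⁻¹ * (g * ι zS) ∈ Kn)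
    have hgk : g * ι ⟨k, hkS⟩ = ι ⟨k, hkS⟩ * g := mul_inv_eq_iff_eq_mul.1 (hgK ⟨k, hkS⟩ hk)
    have h2 : g * ι zS = ι zS * g * ι ⟨k, hkS⟩ := by rw [hke, mul_inv_cancel_left]
    have h3 : ∀ n : ℕ, g ^ n * ι zS = ι zS * g ^ n * ι ⟨k, hkS⟩ ^ n := by
      intro n
      induction n with
      | zero => simp
      | succ n ihn =>
        calc g ^ (n + 1) * ι zS = g ^ n * (g * ι zS) := by rw [pow_succ, mul_assoc]
          _ = (g ^ n * ι zS) * (g * ι ⟨k, hkS⟩) := by rw [h2]; simp only [mul_assoc]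
          _ = ι zS * g ^ n * (ι ⟨k, hkS⟩ ^ n * g) * ι ⟨k, hkS⟩ := by
            rw [ihn]; simp only [mul_assoc]
          _ = ι zS * g ^ n * (g * ι ⟨k, hkS⟩ ^ n) * ι ⟨k, hkS⟩ := by
            rw [((show Commute g (ι ⟨k, hkS⟩) from hgk).pow_right n).eq]
          _ = ι zS * g ^ (n + 1) * ι ⟨k, hkS⟩ ^ (n + 1) := by
            rw [pow_succ g, pow_succ (ι ⟨k, hkS⟩)]; simp only [mul_assoc]
    have h4 := h3 (orderOf g)
    rw [pow_orderOf_eq_one, mul_one, one_mul, left_eq_mul] at h4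
    obtain ⟨a, ha⟩ := hS ⟨k, hkS⟩
    have h5 : ι ⟨k, hkS⟩ ^ p ^ a = 1 := by rw [← map_pow, ha, map_one]
    have h6 : orderOf (ι ⟨k, hkS⟩) = 1 :=
      Nat.eq_one_of_dvd_coprimes (hord.pow_right a) (orderOf_dvd_of_pow_eq_one h4)
        (orderOf_dvd_of_pow_eq_one h5)
    rw [orderOf_eq_one_iff.1 h6, mul_one] at h2
    intro y hy
    rw [Set.mem_singleton_iff.1 hy]
    exact h2.symm
  have hall : ∀ g : L, g ∈ C := by
    have : (pResidual p L).Normal := Lib.Transfer.pResidual_normal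
    intro g
    let r : L →* L ⧸ pResidual p L := QuotientGroup.mk' _
    have hr := QuotientGroup.mk'_surjective (pResidual p L)
    have htop : ((T.mapSurjective hr : Sylow p (L ⧸ pResidual p L)) : Subgroup (L ⧸ pResidual p L)) = ⊤ :=
      ((T.mapSurjective hr).3 ((Lib.Transfer.isPGroup_quotient_pResidual (G := L)).to_subgroup ⊤)
        le_top).symm
    obtain ⟨t, ht, hte⟩ := htop.ge (Subgroup.mem_top (r g))
    have h1 : t⁻¹ * g ∈ pResidual p L := QuotientGroup.eq.1 hte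
    have h2 : pResidual p L ≤ C := (Subgroup.closure_le _).2 hp'
    have h3 := C.mul_mem (hTC ht) (h2 h1)
    rwa [mul_inv_cancel_left] at h3
  intro x
  obtain ⟨g, hg⟩ := IsRealizedBy.exists_conj hL.2.1 hφ₀
  have hc : g * ι zS = ι zS * g := (hall g (ι zS) rfl).symm
  constructor
  · intro hx
    have h1 := hg x
    rw [show (⟨(x : Ω), source_le hφ₀ x.2⟩ : S) = zS from Subtype.ext hx, hc,
      mul_inv_cancel_right] at h1
    exact congrArg Subtype.val (hi h1)
  · intro hx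
    have h1 := hg x
    rw [show (⟨φ₀ x, apply_mem hφ₀ x⟩ : S) = zS from Subtype.ext hx, eq_mul_inv_iff_mul_eq,
      ← hc] at h1
    exact congrArg Subtype.val (hi (mul_left_cancel h1)).symm

/-- Normalizers of subgroups not normal in `F` satisfy the conclusion. -/
theorem pow_ctrl_normalizer (hS : IsPGroup p S) (hsm : PowCtrlSmaller p W (Nat.card S))
    (hpr : PowCtrlProper p W F) (hF : F.IsSaturated p) {K U : Subgroup Ω} (hK : F.IsNormal K)
    (hKp : IsPGroup p (F.autGroup K)) (hKU : K ≤ U) (hU : F.IsFullyNormalized U)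
    (hUn : ¬ F.IsNormal U) {z : Ω} (hz : IsPowCentral p S z)
    (hstep : ∀ (X : Subgroup Ω) (φ : X →* Ω),
      φ ∈ F.normalizerHom (relFunctor W K (normalizerIn S U)) X → X ≤ normalizerIn S U →
      (∀ x, φ x ∈ normalizerIn S U) → FixesElt z φ)
    {X : Subgroup Ω} {φ : X →* Ω} (hφ : φ ∈ F.normalizerHom U X) : FixesElt z φ := by
  let T := normalizerIn S U
  have hTS : T ≤ S := normalizerIn_le S U
  have : Finite T := finite_of_le hTS
  have hTp : IsPGroup p T := hS.to_le hTS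
  let N := normalizerSystem F U hU.1
  have hN := normalizerSystem_spec F U hU.1
  have hNs : N.IsSaturated p := normalizerSystem_isSaturated hS hF hU hN
  have hKT : K ≤ T := hKU.trans (le_normalizerIn hU.1)
  have hKn : N.IsNormal K := by
    refine ⟨hKT, fun Y χ hχ => ?_⟩
    obtain ⟨ψ, hψ, hψe, -⟩ := (IsNormalizerSystem.isNormal hN hU.1).2 Y χ hχ
    have hle : Y ⊔ K ≤ Y ⊔ U := sup_le_sup_left hKU Y
    refine ⟨restr hle ψ, restr_mem N hψ hle, fun y => hψe y, ?_⟩
    show img (restr hle ψ) K = K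
    rw [img_restr hle ψ le_sup_right]
    exact WeaklyClosed.img_eq (StronglyClosed.weaklyClosed (IsNormal.stronglyClosed hK)) hψ.1
      (hKU.trans le_sup_right)
  have hKp' : IsPGroup p (N.autGroup K) := hKp.to_le (autGroup_le_of_hom fun χ hχ => hχ.1)
  have hz' : IsPowCentral p T z := hz.normalizerIn hU.1
  rcases hTS.eq_or_lt with e | hlt
  · let F' := recast N e
    have hle : F' ≤ F := fun Y χ hχ => hχ.1
    have hne : F' ≠ F := by
      intro heq
      apply hUn
      refine ⟨hU.1, fun Y χ hχ => ?_⟩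
      have h1 : χ ∈ F'.Hom Y := by rw [heq]; exact hχ
      exact h1.2.2.2
    refine hpr F' hle hne (recast_isSaturated e hNs) K ?_ ?_ z hz ?_ X φ hφ
    · exact ⟨hK.1, hKn.2⟩
    · exact hKp'
    · rintro Y χ ⟨hχ, hY, hv, ψ, hψ, hψe, hψV⟩
      have hYT : Y ≤ normalizerIn S U := source_le (F := N) hχ
      have e' : normalizerIn S U = S := e
      refine hstep Y χ ?_ hYT (fun w => apply_mem (F := N) hχ w)
      rw [e']
      exact ⟨hχ.1, hY, hv, ψ, hψ.1, hψe, hψV⟩
  · refine hsm ?_ hTp N hNs K hKn hKp' z hz' ?_ X φ hφ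
    · by_contra hge
      exact hlt.ne (Subgroup.eq_of_le_of_card_ge hTS (not_lt.1 hge))
    · rintro Y χ ⟨hχ, hY, hv, ψ, hψ, hψe, hψV⟩
      refine hstep Y χ ?_ (hY.trans (normalizerIn_le _ _))
        (fun w => normalizerIn_le _ _ (hv w))
      exact ⟨hχ.1, fun w hw => ⟨hTS (hY hw).1, (hY hw).2⟩, fun w => ⟨hTS (hv w).1, (hv w).2⟩,
        ψ, hψ.1, hψe, hψV⟩

/-- The climbing argument. -/
theorem pow_ctrl_climb (hW : IsPowCenterFunctor p W) (hS : IsPGroup p S)
    (hsm : PowCtrlSmaller p W (Nat.card S)) (hpr : PowCtrlProper p W F) (hF : F.IsSaturated p)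
    {K : Subgroup Ω} (hK : F.IsNormal K) (hKp : IsPGroup p (F.autGroup K)) (hcore : F.core ≤ K)
    {z : Ω} (hz : IsPowCentral p S z)
    (hN : ∀ (X : Subgroup Ω) (φ : X →* Ω), φ ∈ F.normalizerHom (relFunctor W K S) X →
      FixesElt z φ)
    {k : ℕ} (hbig : ∀ R : Subgroup Ω, k < Nat.card R → ∀ φ ∈ F.Hom R,
      FixesElt z φ)
    {T : Subgroup Ω} (hKT : K < T) (hTS : T ≤ S) (hk : k < Nat.card T)
    {X : Subgroup Ω} {φ : X →* Ω} (hφ : φ ∈ F.normalizerHom (relFunctor W K T) X)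
    (hX : X ≤ T) (hv : ∀ x, φ x ∈ T) : FixesElt z φ := by
  suffices key : ∀ m, ∀ T : Subgroup Ω, K < T → T ≤ S → k < Nat.card T →
      Nat.card S ≤ Nat.card T + m → ∀ (X : Subgroup Ω) (φ : X →* Ω),
        φ ∈ F.normalizerHom (relFunctor W K T) X → X ≤ T → (∀ x, φ x ∈ T) →
          FixesElt z φ by
    exact key (Nat.card S) T hKT hTS hk (Nat.le_add_left _ _) X φ hφ hX hv
  intro m
  induction m using Nat.strong_induction_on with
  | _ m IH =>
    intro T hKT hTS hk hm X φ hφ hX hv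
    rcases hTS.eq_or_lt with e | hlt
    · exact hN X φ (e ▸ hφ)
    have : Finite T := finite_of_le hTS
    have hTp : IsPGroup p T := hS.to_le hTS
    have hnK : S ≤ Subgroup.normalizer (K : Set Ω) :=
      WeaklyClosed.le_normalizer (StronglyClosed.weaklyClosed (IsNormal.stronglyClosed hK))
    have hTK : T ≤ Subgroup.normalizer (K : Set Ω) := hTS.trans hnK
    let V := relFunctor W K T
    have hVT : V ≤ T := relFunctor_le W K T
    have hVS : V ≤ S := hVT.trans hTS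
    have hKV : K ≤ V := le_relFunctor hKT.le hTK
    have hVK : ¬ V ≤ K := relFunctor_not_le hW.toIsPFunctor hTp hKT hTK
    have hgrow : Nat.card T < Nat.card (normalizerIn S V) := by
      have h1 : normalizerIn S T ≤ normalizerIn S V :=
        fun g hg => ⟨hg.1, normalizer_le_relFunctor hW.toIsPFunctor hTp hTK ⟨hg.2, hnK hg.1⟩⟩
      have := finite_of_le (normalizerIn_le S V)
      have := finite_of_le (normalizerIn_le S T)
      refine lt_of_lt_of_le ?_ (Subgroup.card_le_of_le h1)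
      by_contra hge
      exact (lt_normalizerIn hS hlt).ne
        (Subgroup.eq_of_le_of_card_ge (le_normalizerIn hTS) (not_lt.1 hge))
    obtain ⟨V', hVV', hV'⟩ := exists_fullyNormalized F hVS
    obtain ⟨β, hβ, hβv, hβV⟩ := IsSaturated.exists_normalizer_map hS hF hV' hVV'
    have hβA : FixesElt z β := hbig _ (hk.trans hgrow) β hβ
    have hKV' : K ≤ V' := by
      rw [← hβV, ← WeaklyClosed.img_eq (StronglyClosed.weaklyClosed (IsNormal.stronglyClosed hK))
        hβ (hKV.trans (le_normalizerIn hVS))]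
      exact img_mono β hKV
    have hV'n : ¬ F.IsNormal V' := by
      intro hn
      apply hVK
      have := finite_of_le hV'.1
      have := finite_of_le hVS
      have h1 : V' = K := le_antisymm ((le_core hn).trans hcore) hKV'
      have h2 := isConj_card hVV'
      rw [h1] at h2
      exact (Subgroup.eq_of_le_of_card_ge hKV h2.le).ge
    have hge : Nat.card (normalizerIn S V) ≤ Nat.card (normalizerIn S V') := by
      have := finite_of_le (normalizerIn_le S V')
      exact Nat.card_le_card_of_injective (fun z => (⟨β z, hβv z⟩ : normalizerIn S V'))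
        fun a b h => F.injective_of_mem hβ (congrArg Subtype.val h)
    obtain ⟨-, -, -, ψ, hψ, hψe, hψV⟩ := hφ
    let Y := X ⊔ V
    have hYT : Y ≤ T := sup_le hX hVT
    have hTV : T ≤ normalizerIn S V := fun g hg =>
      ⟨hTS hg, normalizer_le_relFunctor hW.toIsPFunctor hTp hTK ⟨Subgroup.le_normalizer hg, hTK hg⟩⟩
    have hψT : ∀ y : Y, ψ y ∈ T := by
      intro y
      have h1 : img ψ Y ≤ T := by
        rw [img_sup ψ le_sup_left le_sup_right, show img ψ V = V from hψV]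
        refine sup_le ?_ hVT
        rintro _ ⟨z, hz, rfl⟩
        rw [show ψ z = φ ⟨z, hz⟩ from hψe ⟨z, hz⟩]
        exact hv _
      exact h1 (apply_mem_img ψ y y.2)
    let b := restr (hYT.trans hTV) β
    have hb : b ∈ F.Hom Y := restr_mem F hβ _
    obtain ⟨c, hc, hcr, hl, -⟩ := exists_inv F hb rfl
    have hcY : ∀ y, c y ∈ Y := fun y => hcr.le ⟨y, rfl⟩
    let ψ' := compose (compose c ψ hcY) β fun y => hTV (hψT _)
    have hψ' : ψ' ∈ F.Hom b.range := compose_mem F (compose_mem F hc hψ hcY) hβ fun y => hTV (hψT _)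
    have hψ'b : ∀ y : Y, ψ' ⟨b y, y, rfl⟩ = β ⟨ψ y, hTV (hψT y)⟩ := fun y =>
      congrArg β (Subtype.ext (congrArg ψ (Subtype.ext (hl y _))))
    have hV'b : V' ≤ b.range := by
      rw [← hβV]
      rintro _ ⟨z, hz, rfl⟩
      exact ⟨⟨z, Subgroup.mem_sup_right hz⟩, rfl⟩
    have hψ'N : ψ' ∈ F.normalizerHom V' b.range := by
      have hle : b.range ⊔ V' ≤ b.range := sup_le le_rfl hV'b
      refine ⟨hψ', ?_, fun y => hβv _, restr hle ψ', restr_mem F hψ' hle, fun y => rfl, ?_⟩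
      · rintro _ ⟨y, rfl⟩
        exact hβv _
      · show img (restr hle ψ') V' = V'
        rw [img_restr hle ψ' le_sup_right]
        have := finite_of_le hV'.1
        refine Subgroup.eq_of_le_of_card_ge ?_ (card_img (F.injective_of_mem hψ') hV'b).ge
        intro y hy
        obtain ⟨z, hz, hzV, rfl⟩ := mem_img.1 hy
        obtain ⟨w, hw, hwV, hwz⟩ := mem_img.1 (hβV.ge hzV)
        subst hwz
        rw [show ψ' ⟨β ⟨w, hw⟩, hz⟩ = _ from hψ'b ⟨w, Subgroup.mem_sup_right hwV⟩]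
        exact hβV.le (apply_mem_img β _ (hψV.le ⟨_, hwV, rfl⟩))
    have hTc : Nat.card T < Nat.card (normalizerIn S V') := hgrow.trans_le hge
    have hKT' : K < normalizerIn S V' :=
      lt_of_le_of_ne (hKV'.trans (le_normalizerIn hV'.1)) fun h => by
        have h1 : Nat.card K ≤ Nat.card T := Subgroup.card_le_of_le hKT.le
        rw [h] at h1
        omega
    have h2 : Nat.card (normalizerIn S V') ≤ Nat.card S :=
      Subgroup.card_le_of_le (normalizerIn_le S V')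
    have hψ'A : FixesElt z ψ' :=
      pow_ctrl_normalizer hS hsm hpr hF hK hKp hKV' hV' hV'n hz
        (fun Z χ hχ hZ hZv => IH (m - 1) (by omega) _ hKT' (normalizerIn_le S V') (by omega)
          (by omega) Z χ hχ hZ hZv) hψ'N
    intro x
    set y := Subgroup.inclusion (le_sup_left : X ≤ X ⊔ V) x
    have h1 : b y = z ↔ ψ' ⟨b y, y, rfl⟩ = z := hψ'A ⟨b y, y, rfl⟩
    rw [hψ'b y] at h1
    have h2 := hβA ⟨y, hTV (hYT y.2)⟩
    have h3 := hβA ⟨ψ y, hTV (hψT y)⟩
    rw [← hψe x]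
    exact h2.trans (h1.trans h3.symm)

/-- The case where `K` is the whole core. -/
theorem pow_ctrl_of_core (hW : IsPowCenterFunctor p W) (hS : IsPGroup p S)
    (hsm : PowCtrlSmaller p W (Nat.card S)) (hpr : PowCtrlProper p W F) (hF : F.IsSaturated p)
    {K : Subgroup Ω} (hK : F.IsNormal K) (hKp : IsPGroup p (F.autGroup K)) (hcore : F.core ≤ K) :
    PowCtrl p W F K := by
  intro z hz hN
  have hnK : S ≤ Subgroup.normalizer (K : Set Ω) :=
    WeaklyClosed.le_normalizer (StronglyClosed.weaklyClosed (IsNormal.stronglyClosed hK))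
  let E := fixEltSystem F hz.central
  suffices hle : F ≤ E from fun X φ hφ => (hle X hφ).2
  refine alperin_ind hS hF E ?_ fun P hP hbig => ?_
  · intro α hα
    have hα' := autHom_mem F le_rfl hα
    refine mem_autGroup_of_hom E ⟨hα', ?_⟩
    let V := relFunctor W K S
    have hVS : V ≤ S := relFunctor_le W K S
    have hle : S ⊔ V ≤ S := sup_le le_rfl hVS
    have hnV : S ≤ Subgroup.normalizer (V : Set Ω) := fun g hg =>
      normalizer_le_relFunctor hW.toIsPFunctor hS hnK ⟨Subgroup.le_normalizer hg, hnK hg⟩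
    refine hN S (autHom α) ⟨hα', fun g hg => ⟨hg, hnV hg⟩,
      fun y => ⟨apply_mem hα' y, hnV (apply_mem hα' y)⟩, restr hle (autHom α),
      restr_mem F hα' hle, fun y => rfl, ?_⟩
    show img (restr hle (autHom α)) V = V
    rw [img_restr hle _ le_sup_right]
    have := finite_of_le hVS
    refine Subgroup.eq_of_le_of_card_ge ?_ (card_img (F.injective_of_mem hα') hVS).ge
    intro y hy
    obtain ⟨v, hvS, hv, rfl⟩ := mem_img.1 hy
    exact relFunctor_map_aut hW.toIsPFunctor hS hnK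
      (fun w hw => StronglyClosed.map_mem (IsNormal.stronglyClosed hK) hα' w hw) hv
  · obtain ⟨hPc, hPn, -⟩ := id hP
    have hPS := hPc.1
    let R := normalizerIn S P
    have hRS : R ≤ S := normalizerIn_le S P
    have : Finite R := finite_of_le hRS
    have hRp : IsPGroup p R := hS.to_le hRS
    have hKP : K ≤ P := IsNormal.le_centricRadical hS hK hPc (IsEssential.radical hS hF hP)
    have hPR : P ≤ R := le_normalizerIn hPS
    have hPlt : Nat.card P < Nat.card R := by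
      by_contra hge
      exact (lt_normalizerIn hS (IsEssential.lt hF hS hP)).ne
        (Subgroup.eq_of_le_of_card_ge hPR (not_lt.1 hge))
    have hKR : K < R := lt_of_le_of_ne (hKP.trans hPR) fun h => by
      have := finite_of_le hPS
      have h1 : Nat.card K ≤ Nat.card P := Subgroup.card_le_of_le hKP
      rw [h] at h1
      exact absurd hPlt (not_lt.2 h1)
    have hN' := normalizerSystem_spec F P hPS
    let N := normalizerSystem F P hPS
    have hNc := IsNormalizerSystem.isConstrained hS hF hPn hPc hN'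
    have hKn : N.IsNormal K := by
      refine ⟨hKP.trans hPR, fun Y χ hχ => ?_⟩
      obtain ⟨ψ, hψ, hψe, -⟩ := (IsNormalizerSystem.isNormal hN' hPS).2 Y χ hχ
      have hle : Y ⊔ K ≤ Y ⊔ P := sup_le_sup_left hKP Y
      refine ⟨restr hle ψ, restr_mem N hψ hle, fun y => hψe y, ?_⟩
      show img (restr hle ψ) K = K
      rw [img_restr hle ψ le_sup_right]
      exact WeaklyClosed.img_eq (StronglyClosed.weaklyClosed (IsNormal.stronglyClosed hK)) hψ.1
        (hKP.trans le_sup_right)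
    intro α hα
    refine mem_autGroup_of_hom E ⟨autHom_mem F hPS hα, ?_⟩
    have hαN : autHom α ∈ N.Hom P := by
      refine autHom_mem N hPR ?_
      rw [IsNormalizerSystem.autGroup_eq hN' hPS]
      exact hα
    refine pow_local_control hW hRp hNc hKn (hKp.to_le (autGroup_le_of_hom fun χ hχ => hχ.1))
      (hz.normalizerIn hPS) ?_ hαN
    rintro Y χ ⟨hχ, hY, hv, ψ, hψ, hψe, hψV⟩
    refine pow_ctrl_climb hW hS hsm hpr hF hK hKp hcore hz hN
      (k := Nat.card P) (fun Q hQ χ' hχ' => (hbig Q hQ χ' hχ').2) hKR hRS hPlt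
      ⟨hχ.1, fun w hw => ⟨hRS (hY hw).1, (hY hw).2⟩, fun w => ⟨hRS (hv w).1, (hv w).2⟩,
        ψ, hψ.1, hψe, hψV⟩ (hY.trans (normalizerIn_le _ _)) (fun w => (hv w).1)

/-- The induction step. -/
theorem pow_ctrl_step (hW : IsPowCenterFunctor p W) (hS : IsPGroup p S)
    (hsm : PowCtrlSmaller p W (Nat.card S)) (hpr : PowCtrlProper p W F) (hF : F.IsSaturated p)
    {K : Subgroup Ω} (hK : F.IsNormal K) (hKp : IsPGroup p (F.autGroup K)) : PowCtrl p W F K := by
  by_cases hcore : F.core ≤ K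
  · exact pow_ctrl_of_core hW hS hsm hpr hF hK hKp hcore
  intro z hz hN
  let Λ := F.core
  have hΛ := isNormal_core F
  have hΛS : Λ ≤ S := hΛ.1
  have hKΛ : K ≤ Λ := le_core hK
  have hΛsc := IsNormal.stronglyClosed hΛ
  have hΛwc := StronglyClosed.weaklyClosed hΛsc
  have hnΛ : S ≤ Subgroup.normalizer (Λ : Set Ω) := WeaklyClosed.le_normalizer hΛwc
  by_cases hc : F.IsConstrained p
  · exact fun X φ hφ => pow_local_control hW hS hc hK hKp hz hN hφ
  have hΛtop : Λ ≠ S := fun hΛtop => hc ⟨hF, Λ, hΛ, hΛS, fun R hR => by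
    obtain ⟨χ, hχ, rfl⟩ := hR
    rw [hΛwc.2 χ hχ]
    intro c hc
    exact hΛtop.ge hc.1⟩
  have hΛlt : Λ < S := lt_of_le_of_ne hΛS hΛtop
  -- the relative functor at the core
  let V := relFunctor W Λ S
  have hVS : V ≤ S := relFunctor_le W Λ S
  have hΛV : Λ ≤ V := le_relFunctor hΛS hnΛ
  have hVn : ¬ F.IsNormal V := fun h => relFunctor_not_le hW.toIsPFunctor hS hΛlt hnΛ (le_core h)
  have hnV : S ≤ Subgroup.normalizer (V : Set Ω) := fun g hg =>
    normalizer_le_relFunctor hW.toIsPFunctor hS hnΛ ⟨Subgroup.le_normalizer hg, hnΛ hg⟩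
  have hfn : ∀ U : Subgroup Ω, U ≤ S → S ≤ Subgroup.normalizer (U : Set Ω) →
      F.IsFullyNormalized U := fun U hU hn => ⟨hU, fun R _ => by
    rw [show normalizerIn S U = S from le_antisymm (normalizerIn_le S U) fun g hg => ⟨hg, hn hg⟩]
    exact Subgroup.card_le_of_le (normalizerIn_le S R)⟩
  have hmapU : ∀ U : Subgroup Ω, K ≤ U → U ≤ S → S ≤ Subgroup.normalizer (U : Set Ω) →
      ¬ F.IsNormal U → ∀ (X : Subgroup Ω) (φ : X →* Ω), φ ∈ F.normalizerHom U X →
      FixesElt z φ := by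
    intro U hKU hU hn hUn X φ hφ
    have e : normalizerIn S U = S :=
      le_antisymm (normalizerIn_le S U) fun g hg => ⟨hg, hn hg⟩
    refine pow_ctrl_normalizer hS hsm hpr hF hK hKp hKU (hfn U hU hn) hUn hz ?_ hφ
    intro Y χ hχ _ _
    rw [e] at hχ
    exact hN Y χ hχ
  have hV := hmapU V (hKΛ.trans hΛV) hVS hnV hVn
  by_cases hΛp : IsPGroup p (F.autGroup Λ)
  · exact pow_ctrl_of_core hW hS hsm hpr hF hΛ hΛp le_rfl z hz hV
  let T := centralizerIn S Λ
  have hTΛ : ¬ T ≤ Λ := fun hTΛ => hc ⟨hF, Λ, hΛ,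
    isCentric_of_fullyCentralized (IsSaturated.fullyCentralized hS hF (hfn Λ hΛS hnΛ)) hTΛ⟩
  -- the decomposition
  let U := Λ ⊔ T
  have hTS : T ≤ S := centralizerIn_le S Λ
  have hUS : U ≤ S := sup_le hΛS hTS
  have hUn : ¬ F.IsNormal U := fun h => hTΛ (le_sup_right.trans (le_core h))
  have hnT : ∀ g ∈ S, ∀ t ∈ T, g * t * g⁻¹ ∈ T := by
    intro g hg t ht
    refine mem_centralizerIn_iff_conj.2 ⟨S.mul_mem (S.mul_mem hg ht.1) (S.inv_mem hg),
      fun l hl => ?_⟩
    have hgl : g⁻¹ * l * g ∈ Λ := (mem_normalizer_iff'.1 (hnΛ hg)).2 l hl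
    have h1 := (mem_centralizerIn_iff_conj.1 ht).2 _ hgl
    calc g * t * g⁻¹ * l * (g * t * g⁻¹)⁻¹ = g * (t * (g⁻¹ * l * g) * t⁻¹) * g⁻¹ := by group
      _ = l := by rw [h1]; group
  have hnU : S ≤ Subgroup.normalizer (U : Set Ω) := by
    intro g hg
    have := finite_of_le hUS
    refine mem_normalizer_of_finite fun y hy => ?_
    have h1 : U ≤ U.comap (MulAut.conj g).toMonoidHom := by
      refine sup_le (fun l hl => Subgroup.mem_sup_left (conj_mem_of_mem_normalizer (hnΛ hg) hl))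
        fun t ht => Subgroup.mem_sup_right (hnT g hg t ht)
    exact h1 hy
  have hF1 := hmapU U (hKΛ.trans le_sup_left) hUS hnU hUn
  -- the maps acting on the core as elements of `S`
  let F₂ := actSystem F hΛS hnΛ (autInducedBy S Λ) le_rfl
  have hF₂le : F₂ ≤ F := fun Y χ hχ => hχ.1
  have haut : F₂.autGroup Λ ≤ autInducedBy S Λ := by
    intro α hα
    obtain ⟨-, ψ, hψ, hψe, l, hl, hle⟩ := autHom_mem F₂ hΛS hα
    rw [show α = l from MulEquiv.ext fun z => Subtype.ext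
      ((hψe z).symm.trans (hle z z.2 (Subgroup.mem_sup_left z.2)))]
    exact hl
  have hF₂ne : F₂ ≠ F := fun h => hΛp ((isPGroup_autInducedBy hS Λ).to_le (h ▸ haut))
  have hF₂n : F₂.IsNormal Λ := by
    refine ⟨hΛS, fun Y χ hχ => ?_⟩
    obtain ⟨hχF, ψ, hψ, hψe, hact⟩ := hχ
    have hle : Y ⊔ Λ ⊔ Λ ≤ Y ⊔ Λ := sup_le le_rfl le_sup_right
    refine ⟨ψ, ⟨hψ, restr hle ψ, restr_mem F hψ hle, fun z => rfl, ?_⟩, hψe,
      ActsIn.img_eq hact le_sup_right⟩
    obtain ⟨l, hl, hlx⟩ := hact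
    exact ⟨l, hl, fun z hz hz' => hlx z hz (Subgroup.mem_sup_right hz)⟩
  have hF₂ctrl := hpr F₂ hF₂le hF₂ne (actSystem_isSaturated hS hF hΛ hnΛ) Λ hF₂n
    ((isPGroup_autInducedBy hS Λ).to_le haut) z hz
    (fun Y χ ⟨hχ, hY, hv, ψ, hψ, hψe, hψV⟩ =>
      hV Y χ ⟨hχ.1, hY, hv, ψ, hψ.1, hψe, hψV⟩)
  intro X φ hφ x
  obtain ⟨ψ, hψ, hψe, hψΛ⟩ := hΛ.2 X φ hφ
  have hψS := source_le hψ
  have hc := restr_mem F hψ (le_sup_right : Λ ≤ X ⊔ Λ)
  have hcr : (restr le_sup_right ψ).range = Λ := (range_restr _ ψ).trans hψΛ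
  obtain ⟨χ, hχ, hχe, -⟩ := IsReceptive.extend (IsSaturated.receptive hS hF
    (IsSaturated.fullyCentralized hS hF (hfn Λ hΛS hnΛ))) hc hcr
  have hXN : X ⊔ Λ ≤ extender S Λ (restr le_sup_right ψ) := by
    intro g hg
    refine mem_extender.2 ⟨hψS hg, hnΛ (hψS hg), ψ ⟨g, hg⟩, apply_mem hψ _, fun l hl => ?_⟩
    rw [restr_apply, restr_apply, ← map_inv, ← map_mul, ← map_mul]
    rfl
  have hΛN : Λ ≤ extender S Λ (restr le_sup_right ψ) := le_extender hΛS (apply_mem hc)
  have hUN : U ≤ extender S Λ (restr le_sup_right ψ) := sup_le hΛN (centralizerIn_le_extender _)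
  let Z := (X ⊔ Λ) ⊔ U
  have hZN : Z ≤ extender S Λ (restr le_sup_right ψ) := sup_le hXN hUN
  let χ₁ := restr hZN χ
  have hχ₁ : χ₁ ∈ F.Hom Z := restr_mem F hχ hZN
  have hTimg : img χ₁ T = T := by
    have := finite_of_le hTS
    refine Subgroup.eq_of_le_of_card_ge ?_
      (card_img (F.injective_of_mem hχ₁) (le_sup_right.trans le_sup_right)).ge
    intro w hw
    obtain ⟨t, htZ, ht, rfl⟩ := mem_img.1 hw
    exact apply_mem_centralizerIn hcr hχ hχe hΛN _ ht
  have hχU : img χ₁ U = U := by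
    rw [img_sup χ₁ (le_sup_left.trans le_sup_right) (le_sup_right.trans le_sup_right),
      WeaklyClosed.img_eq hΛwc hχ₁ (le_sup_left.trans le_sup_right), hTimg]
  have hχA : FixesElt z χ₁ := by
    have hle : Z ⊔ U ≤ Z := sup_le le_rfl le_sup_right
    exact hF1 Z χ₁ ⟨hχ₁, fun w hw => ⟨source_le hχ₁ hw, hnU (source_le hχ₁ hw)⟩,
      fun w => ⟨apply_mem hχ₁ w, hnU (apply_mem hχ₁ w)⟩, restr hle χ₁, restr_mem F hχ₁ hle,
      fun w => rfl, (img_restr hle χ₁ le_sup_right).trans hχU⟩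
  -- `ψ` has values in the image of `χ₁`
  have hψv : ∀ y : ↥(X ⊔ Λ), ψ y ∈ χ₁.range := by
    intro y
    have hyZ : (y : Ω) ∈ Z := Subgroup.mem_sup_left y.2
    have ht : (χ₁ ⟨y, hyZ⟩)⁻¹ * ψ y ∈ T := by
      refine mem_centralizerIn_iff_conj.2
        ⟨S.mul_mem (S.inv_mem (apply_mem hχ₁ _)) (apply_mem hψ y), fun l hl => ?_⟩
      obtain ⟨l', hl'P, hl', rfl⟩ := mem_img.1 (hψΛ.ge hl)
      have h1 : χ₁ ⟨l', Subgroup.mem_sup_left hl'P⟩ = ψ ⟨l', hl'P⟩ :=
        hχe l' hl' (hΛN hl')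
      have hconj : (y : Ω) * l' * (y : Ω)⁻¹ ∈ Λ := conj_mem_of_mem_normalizer (hnΛ (hψS y.2)) hl'
      have h2 : χ₁ (⟨y, hyZ⟩ * ⟨l', Subgroup.mem_sup_left hl'P⟩ * ⟨y, hyZ⟩⁻¹) =
          ψ (y * ⟨l', hl'P⟩ * y⁻¹) := hχe _ hconj (hΛN hconj)
      rw [map_mul, map_mul, map_inv, map_mul, map_mul, map_inv, h1] at h2
      calc (χ₁ ⟨y, hyZ⟩)⁻¹ * ψ y * ψ ⟨l', hl'P⟩ * ((χ₁ ⟨y, hyZ⟩)⁻¹ * ψ y)⁻¹
          = (χ₁ ⟨y, hyZ⟩)⁻¹ * (ψ y * ψ ⟨l', hl'P⟩ * (ψ y)⁻¹) * χ₁ ⟨y, hyZ⟩ := by group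
        _ = ψ ⟨l', hl'P⟩ := by rw [← h2]; group
    have h3 := χ₁.range.mul_mem (⟨⟨y, hyZ⟩, rfl⟩ : χ₁ ⟨y, hyZ⟩ ∈ χ₁.range)
      (img_le_range χ₁ T (hTimg.ge ht))
    rwa [mul_inv_cancel_left] at h3
  obtain ⟨d, hd, hdr, hdl, hdl'⟩ := exists_inv F hχ₁ rfl
  let η := compose ψ d hψv
  have hη : η ∈ F.Hom (X ⊔ Λ) := compose_mem F hψ hd hψv
  have hηF₂ : η ∈ F₂.Hom (X ⊔ Λ) := by
    have hle : X ⊔ Λ ⊔ Λ ≤ X ⊔ Λ := sup_le le_rfl le_sup_right
    refine ⟨hη, restr hle η, restr_mem F hη hle, fun w => rfl, 1, Subgroup.one_mem _,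
      fun w hw hw' => ?_⟩
    show d ⟨ψ ⟨w, _⟩, _⟩ = w
    rw [show (⟨ψ ⟨w, hle hw'⟩, hψv _⟩ : χ₁.range) =
      ⟨χ₁ ⟨w, Subgroup.mem_sup_left (Subgroup.mem_sup_right hw)⟩, _, rfl⟩ from
      Subtype.ext (hχe w hw (hΛN hw)).symm]
    exact hdl _ _
  have hηZ : ∀ y, η y ∈ Z := fun y => hdr.le ⟨_, rfl⟩
  set y := Subgroup.inclusion (le_sup_left : X ≤ X ⊔ Λ) x
  have h4 : (y : Ω) = z ↔ η y = z := hF₂ctrl (X ⊔ Λ) η hηF₂ y
  have h5 := hχA ⟨η y, hηZ y⟩
  have h6 : χ₁ ⟨η y, hηZ y⟩ = φ x := (hdl' _ (hηZ y)).trans (hψe x)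
  rw [h6] at h5
  exact h4.trans h5

/-- Characteristic functors with the local property control the centre. -/
theorem pow_ctrl_all (hW : IsPowCenterFunctor p W) {Ω : Type u} [Group Ω] {S : Subgroup Ω} [Finite S]
    (hS : IsPGroup p S) {F : FusionSystem S} (hF : F.IsSaturated p) {K : Subgroup Ω}
    (hK : F.IsNormal K) (hKp : IsPGroup p (F.autGroup K)) : PowCtrl p W F K := by
  suffices key : ∀ n, PowCtrlSmaller p W n by
    exact key (Nat.card S + 1) (Nat.lt_succ_self _) hS F hF K hK hKp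
  intro n
  induction n with
  | zero =>
    intro Ω _ S _ h
    exact absurd h (Nat.not_lt_zero _)
  | succ n ihn =>
    intro Ω _ S _ hn hS F hF K hK hKp
    have hsm : PowCtrlSmaller p W (Nat.card S) := fun {Ω'} _ {S'} _ hlt =>
      ihn (lt_of_lt_of_le hlt (Nat.lt_succ_iff.1 hn))
    -- induction on the maps
    have hfin : ∀ E : FusionSystem S,
        {x : Σ P : Subgroup Ω, (P →* Ω) | x.2 ∈ E.Hom x.1}.Finite := by
      intro E
      have hsub := finite_subgroups_le (S := S)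
      have : Finite {P : Subgroup Ω | P ≤ S} := hsub.to_subtype
      have : ∀ P : {P : Subgroup Ω | P ≤ S}, Finite (↥(P : Subgroup Ω) →* ↥S) := fun P => by
        have := finite_of_le P.2
        exact Finite.of_injective (fun f => (f : ↥(P : Subgroup Ω) → ↥S)) DFunLike.coe_injective
      let f : (Σ P : {P : Subgroup Ω | P ≤ S}, (↥(P : Subgroup Ω) →* ↥S)) →
          Σ P : Subgroup Ω, (P →* Ω) := fun x => ⟨x.1.1, S.subtype.comp x.2⟩
      refine (Set.finite_range f).subset ?_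
      rintro ⟨P, φ⟩ hφ
      exact ⟨⟨⟨P, source_le (F := E) hφ⟩, φ.codRestrict S (apply_mem (F := E) hφ)⟩, rfl⟩
    let count : FusionSystem S → ℕ := fun E =>
      Nat.card {x : Σ P : Subgroup Ω, (P →* Ω) | x.2 ∈ E.Hom x.1}
    suffices key : ∀ m, ∀ E : FusionSystem S, count E = m → E.IsSaturated p →
        ∀ K : Subgroup Ω, E.IsNormal K → IsPGroup p (E.autGroup K) → PowCtrl p W E K by
      exact key _ F rfl hF K hK hKp
    intro m
    induction m using Nat.strong_induction_on with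
    | _ m IH =>
      intro E hEm hE K hK hKp
      refine pow_ctrl_step hW hS hsm ?_ hE hK hKp
      intro E' hle hne hE' K' hK' hKp'
      refine IH (count E') ?_ E' rfl hE' K' hK' hKp'
      rw [← hEm]
      show Nat.card ↥{x : Σ P : Subgroup Ω, (P →* Ω) | x.2 ∈ E'.Hom x.1} <
        Nat.card ↥{x : Σ P : Subgroup Ω, (P →* Ω) | x.2 ∈ E.Hom x.1}
      rw [Nat.card_coe_set_eq, Nat.card_coe_set_eq]
      refine Set.ncard_lt_ncard ?_ (hfin E)
      refine ⟨fun x hx => hle x.1 hx, fun hsub => hne (le_antisymm_hom hle fun P φ hφ => ?_)⟩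
      exact hsub (a := ⟨P, φ⟩) hφ

end Cfsg.Agent.Lib.Fusion
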