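import Cfsg.Agent.Lib.Fusion.NormalCriteria

/-!
A saturated fusion system with nontrivial core over a group of class two in which centralisers
of non-central elements are abelian and commutators with each of them cover the centre is
constrained (this applies to the Sylow subgroup of `SL₃(q)`).
-/

set_option autoImplicit false

namespace Cfsg.Agent.Lib.Fusion

open Cfsg Cfsg.FusionSystem

universe u

variable {Ω : Type u} [Group Ω] {S : Subgroup Ω} {p : ℕ} [Fact p.Prime] [Finite S]
  {F : FusionSystem S}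

/-- The hypotheses on `S`. -/
structure WideCommutator (S : Subgroup Ω) : Prop where
  comm : ∀ g ∈ S, ∀ x ∈ S, g * x * g⁻¹ * x⁻¹ ∈ centralizerIn S S
  trans : ∀ v ∈ S, v ∉ centralizerIn S S → ∀ x ∈ S, ∀ y ∈ S, x * v = v * x → y * v = v * y →
    x * y = y * x
  cover : ∀ v ∈ S, v ∉ centralizerIn S S → ∀ z ∈ centralizerIn S S,
    ∃ g ∈ S, g * v * g⁻¹ = v * z

theorem WideCommutator.center_le (_h : WideCommutator S) {E : Subgroup Ω} (hc : F.IsCentric E) :
    centralizerIn S S ≤ E := fun z hz => hc.2 E (isConj_refl F hc.1)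
  (mem_centralizerIn.2 ⟨hz.1, fun x hx => (mem_centralizerIn.1 hz).2 x (hc.1 hx)⟩)

/-- No essential subgroup has automorphisms all preserving the centre of `S`. -/
theorem exists_moved_center (hS : IsPGroup p S) (hF : F.IsSaturated p) (h : WideCommutator S)
    {E : Subgroup Ω} (hE : F.IsEssential p E) :
    ∃ α ∈ F.autGroup E, ∃ z : E, (z : Ω) ∈ centralizerIn S S ∧
      ((α z : E) : Ω) ∉ centralizerIn S S := by
  by_contra hno
  push Not at hno
  have hc := hE.1
  have hES := hc.1
  have := finite_of_le hES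
  have hZE : centralizerIn S S ≤ E := WideCommutator.center_le h hc
  obtain ⟨g, hg, hgE⟩ := SetLike.exists_of_lt (IsEssential.lt hF hS hE)
  refine hgE ?_
  have hgn : g ∈ Subgroup.normalizer (E : Set Ω) := mem_normalizer_of_finite fun x hx => by
    have := E.mul_mem (hZE (h.comm g hg x (hES hx))) hx
    rwa [inv_mul_cancel_right] at this
  have hgS : g ∈ normalizerIn S E := ⟨hg, hgn⟩
  refine mem_of_conjAut_inn hc hgS ?_
  rw [← (IsEssential.radical hS hF hE).2]
  let W : ℕ → Subgroup E := fun i =>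
    if i = 0 then ⊥ else if i = 1 then (centralizerIn S S).subgroupOf E else ⊤
  refine stab_mem_pCore (hS.to_le hES) (F.autGroup E) W 2 (by simp [W]) (by simp [W]) ?_
    (conjAut_mem_autGroup F hES hg hgn) ?_
  · intro α hα i x hx
    simp only [W] at hx ⊢
    split_ifs at hx ⊢ with h0 h1
    · rw [Subgroup.mem_bot] at hx ⊢
      rw [hx, map_one]
    · exact hno α hα x hx
    · trivial
  · intro i hi x hx
    simp only [W] at hx ⊢
    interval_cases i
    · simp only [zero_add, one_ne_zero, if_false, if_true, Subgroup.mem_subgroupOf] at hx ⊢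
      rw [Subgroup.mem_bot]
      refine inv_mul_eq_one.2 (Subtype.ext ?_)
      rw [conjAut_coe, (mem_centralizerIn.1 hx).2 g hg, mul_inv_cancel_right]
    · simp only [one_ne_zero, if_false, if_true, Subgroup.mem_subgroupOf]
      have h1 := h.comm (x : Ω)⁻¹ (S.inv_mem (hES x.2)) g hg
      rw [inv_inv] at h1
      show (x : Ω)⁻¹ * (g * x * g⁻¹) ∈ centralizerIn S S
      simpa only [mul_assoc] using h1

/-- The essential subgroups are abelian and self-centralising. -/
theorem essential_abelian (hS : IsPGroup p S) (hF : F.IsSaturated p) (h : WideCommutator S)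
    {E : Subgroup Ω} (hE : F.IsEssential p E) : ∀ x ∈ E, ∀ y ∈ E, x * y = y * x := by
  have hc := hE.1
  have hZE : centralizerIn S S ≤ E := WideCommutator.center_le h hc
  obtain ⟨α, hα, z, hz, hnz⟩ := exists_moved_center hS hF h hE
  intro x hx y hy
  have hzc : ∀ w : E, z * w = w * z := fun w =>
    Subtype.ext ((mem_centralizerIn.1 hz).2 w (hc.1 w.2)).symm
  have hw : ∀ w ∈ E, w * (α z : E) = (α z : E) * w := fun w hw => by
    have h1 := congrArg (fun e : E => ((α e : E) : Ω)) (hzc (α.symm ⟨w, hw⟩))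
    simp only [map_mul, MulEquiv.apply_symm_apply, Subgroup.coe_mul] at h1
    exact h1.symm
  exact h.trans _ (hc.1 (α z).2) hnz x (hc.1 hx) y (hc.1 hy) (hw x hx) (hw y hy)

theorem essential_eq_centralizer (hS : IsPGroup p S) (hF : F.IsSaturated p)
    (h : WideCommutator S) {E : Subgroup Ω} (hE : F.IsEssential p E) {v : Ω} (hv : v ∈ E)
    (hvZ : v ∉ centralizerIn S S) (x : Ω) : x ∈ E ↔ x ∈ S ∧ x * v = v * x := by
  refine ⟨fun hx => ⟨hE.1.1 hx, essential_abelian hS hF h hE x hx v hv⟩, fun ⟨hxS, hxv⟩ => ?_⟩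
  exact hE.1.2 E (isConj_refl F hE.1.1) (mem_centralizerIn.2 ⟨hxS, fun y hy =>
    (h.trans v (hE.1.1 hv) hvZ x hxS y (hE.1.1 hy) hxv
      (essential_abelian hS hF h hE y hy v hv)).symm⟩)

/-- A normal subgroup inside the centre of `S` is trivial once there is an essential subgroup. -/
theorem normal_not_le_center (hS : IsPGroup p S) (hF : F.IsSaturated p) (h : WideCommutator S)
    {Q : Subgroup Ω} (hQ : F.IsNormal Q) (hQ1 : Q ≠ ⊥) {E : Subgroup Ω}
    (hE : F.IsEssential p E) : ¬ Q ≤ centralizerIn S S := by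
  intro hQZ
  have hES := hE.1.1
  have hQE : Q ≤ E := hQZ.trans (WideCommutator.center_le h hE.1)
  have hinv := (IsNormal.le_and_invariant hS hF hQ (Or.inr hE)).2
  have := finite_of_le hES
  have := finite_mulAut hES
  obtain ⟨⟨-, R, hR⟩, -⟩ := IsSaturated.automized_receptive hS hF hE.2.1
  obtain ⟨α, hα, z, hz, hnz⟩ := exists_moved_center hS hF h hE
  let v : E := α z
  obtain ⟨d, hdQ, hd1⟩ := Q.bot_or_exists_ne_one.resolve_left hQ1
  let C : Subgroup (F.autGroup E) :=
    { carrier := {β | (β : MulAut E) v = v ∧ ∀ e : E, (e : Ω) ∈ Q → (β : MulAut E) e = e}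
      one_mem' := ⟨rfl, fun _ _ => rfl⟩
      mul_mem' := fun {a b} ha hb => ⟨by simp [ha.1, hb.1], fun e he => by
        simp [ha.2 e he, hb.2 e he]⟩
      inv_mem' := fun {a} ha => ⟨by
        simp only [InvMemClass.coe_inv]
        exact (MulEquiv.symm_apply_eq _).2 ha.1.symm, fun e he => by
        simp only [InvMemClass.coe_inv]
        exact (MulEquiv.symm_apply_eq _).2 (ha.2 e he).symm⟩ }
  let a : F.autGroup E := ⟨α, hα⟩
  have hfixR : ∀ r ∈ (R : Subgroup (F.autGroup E)), ∀ e : E, (e : Ω) ∈ centralizerIn S S →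
      (r : MulAut E) e = e := by
    intro r hr e he
    rw [hR] at hr
    obtain ⟨g, hg, hge⟩ := mem_autInducedBy.1 (Subgroup.mem_subgroupOf.1 hr)
    refine Subtype.ext ?_
    rw [hge e, (mem_centralizerIn.1 he).2 g hg, mul_inv_cancel_right]
  have hRC : ((a • R : Sylow p (F.autGroup E)) : Subgroup (F.autGroup E)) ≤ C := by
    rw [Sylow.coe_subgroup_smul]
    rintro _ ⟨r, hr, rfl⟩
    refine ⟨?_, fun e he => ?_⟩
    · show α ((r : MulAut E) (α.symm (α z))) = α z
      rw [MulEquiv.symm_apply_apply, hfixR r hr z hz]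
    · show α ((r : MulAut E) (α.symm e)) = e
      obtain ⟨e', he', hee⟩ := (hinv α hα).ge (show e ∈ Q.subgroupOf E from he)
      have hee' : α e' = e := hee
      rw [← hee', MulEquiv.symm_apply_apply, hfixR r hr e' (hQZ he')]
  obtain ⟨g, hg, hgv⟩ := h.cover v (hES v.2) hnz d (hQZ hdQ)
  have hgn : g ∈ Subgroup.normalizer (E : Set Ω) := mem_normalizer_of_finite fun x hx => by
    have := E.mul_mem (WideCommutator.center_le h hE.1 (h.comm g hg x (hES hx))) hx
    rwa [inv_mul_cancel_right] at this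
  let x : F.autGroup E := ⟨conjAut hgn, conjAut_mem_autGroup F hES hg hgn⟩
  let dE : E := ⟨d, hQE hdQ⟩
  have hxQ : ∀ e : E, (e : Ω) ∈ Q → conjAut hgn e = e := fun e he => Subtype.ext (by
    rw [conjAut_coe, (mem_centralizerIn.1 (hQZ he)).2 g hg, mul_inv_cancel_right])
  have hxv : conjAut hgn v = v * dE := Subtype.ext hgv
  have hxQ' : ∀ e : E, (e : Ω) ∈ Q → (conjAut hgn).symm e = e := fun e he =>
    (MulEquiv.symm_apply_eq _).2 (hxQ e he).symm
  have hxv' : (conjAut hgn).symm v = v * dE⁻¹ := by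
    rw [MulEquiv.symm_apply_eq, map_mul, map_inv, hxv, hxQ dE hdQ, mul_inv_cancel_right]
  have hxN : x ∈ Subgroup.normalizer (C : Set (F.autGroup E)) := by
    refine mem_normalizer_of_finite fun β hβ => ⟨?_, fun e he => ?_⟩
    · show conjAut hgn ((β : MulAut E) ((conjAut hgn).symm v)) = v
      rw [hxv', map_mul, map_inv, hβ.1, hβ.2 dE hdQ, map_mul, map_inv, hxv, hxQ dE hdQ,
        mul_inv_cancel_right]
    · show conjAut hgn ((β : MulAut E) ((conjAut hgn).symm e)) = e
      rw [hxQ' e he, hβ.2 e he, hxQ e he]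
  have hxT : x ∈ (R : Subgroup (F.autGroup E)) := by
    rw [hR]
    exact conjAut_mem_autInducedBy hg hgn
  have hx : x ∈ C := by
    let N := Subgroup.normalizer (C : Set (F.autGroup E))
    have hdiv : ¬ p ∣ C.relIndex N := fun hd =>
      (a • R : Sylow p (F.autGroup E)).not_dvd_index
        (hd.trans ((Dvd.intro _ (Subgroup.relIndex_mul_index Subgroup.le_normalizer)).trans
          (Subgroup.index_dvd_of_le hRC)))
    haveI : (C.subgroupOf N).Normal := Subgroup.normal_in_normalizer
    have hpow := Subgroup.pow_index_mem (C.subgroupOf N) ⟨x, hxN⟩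
    obtain ⟨k, hk⟩ := R.2 ⟨x, hxT⟩
    have hk' : x ^ p ^ k = 1 := congrArg Subtype.val hk
    have hcop : Nat.Coprime (C.relIndex N) (orderOf x) :=
      ((((Fact.out : p.Prime).coprime_iff_not_dvd).2 hdiv).pow_left k).symm.coprime_dvd_right
        (orderOf_dvd_of_pow_eq_one hk')
    obtain ⟨m, hm⟩ := exists_pow_eq_self_of_coprime hcop
    rw [← hm]
    exact C.pow_mem (show x ^ C.relIndex N ∈ C from hpow) m
  have h1 := hx.1
  rw [show (x : MulAut E) = conjAut hgn from rfl, hxv, mul_eq_left] at h1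
  exact hd1 (congrArg Subtype.val h1)

theorem isCentric_top (F : FusionSystem S) : F.IsCentric S := by
  refine ⟨le_rfl, fun Q hQ => ?_⟩
  obtain ⟨φ, hφ, rfl⟩ := hQ
  have hle : φ.range ≤ S := by
    rintro _ ⟨x, rfl⟩
    exact apply_mem hφ x
  have heq : φ.range = S := Subgroup.eq_of_le_of_card_ge hle
    (card_range_eq (F.injective_of_mem hφ)).ge
  rw [heq]
  exact centralizerIn_le S S

theorem isConstrained_of_wideCommutator (hS : IsPGroup p S) (hF : F.IsSaturated p)
    (h : WideCommutator S) (hcore : F.core ≠ ⊥) : F.IsConstrained p := by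
  obtain ⟨Q, hQ, hQ1⟩ : ∃ Q, F.IsNormal Q ∧ Q ≠ ⊥ := by
    by_contra hno
    push Not at hno
    exact hcore (sSup_eq_bot.2 hno)
  by_cases hess : ∃ E, F.IsEssential p E
  · obtain ⟨E, hE⟩ := hess
    obtain ⟨q, hq, hqZ⟩ := SetLike.not_le_iff_exists.1 (normal_not_le_center hS hF h hQ hQ1 hE)
    have hQP : ∀ P, F.IsEssential p P → Q ≤ P := fun P hP =>
      IsNormal.le_centricRadical hS hQ hP.1 (IsEssential.radical hS hF hP)
    have heq : ∀ P, F.IsEssential p P → P = E := fun P hP => SetLike.ext fun x => by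
      rw [essential_eq_centralizer hS hF h hP (hQP P hP hq) hqZ x,
        essential_eq_centralizer hS hF h hE (hQP E hE hq) hqZ x]
    refine ⟨hF, E, normal_of_invariant hS hF ?_, hE.1⟩
    rintro P (rfl | hP)
    · refine ⟨hE.1.1, fun α hα => ?_⟩
      have hfin : Finite (E.subgroupOf P) := inferInstance
      refine Subgroup.eq_of_le_of_card_ge ?_
        (le_of_eq (Subgroup.card_map_of_injective α.injective).symm)
      rintro _ ⟨y, hy, rfl⟩
      have hQi := (IsNormal.le_and_invariant hS hF hQ (Or.inl rfl)).2 α hα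
      have hαq : α ⟨q, hE.1.1 (hQP E hE hq)⟩ ∈ Q.subgroupOf P :=
        hQi.le ⟨_, hq, rfl⟩
      have hαqE : ((α ⟨q, hE.1.1 (hQP E hE hq)⟩ : P) : Ω) ∈ E := hQP E hE hαq
      have hαqZ : ((α ⟨q, hE.1.1 (hQP E hE hq)⟩ : P) : Ω) ∉ centralizerIn P P := by
        intro hc
        refine hqZ (mem_centralizerIn.2 ⟨hE.1.1 (hQP E hE hq), fun w hw => ?_⟩)
        have h1 := (mem_centralizerIn.1 hc).2 (α ⟨w, hw⟩) (α ⟨w, hw⟩).2
        have h2 : α (⟨w, hw⟩ * ⟨q, hE.1.1 (hQP E hE hq)⟩) =
            α (⟨q, hE.1.1 (hQP E hE hq)⟩ * ⟨w, hw⟩) := by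
          rw [map_mul, map_mul]
          exact Subtype.ext h1
        exact congrArg Subtype.val (α.injective h2)
      show ((α y : P) : Ω) ∈ E
      rw [essential_eq_centralizer hS hF h hE hαqE hαqZ]
      refine ⟨(α y).2, ?_⟩
      have h2 : y * ⟨q, hE.1.1 (hQP E hE hq)⟩ = ⟨q, hE.1.1 (hQP E hE hq)⟩ * y :=
        Subtype.ext (essential_abelian hS hF h hE _ hy q (hQP E hE hq))
      have h3 := congrArg (fun w : P => ((α w : P) : Ω)) h2
      simpa only [map_mul, Subgroup.coe_mul] using h3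
    · rw [heq P hP]
      refine ⟨le_rfl, fun α _ => ?_⟩
      rw [Subgroup.subgroupOf_self, Subgroup.map_top_of_surjective _ α.surjective]
  · exact ⟨hF, S, normal_of_invariant hS hF (fun P hP => by
      rcases hP with rfl | hP
      · exact ⟨le_rfl, fun α _ => by
          rw [Subgroup.subgroupOf_self, Subgroup.map_top_of_surjective _ α.surjective]⟩
      · exact absurd ⟨P, hP⟩ hess), isCentric_top F⟩

end Cfsg.Agent.Lib.Fusion
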