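import Cfsg.Agent.Lib.Fusion.Factor
import Cfsg.Agent.Lib.Fusion.Series

/-!
Strongly closed subgroups: products and centralizers; a normality criterion.
-/

set_option autoImplicit false
set_option linter.unusedSectionVars false

namespace Cfsg.Agent.Lib.Fusion

open Cfsg Cfsg.FusionSystem

variable {Ω : Type*} [Group Ω] {S : Subgroup Ω} [Finite S] {F : FusionSystem S} {p : ℕ}
  [Fact p.Prime]

/-- The product of two strongly closed subgroups is strongly closed. -/
theorem stronglyClosed_sup (hS : IsPGroup p S) (hF : F.IsSaturated p) {T₁ T₂ : Subgroup Ω}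
    (h₁ : F.StronglyClosed T₁) (h₂ : F.StronglyClosed T₂) : F.StronglyClosed (T₁ ⊔ T₂) := by
  refine ⟨sup_le h₁.1 h₂.1, fun R hR φ hφ x => ?_⟩
  obtain ⟨χ, hχ, hc⟩ := exists_lift_mod hS hF h₁ hφ
  have hx : (x : Ω) ∈ ((T₂ ⊔ T₁ : Subgroup Ω) : Set Ω) := by
    rw [sup_comm]
    exact hR x.2
  rw [Subgroup.coe_mul_of_left_le_normalizer_right T₂ T₁
    (h₂.1.trans (WeaklyClosed.le_normalizer (StronglyClosed.weaklyClosed h₁)))] at hx
  obtain ⟨b, hb, a, ha, hab⟩ := hx
  have hb' : b ∈ R ⊔ T₁ := by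
    have := (R ⊔ T₁).mul_mem (Subgroup.mem_sup_left x.2) (Subgroup.mem_sup_right (T₁.inv_mem ha))
    rwa [← hab, mul_inv_cancel_right] at this
  have e : Subgroup.inclusion (le_sup_left : R ≤ R ⊔ T₁) x =
      ⟨b, hb'⟩ * ⟨a, Subgroup.mem_sup_right ha⟩ := Subtype.ext hab.symm
  have h3 : χ (Subgroup.inclusion le_sup_left x) ∈ T₁ ⊔ T₂ := by
    rw [e, map_mul]
    exact mul_mem (Subgroup.mem_sup_right (StronglyClosed.map_mem h₂ hχ _ hb))
      (Subgroup.mem_sup_left (StronglyClosed.map_mem h₁ hχ _ ha))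
  have h4 := mul_mem h3 (Subgroup.mem_sup_left (T₁.inv_mem (hc x)) : _ ∈ T₁ ⊔ T₂)
  rwa [mul_inv_rev, inv_inv, mul_inv_cancel_left] at h4

/-- The product of a strongly closed subgroup with its centralizer is strongly closed. -/
theorem stronglyClosed_mul_centralizer (hS : IsPGroup p S) (hF : F.IsSaturated p)
    {T : Subgroup Ω} (hT : F.StronglyClosed T) :
    F.StronglyClosed (T ⊔ centralizerIn S T) := by
  refine ⟨sup_le hT.1 (centralizerIn_le S T), fun R hR φ hφ x => ?_⟩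
  obtain ⟨χ, hχ, hc⟩ := exists_lift_mod hS hF hT hφ
  have hx : (x : Ω) ∈ ((centralizerIn S T ⊔ T : Subgroup Ω) : Set Ω) := by
    rw [sup_comm]
    exact hR x.2
  rw [Subgroup.coe_mul_of_left_le_normalizer_right (centralizerIn S T) T
    ((centralizerIn_le S T).trans
      (WeaklyClosed.le_normalizer (StronglyClosed.weaklyClosed hT)))] at hx
  obtain ⟨b, hb, a, ha, hab⟩ := hx
  have hb' : b ∈ R ⊔ T := by
    have := (R ⊔ T).mul_mem (Subgroup.mem_sup_left x.2) (Subgroup.mem_sup_right (T.inv_mem ha))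
    rwa [← hab, mul_inv_cancel_right] at this
  have e : Subgroup.inclusion (le_sup_left : R ≤ R ⊔ T) x =
      ⟨b, hb'⟩ * ⟨a, Subgroup.mem_sup_right ha⟩ := Subtype.ext hab.symm
  have himg := WeaklyClosed.img_eq (StronglyClosed.weaklyClosed hT) hχ
    (le_sup_right : T ≤ R ⊔ T)
  have hχb : χ ⟨b, hb'⟩ ∈ centralizerIn S T := by
    refine mem_centralizerIn.2 ⟨apply_mem hχ _, fun y hy => ?_⟩
    obtain ⟨z, hzR, hzT, rfl⟩ := mem_img.1 (himg.ge hy)
    rw [← map_mul, ← map_mul]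
    exact congrArg χ (Subtype.ext ((mem_centralizerIn.1 hb).2 z hzT))
  have h3 : χ (Subgroup.inclusion le_sup_left x) ∈ T ⊔ centralizerIn S T := by
    rw [e, map_mul]
    exact mul_mem (Subgroup.mem_sup_right hχb)
      (Subgroup.mem_sup_left (StronglyClosed.map_mem hT hχ _ ha))
  have h4 := mul_mem h3 (Subgroup.mem_sup_left (T.inv_mem (hc x)) : _ ∈ T ⊔ centralizerIn S T)
  rwa [mul_inv_rev, inv_inv, mul_inv_cancel_left] at h4

/-- The descending series of iterated commutators of `Q₁` with `S`. -/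
def commSeries (S Q₁ : Subgroup Ω) : ℕ → Subgroup Ω
  | 0 => Q₁
  | k + 1 => ⁅commSeries S Q₁ k, S⁆

theorem commSeries_le_lcs {Q₁ : Subgroup Ω} (h : Q₁ ≤ S) :
    ∀ k, commSeries S Q₁ k ≤ S.lowerCentralSeries k
  | 0 => h.trans (le_of_eq S.lowerCentralSeries_zero.symm)
  | k + 1 => by
    rw [Subgroup.lowerCentralSeries_succ]
    exact Subgroup.commutator_mono (commSeries_le_lcs h k) le_rfl

theorem commSeries_props {Q₁ : Subgroup Ω} (hQ : Q₁ ≤ S)
    (hn : S ≤ Subgroup.normalizer (Q₁ : Set Ω)) :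
    ∀ k, commSeries S Q₁ (k + 1) ≤ commSeries S Q₁ k ∧ commSeries S Q₁ k ≤ Q₁ ∧
      ∀ s ∈ S, ∀ x ∈ commSeries S Q₁ k, s * x * s⁻¹ ∈ commSeries S Q₁ k := by
  intro k
  induction k with
  | zero =>
    refine ⟨Subgroup.commutator_le.2 fun a ha b hb => ?_, le_rfl,
      fun s hs x hx => conj_mem_of_mem_normalizer (hn hs) hx⟩
    have := Q₁.mul_mem ha (conj_mem_of_mem_normalizer (hn hb) (Q₁.inv_mem ha))
    rw [commutatorElement_def]
    simpa [commSeries, mul_assoc] using this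
  | succ k ih =>
    obtain ⟨h1, h2, h3⟩ := ih
    have h3' : ∀ s ∈ S, ∀ x ∈ commSeries S Q₁ (k + 1), s * x * s⁻¹ ∈ commSeries S Q₁ (k + 1) := by
      intro s hs x hx
      have hle : (commSeries S Q₁ (k + 1)).map (MulAut.conj s).toMonoidHom ≤
          commSeries S Q₁ (k + 1) := by
        show Subgroup.map _ ⁅commSeries S Q₁ k, S⁆ ≤ _
        rw [Subgroup.map_commutator]
        refine Subgroup.commutator_mono ?_ ?_
        · rintro _ ⟨y, hy, rfl⟩
          exact h3 s hs y hy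
        · rintro _ ⟨y, hy, rfl⟩
          exact S.mul_mem (S.mul_mem hs hy) (S.inv_mem hs)
      exact hle ⟨x, hx, rfl⟩
    exact ⟨Subgroup.commutator_mono h1 le_rfl, h1.trans h2, h3'⟩

/-- A strongly closed subgroup abelian over a normal subgroup with `p`-group of automorphisms is
normal. -/
theorem normal_of_abelian_over (hS : IsPGroup p S) (hF : F.IsSaturated p) {Q Q₁ : Subgroup Ω}
    (hQ : F.StronglyClosed Q) (hQ₁Q : Q₁ ≤ Q) (hQ₁ : F.IsNormal Q₁) (hab : ⁅Q, Q⁆ ≤ Q₁)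
    (hAut : IsPGroup p (F.autGroup Q₁)) : F.IsNormal Q := by
  have hS₁ := hQ₁.1
  have hN : S ≤ Subgroup.normalizer (Q₁ : Set Ω) :=
    WeaklyClosed.le_normalizer (StronglyClosed.weaklyClosed (IsNormal.stronglyClosed hQ₁))
  have hn : F.IsFullyNormalized Q₁ := by
    refine ⟨hS₁, fun R hR => ?_⟩
    have : R = Q₁ := by
      obtain ⟨φ, hφ, rfl⟩ := hR
      exact (StronglyClosed.weaklyClosed (IsNormal.stronglyClosed hQ₁)).2 φ hφ
    rw [this]
  have haut : F.autGroup Q₁ ≤ autInducedBy S Q₁ := by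
    obtain ⟨-, R, hR⟩ := (IsSaturated.automized_receptive hS hF hn).1
    intro α hα
    have hle : (⊤ : Subgroup (F.autGroup Q₁)) ≤ (R : Subgroup (F.autGroup Q₁)) :=
      (R.3 (Q := ⊤) (hAut.to_subgroup ⊤) le_top).le
    have := hle (Subgroup.mem_top ⟨α, hα⟩)
    rw [hR] at this
    exact this
  have hprops := commSeries_props hS₁ hN
  have hanti : Antitone (commSeries S Q₁) := antitone_nat_of_succ_le fun k => (hprops k).1
  have hwc : ∀ k, F.WeaklyClosed (commSeries S Q₁ k) := by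
    intro k
    have hle := (hprops k).2.1
    refine ⟨hle.trans hS₁, fun φ hφ => ?_⟩
    obtain ⟨α, hα, he⟩ := IsNormal.extends_aut hQ₁ _ hle φ hφ
    obtain ⟨g, hg, hgα⟩ := mem_autInducedBy.1 (haut hα)
    have := finite_of_le (hle.trans hS₁)
    refine Subgroup.eq_of_le_of_card_ge ?_ (card_range_eq (F.injective_of_mem hφ)).ge
    rintro _ ⟨x, rfl⟩
    rw [← he x, hgα]
    exact (hprops k).2.2 g hg x x.2
  have hnil : Group.IsNilpotent S := hS.isNilpotent
  obtain ⟨n, hn⟩ := (Subgroup.isNilpotent_iff_lowerCentralSeries S).1 hnil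
  have hbot : commSeries S Q₁ n = ⊥ := eq_bot_iff.2 ((commSeries_le_lcs hS₁ n).trans hn.le)
  let C : Fin (n + 2) → Subgroup Ω := fun j =>
    if j.1 ≤ n then commSeries S Q₁ (n - j.1) else Q
  refine normal_of_series hS hF hQ C (n := n + 1) ?_ ?_ ?_ ?_ ?_
  · simpa [C] using hbot
  · simp [C]
  · intro a b hab'
    have : a.1 ≤ b.1 := hab'
    simp only [C]
    split_ifs with h1 h2 h2
    · exact hanti (by omega)
    · exact ((hprops _).2.1).trans hQ₁Q
    · omega
    · exact le_rfl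
  · intro i
    simp only [C, Fin.val_succ, Fin.val_castSucc]
    rw [if_pos (show i.1 ≤ n by omega)]
    split_ifs with h1
    · rw [show n - i.1 = n - (i.1 + 1) + 1 by omega]
      exact Subgroup.commutator_mono le_rfl hQ.1
    · rw [show n - i.1 = 0 by omega]
      exact hab
  · intro i
    simp only [C, Fin.val_castSucc]
    rw [if_pos (show i.1 ≤ n by omega)]
    exact hwc _

theorem normal_closure_of_weaklyNormal (hS : IsPGroup p S) (hF : F.IsSaturated p)
    {T : Subgroup Ω} {E : FusionSystem T} (hE : E.IsWeaklyNormalIn F p) {R : Subgroup Ω}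
    (hR : E.IsNormal R) :
    F.IsNormal (Subgroup.closure {x : Ω | ∃ φ ∈ F.Hom R, ∃ r : R, x = φ r}) := by
  obtain ⟨hEs, -, hsub, hsc, hconj, hfr⟩ := hE
  have hTS := hsc.1
  have := finite_of_le hTS
  set W := Subgroup.closure {x : Ω | ∃ φ ∈ F.Hom R, ∃ r : R, x = φ r}
  have hWT : W ≤ T := by
    refine (Subgroup.closure_le _).2 ?_
    rintro _ ⟨φ, hφ, r, rfl⟩
    exact StronglyClosed.map_mem hsc hφ r (hR.1 r.2)
  -- each conjugate of `R` is normal in `E`
  have key : ∀ α ∈ F.autGroup T, E.IsNormal (img (autHom α) R) := by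
    intro α hα
    refine ⟨(img_le_range _ _).trans (range_autHom α).le, fun P φ hφ => ?_⟩
    have hP := source_le hφ
    obtain ⟨χ, hχ, heq⟩ := hconj P hP φ hφ α⁻¹ (Subgroup.inv_mem _ hα)
    obtain ⟨ψ, hψ, hext, himg⟩ := hR.2 _ χ hχ
    obtain ⟨χ', hχ', heq'⟩ := hconj _ (source_le hψ) ψ hψ α hα
    have himg2 : img (autHom α) (img (autHom α⁻¹) P ⊔ R) = P ⊔ img (autHom α) R := by
      rw [img_sup _ ((img_le_range _ _).trans (range_autHom _).le) hR.1]
      congr 1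
      ext y
      constructor
      · intro hy
        obtain ⟨z, hzT, hz, rfl⟩ := mem_img.1 hy
        obtain ⟨w, hwT, hw, rfl⟩ := mem_img.1 hz
        convert hw using 1
        show ((α (α⁻¹ ⟨w, hwT⟩) : T) : Ω) = w
        rw [MulAut.inv_apply, MulEquiv.apply_symm_apply]
      · intro hy
        refine mem_img.2 ⟨_, (α⁻¹ ⟨y, hP hy⟩).2, apply_mem_img (autHom α⁻¹) ⟨y, hP hy⟩ hy, ?_⟩
        show ((α (α⁻¹ ⟨y, hP hy⟩) : T) : Ω) = y
        rw [MulAut.inv_apply, MulEquiv.apply_symm_apply]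
    obtain ⟨χ₂, hχ₂, heq₂⟩ : ∃ χ₂ ∈ E.Hom (P ⊔ img (autHom α) R),
        ∀ (x : ↥(img (autHom α⁻¹) P ⊔ R)) (hx : ψ x ∈ T) (hxT : (x : Ω) ∈ T)
          (hαx : ((α ⟨x, hxT⟩ : T) : Ω) ∈ P ⊔ img (autHom α) R),
          χ₂ ⟨(α ⟨x, hxT⟩ : T), hαx⟩ = ((α ⟨ψ x, hx⟩ : T) : Ω) := by
      rw [← himg2]
      exact ⟨χ', hχ', fun x hx hxT hαx => heq' x hx hαx⟩
    refine ⟨χ₂, hχ₂, fun x => ?_, ?_⟩
    · have hx' : ((α⁻¹ ⟨x, hP x.2⟩ : T) : Ω) ∈ img (autHom α⁻¹) P ⊔ R :=
        Subgroup.mem_sup_left (apply_mem_img (autHom α⁻¹) ⟨x, hP x.2⟩ x.2)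
      have h1 := heq₂ ⟨_, hx'⟩ (apply_mem hψ _) (α⁻¹ ⟨x, hP x.2⟩).2
        (by
          show ((α (α⁻¹ ⟨x, hP x.2⟩) : T) : Ω) ∈ _
          rw [MulAut.inv_apply, MulEquiv.apply_symm_apply]
          exact Subgroup.mem_sup_left x.2)
      have e1 : ψ ⟨_, hx'⟩ = ((α⁻¹ ⟨φ x, apply_mem hφ x⟩ : T) : Ω) :=
        (hext ⟨_, apply_mem_img (autHom α⁻¹) ⟨x, hP x.2⟩ x.2⟩).trans (heq x _ _)
      refine (congrArg χ₂ (Subtype.ext ?_)).trans (h1.trans ?_)
      · show (x : Ω) = ((α (α⁻¹ ⟨x, hP x.2⟩) : T) : Ω)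
        rw [MulAut.inv_apply, MulEquiv.apply_symm_apply]
      · refine (congrArg (fun z : T => ((α z : T) : Ω))
          (Subtype.ext (a2 := α⁻¹ ⟨φ x, apply_mem hφ x⟩) e1)).trans ?_
        show ((α (α⁻¹ ⟨φ x, apply_mem hφ x⟩) : T) : Ω) = φ x
        rw [MulAut.inv_apply, MulEquiv.apply_symm_apply]
    · have := finite_of_le (S := T) ((img_le_range (autHom α) R).trans (range_autHom α).le)
      refine Subgroup.eq_of_le_of_card_ge ?_ ?_
      · rintro _ ⟨⟨_, hz⟩, hzR, rfl⟩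
        obtain ⟨r, hrT, hr, rfl⟩ := mem_img.1 hzR
        show χ₂ ⟨_, hz⟩ ∈ _
        rw [show (⟨autHom α ⟨r, hrT⟩, hz⟩ : ↥(P ⊔ img (autHom α) R)) = ⟨_, hz⟩ from rfl,
          show χ₂ ⟨autHom α ⟨r, hrT⟩, hz⟩ = _ from
            heq₂ ⟨r, Subgroup.mem_sup_right hr⟩ (apply_mem hψ _) hrT hz]
        refine apply_mem_img (autHom α) ⟨_, apply_mem hψ _⟩ ?_
        exact himg.le ⟨⟨r, Subgroup.mem_sup_right hr⟩, hr, rfl⟩
      · exact le_of_eq (card_img (E.injective_of_mem hχ₂) le_sup_right).symm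
  -- so their product is invariant
  have hW : W = ⨆ α : F.autGroup T, img (autHom (α : MulAut T)) R := by
    refine le_antisymm ((Subgroup.closure_le _).2 ?_) (iSup_le fun α => ?_)
    · rintro _ ⟨φ, hφ, r, rfl⟩
      obtain ⟨α, hα, φ₀, hφ₀, he⟩ := hfr R hR.1 φ hφ
      have hr : φ₀.range = R :=
        (StronglyClosed.weaklyClosed (IsNormal.stronglyClosed hR)).2 φ₀ hφ₀
      refine le_iSup (fun α : F.autGroup T => img (autHom (α : MulAut T)) R) ⟨α, hα⟩ ?_
      rw [he r (apply_mem hφ₀ r)]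
      exact apply_mem_img (autHom α) ⟨φ₀ r, apply_mem hφ₀ r⟩ (hr.le ⟨r, rfl⟩)
    · rintro _ ⟨x, hx, rfl⟩
      exact Subgroup.subset_closure ⟨restr hR.1 (autHom (α : MulAut T)),
        restr_mem F (autHom_mem F hTS α.2) hR.1, ⟨x, hx⟩, rfl⟩
  have hWE : E.IsNormal W := by
    have hle : ∀ α : F.autGroup T, img (autHom (α : MulAut T)) R ≤ E.core :=
      fun α => le_core (key α α.2)
    rw [hW]
    have : Finite (F.autGroup T) := by
      have := finite_mulAut hTS
      infer_instance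
    have hfin : ∀ t : Finset (F.autGroup T),
        E.IsNormal (t.sup fun α => img (autHom (α : MulAut T)) R) := by
      classical
      intro t
      induction t using Finset.induction_on with
      | empty => exact isNormal_bot E
      | insert a s _ ih =>
        rw [Finset.sup_insert]
        exact isNormal_sup (key a a.2) ih
    have := Fintype.ofFinite (F.autGroup T)
    rw [← Finset.sup_univ_eq_iSup]
    exact hfin _
  have hinv : ∀ α ∈ F.autGroup T, img (autHom α) W = W := by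
    intro α hα
    have := finite_of_le hWT
    refine Subgroup.eq_of_le_of_card_ge ?_
      (le_of_eq (card_img (F.injective_of_mem (autHom_mem F hTS hα)) hWT).symm)
    show (W.subgroupOf T).map (autHom α) ≤ W
    rw [Subgroup.map_le_iff_le_comap]
    intro x hx
    have hWle : W ≤ ((W.comap (autHom α)).map T.subtype) := by
      refine (Subgroup.closure_le _).2 ?_
      rintro _ ⟨φ, hφ, r, rfl⟩
      refine ⟨⟨φ r, StronglyClosed.map_mem hsc hφ r (hR.1 r.2)⟩, ?_, rfl⟩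
      refine Subgroup.subset_closure ⟨compose φ (autHom α)
        (fun r => StronglyClosed.map_mem hsc hφ r (hR.1 r.2)),
        compose_mem F hφ (autHom_mem F hTS hα) _, r, rfl⟩
    obtain ⟨y, hy, hyx⟩ := hWle hx
    obtain rfl : y = x := Subtype.ext hyx
    exact hy
  refine normal_of_extends hS hF (hWT.trans hTS) fun P hPW φ hφ => ?_
  obtain ⟨α, hα, φ₀, hφ₀, he⟩ := hfr P (hPW.trans hWT) φ hφ
  obtain ⟨β, hβ, heβ⟩ := IsNormal.extends_aut hWE P hPW φ₀ hφ₀
  have hβF : restr le_rfl (autHom β) ∈ F.Hom W := hsub W (autHom_mem E hWT hβ)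
  have hm : ∀ x, autHom β x ∈ T := fun x => hWT (β x).2
  let γ := compose (autHom β) (autHom α) hm
  have hγ : γ ∈ F.Hom W := compose_mem F hβF (autHom_mem F hTS hα) hm
  have hγr : γ.range = W := by rw [range_compose, range_autHom, hinv α hα]
  refine ⟨isoOf γ (F.injective_of_mem hγ) hγr, mem_autGroup_of_hom F hγ, fun x => ?_⟩
  rw [he x (apply_mem hφ₀ x)]
  show ((α ⟨(β (Subgroup.inclusion hPW x) : Ω), _⟩ : T) : Ω) = _
  exact congrArg (fun y => ((α y : T) : Ω)) (Subtype.ext (heβ x))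

end Cfsg.Agent.Lib.Fusion
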