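import Mathlib.Data.Set.Finite.Lemmas
import Mathlib.GroupTheory.GroupAction.Quotient
import Mathlib.GroupTheory.Index
import Mathlib.Data.Set.Card
import Mathlib.Data.Nat.ModEq

/-!
Marks of finite actions: equal marks give equivariant bijections, and a congruence between marks.
-/

set_option autoImplicit false

namespace Cfsg.Agent.Lib.Fusion

open MulAction

variable {G : Type*} [Group G]

/-- The points of `s` fixed by every element of `H`. -/
def fixSet {X : Type*} [MulAction G X] (s : Set X) (H : Subgroup G) : Set X :=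
  {x ∈ s | H ≤ stabilizer G x}

theorem exists_equivariant_bijOn [Finite G] {X Y : Type*} [MulAction G X] [MulAction G Y] [Finite X]
    [Finite Y] [Nonempty Y] (s : Set X) (t : Set Y)
    (hs : ∀ (g : G), ∀ x ∈ s, g • x ∈ s) (ht : ∀ (g : G), ∀ y ∈ t, g • y ∈ t)
    (h : ∀ H : Subgroup G, (fixSet s H).ncard = (fixSet t H).ncard) :
    ∃ f : X → Y, Set.BijOn f s t ∧ ∀ (g : G), ∀ x ∈ s, f (g • x) = g • f x := by
  induction hn : s.ncard using Nat.strong_induction_on generalizing s t with
  | _ n IH =>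
    by_cases he : s = ∅
    · have h0 := h ⊥
      have hs' : fixSet s (⊥ : Subgroup G) = s := Set.ext fun x => and_iff_left bot_le
      have ht' : fixSet t (⊥ : Subgroup G) = t := Set.ext fun x => and_iff_left bot_le
      rw [hs', ht', he, Set.ncard_empty] at h0
      obtain rfl : t = ∅ := (Set.ncard_eq_zero (Set.toFinite t)).1 h0.symm
      subst he
      exact ⟨fun _ => Classical.arbitrary Y, Set.bijOn_empty _, fun g x hx => absurd hx (Set.notMem_empty x)⟩
    obtain ⟨x₀, hx₀, hmax⟩ := Set.exists_max_image s (fun x => Nat.card (stabilizer G x))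
      (Set.toFinite s) (Set.nonempty_iff_ne_empty.2 he)
    set H := stabilizer G x₀ with hH
    have hy : (fixSet t H).Nonempty := by
      rw [← Set.ncard_pos (Set.toFinite _), ← h, Set.ncard_pos (Set.toFinite _)]
      exact ⟨x₀, hx₀, le_rfl⟩
    obtain ⟨y₀, hy₀, hHK⟩ := hy
    have hKH : stabilizer G y₀ = H := by
      obtain ⟨x₁, hx₁, h1⟩ : (fixSet s (stabilizer G y₀)).Nonempty := by
        rw [← Set.ncard_pos (Set.toFinite _), h, Set.ncard_pos (Set.toFinite _)]
        exact ⟨y₀, hy₀, le_rfl⟩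
      exact (SetLike.coe_injective (Set.eq_of_subset_of_ncard_le hHK (by
        have a := (Nat.card_le_card_of_injective _ (Subgroup.inclusion_injective h1)).trans
          (hmax x₁ hx₁)
        rwa [← Nat.card_coe_set_eq, ← Nat.card_coe_set_eq]) (Set.toFinite _))).symm
    have hwd : ∀ g g' : G, g • x₀ = g' • x₀ → g • y₀ = g' • y₀ := by
      intro g g' hgg
      have : g'⁻¹ * g ∈ stabilizer G y₀ := by
        rw [hKH, hH, mem_stabilizer_iff, mul_smul, hgg, inv_smul_smul]
      rw [mem_stabilizer_iff, mul_smul, inv_smul_eq_iff] at this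
      exact this
    have hwd' : ∀ g g' : G, g • y₀ = g' • y₀ → g • x₀ = g' • x₀ := by
      intro g g' hgg
      have : g'⁻¹ * g ∈ stabilizer G x₀ := by
        rw [← hH, ← hKH, mem_stabilizer_iff, mul_smul, hgg, inv_smul_smul]
      rw [mem_stabilizer_iff, mul_smul, inv_smul_eq_iff] at this
      exact this
    have hstab : ∀ g : G, stabilizer G (g • x₀) = stabilizer G (g • y₀) := by
      intro g
      ext k
      simp only [mem_stabilizer_iff]
      constructor <;> intro hk
      · rw [← mul_smul]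
        exact hwd _ _ (by rw [mul_smul]; exact hk)
      · rw [← mul_smul]
        exact hwd' _ _ (by rw [mul_smul]; exact hk)
    have hox : orbit G x₀ ⊆ s := by rintro _ ⟨g, rfl⟩; exact hs g _ hx₀
    have hoy : orbit G y₀ ⊆ t := by rintro _ ⟨g, rfl⟩; exact ht g _ hy₀
    classical
    let f₀ : X → Y := fun x =>
      if hx : x ∈ orbit G x₀ then hx.choose • y₀ else Classical.arbitrary Y
    have hf₀ : ∀ g : G, f₀ (g • x₀) = g • y₀ := by
      intro g
      have hx : g • x₀ ∈ orbit G x₀ := ⟨g, rfl⟩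
      rw [show f₀ (g • x₀) = hx.choose • y₀ from dif_pos hx]
      exact hwd _ _ hx.choose_spec
    have hbij₀ : Set.BijOn f₀ (orbit G x₀) (orbit G y₀) := by
      refine ⟨?_, ?_, ?_⟩
      · rintro _ ⟨g, rfl⟩
        exact ⟨g, (hf₀ g).symm⟩
      · rintro _ ⟨g, rfl⟩ _ ⟨g', rfl⟩ e
        exact hwd' _ _ (by rw [← hf₀, ← hf₀]; exact e)
      · rintro _ ⟨g, rfl⟩
        exact ⟨g • x₀, ⟨g, rfl⟩, hf₀ g⟩
    have horb : ∀ L : Subgroup G, (fixSet (orbit G x₀) L).ncard =
        (fixSet (orbit G y₀) L).ncard := by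
      intro L
      rw [← Set.ncard_image_of_injOn (hbij₀.injOn.mono fun x hx => hx.1)]
      congr 1
      ext y
      constructor
      · rintro ⟨_, ⟨⟨g, rfl⟩, hL⟩, rfl⟩
        show f₀ (g • x₀) ∈ fixSet _ L
        rw [hf₀]
        exact ⟨⟨g, rfl⟩, hstab g ▸ hL⟩
      · rintro ⟨⟨g, rfl⟩, hL⟩
        exact ⟨g • x₀, ⟨⟨g, rfl⟩, (hstab g).symm ▸ hL⟩, hf₀ g⟩
    have hdiff : ∀ L : Subgroup G, (fixSet (s \ orbit G x₀) L).ncard =
        (fixSet (t \ orbit G y₀) L).ncard := by
      intro L
      have ex : fixSet (s \ orbit G x₀) L = fixSet s L \ fixSet (orbit G x₀) L := by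
        ext x; simp only [fixSet, Set.mem_sdiff, Set.mem_setOf_eq]; tauto
      have ey : fixSet (t \ orbit G y₀) L = fixSet t L \ fixSet (orbit G y₀) L := by
        ext x; simp only [fixSet, Set.mem_sdiff, Set.mem_setOf_eq]; tauto
      rw [ex, ey, Set.ncard_sdiff (show fixSet (orbit G x₀) L ⊆ fixSet s L from fun x hx => ⟨hox hx.1, hx.2⟩) (Set.toFinite _),
        Set.ncard_sdiff (show fixSet (orbit G y₀) L ⊆ fixSet t L from fun x hx => ⟨hoy hx.1, hx.2⟩) (Set.toFinite _), h, horb]
    have hlt : (s \ orbit G x₀).ncard < n := by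
      rw [← hn]
      exact Set.ncard_lt_ncard ((Set.ssubset_iff_of_subset Set.sdiff_subset).2
        ⟨x₀, hx₀, fun hx => hx.2 (mem_orbit_self x₀)⟩) (Set.toFinite s)
    obtain ⟨f₁, hb₁, he₁⟩ := IH _ hlt (s \ orbit G x₀) (t \ orbit G y₀)
      (fun g x hx => ⟨hs g x hx.1, fun hxo => hx.2 (by
        simpa using mem_orbit_of_mem_orbit g⁻¹ hxo)⟩)
      (fun g y hy => ⟨ht g y hy.1, fun hyo => hy.2 (by
        simpa using mem_orbit_of_mem_orbit g⁻¹ hyo)⟩) hdiff rfl
    refine ⟨fun x => if x ∈ orbit G x₀ then f₀ x else f₁ x, ⟨?_, ?_, ?_⟩, ?_⟩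
    · intro x hx
      dsimp only
      split_ifs with hxo
      · exact hoy (hbij₀.mapsTo hxo)
      · exact (hb₁.mapsTo ⟨hx, hxo⟩).1
    · intro x hx x' hx' e
      dsimp only at e
      split_ifs at e with a b b
      · exact hbij₀.injOn a b e
      · exact absurd (e ▸ hbij₀.mapsTo a) (hb₁.mapsTo ⟨hx', b⟩).2
      · exact absurd (e ▸ hbij₀.mapsTo b) (hb₁.mapsTo ⟨hx, a⟩).2
      · exact hb₁.injOn ⟨hx, a⟩ ⟨hx', b⟩ e
    · intro y hy
      by_cases hyo : y ∈ orbit G y₀
      · obtain ⟨x, hx, rfl⟩ := hbij₀.surjOn hyo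
        exact ⟨x, hox hx, if_pos hx⟩
      · obtain ⟨x, hx, rfl⟩ := hb₁.surjOn ⟨hy, hyo⟩
        exact ⟨x, hx.1, if_neg hx.2⟩
    · intro g x hx
      dsimp only
      by_cases hxo : x ∈ orbit G x₀
      · obtain ⟨k, rfl⟩ := hxo
        rw [if_pos ⟨g * k, mul_smul g k x₀⟩, if_pos ⟨k, rfl⟩, ← mul_smul, hf₀, hf₀, mul_smul]
      · have hgo : g • x ∉ orbit G x₀ := fun hgx => hxo (by
          simpa using mem_orbit_of_mem_orbit g⁻¹ hgx)
        rw [if_neg hgo, if_neg hxo, he₁ g x ⟨hx, hxo⟩]

/-- Two homomorphisms into a group acting on `X` give isomorphic actions when their marks agree. -/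
theorem exists_semiconj [Finite G] {T X : Type*} [Group T] [MulAction T X] [Finite X]
    (a b : G →* T)
    (h : ∀ H : Subgroup G, Nat.card {x : X // H.map a ≤ stabilizer T x} =
      Nat.card {x : X // H.map b ≤ stabilizer T x}) :
    ∃ e : X ≃ X, ∀ (g : G) (x : X), e (a g • x) = b g • e x := by
  cases isEmpty_or_nonempty X
  · exact ⟨Equiv.refl X, fun g x => isEmptyElim x⟩
  obtain ⟨f, hf, hfe⟩ := @exists_equivariant_bijOn G _ _ X X (MulAction.compHom X a)
    (MulAction.compHom X b) _ _ _ Set.univ Set.univ (fun _ _ _ => trivial) (fun _ _ _ => trivial) (by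
      intro H
      have ea : ∀ (x : X), H.map a ≤ stabilizer T x ↔
          ∀ g ∈ H, a g • x = x := fun x => Subgroup.map_le_iff_le_comap
      have eb : ∀ (x : X), H.map b ≤ stabilizer T x ↔
          ∀ g ∈ H, b g • x = x := fun x => Subgroup.map_le_iff_le_comap
      have := h H
      rw [← Nat.card_coe_set_eq, ← Nat.card_coe_set_eq]
      refine (Nat.card_congr ?_).trans (this.trans (Nat.card_congr ?_))
      · exact Equiv.subtypeEquivRight fun x => ⟨fun hx => (ea x).2 hx.2,
          fun hx => ⟨trivial, (ea x).1 hx⟩⟩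
      · exact Equiv.subtypeEquivRight fun x => ⟨fun hx => ⟨trivial, (eb x).1 hx⟩,
          fun hx => (eb x).2 hx.2⟩)
  exact ⟨Equiv.ofBijective f (Set.bijOn_univ.1 hf), fun g x => hfe g x trivial⟩

theorem card_dvd_fix_add {W : Type*} [Group W] [Fintype W] [DecidableEq W] {C : Type*}
    [MulAction W C] [Finite C] (P : Subgroup W) [DecidablePred (· ∈ P)]
    (hC : ∀ g ∈ P, ∀ x : C, g • x = x) :
    Fintype.card W ∣ Nat.card P * Nat.card C +
      ∑ g ∈ Finset.univ.filter (fun g => g ∉ P), Nat.card (fixedBy C g) := by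
  classical
  have := Fintype.ofFinite C
  refine ⟨Fintype.card (Quotient (orbitRel W C)), ?_⟩
  rw [mul_comm (Fintype.card W), ← sum_card_fixedBy_eq_card_orbits_mul_card_group,
    ← Finset.sum_filter_add_sum_filter_not Finset.univ (fun g => g ∈ P)]
  congr 1
  · rw [Finset.sum_congr rfl (g := fun _ => Fintype.card C) (fun g hg => ?_), Finset.sum_const,
      smul_eq_mul, Nat.card_eq_fintype_card, Nat.card_eq_fintype_card]
    · congr 1
      rw [Fintype.card_subtype]
    · exact Fintype.card_congr (Equiv.subtypeUnivEquiv fun x => hC g (Finset.mem_filter.1 hg).2 x)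
  · simp only [Nat.card_eq_fintype_card]

/-- If two actions of `W` on the points fixed by a normal subgroup `P` agree in the number of
points fixed by each element outside `P`, the numbers of fixed points of `P` are congruent modulo
the index of `P`. -/
theorem card_fix_modEq {W : Type*} [Group W] [Finite W] {A B : Type*} [MulAction W A]
    [MulAction W B] [Finite A] [Finite B] (P : Subgroup W)
    (hA : ∀ g ∈ P, ∀ x : A, g • x = x) (hB : ∀ g ∈ P, ∀ x : B, g • x = x)
    (h : ∀ g, g ∉ P → Nat.card (fixedBy A g) = Nat.card (fixedBy B g)) :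
    Nat.card A ≡ Nat.card B [MOD P.index] := by
  classical
  have := Fintype.ofFinite W
  have e1 := card_dvd_fix_add P hA
  have e2 := card_dvd_fix_add P hB
  rw [Finset.sum_congr rfl (fun g hg => h g (Finset.mem_filter.1 hg).2)] at e1
  have hm : Nat.card P * Nat.card A ≡ Nat.card P * Nat.card B [MOD Nat.card P * P.index] := by
    rw [Subgroup.card_mul_index, Nat.card_eq_fintype_card (α := W)]
    exact Nat.ModEq.add_right_cancel' _
      ((Nat.modEq_zero_iff_dvd.2 e1).trans (Nat.modEq_zero_iff_dvd.2 e2).symm)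
  exact Nat.ModEq.mul_left_cancel' (Nat.card_pos.ne') hm

end Cfsg.Agent.Lib.Fusion
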