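import Cfsg.Agent.Lib.Fusion.Saturation
import Cfsg.Agent.Lib.Fusion.Marks

/-!
Completion of a finite list of transitive actions to one whose marks are constant on the classes
of a saturated fusion system.
-/

set_option autoImplicit false
set_option linter.unusedSectionVars false

namespace Cfsg.Agent.Lib.Fusion

open Cfsg Cfsg.FusionSystem MulAction

theorem card_mapFix_modEq {W T : Type*} [Group W] [Group T] [Finite W] {X : Type*}
    [MulAction T X] [Finite X] (a b : W →* T) (P : Subgroup W) [P.Normal]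
    (h : ∀ K : Subgroup W, P < K → Nat.card {x : X // K.map a ≤ stabilizer T x} =
      Nat.card {x : X // K.map b ≤ stabilizer T x}) :
    Nat.card {x : X // P.map a ≤ stabilizer T x} ≡
      Nat.card {x : X // P.map b ≤ stabilizer T x} [MOD P.index] := by
  have inv : ∀ (c : W →* T) (g : W) (x : X), P.map c ≤ stabilizer T x →
      P.map c ≤ stabilizer T (c g • x) := by
    intro c g x hx
    rintro _ ⟨y, hy, rfl⟩
    have hy' : g⁻¹ * y * g ∈ P := by
      simpa using (inferInstance : P.Normal).conj_mem y hy g⁻¹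
    have := mem_stabilizer_iff.1 (hx ⟨_, hy', rfl⟩)
    rw [mem_stabilizer_iff]
    conv_rhs => rw [← this]
    rw [map_mul, map_mul, map_inv, ← mul_smul, ← mul_smul]
    simp [mul_assoc]
  let act : ∀ c : W →* T, MulAction W {x : X // P.map c ≤ stabilizer T x} := fun c =>
    { smul := fun g x => ⟨c g • x.1, inv c g x.1 x.2⟩
      one_smul := fun x => Subtype.ext (by
        show c 1 • x.1 = x.1
        rw [map_one, one_smul])
      mul_smul := fun g g' x => Subtype.ext (by
        show c (g * g') • x.1 = c g • c g' • x.1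
        rw [map_mul, mul_smul]) }
  let := act a
  refine @card_fix_modEq W _ _ _ _ (act a) (act b) _ _ P (fun g hg x => ?_) (fun g hg x => ?_)
    fun g hg => ?_
  · exact Subtype.ext (x.2 ⟨g, hg, rfl⟩)
  · exact Subtype.ext (x.2 ⟨g, hg, rfl⟩)
  have key : ∀ c : W →* T,
      Nat.card (@fixedBy W {x : X // P.map c ≤ stabilizer T x} _ (act c) g) =
      Nat.card {x : X // (P ⊔ Subgroup.zpowers g).map c ≤ stabilizer T x} := by
    intro c
    refine Nat.card_congr ⟨fun x => ⟨x.1.1, ?_⟩,
      fun x => ⟨⟨x.1, le_trans (Subgroup.map_mono le_sup_left) x.2⟩, ?_⟩,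
      fun x => rfl, fun x => rfl⟩
    · rw [Subgroup.map_sup, sup_le_iff, MonoidHom.map_zpowers, Subgroup.zpowers_le]
      exact ⟨x.1.2, congrArg Subtype.val (x.2)⟩
    · exact Subtype.ext (x.2 ⟨g, Subgroup.mem_sup_right (Subgroup.mem_zpowers g), rfl⟩)
  rw [key a, key b]
  exact h _ (lt_of_le_of_ne le_sup_left fun e => hg
    (e ▸ Subgroup.mem_sup_right (Subgroup.mem_zpowers g)))

variable {Ω : Type*} [Group Ω] (T : Subgroup Ω)

/-- The number of cosets of `R` in `T` fixed by `P`. -/
noncomputable def markOne (R P : Subgroup Ω) : ℕ :=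
  Nat.card {q : T ⧸ R.subgroupOf T // P.subgroupOf T ≤ stabilizer T q}

/-- The number of points fixed by `P` in the disjoint union of the coset spaces of a list. -/
noncomputable def markList (L : List (Subgroup Ω)) (P : Subgroup Ω) : ℕ :=
  ∑ i : Fin L.length, markOne T (L.get i) P

theorem markList_cons (R : Subgroup Ω) (L : List (Subgroup Ω)) (P : Subgroup Ω) :
    markList T (R :: L) P = markOne T R P + markList T L P :=
  Fin.sum_univ_succ (f := fun i : Fin (L.length + 1) => markOne T ((R :: L).get i) P)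

variable {T}

theorem card_sigma_fix [Finite T] (L : List (Subgroup Ω)) (P : Subgroup Ω) :
    Nat.card {x : Σ i : Fin L.length, T ⧸ (L.get i).subgroupOf T //
      P.subgroupOf T ≤ stabilizer T x} = markList T L P := by
  rw [markList]
  unfold markOne
  rw [← Nat.card_sigma]
  have key : ∀ (i : Fin L.length) (q : T ⧸ (L.get i).subgroupOf T),
      P.subgroupOf T ≤ stabilizer T (Sigma.mk i q : Σ i : Fin L.length, T ⧸ (L.get i).subgroupOf T)
        ↔ P.subgroupOf T ≤ stabilizer T q := fun i q => forall₂_congr fun g _ => by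
    simp only [mem_stabilizer_iff, Sigma.smul_mk, Sigma.mk.injEq, heq_eq_eq, true_and]
  exact Nat.card_congr ⟨fun x => ⟨x.1.1, ⟨x.1.2, (key x.1.1 x.1.2).1 x.2⟩⟩,
    fun y => ⟨⟨y.1, y.2.1⟩, (key y.1 y.2.1).2 y.2.2⟩, fun x => rfl, fun y => rfl⟩

theorem stab_mk_iff {R P : Subgroup Ω} (hP : P ≤ T) (g : T) :
    P.subgroupOf T ≤ stabilizer T (g : T ⧸ R.subgroupOf T) ↔
      ∀ x ∈ P, (g : Ω)⁻¹ * x * g ∈ R := by
  have key : ∀ y : T, y • (g : T ⧸ R.subgroupOf T) = g ↔ (g : Ω)⁻¹ * y * g ∈ R := by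
    intro y
    rw [MulAction.Quotient.smul_coe, eq_comm, QuotientGroup.eq, Subgroup.mem_subgroupOf]
    simp [mul_assoc]
  exact ⟨fun h x hx => (key ⟨x, hP hx⟩).1 (h (x := ⟨x, hP hx⟩) hx),
    fun h y hy => mem_stabilizer_iff.2 ((key y).2 (h y hy))⟩

theorem exists_of_markOne_ne_zero {R P : Subgroup Ω} (hP : P ≤ T) (h : markOne T R P ≠ 0) :
    ∃ g ∈ T, ∀ x ∈ P, g⁻¹ * x * g ∈ R := by
  obtain ⟨⟨q, hq⟩⟩ := (Nat.card_ne_zero.1 h).1
  obtain ⟨g, rfl⟩ := QuotientGroup.mk_surjective q
  exact ⟨g, g.2, (stab_mk_iff hP g).1 hq⟩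

theorem markOne_conj {g : Ω} (hg : g ∈ T) {P : Subgroup Ω} (hP : P ≤ T) (R : Subgroup Ω) :
    markOne T R (P.map (MulAut.conj g).toMonoidHom) = markOne T R P := by
  have hP' : P.map (MulAut.conj g).toMonoidHom ≤ T := by
    rintro _ ⟨x, hx, rfl⟩
    exact T.mul_mem (T.mul_mem hg (hP hx)) (T.inv_mem hg)
  refine (Nat.card_congr ((MulAction.toPerm (⟨g, hg⟩ : T)).subtypeEquiv fun q => ?_)).symm
  obtain ⟨k, rfl⟩ := QuotientGroup.mk_surjective q
  rw [stab_mk_iff hP, MulAction.toPerm_apply, MulAction.Quotient.smul_coe, stab_mk_iff hP']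
  constructor
  · rintro h _ ⟨x, hx, rfl⟩
    simpa [mul_assoc] using h x hx
  · intro h x hx
    simpa [mul_assoc] using h _ ⟨x, hx, rfl⟩

/-- The index of `R` in its normalizer in `T`. -/
noncomputable def normIndex (T R : Subgroup Ω) : ℕ := (R.subgroupOf (normalizerIn T R)).index

theorem normIndex_mul [Finite T] {R : Subgroup Ω} (hR : R ≤ T) :
    normIndex T R * Nat.card R = Nat.card (normalizerIn T R) := by
  rw [normIndex, mul_comm, ← Nat.card_congr (Subgroup.subgroupOfEquivOfLe
    (le_normalizerIn hR)).toEquiv]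
  exact Subgroup.card_mul_index _

theorem markOne_self [Finite T] {R : Subgroup Ω} (hR : R ≤ T) :
    markOne T R R = normIndex T R := by
  have : Finite R := finite_of_le hR
  refine Nat.eq_of_mul_eq_mul_right (Nat.card_pos (α := R)) ?_
  rw [normIndex_mul hR]
  have h := QuotientGroup.card_preimage_mk (R.subgroupOf T)
    {q : T ⧸ R.subgroupOf T | R.subgroupOf T ≤ stabilizer T q}
  rw [Nat.card_congr (Subgroup.subgroupOfEquivOfLe hR).toEquiv] at h
  rw [mul_comm]
  refine h.symm.trans (Nat.card_congr ⟨fun k => ⟨k.1.1, mem_normalizerIn.2 ⟨k.1.2, ?_⟩⟩,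
    fun n => ⟨⟨n.1, n.2.1⟩, ?_⟩, fun k => rfl, fun n => rfl⟩)
  · have := (stab_mk_iff hR k.1).1 k.2
    have hn : (k.1 : Ω)⁻¹ ∈ Subgroup.normalizer (R : Set Ω) :=
      mem_normalizer_of_finite fun y hy => by rw [inv_inv]; exact this y hy
    exact inv_mem_iff.1 hn
  · exact (stab_mk_iff hR _).2 (mem_normalizer_iff'.1 (mem_normalizerIn.1 n.2).2).2

theorem normIndex_conj [Finite T] {g : Ω} (hg : g ∈ T) {R : Subgroup Ω} (hR : R ≤ T) :
    normIndex T (R.map (MulAut.conj g).toMonoidHom) = normIndex T R := by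
  have hR' : R.map (MulAut.conj g).toMonoidHom ≤ T := by
    rintro _ ⟨x, hx, rfl⟩
    exact T.mul_mem (T.mul_mem hg (hR hx)) (T.inv_mem hg)
  have : Finite R := finite_of_le hR
  have a1 := normIndex_mul hR'
  have a2 := normIndex_mul hR
  have a3 : normalizerIn T (R.map (MulAut.conj g).toMonoidHom) =
      (normalizerIn T R).map (MulAut.conj g).toMonoidHom := by
    rw [normalizerIn, normalizerIn, Subgroup.map_inf _ _ _ (MulAut.conj g).injective,
      Subgroup.map_equiv_normalizer_eq]
    congr 1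
    ext x
    refine ⟨fun hx => ⟨g⁻¹ * x * g, T.mul_mem (T.mul_mem (T.inv_mem hg) hx) hg, ?_⟩, ?_⟩
    · simp [mul_assoc]
    · rintro ⟨y, hy, rfl⟩
      exact T.mul_mem (T.mul_mem hg hy) (T.inv_mem hg)
  rw [a3, ← Nat.card_congr ((normalizerIn T R).equivMapOfInjective _
    (MulAut.conj g).injective).toEquiv, ← Nat.card_congr (R.equivMapOfInjective _
    (MulAut.conj g).injective).toEquiv, ← a2] at a1
  exact Nat.eq_of_mul_eq_mul_right Nat.card_pos a1

theorem markOne_eq_zero_or [Finite T] {R P : Subgroup Ω} (hR : R ≤ T) (hP : P ≤ T)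
    (hcard : Nat.card R ≤ Nat.card P) :
    markOne T R P = 0 ∨ ∃ g ∈ T, R.map (MulAut.conj g).toMonoidHom = P ∧
      markOne T R P = normIndex T R := by
  refine or_iff_not_imp_left.2 fun h => ?_
  obtain ⟨g, hg, hgP⟩ := exists_of_markOne_ne_zero hP h
  have : Finite R := finite_of_le hR
  have hle : P.map (MulAut.conj g⁻¹).toMonoidHom ≤ R := by
    rintro _ ⟨x, hx, rfl⟩
    simpa using hgP x hx
  have e := eq_of_le_of_card hle (le_of_le_of_eq hcard (Nat.card_congr
    (P.equivMapOfInjective _ (MulAut.conj g⁻¹).injective).toEquiv))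
  have e' : R.map (MulAut.conj g).toMonoidHom = P := by
    rw [← e, Subgroup.map_map]
    convert Subgroup.map_id P
    ext x
    simp [mul_assoc]
  refine ⟨g, hg, e', ?_⟩
  rw [← e', markOne_conj hg hR, markOne_self hR]

theorem markList_conj {g : Ω} (hg : g ∈ T) {P : Subgroup Ω} (hP : P ≤ T)
    (L : List (Subgroup Ω)) :
    markList T L (P.map (MulAut.conj g).toMonoidHom) = markList T L P :=
  Finset.sum_congr rfl fun _ _ => markOne_conj hg hP _

theorem markList_append (L₁ L₂ : List (Subgroup Ω)) (P : Subgroup Ω) :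
    markList T (L₁ ++ L₂) P = markList T L₁ P + markList T L₂ P := by
  induction L₁ with
  | nil => simp [markList]
  | cons R L IH => rw [List.cons_append, markList_cons, markList_cons, IH, add_assoc]

variable (E : FusionSystem T) {p : ℕ}

theorem isConj_conj {g : Ω} (hg : g ∈ T) {P : Subgroup Ω} (hP : P ≤ T) :
    E.IsConj P (P.map (MulAut.conj g).toMonoidHom) :=
  ⟨conjHom P g, E.conj_mem hP hg, by
    rw [conjHom, MonoidHom.range_comp, Subgroup.range_subtype]⟩

theorem normIndex_eq_pow [Fact p.Prime] [Finite T] (hT : IsPGroup p T) (R : Subgroup Ω) :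
    ∃ i : ℕ, normIndex T R = p ^ i :=
  have := finite_of_le (normalizerIn_le T R)
  (hT.to_le (normalizerIn_le T R)).index _

variable [Fact p.Prime] [Finite T]

/-- Marks at conjugate subgroups are congruent when they agree above. -/
theorem markList_modEq (hT : IsPGroup p T) (hE : E.IsSaturated p) (L : List (Subgroup Ω))
    {P P₀ : Subgroup Ω} (hP₀ : E.IsFullyNormalized P₀) (hc : E.IsConj P P₀)
    (habove : ∀ Q Q' : Subgroup Ω, E.IsConj Q Q' → Nat.card P < Nat.card Q →
      markList T L Q = markList T L Q') :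
    markList T L P ≡ markList T L P₀ [MOD normIndex T P] := by
  obtain ⟨ψ, hψ, hval, himg⟩ := IsSaturated.exists_normalizer_map hT hE hP₀ hc
  have hP : P ≤ T := isConj_le_left hc
  have : Finite (normalizerIn T P) := finite_of_le (normalizerIn_le T P)
  let a : (normalizerIn T P) →* T := Subgroup.inclusion (normalizerIn_le T P)
  let b : (normalizerIn T P) →* T := ψ.codRestrict T fun x => normalizerIn_le T P₀ (hval x)
  have ha : ∀ K : Subgroup (normalizerIn T P), K.map a = (K.map (Subgroup.subtype (normalizerIn T P))).subgroupOf T := fun K => by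
    ext x
    exact ⟨fun ⟨y, hy, e⟩ => ⟨y, hy, congrArg Subtype.val e⟩,
      fun ⟨y, hy, e⟩ => ⟨y, hy, Subtype.ext e⟩⟩
  have hb : ∀ K : Subgroup (normalizerIn T P), K.map b = (img ψ (K.map (Subgroup.subtype (normalizerIn T P)))).subgroupOf T := fun K => by
    ext x
    rw [Subgroup.mem_subgroupOf, mem_img]
    constructor
    · rintro ⟨y, hy, rfl⟩
      exact ⟨y, y.2, ⟨y, hy, rfl⟩, rfl⟩
    · rintro ⟨_, hyN, ⟨y, hy, rfl⟩, e⟩
      exact ⟨y, hy, Subtype.ext e⟩
  have hX : ∀ Q : Subgroup Ω, Nat.card {x : Σ i : Fin L.length, T ⧸ (L.get i).subgroupOf T //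
      Q.subgroupOf T ≤ stabilizer T x} = markList T L Q := card_sigma_fix L
  have hnorm : (P.subgroupOf (normalizerIn T P)).Normal := by
    rw [Subgroup.normal_subgroupOf_iff_le_normalizer (le_normalizerIn hP)]
    exact inf_le_right
  have key := card_mapFix_modEq (X := Σ i : Fin L.length, T ⧸ (L.get i).subgroupOf T) a b
    (P.subgroupOf (normalizerIn T P)) (fun K hK => by
      rw [ha, hb, hX, hX]
      have hKN : K.map (Subgroup.subtype (normalizerIn T P)) ≤ (normalizerIn T P) := Subgroup.map_subtype_le K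
      refine habove _ _ (isConj_img E hψ hKN) ?_
      have : Finite (K.map (Subgroup.subtype (normalizerIn T P))) := finite_of_le hKN
      refine lt_of_not_ge fun hle => hK.ne ?_
      have e := eq_of_le_of_card (A := P) (B := K.map (Subgroup.subtype (normalizerIn T P)))
        ((Subgroup.map_subgroupOf_eq_of_le (le_normalizerIn hP)).ge.trans
          (Subgroup.map_mono hK.le)) hle
      exact Subgroup.map_injective (Subgroup.subtype_injective (normalizerIn T P))
        ((Subgroup.map_subgroupOf_eq_of_le (le_normalizerIn hP)).trans e))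
  rwa [ha, hb, hX, hX, Subgroup.map_subgroupOf_eq_of_le (le_normalizerIn hP), himg] at key

open Classical in
/-- Raising the marks on one level up to a target. -/
theorem exists_raise (hT : IsPGroup p T) (𝒳 : Set (Subgroup Ω)) (h𝒳 : ∀ R ∈ 𝒳, R ≤ T)
    (hdown : ∀ R ∈ 𝒳, ∀ P ≤ R, P ∈ 𝒳) (hconj : ∀ R ∈ 𝒳, ∀ R', E.IsConj R R' → R' ∈ 𝒳) (k : ℕ)
    (L : List (Subgroup Ω)) (τ : Subgroup Ω → ℕ)
    (hτ : ∀ P Q, P ∈ 𝒳 → E.IsConj P Q → τ P = τ Q)
    (hle : ∀ P ∈ 𝒳, Nat.card P = k → markList T L P ≤ τ P ∧ normIndex T P ∣ τ P - markList T L P) :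
    ∃ L₁ : List (Subgroup Ω), (∀ R ∈ L₁, R ∈ 𝒳 ∧ Nat.card R = k) ∧
      ∀ P ∈ 𝒳, Nat.card P = k → markList T (L₁ ++ L) P = τ P := by
  have hfin : {P : Subgroup Ω | P ∈ 𝒳 ∧ Nat.card P = k}.Finite :=
    finite_subgroups_le.subset fun P hP => h𝒳 P hP.1
  induction hD : ∑ P ∈ hfin.toFinset, (τ P - markList T L P) using Nat.strong_induction_on
    generalizing L with
  | _ D IH =>
    by_cases h : ∀ P ∈ 𝒳, Nat.card P = k → markList T L P = τ P
    · exact ⟨[], by simp, h⟩
    push Not at h
    obtain ⟨R, hR, hRk, hne⟩ := h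
    obtain ⟨hle₀, hdvd₀⟩ := hle R hR hRk
    have hlt : markList T L R < τ R := lt_of_le_of_ne hle₀ hne
    have hwle : normIndex T R ≤ τ R - markList T L R :=
      Nat.le_of_dvd (Nat.sub_pos_of_lt hlt) hdvd₀
    have step : ∀ Q ∈ 𝒳, Nat.card Q = k → markList T (R :: L) Q ≤ τ Q ∧
        normIndex T Q ∣ τ Q - markList T (R :: L) Q ∧
        τ Q - markList T (R :: L) Q ≤ τ Q - markList T L Q := by
      intro Q hQ hQk
      obtain ⟨hleQ, hdvdQ⟩ := hle Q hQ hQk
      rw [markList_cons]
      rcases markOne_eq_zero_or (h𝒳 R hR) (h𝒳 Q hQ) (hRk.trans hQk.symm).le with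
        h0 | ⟨g, hg, he, hw⟩
      · rw [h0, zero_add]
        exact ⟨hleQ, hdvdQ, le_rfl⟩
      · have hτQ : τ Q = τ R := (hτ R Q hR (he ▸ isConj_conj E hg (h𝒳 R hR))).symm
        have hmQ : markList T L Q = markList T L R := he ▸ markList_conj hg (h𝒳 R hR) L
        have hwQ : normIndex T Q = normIndex T R := he ▸ normIndex_conj hg (h𝒳 R hR)
        rw [hw, hτQ, hmQ, hwQ]
        refine ⟨by omega, ?_, by omega⟩
        rw [show τ R - (normIndex T R + markList T L R) =
          (τ R - markList T L R) - normIndex T R by omega]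
        exact Nat.dvd_sub hdvd₀ dvd_rfl
    have hdec : ∑ P ∈ hfin.toFinset, (τ P - markList T (R :: L) P) < D := by
      rw [← hD]
      refine Finset.sum_lt_sum (fun Q hQ => ?_) ⟨R, hfin.mem_toFinset.2 ⟨hR, hRk⟩, ?_⟩
      · obtain ⟨h1, h2⟩ := hfin.mem_toFinset.1 hQ
        exact (step Q h1 h2).2.2
      · rw [markList_cons, markOne_self (h𝒳 R hR)]
        have : 0 < normIndex T R := by
          obtain ⟨i, hi⟩ := normIndex_eq_pow hT R
          rw [hi]
          exact pow_pos (Fact.out : p.Prime).pos i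
        omega
    obtain ⟨L₁, hL₁, hres⟩ := IH _ hdec (R :: L)
      (fun Q hQ hQk => ⟨(step Q hQ hQk).1, (step Q hQ hQk).2.1⟩) rfl
    refine ⟨L₁ ++ [R], fun Q hQ => ?_, fun Q hQ hQk => ?_⟩
    · rcases List.mem_append.1 hQ with h | h
      · exact hL₁ Q h
      · rw [List.mem_singleton.1 h]
        exact ⟨hR, hRk⟩
    · rw [List.append_assoc, List.singleton_append]
      exact hres Q hQ hQk

open Classical in
/-- Any list whose marks are constant on classes outside `𝒳` can be completed by members of `𝒳`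
to a list whose marks are constant on all classes. -/
theorem exists_stable_completion (hT : IsPGroup p T) (hE : E.IsSaturated p)
    (𝒳 : Set (Subgroup Ω)) (h𝒳 : ∀ R ∈ 𝒳, R ≤ T)
    (hdown : ∀ R ∈ 𝒳, ∀ P ≤ R, P ∈ 𝒳) (hconj : ∀ R ∈ 𝒳, ∀ R', E.IsConj R R' → R' ∈ 𝒳)
    (L₀ : List (Subgroup Ω))
    (h₀ : ∀ P P', E.IsConj P P' → P ∉ 𝒳 → markList T L₀ P = markList T L₀ P') :
    ∃ L₁ : List (Subgroup Ω), (∀ R ∈ L₁, R ∈ 𝒳) ∧
      ∀ P P', E.IsConj P P' → markList T (L₁ ++ L₀) P = markList T (L₁ ++ L₀) P' := by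
  have hzero : ∀ L₁ : List (Subgroup Ω), (∀ R ∈ L₁, R ∈ 𝒳) → ∀ P ≤ T, P ∉ 𝒳 →
      markList T L₁ P = 0 := by
    intro L₁ hL₁ P hP hPX
    refine Finset.sum_eq_zero fun i _ => ?_
    by_contra hne
    obtain ⟨g, hg, hgP⟩ := exists_of_markOne_ne_zero hP hne
    have hsub : P.map (MulAut.conj g⁻¹).toMonoidHom ≤ L₁.get i := by
      rintro _ ⟨x, hx, rfl⟩
      simpa using hgP x hx
    refine hPX (hconj _ (hdown _ (hL₁ _ (List.get_mem L₁ i)) _ hsub) _ ?_)
    exact isConj_symm (isConj_conj E (T.inv_mem hg) hP)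
  suffices H : ∀ d : ℕ, ∃ L₁ : List (Subgroup Ω), (∀ R ∈ L₁, R ∈ 𝒳) ∧
      ∀ P P', E.IsConj P P' → P ∉ 𝒳 ∨ Nat.card T < Nat.card P + d →
        markList T (L₁ ++ L₀) P = markList T (L₁ ++ L₀) P' by
    obtain ⟨L₁, h1, h2⟩ := H (Nat.card T + 1)
    exact ⟨L₁, h1, fun P P' h => h2 P P' h (Or.inr (by omega))⟩
  intro d
  induction d with
  | zero =>
    refine ⟨[], by simp, fun P P' h hor => h₀ P P' h (hor.resolve_right ?_)⟩
    have := Subgroup.card_le_of_le (isConj_le_left h)
    omega
  | succ d IH =>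
    obtain ⟨L₁, hL₁, hst⟩ := IH
    set L := L₁ ++ L₀
    set k := Nat.card T - d with hk
    have hfin : {P : Subgroup Ω | P ≤ T}.Finite := finite_subgroups_le
    set M := ∑ P ∈ hfin.toFinset, markList T L P with hM
    let r : Subgroup Ω → Subgroup Ω := fun P =>
      Classical.epsilon fun Q => Q ∈ {Q | E.IsConj P Q} ∧ E.IsFullyNormalized Q
    have hr : ∀ P ≤ T, E.IsConj P (r P) ∧ E.IsFullyNormalized (r P) := fun P hP =>
      Classical.epsilon_spec (p := fun Q => Q ∈ {Q | E.IsConj P Q} ∧ E.IsFullyNormalized Q)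
        (exists_fullyNormalized E hP)
    have hrc : ∀ P Q, E.IsConj P Q → r P = r Q := by
      intro P Q h
      have e : {R | E.IsConj P R} = {R | E.IsConj Q R} := Set.ext fun R =>
        ⟨fun hR => isConj_trans (isConj_symm h) hR, fun hR => isConj_trans h hR⟩
      show Classical.epsilon _ = Classical.epsilon _
      rw [e]
    obtain ⟨L₂, hL₂, hres⟩ := exists_raise E hT 𝒳 h𝒳 hdown hconj k L
      (fun P => markList T L (r P) + normIndex T (r P) * M)
      (fun P Q _ h => by rw [hrc P Q h]) (fun P hP hPk => by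
        obtain ⟨hc, hn⟩ := hr P (h𝒳 P hP)
        have hdvd : normIndex T P ∣ normIndex T (r P) := by
          obtain ⟨i, hi⟩ := normIndex_eq_pow hT P
          obtain ⟨j, hj⟩ := normIndex_eq_pow hT (r P)
          rw [hi, hj]
          refine Nat.pow_dvd_pow p ((Nat.pow_le_pow_iff_right (Fact.out : p.Prime).one_lt).1 ?_)
          rw [← hi, ← hj]
          have a1 := normIndex_mul (h𝒳 P hP)
          have a2 := normIndex_mul hn.1
          rw [← isConj_card hc] at a2
          have := finite_of_le (h𝒳 P hP)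
          have hle' := hn.2 P (isConj_symm hc)
          rw [← a1, ← a2] at hle'
          exact Nat.le_of_mul_le_mul_right hle' Nat.card_pos
        have hle' : markList T L P ≤ markList T L (r P) + normIndex T (r P) * M := by
          have h1 : markList T L P ≤ M :=
            Finset.single_le_sum (f := fun Q => markList T L Q) (fun _ _ => Nat.zero_le _)
              (hfin.mem_toFinset.2 (h𝒳 P hP))
          have h2 : 0 < normIndex T (r P) := by
            obtain ⟨j, hj⟩ := normIndex_eq_pow hT (r P)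
            rw [hj]
            exact pow_pos (Fact.out : p.Prime).pos j
          nlinarith [Nat.le_mul_of_pos_left M h2]
        refine ⟨hle', (Nat.modEq_iff_dvd' hle').1 ?_⟩
        have hm := markList_modEq E hT hE L hn hc fun Q Q' h hlt =>
          hst Q Q' h (Or.inr (by omega))
        exact hm.trans ((Nat.modEq_zero_iff_dvd.2 (hdvd.mul_right M)).add_left
          (markList T L (r P)) |>.trans (by rw [add_zero])).symm)
    refine ⟨L₂ ++ L₁, fun R hR => (List.mem_append.1 hR).elim (fun h => (hL₂ R h).1) (hL₁ R),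
      fun P P' hc hor => ?_⟩
    rw [List.append_assoc]
    have hout : P ∉ 𝒳 → markList T L₂ P = 0 ∧ markList T L₂ P' = 0 := fun hPX =>
      ⟨hzero L₂ (fun R hR => (hL₂ R hR).1) P (isConj_le_left hc) hPX,
        hzero L₂ (fun R hR => (hL₂ R hR).1) P' (isConj_le_right hc)
          fun h => hPX (hconj _ h _ (isConj_symm hc))⟩
    by_cases hPX : P ∈ 𝒳
    · by_cases hPk : Nat.card P = k
      · rw [hres P hPX hPk, hres P' (hconj P hPX P' hc) ((isConj_card hc).symm.trans hPk)]
        simp only [hrc P P' hc]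
      · have hgt : k < Nat.card P := by
          have := hor.resolve_left (not_not_intro hPX)
          omega
        have hz : ∀ Q ≤ T, k < Nat.card Q → markList T L₂ Q = 0 := by
          intro Q hQ hQk
          refine Finset.sum_eq_zero fun i _ => ?_
          by_contra hne
          obtain ⟨hRX, hRk⟩ := hL₂ _ (List.get_mem L₂ i)
          rcases markOne_eq_zero_or (h𝒳 _ hRX) hQ (show Nat.card (L₂.get i) ≤ _ from
            hRk.trans_le hQk.le) with h0 | ⟨g, hg, he, -⟩
          · exact hne h0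
          · have := isConj_card (isConj_conj E hg (h𝒳 _ hRX))
            rw [he] at this
            omega
        rw [markList_append, markList_append L₂, hz P (isConj_le_left hc) hgt,
          hz P' (isConj_le_right hc) (isConj_card hc ▸ hgt),
          hst P P' hc (Or.inr (by omega))]
    · rw [markList_append, markList_append L₂, (hout hPX).1, (hout hPX).2,
        hst P P' hc (Or.inl hPX)]

end Cfsg.Agent.Lib.Fusion
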