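import Cfsg.Agent.Lib.Fusion.Centric
import Cfsg.Agent.Lib.Fusion.Normal

/-!
Subsystems: invariant subsystems over the whole group, criteria for simplicity, fully normalized
subgroups in subsystems over strongly closed subgroups.
-/

set_option autoImplicit false
set_option linter.unusedSectionVars false

namespace Cfsg.Agent.Lib.Fusion

open Cfsg Cfsg.FusionSystem

variable {Ω : Type*} [Group Ω] {S : Subgroup Ω}

/-- A normal subgroup containing a Sylow subgroup contains every element of prime-power order. -/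
theorem mem_of_normal_of_sylow_le {A : Type*} [Group A] [Finite A] {p : ℕ} [Fact p.Prime]
    {N : Subgroup A} [hN : N.Normal] (R : Sylow p A) (h : (R : Subgroup A) ≤ N) {x : A} {k : ℕ}
    (hx : orderOf x = p ^ k) : x ∈ N := by
  have hp : IsPGroup p (Subgroup.zpowers x) :=
    IsPGroup.of_card (n := k) (by rw [Nat.card_zpowers, hx])
  obtain ⟨T, hT⟩ := hp.exists_le_sylow
  obtain ⟨g, hg⟩ := MulAction.exists_smul_eq A R T
  have h1 : x ∈ (T : Subgroup A) := hT (Subgroup.mem_zpowers x)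
  rw [← hg, Sylow.coe_subgroup_smul] at h1
  obtain ⟨y, hy, rfl⟩ := h1
  exact hN.conj_mem y (h hy) g

section

variable {F E : FusionSystem S}

theorem autGroup_mono (h : E ≤ F) {P : Subgroup Ω} (hP : P ≤ S) :
    E.autGroup P ≤ F.autGroup P := fun _ hα =>
  mem_autGroup_of_hom F (h P (autHom_mem E hP hα))

/-- The Frattini condition with full automorphism group at the top gives equality. -/
theorem le_of_frattini (hinv : E.IsInvariantIn F) (htop : F.autGroup S ≤ E.autGroup S) :
    F ≤ E := by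
  intro P φ hφ
  obtain ⟨α, hα, φ₀, hφ₀, he⟩ := hinv.2.2.2 P (source_le hφ) φ hφ
  exact mem_of_comp E hφ₀ (autHom_mem E le_rfl (htop hα)) (apply_mem hφ₀)
    fun x => he x (apply_mem hφ₀ x)

/-- For an invariant subsystem over the whole group, conjugates of automorphisms of a subgroup
stay in the subsystem. -/
theorem IsInvariantIn.conj_mem_autGroup (hinv : E.IsInvariantIn F) {R : Subgroup Ω} (hR : R ≤ S)
    {α : MulAut R} (hα : α ∈ F.autGroup R) {ε : MulAut R} (hε : ε ∈ E.autGroup R) :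
    α * ε * α⁻¹ ∈ E.autGroup R := by
  obtain ⟨hsub, -, hconj, hfr⟩ := hinv
  obtain ⟨a, ha, φ₀, hφ₀, he⟩ := hfr R hR (autHom α) (autHom_mem F hR hα)
  let i := isoOf φ₀ (E.injective_of_mem hφ₀) rfl
  have hR₀ : φ₀.range ≤ S := range_le hφ₀
  have hε₀ : MulAut.congr i ε ∈ E.autGroup φ₀.range := exists_mulAut_congr E hφ₀ rfl hε
  obtain ⟨χ, hχ, hχeq⟩ := hconj φ₀.range hR₀ (autHom (MulAut.congr i ε))
    (autHom_mem E hR₀ hε₀) a ha
  have himg : img (autHom a) φ₀.range = R := by
    ext y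
    rw [mem_img]
    constructor
    · rintro ⟨x, hxS, ⟨r, hr⟩, rfl⟩
      subst hr
      show ((a ⟨φ₀ r, hxS⟩ : S) : Ω) ∈ R
      rw [← he r hxS]
      exact (α r).2
    · intro hy
      obtain ⟨r, hr⟩ := α.surjective ⟨y, hy⟩
      refine ⟨φ₀ r, apply_mem hφ₀ r, ⟨r, rfl⟩, ?_⟩
      show ((a ⟨φ₀ r, apply_mem hφ₀ r⟩ : S) : Ω) = y
      rw [← he r]
      exact congrArg Subtype.val hr
  refine mem_autGroup_of_hom E (mem_of_comp E (subtype_mem E hR) hχ (fun x => himg.ge x.2) ?_)
  intro x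
  obtain ⟨r, rfl⟩ := α.surjective x
  have hmem : ∀ z : φ₀.range, ((a ⟨z, hR₀ z.2⟩ : S) : Ω) ∈ img (autHom a) φ₀.range :=
    fun z => ⟨⟨z, hR₀ z.2⟩, z.2, rfl⟩
  have h1 := hχeq (i r) (apply_mem (autHom_mem E hR₀ hε₀) _) (hmem _)
  show ((α (ε (α.symm (α r))) : R) : Ω) = _
  rw [MulEquiv.symm_apply_apply]
  refine Eq.trans (Eq.trans ?_ h1.symm) (congrArg χ (Subtype.ext (he r (apply_mem hφ₀ r)))).symm
  have e2 : (⟨autHom (MulAut.congr i ε) (i r), apply_mem (autHom_mem E hR₀ hε₀) _⟩ : S) =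
      ⟨φ₀ (ε r), apply_mem hφ₀ _⟩ := by
    apply Subtype.ext
    show ((i (ε (i.symm (i r))) : φ₀.range) : Ω) = _
    rw [MulEquiv.symm_apply_apply]
    rfl
  rw [e2]
  exact he (ε r) _

variable {p : ℕ} [Fact p.Prime] [Finite S]

/-- An invariant subsystem over the whole group contains all automorphisms of `p`-power order of a
fully normalized subgroup. -/
theorem IsInvariantIn.mem_of_pow (hS : IsPGroup p S) (hF : F.IsSaturated p)
    (hinv : E.IsInvariantIn F) {R : Subgroup Ω} (hR : F.IsFullyNormalized R) {α : MulAut R}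
    (hα : α ∈ F.autGroup R) {k : ℕ} (hk : orderOf α = p ^ k) : α ∈ E.autGroup R := by
  have := finite_mulAut hR.1
  obtain ⟨⟨-, T, hT⟩, -⟩ := IsSaturated.automized_receptive hS hF hR
  have hn : ((E.autGroup R).subgroupOf (F.autGroup R)).Normal :=
    ⟨fun ε hε α => IsInvariantIn.conj_mem_autGroup hinv hR.1 α.2 hε⟩
  exact mem_of_normal_of_sylow_le T (N := (E.autGroup R).subgroupOf (F.autGroup R))
    (by rw [hT]; exact fun x hx => autInducedBy_le_autGroup E hR.1 hx) (x := ⟨α, hα⟩) (k := k)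
    (by rw [← hk, Subgroup.orderOf_mk])

/-- A normal subsystem of a system with only inner automorphisms at the top is everything once it
lives over the whole group. -/
theorem isSimple_of_inner_top (hF : F.IsSaturated p) (hS1 : S ≠ ⊥)
    (htop : F.autGroup S = Inn ↥S)
    (hsc : ∀ T : Subgroup Ω, F.StronglyClosed T → T = ⊥ ∨ T = S) : F.IsSimple p := by
  refine ⟨hF, hS1, fun T E' hE' => ?_⟩
  rcases hsc T hE'.1.2.2.2.1 with h | h
  · exact Or.inl h
  · subst h
    refine Or.inr ⟨rfl, fun P => Set.Subset.antisymm (hE'.1.2.2.1 P) ?_⟩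
    exact le_of_frattini hE'.1.2.2 (htop.le.trans (inn_le_autGroup E' le_rfl)) P

/-- Subsystems over a strongly closed subgroup: fully centralized subgroups stay so. -/
theorem isFullyCentralized_subsystem (hS : IsPGroup p S) (hF : F.IsSaturated p) {T : Subgroup Ω}
    (hT : F.StronglyClosed T) (F' : FusionSystem T) (hsub : F'.IsSubsystemOf F) {Q : Subgroup Ω}
    (hQT : Q ≤ T) (hQ : F.IsFullyCentralized Q) : F'.IsFullyCentralized Q := by
  refine ⟨hQT, fun R hR => ?_⟩
  have := finite_of_le hT.1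
  have := finite_of_le ((centralizerIn_le T Q).trans hT.1)
  obtain ⟨φ, hφ, hr⟩ := isConj_symm hR
  obtain ⟨ψ, hψ, hext, -⟩ :=
    IsReceptive.extend (IsSaturated.receptive hS hF hQ) (hsub R hφ) hr
  have hRN : R ≤ extender S R φ :=
    le_extender ((source_le hφ).trans hT.1) fun x => hT.1 (apply_mem hφ x)
  have hmem : ∀ g : centralizerIn T R, (g : Ω) ∈ centralizerIn S R :=
    fun g => ⟨hT.1 g.2.1, g.2.2⟩
  have hval : ∀ g : centralizerIn T R,
      ψ ⟨g, centralizerIn_le_extender φ (hmem g)⟩ ∈ centralizerIn T Q := fun g =>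
    ⟨hT.2 (Subgroup.zpowers (g : Ω)) (Subgroup.zpowers_le.2 g.2.1) _
        (restr_mem F hψ (Subgroup.zpowers_le.2 (centralizerIn_le_extender φ (hmem g))))
        ⟨g, Subgroup.mem_zpowers _⟩,
      (apply_mem_centralizerIn hr hψ hext hRN _ (hmem g)).2⟩
  exact Nat.card_le_card_of_injective (fun g => (⟨_, hval g⟩ : centralizerIn T Q))
    fun a b hab => Subtype.ext (congrArg (fun z : extender S R φ => (z : Ω))
      (F.injective_of_mem hψ (congrArg Subtype.val hab)))

/-- Subsystems over a strongly closed subgroup: fully normalized subgroups stay so. -/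
theorem isFullyNormalized_subsystem (hS : IsPGroup p S) (hF : F.IsSaturated p) {T : Subgroup Ω}
    (hT : F.StronglyClosed T) (F' : FusionSystem T) (hsub : F'.IsSubsystemOf F) {Q : Subgroup Ω}
    (hQT : Q ≤ T) (hQ : F.IsFullyNormalized Q) : F'.IsFullyNormalized Q := by
  refine ⟨hQT, fun R hR => ?_⟩
  have := finite_of_le ((normalizerIn_le T Q).trans hT.1)
  obtain ⟨φ, hφ, hr⟩ := isConj_symm hR
  obtain ⟨ψ, hψ, hval, -⟩ :=
    IsSaturated.exists_normalizer_map hS hF hQ ⟨φ, hsub R hφ, hr⟩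
  have hmem : ∀ g : normalizerIn T R, (g : Ω) ∈ normalizerIn S R :=
    fun g => ⟨hT.1 g.2.1, g.2.2⟩
  have hval' : ∀ g : normalizerIn T R, ψ ⟨g, hmem g⟩ ∈ normalizerIn T Q := fun g =>
    ⟨hT.2 (Subgroup.zpowers (g : Ω)) (Subgroup.zpowers_le.2 g.2.1) _
        (restr_mem F hψ (Subgroup.zpowers_le.2 (hmem g))) ⟨g, Subgroup.mem_zpowers _⟩,
      (hval _).2⟩
  exact Nat.card_le_card_of_injective (fun g => (⟨_, hval' g⟩ : normalizerIn T Q))
    fun a b hab => Subtype.ext (congrArg (fun z : normalizerIn S R => (z : Ω))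
      (F.injective_of_mem hψ (congrArg Subtype.val hab)))

end

end Cfsg.Agent.Lib.Fusion
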