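import Cfsg.Agent.Lib.Fusion.Solvable
import Cfsg.Agent.Lib.Fusion.Centric
import Cfsg.Agent.Lib.Fusion.Subsystem

/-!
Constrained systems: the largest normal subgroup is radical; constrainedness passes to weakly
normal subsystems.
-/

set_option autoImplicit false
set_option linter.unusedSectionVars false

namespace Cfsg.Agent.Lib.Fusion

open Cfsg Cfsg.FusionSystem
open scoped commutatorElement

variable {Ω : Type*} [Group Ω] {S : Subgroup Ω} [Finite S] {F : FusionSystem S} {p : ℕ}
  [Fact p.Prime]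

theorem isPGroup_pCore_aux {A : Type*} [Group A] [Finite A] : IsPGroup p (pCore p A) := by
  obtain ⟨T⟩ := (inferInstance : Nonempty (Sylow p A))
  refine T.2.to_le (sSup_le fun N hN => ?_)
  obtain ⟨hn, hp⟩ := hN
  exact hp.le_sylow_of_normal T

theorem pCore_normal_aux {A : Type*} [Group A] : (pCore p A).Normal := by
  refine ⟨fun x hx g => ?_⟩
  have h1 : pCore p A ≤ (pCore p A).comap (MulAut.conj g).toMonoidHom :=
    sSup_le fun N hN => by
      obtain ⟨hn, hp⟩ := hN
      exact fun y hy => (le_sSup (show N ∈ {M : Subgroup A | M.Normal ∧ IsPGroup p M} from ⟨hn, hp⟩) :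
        N ≤ pCore p A) (hn.conj_mem y hy g)
  exact h1 hx

/-- A normal centric subgroup can be enlarged by the elements inducing `O_p` of its automorphism
group; in particular the largest normal subgroup of a constrained system is radical. -/
theorem core_conj_mem (hS : IsPGroup p S) (hF : F.IsSaturated p) {Q : Subgroup Ω}
    (hQ : F.IsNormal Q) (hc : F.IsCentric Q) (hmax : F.core ≤ Q) {g : Ω}
    (hg : g ∈ normalizerIn S Q) (hgO : ∃ h : conjAut hg.2 ∈ F.autGroup Q,
      (⟨_, h⟩ : F.autGroup Q) ∈ pCore p (F.autGroup Q)) : g ∈ Q := by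
  have hQS := hQ.1
  have := finite_mulAut hQS
  have hQsc := IsNormal.stronglyClosed hQ
  have hQn : S ≤ Subgroup.normalizer (Q : Set Ω) :=
    WeaklyClosed.le_normalizer (StronglyClosed.weaklyClosed hQsc)
  let res : S →* F.autGroup Q :=
    (Q.normalizerMonoidHom.comp (Subgroup.inclusion hQn)).codRestrict _ fun s =>
      conjAut_mem_autGroup F hQS s.2 (hQn s.2)
  have hON := pCore_normal_aux (p := p) (A := F.autGroup Q)
  have hOp := isPGroup_pCore_aux (p := p) (A := F.autGroup Q)
  let P : Subgroup Ω := ((pCore p (F.autGroup Q)).comap res).map S.subtype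
  have hPS : P ≤ S := Subgroup.map_subtype_le _
  have hmemP : ∀ s : S, (s : Ω) ∈ P ↔ res s ∈ pCore p (F.autGroup Q) := by
    intro s
    constructor
    · rintro ⟨t, ht, hts⟩
      obtain rfl : t = s := Subtype.ext hts
      exact ht
    · exact fun h => ⟨s, h, rfl⟩
  have hPsc : F.StronglyClosed P := by
    refine ⟨hPS, fun R hR φ hφ x => ?_⟩
    obtain ⟨ψ, hψ, hext, himg⟩ := hQ.2 R φ hφ
    have hle : Q ≤ R ⊔ Q := le_sup_right
    have hb : restr hle ψ ∈ F.Hom Q := restr_mem F hψ hle
    let β : F.autGroup Q :=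
      ⟨isoOf (restr hle ψ) (F.injective_of_mem hb) ((range_restr hle ψ).trans himg),
        mem_autGroup_of_hom F hb⟩
    refine (hmemP ⟨φ x, apply_mem hφ x⟩).2 ?_
    have e : res ⟨φ x, apply_mem hφ x⟩ = β * res ⟨x, hPS (hR x.2)⟩ * β⁻¹ := by
      refine Subtype.ext (MulEquiv.ext fun y => Subtype.ext ?_)
      obtain ⟨z, rfl⟩ := (β : MulAut Q).surjective y
      show φ x * ψ (Subgroup.inclusion hle z) * (φ x)⁻¹ = ((((β : MulAut Q) (conjAut
        (hQn (hPS (hR x.2))) ((β : MulAut Q).symm ((β : MulAut Q) z)))) : Q) : Ω)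
      rw [MulEquiv.symm_apply_apply]
      show φ x * ψ (Subgroup.inclusion hle z) * (φ x)⁻¹ =
        ψ ⟨(x : Ω) * (z : Ω) * (x : Ω)⁻¹,
          hle (conj_mem_of_mem_normalizer (hQn (hPS (hR x.2))) z.2)⟩
      rw [← hext x, ← map_inv, ← map_mul, ← map_mul]
      rfl
    rw [e]
    exact hON.conj_mem _ ((hmemP ⟨x, _⟩).1 (hR x.2)) β
  have hPn : F.IsNormal P := by
    refine normal_of_stronglyClosed_of_le hS hF hPsc fun E hE => ?_
    have hES := hE.1.1
    have hQE : Q ≤ E :=
      IsNormal.le_centricRadical hS hQ hE.1 (IsEssential.radical hS hF hE)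
    refine le_of_normalizer_le hS hES hPS
      (hES.trans (WeaklyClosed.le_normalizer (StronglyClosed.weaklyClosed hPsc))) fun s hs => ?_
    have hsN : s ∈ normalizerIn S E := ⟨hPS hs.1, hs.2⟩
    refine mem_of_conjAut_inn hE.1 hsN ?_
    rw [← (IsEssential.radical hS hF hE).2]
    have := finite_mulAut hES
    have hres : ∀ α : F.autGroup E, ∃ β : F.autGroup Q, ∀ x : Q,
        (((β : MulAut Q) x : Q) : Ω) = (((α : MulAut E) (Subgroup.inclusion hQE x) : E) : Ω) := by
      intro α
      have hb := restr_mem F (autHom_mem F hES α.2) hQE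
      have hr : (restr hQE (autHom (α : MulAut E))).range = Q :=
        (StronglyClosed.weaklyClosed hQsc).2 _ hb
      exact ⟨⟨isoOf _ (F.injective_of_mem hb) hr, mem_autGroup_of_hom F hb⟩, fun x => rfl⟩
    choose r hr using hres
    let rh : F.autGroup E →* F.autGroup Q :=
      MonoidHom.mk' r fun a b => Subtype.ext (MulEquiv.ext fun x => Subtype.ext (by
        show (((r (a * b) : F.autGroup Q) : MulAut Q) x : Ω) =
          (((r a : F.autGroup Q) : MulAut Q) (((r b : F.autGroup Q) : MulAut Q) x) : Ω)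
        rw [hr, hr a]
        exact congrArg (fun z => (((a : MulAut E) z : E) : Ω)) (Subtype.ext (hr b x).symm)))
    have hker : IsPGroup p rh.ker := by
      intro a
      have h0 : ∀ x : E, (x : Ω) ∈ Q → ((a : F.autGroup E) : MulAut E) x = x := by
        intro x hx
        refine Subtype.ext ?_
        have h1 := hr (a : F.autGroup E) ⟨x, hx⟩
        rw [show r (a : F.autGroup E) = 1 from a.2] at h1
        exact h1.symm
      obtain ⟨z, hz, hzx⟩ := exists_eq_conj_of_trivial_on_centric hS hF hQE hES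
        (hES.trans hQn) hc (a : F.autGroup E).2 h0
      obtain ⟨k, hk⟩ := hS ⟨z, hz.1⟩
      have hk' : z ^ p ^ k = 1 := congrArg Subtype.val hk
      refine ⟨k, Subtype.ext (Subtype.ext (MulEquiv.ext fun x => Subtype.ext ?_))⟩
      simp only [SubgroupClass.coe_pow]
      have key : ∀ j : ℕ, (((((a : F.autGroup E) : MulAut E)) ^ j) x : Ω) =
          z ^ j * (x : Ω) * (z ^ j)⁻¹ := by
        intro j
        induction j with
        | zero => simp
        | succ j ih =>
          rw [pow_succ', MulAut.mul_apply, hzx, ih, pow_succ']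
          group
      rw [key, hk']
      simp
    have hN : IsPGroup p ((pCore p (F.autGroup Q)).comap rh) :=
      hOp.comap_of_ker_isPGroup rh hker
    have : ((pCore p (F.autGroup Q)).comap rh).Normal := hON.comap rh
    refine ⟨⟨_, conjAut_mem_autGroup F hES hsN.1 hsN.2⟩, le_pCore_of_normal hN ?_, rfl⟩
    show rh _ ∈ pCore p (F.autGroup Q)
    have e : rh ⟨_, conjAut_mem_autGroup F hES hsN.1 hsN.2⟩ = res ⟨s, hsN.1⟩ :=
      Subtype.ext (MulEquiv.ext fun x => Subtype.ext (hr _ x))
    rw [e]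
    exact (hmemP ⟨s, hsN.1⟩).1 hs.1
  obtain ⟨h, hO⟩ := hgO
  exact hmax (le_core hPn ((hmemP ⟨g, hg.1⟩).2 hO))

/-- A weakly normal subsystem of a constrained system is constrained. -/
theorem isConstrained_of_subsystem (hS : IsPGroup p S) (hF : F.IsConstrained p) {T : Subgroup Ω}
    {E : FusionSystem T} (hE : E.IsSaturated p) (hsub : E.IsSubsystemOf F)
    (hT : F.StronglyClosed T) : E.IsConstrained p := by
  obtain ⟨hFs, Q₀, hQ₀, hQ₀c⟩ := hF
  have hcoreN := isNormal_core F
  have hQc : F.IsCentric F.core := isCentric_of_le hQ₀c (le_core hQ₀) hcoreN.1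
  set Q := F.core
  have hTS := hT.1
  have := finite_of_le hTS
  have hQsc := IsNormal.stronglyClosed hcoreN
  have hRsc : E.StronglyClosed (Q ⊓ T) := stronglyClosed_of_subsystem hsub hQsc
  obtain ⟨m, C, h0, hn, hmono, hcomm, hk⟩ := exists_lcs_series hS hcoreN.1
  have hR : E.IsNormal (Q ⊓ T) := by
    refine normal_of_series (hS.to_le hTS) hE hRsc (fun j => C j ⊓ T) ?_ ?_ ?_ ?_ ?_
    · simp [h0]
    · simp [hn]
    · exact fun a b hab => inf_le_inf_right T (hmono hab)
    · intro i
      exact le_inf ((Subgroup.commutator_mono inf_le_left inf_le_left).trans (hcomm i))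
        ((Subgroup.commutator_mono inf_le_right inf_le_right).trans
          (Subgroup.commutator_le.2 fun a ha b hb =>
            T.mul_mem (T.mul_mem (T.mul_mem ha hb) (T.inv_mem ha)) (T.inv_mem hb)))
    · intro i
      obtain ⟨k, hk⟩ := hk i.castSucc
      show E.WeaklyClosed (C i.castSucc ⊓ T)
      rw [hk]
      exact StronglyClosed.weaklyClosed
        (stronglyClosed_of_subsystem hsub (IsNormal.stronglyClosed (IsNormal.lcs hcoreN k)))
  refine ⟨hE, Q ⊓ T, hR, inf_le_right, fun R hR' => ?_⟩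
  obtain ⟨φ, hφ, rfl⟩ := hR'
  rw [(StronglyClosed.weaklyClosed hRsc).2 φ hφ]
  intro x hx
  refine ⟨?_, hx.1⟩
  have hxS : x ∈ S := hTS hx.1
  have hQn : S ≤ Subgroup.normalizer (Q : Set Ω) :=
    WeaklyClosed.le_normalizer (StronglyClosed.weaklyClosed hQsc)
  have hxN : x ∈ normalizerIn S Q := ⟨hxS, hQn hxS⟩
  refine core_conj_mem hS hFs hcoreN hQc le_rfl hxN ?_
  have := finite_mulAut hcoreN.1
  have := finite_of_le hcoreN.1
  have hA := conjAut_mem_autGroup F hcoreN.1 hxS hxN.2
  let W : ℕ → Subgroup Q := fun k => if k = 0 then ⊥ else if k = 1 then T.subgroupOf Q else ⊤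
  have hW := stab_mem_pCore (hS.to_le hcoreN.1) (F.autGroup Q) W 2 rfl rfl
    (fun α hα k y hy => by
      simp only [W] at hy ⊢
      split_ifs at hy ⊢
      · rw [Subgroup.mem_bot] at hy ⊢
        rw [hy, map_one]
      · exact StronglyClosed.map_mem hT (autHom_mem F hcoreN.1 hα) y hy
      · trivial)
    hA (fun k hk y hy => by
      interval_cases k
      · simp only [W, Nat.zero_add, if_true, if_false, one_ne_zero] at hy ⊢
        rw [Subgroup.mem_bot, inv_mul_eq_one]
        refine Subtype.ext ?_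
        show (y : Ω) = x * y * x⁻¹
        rw [← hx.2 (y : Ω) ⟨y.2, hy⟩, mul_inv_cancel_right]
      · simp only [W, one_ne_zero, if_false, if_true]
        show (y : Ω)⁻¹ * (x * y * x⁻¹) ∈ T
        have h1 := StronglyClosed.conj_mem_self hT (S.inv_mem (hcoreN.1 y.2)) hx.1
        rw [inv_inv] at h1
        have h2 := T.mul_mem h1 (T.inv_mem hx.1)
        simpa [mul_assoc] using h2)
  obtain ⟨⟨β, hβA⟩, hβ, hβe⟩ := hW
  refine ⟨hA, ?_⟩
  have e : (⟨β, hβA⟩ : F.autGroup Q) = ⟨_, hA⟩ := Subtype.ext hβe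
  exact e ▸ hβ

/-- Subnormal subsystems of constrained systems are constrained. -/
theorem IsSubnormalIn.isConstrained {q : ℕ} {T S' : Subgroup Ω} {E : FusionSystem T}
    {F' : FusionSystem S'} (hE : E.IsSubnormalIn F' q) :
    Fact q.Prime → IsPGroup q S' → F'.IsConstrained q → Finite S' → E.IsConstrained q := by
  induction hE with
  | refl F q => exact fun _ _ h _ => h
  | step hED hDF ih =>
    rename_i T U S E D F q
    intro hq hS hF _
    obtain ⟨⟨hDs, -, hsub, hsc, -, -⟩, -⟩ := hDF
    have := finite_of_le hsc.1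
    exact ih hq (hS.to_le hsc.1) (isConstrained_of_subsystem hS hF hDs hsub hsc) this

end Cfsg.Agent.Lib.Fusion
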