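import Cfsg.Agent.Lib.Fusion.Quotient
import Cfsg.Agent.Lib.Fusion.Hyperfocal

/-!
Hyperfocal subgroups of factor systems.
-/

set_option autoImplicit false
set_option linter.unusedSectionVars false

namespace Cfsg.Agent.Lib.Fusion

open Cfsg Cfsg.FusionSystem

variable {Ω : Type*} [Group Ω] {S : Subgroup Ω} [Finite S] {F : FusionSystem S}
  {Ω' : Type*} [Group Ω'] {S' : Subgroup Ω'} {θ : S →* Ω'} {E : FusionSystem S'}

theorem exists_autQuot (hE : F.IsMorphism E θ) {P : Subgroup Ω} (hP : P ≤ S) :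
    ∃ π : F.autGroup P →* E.autGroup (imageAlong θ P), ∀ (α : F.autGroup P) (x : P)
      (hx : θ ⟨x, hP x.2⟩ ∈ imageAlong θ P),
      (((π α : MulAut (imageAlong θ P)) ⟨_, hx⟩ : imageAlong θ P) : Ω') =
        θ ⟨((α : MulAut P) x : P), hP ((α : MulAut P) x).2⟩ := by
  have key : ∀ α : F.autGroup P, ∃ β ∈ E.autGroup (imageAlong θ P), ∀ (x : P)
      (hx : θ ⟨x, hP x.2⟩ ∈ imageAlong θ P),
      ((β ⟨_, hx⟩ : imageAlong θ P) : Ω') =
        θ ⟨((α : MulAut P) x : P), hP ((α : MulAut P) x).2⟩ := by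
    intro α
    obtain ⟨φ', hφ', hP', hφS, hm, h⟩ := hE.2 P _ (autHom_mem F hP α.2)
    have hr : φ'.range = imageAlong θ P := by
      ext y
      constructor
      · rintro ⟨⟨_, z, hz, rfl⟩, rfl⟩
        refine mem_image_iff.2 ⟨⟨_, hP ((α : MulAut P) ⟨z, hz⟩).2⟩,
          ((α : MulAut P) ⟨z, hz⟩).2, ?_⟩
        exact (h ⟨z, hz⟩).symm
      · intro hy
        obtain ⟨z, hz, rfl⟩ := mem_image_iff.1 hy
        refine ⟨⟨_, hm ((α : MulAut P).symm ⟨z, hz⟩)⟩, ?_⟩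
        rw [h]
        refine congrArg θ (Subtype.ext ?_)
        show (((α : MulAut P) ((α : MulAut P).symm ⟨z, hz⟩) : P) : Ω) = z
        rw [MulEquiv.apply_symm_apply]
    exact ⟨isoOf φ' (E.injective_of_mem hφ') hr, mem_autGroup_of_hom E hφ', fun x hx => h x⟩
  choose π hπ hπx using key
  refine ⟨MonoidHom.mk' (fun α => ⟨π α, hπ α⟩) fun a b => Subtype.ext (MulEquiv.ext ?_), hπx⟩
  rintro ⟨_, z, hz, rfl⟩
  refine Subtype.ext ?_
  have hb : θ ⟨((b : MulAut P) ⟨z, hz⟩ : P), hP ((b : MulAut P) ⟨z, hz⟩).2⟩ ∈ imageAlong θ P :=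
    ⟨_, ((b : MulAut P) ⟨z, hz⟩).2, rfl⟩
  have hm : θ z ∈ imageAlong θ P := ⟨z, hz, rfl⟩
  show ((π (a * b) ⟨θ z, hm⟩ : imageAlong θ P) : Ω') = (π a (π b ⟨θ z, hm⟩) : imageAlong θ P)
  rw [show π b ⟨θ z, hm⟩ = ⟨_, hb⟩ from Subtype.ext (hπx b ⟨z, hz⟩ hm)]
  exact (hπx (a * b) ⟨z, hz⟩ hm).trans (hπx a ((b : MulAut P) ⟨z, hz⟩) hb).symm

variable {p : ℕ} [Fact p.Prime]

theorem hyperfocal_factor (hS : IsPGroup p S) (hF : F.IsSaturated p) {T : Subgroup Ω}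
    (hT : F.StronglyClosed T) (hE : F.IsFactorSystem T θ E) :
    E.hyperfocalSubgroup p = ((F.hyperfocalSubgroup p).subgroupOf S).map θ := by
  have hmor := (isSurjectiveMorphism_factor hS hF hT hE).1
  obtain ⟨-, hker, hr, hiff⟩ := hE
  refine le_antisymm ((Subgroup.closure_le _).2 ?_) ?_
  · rintro _ ⟨P', α', y, hP', hα', rfl⟩
    set Q := preimageAlong θ P'
    have hQS : Q ≤ S := preimage_le θ P'
    obtain ⟨π, hπ⟩ : ∃ π : F.autGroup Q →* E.autGroup P', ∀ (α : F.autGroup Q) (x : Q)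
        (hx : θ ⟨x, hQS x.2⟩ ∈ P'), (((π α : MulAut P') ⟨_, hx⟩ : P') : Ω') =
          θ ⟨((α : MulAut Q) x : Q), hQS ((α : MulAut Q) x).2⟩ := by
      have h := exists_autQuot hmor hQS
      rwa [imageAlong_preimage hr hP'] at h
    have hlift : ∀ z : P', ∃ x : Q, θ ⟨x, hQS x.2⟩ = z := by
      intro z
      obtain ⟨x, hx⟩ := hr.ge (hP' z.2)
      exact ⟨⟨x, (mem_preimage_iff x).2 (hx ▸ z.2)⟩, hx⟩
    have hsurj : Function.Surjective π := by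
      rintro ⟨β, hβ⟩
      obtain ⟨-, φ, hφ, hind⟩ := (hiff P' (autHom β)).1 (autHom_mem E hP' hβ)
      have hφr : φ.range = Q := range_lift hker hT hr hP' (range_autHom β) hφ hind
      obtain ⟨hQS', hφS, hm, h⟩ := hind
      refine ⟨⟨isoOf φ (F.injective_of_mem hφ) hφr, mem_autGroup_of_hom F hφ⟩,
        Subtype.ext (MulEquiv.ext fun z => ?_)⟩
      obtain ⟨x, hx⟩ := hlift z
      rw [show z = ⟨_, (hx ▸ z.2 : θ ⟨x, hQS x.2⟩ ∈ P')⟩ from Subtype.ext hx.symm]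
      exact Subtype.ext ((hπ _ x _).trans (h x).symm)
    have := finite_mulAut hQS
    rw [← Cfsg.Agent.Lib.Transfer.pResidual_map_of_surjective π hsurj] at hα'
    obtain ⟨α, hα, rfl⟩ := hα'
    obtain ⟨x, hx⟩ := hlift y
    have hy : θ ⟨x, hQS x.2⟩ ∈ P' := hx ▸ y.2
    refine ⟨⟨x, hQS x.2⟩⁻¹ * ⟨_, hQS ((α : MulAut Q) x).2⟩, hyperfocal_mem hQS hα x, ?_⟩
    rw [map_mul, map_inv, ← hπ α x hy]
    rw [show (⟨_, hy⟩ : P') = y from Subtype.ext hx, hx]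
  · refine Subgroup.map_le_iff_le_comap.2 ?_
    intro s hs
    have hle : F.hyperfocalSubgroup p ≤
        ((E.hyperfocalSubgroup p).comap θ).map S.subtype := by
      refine (Subgroup.closure_le _).2 ?_
      rintro _ ⟨P, α, x, hP, hα, rfl⟩
      obtain ⟨π, hπ⟩ := exists_autQuot hmor hP
      refine ⟨⟨x, hP x.2⟩⁻¹ * ⟨_, hP ((α : MulAut P) x).2⟩, ?_, rfl⟩
      rw [SetLike.mem_coe, Subgroup.mem_comap, map_mul, map_inv,
        ← hπ α x ⟨⟨x, hP x.2⟩, x.2, rfl⟩]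
      have hle' : imageAlong θ P ≤ S' := by
        rw [← hr]
        rintro _ ⟨z, -, rfl⟩
        exact ⟨z, rfl⟩
      exact hyperfocal_mem hle' (Cfsg.Agent.Lib.Transfer.map_pResidual_le π ⟨α, hα, rfl⟩)
        (⟨θ ⟨x, hP x.2⟩, ⟨⟨x, hP x.2⟩, x.2, rfl⟩⟩ : imageAlong θ P)
    obtain ⟨t, ht, hts⟩ := hle hs
    obtain rfl : t = s := Subtype.ext hts
    exact ht

end Cfsg.Agent.Lib.Fusion
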