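import Cfsg.Agent.Lib.Fusion.TransferFunctor
import Cfsg.Agent.Lib.Fusion.QuotientHyperfocal
import Cfsg.Agent.Lib.PLocal.FusionNpcZJ

/-!
Constrained non-inner subsystems at odd primes.
-/

set_option autoImplicit false
set_option linter.unusedSectionVars false

namespace Cfsg.Agent.Lib.Fusion

open Cfsg Cfsg.FusionSystem
open Cfsg.Agent.Lib.PLocal.FusionNpc

universe u

variable {p : ℕ} [Fact p.Prime] {Ω : Type u} [Group Ω] {S : Subgroup Ω} [Finite S]

/-- Subgroups normalized by `S` are fully normalized. -/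
theorem isFullyNormalized_of_le_normalizer' (F : FusionSystem S) {R : Subgroup Ω} (hR : R ≤ S)
    (hn : S ≤ Subgroup.normalizer (R : Set Ω)) : F.IsFullyNormalized R := ⟨hR, fun Q _ => by
  rw [show normalizerIn S R = S from le_antisymm (normalizerIn_le S R) fun g hg => ⟨hg, hn hg⟩]
  exact Subgroup.card_le_of_le (normalizerIn_le S Q)⟩

omit [Finite S] in
/-- The Glauberman subgroup is normalized by the group. -/
theorem le_normalizer_centerThompson [Finite S] :
    S ≤ Subgroup.normalizer (Cfsg.centerThompsonAOf S : Set Ω) := fun s hs => by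
  have hinj : Function.Injective (MulAut.conj s).toMonoidHom := (MulAut.conj s).injective
  have h := map_centerThompsonAOf (MulAut.conj s).toMonoidHom hinj S
  have hSS : S.map (MulAut.conj s).toMonoidHom = S := by
    ext y
    constructor
    · rintro ⟨x, hx, rfl⟩
      exact S.mul_mem (S.mul_mem hs hx) (S.inv_mem hs)
    · exact fun hy => ⟨s⁻¹ * y * s, S.mul_mem (S.mul_mem (S.inv_mem hs) hy) hs, by simp [mul_assoc]⟩
  rw [hSS] at h
  have : Finite (Cfsg.centerThompsonAOf S) :=
    finite_of_le (inf_le_left.trans (Subgroup.map_subtype_le _) : Cfsg.centerThompsonAOf S ≤ S)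
  exact Fusion.mem_normalizer_of_finite fun y hy => h.le ⟨y, hy, rfl⟩

/-- Some normal self-centralizing subgroup has an automizer which is not a `p`-group. -/
theorem exists_centric_not_pGroup (hp : p ≠ 2) :
    ∀ (n : ℕ) {Ω : Type u} [Group Ω] {S : Subgroup Ω} [Finite S], Nat.card S = n → IsPGroup p S →
      ∀ F : FusionSystem S, F.IsSaturated p → ¬ AutP p F →
        ∃ R : Subgroup Ω, R ≤ S ∧ S ≤ Subgroup.normalizer (R : Set Ω) ∧
          centralizerIn S R ≤ R ∧ ¬ IsPGroup p (F.autGroup R) := by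
  intro n
  induction n using Nat.strong_induction_on with
  | _ n IH =>
  intro Ω _ S _ hn hS F hF hna
  set W := Cfsg.centerThompsonAOf S with hWdef
  have hWS : W ≤ S := inf_le_left.trans (Subgroup.map_subtype_le _)
  have hnW : S ≤ Subgroup.normalizer (W : Set Ω) := le_normalizer_centerThompson
  -- `S` is not trivial
  have hS1 : S ≠ ⊥ := by
    rintro rfl
    refine hna fun P α hα => ⟨0, MulEquiv.ext fun x => Subtype.ext ?_⟩
    have hP : P ≤ ⊥ := source_le hα
    have hx : (x : Ω) = 1 := Subgroup.mem_bot.1 (hP x.2)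
    have hy : ((α x : P) : Ω) = 1 := Subgroup.mem_bot.1 (hP (α x).2)
    rw [pow_zero, pow_one, hy]
    exact hx.symm
  have hW1 : W ≠ ⊥ := by
    intro h
    have hne : (⊤ : Subgroup S) ≠ ⊥ := by
      intro h'
      refine hS1 ((Subgroup.eq_bot_iff_forall S).2 fun s hs => ?_)
      have : (⟨s, hs⟩ : S) ∈ (⊥ : Subgroup S) := h' ▸ Subgroup.mem_top _
      exact congrArg Subtype.val (Subgroup.mem_bot.1 this)
    refine (isNpcFamily_zjRel (p := p) hp).ne_bot () ↥S ⊤ hS inferInstance hne ?_
    apply Subgroup.map_injective S.subtype_injective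
    rw [Subgroup.map_bot, ← h]
    show (Cfsg.centerThompsonAOf (⊤ : Subgroup S)).map S.subtype = _
    rw [map_centerThompsonAOf S.subtype S.subtype_injective, ← MonoidHom.range_eq_map,
      Subgroup.range_subtype]
  have eT : normalizerIn S W = S := le_antisymm (normalizerIn_le S W) fun g hg => ⟨hg, hnW hg⟩
  let N : FusionSystem S := recast (normalizerSystem F W hWS) eT
  have hWfn : F.IsFullyNormalized W := isFullyNormalized_of_le_normalizer' F hWS hnW
  have hNs : N.IsSaturated p :=
    recast_isSaturated eT (normalizerSystem_isSaturated hS hF hWfn (normalizerSystem_spec F W hWS))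
  have hNn : N.IsNormal W :=
    ⟨hWS, (IsNormalizerSystem.isNormal (normalizerSystem_spec F W hWS) hWS).2⟩
  have hNF : ∀ (P : Subgroup Ω) (φ : P →* Ω), φ ∈ N.Hom P → φ ∈ F.Hom P := fun P φ h => h.1
  have hnot : ¬ LocP p false F W := fun h => by
    refine hna fun P α hα => ?_
    have e := inner_of_closed hS hF hp (D := S)
      ⟨le_rfl, fun R _ φ hφ x => apply_mem hφ x⟩ h P
    rw [e] at hα
    obtain ⟨-, g, hg, hge⟩ := hα
    exact pElt_of_conj hS hg hge
  unfold LocP at hnot
  push Not at hnot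
  obtain ⟨P, α, hα, hαp⟩ := hnot
  -- the first candidate
  set R₁ := W ⊔ centralizerIn S W with hR₁def
  have hR₁S : R₁ ≤ S := sup_le hWS (centralizerIn_le S W)
  by_cases hR₁p : IsPGroup p (F.autGroup R₁)
  swap
  · refine ⟨R₁, hR₁S, fun s hs => ?_, fun c hc => le_sup_right (α := Subgroup Ω)
      (mem_centralizerIn.2 ⟨(mem_centralizerIn.1 hc).1, fun w hw =>
        (mem_centralizerIn.1 hc).2 w (Subgroup.mem_sup_left hw)⟩), hR₁p⟩
    have := finite_of_le hR₁S
    refine Fusion.mem_normalizer_of_finite fun y hy => ?_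
    have key : R₁ ≤ R₁.comap (MulAut.conj s).toMonoidHom := sup_le
      (fun w hw => Subgroup.mem_sup_left (conj_mem_of_mem_normalizer (hnW hs) hw))
      fun c hc => Subgroup.mem_sup_right (mem_centralizerIn.2
        ⟨S.mul_mem (S.mul_mem hs (mem_centralizerIn.1 hc).1) (S.inv_mem hs), fun w hw => by
          have h1 : s⁻¹ * w * s ∈ W := (mem_normalizer_iff'.1 (hnW hs)).2 _ hw
          have h2 := (mem_centralizerIn.1 hc).2 _ h1
          show w * (s * c * s⁻¹) = s * c * s⁻¹ * w
          have h3 := congrArg (fun z => s * z * s⁻¹) h2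
          simpa [mul_assoc] using h3⟩)
    exact key hy
  -- the automorphisms of `W` have `p`-power order
  have hWrec := (IsSaturated.automized_receptive hS hF hWfn).2
  have hWp : ∀ β : MulAut W, autHom β ∈ F.Hom W → PElt p β := by
    intro β hβ
    obtain ⟨χ, hχ, hχe, hχv⟩ := IsReceptive.extend hWrec hβ (range_autHom β)
    have hWext : W ≤ extender S W (autHom β) := le_extender hWS (apply_mem hβ)
    have hCext : centralizerIn S W ≤ extender S W (autHom β) := centralizerIn_le_extender _
    have hle : R₁ ≤ extender S W (autHom β) := sup_le hWext hCext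
    have hmem : ∀ x : R₁, χ (Subgroup.inclusion hle x) ∈ R₁ := by
      have key : R₁.subgroupOf (extender S W (autHom β)) ≤ R₁.comap χ := by
        rw [hR₁def, Subgroup.subgroupOf_sup hWext hCext]
        refine sup_le (fun y hy => ?_) fun y hy => ?_
        · show χ y ∈ R₁
          rw [show χ y = autHom β ⟨(y : Ω), hy⟩ from hχe _ hy y.2]
          exact Subgroup.mem_sup_left (β _).2
        · exact Subgroup.mem_sup_right
            (apply_mem_centralizerIn (range_autHom β) hχ hχe hWext _ hy)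
      exact fun x => key (show Subgroup.inclusion hle x ∈ R₁.subgroupOf _ from x.2)
    let f : R₁ →* R₁ := (χ.comp (Subgroup.inclusion hle)).codRestrict R₁ hmem
    have hf : Function.Injective f := fun a b h => Subgroup.inclusion_injective hle
      (F.injective_of_mem hχ (congrArg Subtype.val h))
    have := finite_of_le hR₁S
    let γ : MulAut R₁ := MulEquiv.ofBijective f ⟨hf, Finite.injective_iff_surjective.1 hf⟩
    have hγ : γ ∈ F.autGroup R₁ := mem_autGroup_of_hom F (restr_mem F hχ hle)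
    obtain ⟨k, hk⟩ := hR₁p ⟨γ, hγ⟩
    refine PElt.of_injective (Subgroup.inclusion (le_sup_left : W ≤ R₁))
      (Subgroup.inclusion_injective _) (fun x => Subtype.ext ?_) ⟨k, congrArg Subtype.val hk⟩
    exact (hχe x x.2 (hWext x.2)).symm
  -- the automorphism over `W`
  obtain ⟨hαF, hP, -, ψ, hψ, hψe, hψW⟩ := hα
  let X := P ⊔ W
  have hXS : X ≤ S := sup_le (hP.trans (normalizerIn_le S W)) hWS
  have hψX : ∀ x : X, ψ x ∈ X := by
    have key : (⊤ : Subgroup X) ≤ X.comap ψ := by
      rw [show (⊤ : Subgroup X) = P.subgroupOf X ⊔ W.subgroupOf X from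
        (Subgroup.subgroupOf_self (P ⊔ W)).symm.trans
          (Subgroup.subgroupOf_sup le_sup_left le_sup_right)]
      refine sup_le (fun y hy => ?_) fun y hy => ?_
      · show ψ y ∈ P ⊔ W
        rw [show y = Subgroup.inclusion le_sup_left (⟨(y : Ω), hy⟩ : P) from rfl, hψe]
        exact Subgroup.mem_sup_left (α _).2
      · exact Subgroup.mem_sup_right (hψW.le ⟨y, hy, rfl⟩)
    exact fun x => key (Subgroup.mem_top x)
  let f : X →* X := ψ.codRestrict X hψX
  have hf : Function.Injective f := fun a b h => F.injective_of_mem hψ (congrArg Subtype.val h)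
  have := finite_of_le hXS
  let β : MulAut X := MulEquiv.ofBijective f ⟨hf, Finite.injective_iff_surjective.1 hf⟩
  have hβp : ¬ PElt p β := fun h => hαp (PElt.of_injective (β := β)
    (Subgroup.inclusion (le_sup_left : P ≤ X))
    (Subgroup.inclusion_injective _) (fun x => Subtype.ext (hψe x).symm) h)
  have hβW : ∀ x : X, (x : Ω) ∈ W → ((β x : X) : Ω) ∈ W := fun x hx => hψW.le ⟨x, hx, rfl⟩
  have hβN : β ∈ N.autGroup X := by
    refine mem_autGroup_of_hom N ?_
    refine ⟨hψ, eT.symm ▸ hXS, fun x => eT.symm ▸ apply_mem hψ x, ?_⟩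
    have hle : X ⊔ W ≤ X := sup_le le_rfl le_sup_right
    refine ⟨restr hle ψ, restr_mem F hψ hle, fun x => rfl, ?_⟩
    show img (restr hle ψ) W = W
    rw [img_restr hle _ le_sup_right]
    exact hψW
  -- the factor system
  have := subgroupOf_normal_of_le hnW
  let Λ₀ := (W.subgroupOf S).normalCore
  let Ω' := ↥S ⧸ Λ₀
  let θ : S →* Ω' := QuotientGroup.mk' _
  have hker : ∀ s : S, θ s = 1 ↔ (s : Ω) ∈ W := fun s => by
    show (s : ↥S ⧸ Λ₀) = 1 ↔ _
    rw [QuotientGroup.eq_one_iff, show Λ₀ = W.subgroupOf S from Subgroup.normalCore_eq_self _,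
      Subgroup.mem_subgroupOf]
  have hr : θ.range = (⊤ : Subgroup Ω') :=
    MonoidHom.range_eq_top.2 (QuotientGroup.mk'_surjective _)
  have hWsc := IsNormal.stronglyClosed hNn
  let E := factorSystem N hWsc θ hker hr
  have hE : N.IsFactorSystem W θ E := factorSystem_spec hWsc hker hr
  have hS' : IsPGroup p (⊤ : Subgroup Ω') := (hS.to_quotient Λ₀).to_subgroup ⊤
  have hEs : E.IsSaturated p := factor_isSaturated hS hNs hWsc hE
  have hcard : Nat.card (⊤ : Subgroup Ω') < n := by
    rw [← hn, Subgroup.card_top, show Nat.card Ω' = Λ₀.index from rfl, ← Λ₀.card_mul_index]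
    refine lt_mul_of_one_lt_left (Nat.pos_of_ne_zero Subgroup.index_ne_zero_of_finite) ?_
    rw [show Λ₀ = W.subgroupOf S from Subgroup.normalCore_eq_self _,
      Nat.card_congr (Subgroup.subgroupOfEquivOfLe hWS).toEquiv]
    have := finite_of_le hWS
    exact (Subgroup.one_lt_card_iff_ne_bot W).2 hW1
  have hEna : ¬ AutP p E := by
    intro h
    obtain ⟨π, hπ⟩ := exists_autQuot (isSurjectiveMorphism_factor hS hNs hWsc hE).1 hXS
    obtain ⟨k, hk⟩ := h _ (π ⟨β, hβN⟩ : MulAut (imageAlong θ X))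
      (autHom_mem E le_top (π ⟨β, hβN⟩).2)
    have hk' : π (⟨β, hβN⟩ ^ p ^ k) = 1 := by
      rw [map_pow]
      exact Subtype.ext hk
    -- on the kernel
    let βW : MulAut W := MulEquiv.ofBijective
      ((restr (le_sup_right : W ≤ X) ψ).codRestrict W fun w => hψW.le ⟨_, w.2, rfl⟩)
      (by
        have := finite_of_le hWS
        exact Finite.injective_iff_bijective.1 fun a b h => Subgroup.inclusion_injective _
          (F.injective_of_mem hψ (congrArg Subtype.val h)))
    obtain ⟨l, hl⟩ := hWp βW (by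
      have e : autHom βW = restr (le_sup_right : W ≤ X) ψ := by ext x; rfl
      rw [e]
      exact restr_mem F hψ _)
    obtain ⟨a, ha⟩ := IsPGroup.iff_card.1 hS
    set γ : MulAut X := β ^ p ^ (k + l)
    have hγW : ∀ x : X, (x : Ω) ∈ W → γ x = x := by
      intro x hx
      have h1 := pow_semiconj (α := βW) (β := β) (Subgroup.inclusion (le_sup_right : W ≤ X))
        (fun y => rfl) (p ^ (k + l)) ⟨x, hx⟩
      rw [show βW ^ p ^ (k + l) = 1 by rw [add_comm, pow_add, pow_mul, hl, one_pow]] at h1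
      exact h1.symm
    have hγq : ∀ x : X, (x : Ω)⁻¹ * ((γ x : X) : Ω) ∈ W := by
      intro x
      have hx' : θ ⟨x, hXS x.2⟩ ∈ imageAlong θ X := mem_image_iff.2 ⟨_, x.2, rfl⟩
      have h2 := hπ (⟨β, hβN⟩ ^ p ^ (k + l)) x hx'
      rw [pow_add, pow_mul, map_pow, hk', one_pow] at h2
      have h3 : θ ((⟨x, hXS x.2⟩ : S)⁻¹ * ⟨(γ x : X), hXS (γ x).2⟩) = 1 := by
        rw [map_mul, map_inv, inv_mul_eq_one]
        refine h2.trans (congrArg θ (Subtype.ext ?_))
        simp [γ, pow_add, pow_mul]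
      exact (hker _).1 h3
    refine hβp ⟨k + l + a, MulEquiv.ext fun x => ?_⟩
    rw [pow_add, pow_mul]
    show (γ ^ p ^ a) x = x
    set w : X := x⁻¹ * γ x
    have hw : (w : Ω) ∈ W := hγq x
    have hiter : ∀ m : ℕ, (γ ^ m) x = x * w ^ m := by
      intro m
      induction m with
      | zero => simp
      | succ m ih =>
        rw [pow_succ', MulAut.mul_apply, ih, map_mul, map_pow, hγW w hw, pow_succ']
        simp [w, mul_assoc]
    rw [hiter]
    have h4 : (⟨(w : Ω), hXS w.2⟩ : S) ^ p ^ a = 1 := by rw [← ha]; exact pow_card_eq_one'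
    have h5 : w ^ p ^ a = 1 := by
      apply Subtype.ext
      simpa using congrArg Subtype.val h4
    rw [h5, mul_one]
  obtain ⟨R', hR', hnR', hcR', hR'p⟩ := IH _ hcard rfl hS' E hEs hEna
  set R := preimageAlong θ R' with hRdef
  have hRS : R ≤ S := preimage_le θ R'
  refine ⟨R, hRS, fun s hs => ?_, fun c hc => ?_, fun hp' => hR'p ?_⟩
  · exact normalizer_preimage (g := (⟨s, hs⟩ : S)) (hnR' (Subgroup.mem_top _))
  · obtain ⟨hcS, hcc⟩ := mem_centralizerIn.1 hc
    refine (mem_preimage_iff (θ := θ) (P' := R') ⟨c, hcS⟩).2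
      (hcR' (mem_centralizerIn.2 ⟨Subgroup.mem_top _, fun y hy => ?_⟩))
    obtain ⟨x, rfl⟩ := hr.ge (Subgroup.mem_top y)
    rw [← map_mul, ← map_mul]
    exact congrArg θ (Subtype.ext (hcc x ((mem_preimage_iff x).2 hy)))
  · intro δ
    obtain ⟨hR'S, φ, hφ, hind⟩ := (hE.2.2.2 R' (autHom (δ : MulAut R'))).1 (autHom_mem E le_top δ.2)
    have hφr : φ.range = R := range_lift hker hWsc hr hR'S (range_autHom _) hφ hind
    let γ : MulAut R := isoOf φ (N.injective_of_mem hφ) hφr
    have hγ : autHom γ = φ := by ext x; rfl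
    obtain ⟨k, hk⟩ := hp' ⟨γ, mem_autGroup_of_hom F (by rw [hγ]; exact hNF _ _ hφ)⟩
    obtain ⟨hPS, hφS, hm, hind⟩ := hind
    have hsur : Function.Surjective (fun x : R => (⟨θ ⟨x, hPS x.2⟩, hm x⟩ : R')) := fun y => by
      obtain ⟨x, hx⟩ := hr.ge (Subgroup.mem_top (y : Ω'))
      exact ⟨⟨x, (mem_preimage_iff x).2 (hx ▸ y.2)⟩, Subtype.ext hx⟩
    obtain ⟨j, hj⟩ := PElt.of_surjective (p := p) (α := γ) (β := (δ : MulAut R')) _ hsur
      (fun x => Subtype.ext (hind x).symm) ⟨k, congrArg Subtype.val hk⟩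
    exact ⟨j, Subtype.ext hj⟩

/-- A non-inner system at an odd prime contains a constrained non-inner system. -/
theorem exists_constrained_sub (hS : IsPGroup p S) {F : FusionSystem S} (hF : F.IsSaturated p)
    (hp : p ≠ 2) (hne : ∃ P : Subgroup Ω, F.Hom P ≠ (innerFusionSystem S).Hom P) :
    ∃ E : FusionSystem S, E ≤ F ∧ E.IsConstrained p ∧
      ∃ P : Subgroup Ω, E.Hom P ≠ (innerFusionSystem S).Hom P := by
  have hna : ¬ AutP p F := fun h => by
    obtain ⟨P, hP⟩ := hne
    exact hP (eq_inner_of_autP hS hF h P)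
  obtain ⟨R, hRS, hn, hc, hR⟩ := exists_centric_not_pGroup hp _ rfl hS F hF hna
  have eT : normalizerIn S R = S := le_antisymm (normalizerIn_le S R) fun g hg => ⟨hg, hn hg⟩
  let E : FusionSystem S := recast (normalizerSystem F R hRS) eT
  have hEs : E.IsSaturated p := recast_isSaturated eT (normalizerSystem_isSaturated hS hF
    (isFullyNormalized_of_le_normalizer' F hRS hn) (normalizerSystem_spec F R hRS))
  have hEn : E.IsNormal R :=
    ⟨hRS, (IsNormalizerSystem.isNormal (normalizerSystem_spec F R hRS) hRS).2⟩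
  refine ⟨E, fun P φ h => h.1, ⟨hEs, R, hEn, isCentric_of_fullyCentralized
    (IsSaturated.fullyCentralized hS hEs (isFullyNormalized_of_le_normalizer' E hRS hn)) hc⟩,
    R, fun h => hR fun δ => ?_⟩
  have h1 : autHom (δ : MulAut R) ∈ (normalizerSystem F R hRS).Hom R :=
    autHom_mem _ (le_normalizerIn hRS) (by
      rw [IsNormalizerSystem.autGroup_eq (normalizerSystem_spec F R hRS) hRS]; exact δ.2)
  have h2 : autHom (δ : MulAut R) ∈ (innerFusionSystem S).Hom R := h ▸ h1
  obtain ⟨-, g, hg, hge⟩ := h2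
  obtain ⟨k, hk⟩ := pElt_of_conj hS hg hge
  exact ⟨k, Subtype.ext (by simpa using hk)⟩

end Cfsg.Agent.Lib.Fusion
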