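import Cfsg.Agent.Lib.Fusion.Saturation
import Cfsg.Agent.Lib.Fusion.Axioms
import Cfsg.Agent.Lib.LocalEven2.Basic

/-!
The saturation criterion for a system generated and saturated on a family of subgroups.
Maps of the system are handled through total functions agreeing with them.
-/

set_option autoImplicit false
set_option linter.unusedSectionVars false

namespace Cfsg.Agent.Lib.Fusion.Criterion

open Cfsg Cfsg.FusionSystem Cfsg.Agent.Lib.Fusion

variable {Ω : Type*} [Group Ω] {S : Subgroup Ω}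

/-! ### Maps as total functions -/

/-- `f` agrees on `X` with a map of the system with source `X`. -/
def Mor (F : FusionSystem S) (X : Subgroup Ω) (f : Ω → Ω) : Prop :=
  ∃ φ ∈ F.Hom X, ∀ x : X, φ x = f x

variable {F : FusionSystem S}

theorem mor_of_hom {X : Subgroup Ω} {φ : X →* Ω} (hφ : φ ∈ F.Hom X) :
    ∃ f : Ω → Ω, Mor F X f ∧ ∀ x : X, f x = φ x := by
  classical
  refine ⟨fun z => if h : z ∈ X then φ ⟨z, h⟩ else z, ⟨φ, hφ, fun x => ?_⟩, fun x => ?_⟩ <;>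
    simp [x.2]

theorem Mor.le {X : Subgroup Ω} {f : Ω → Ω} (h : Mor F X f) : X ≤ S := by
  obtain ⟨φ, hφ, -⟩ := h
  exact source_le hφ

theorem Mor.mem {X : Subgroup Ω} {f : Ω → Ω} (h : Mor F X f) {x : Ω} (hx : x ∈ X) : f x ∈ S := by
  obtain ⟨φ, hφ, he⟩ := h
  rw [← he ⟨x, hx⟩]
  exact apply_mem hφ _

theorem Mor.map_mul {X : Subgroup Ω} {f : Ω → Ω} (h : Mor F X f) {x y : Ω} (hx : x ∈ X)
    (hy : y ∈ X) : f (x * y) = f x * f y := by
  obtain ⟨φ, -, he⟩ := h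
  rw [← he ⟨x, hx⟩, ← he ⟨y, hy⟩, ← he ⟨x * y, mul_mem hx hy⟩, ← _root_.map_mul]
  rfl

theorem Mor.map_inv {X : Subgroup Ω} {f : Ω → Ω} (h : Mor F X f) {x : Ω} (hx : x ∈ X) :
    f x⁻¹ = (f x)⁻¹ := by
  obtain ⟨φ, -, he⟩ := h
  rw [← he ⟨x, hx⟩, ← he ⟨x⁻¹, inv_mem hx⟩, ← _root_.map_inv]
  rfl

theorem Mor.map_conj {X : Subgroup Ω} {f : Ω → Ω} (h : Mor F X f) {x y : Ω} (hx : x ∈ X)
    (hy : y ∈ X) : f (x * y * x⁻¹) = f x * f y * (f x)⁻¹ := by
  rw [h.map_mul (mul_mem hx hy) (inv_mem hx), h.map_mul hx hy, h.map_inv hx]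

theorem Mor.injOn {X : Subgroup Ω} {f : Ω → Ω} (h : Mor F X f) : Set.InjOn f X := by
  obtain ⟨φ, hφ, he⟩ := h
  intro x hx y hy hxy
  rw [← he ⟨x, hx⟩, ← he ⟨y, hy⟩] at hxy
  exact congrArg Subtype.val (F.injective_of_mem hφ hxy)

theorem Mor.congr {X : Subgroup Ω} {f g : Ω → Ω} (h : Mor F X f) (he : ∀ x ∈ X, g x = f x) :
    Mor F X g := by
  obtain ⟨φ, hφ, he'⟩ := h
  exact ⟨φ, hφ, fun x => by rw [he' x, he x x.2]⟩

theorem Mor.mono {X R : Subgroup Ω} {f : Ω → Ω} (h : Mor F X f) (hR : R ≤ X) : Mor F R f := by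
  obtain ⟨φ, hφ, he⟩ := h
  exact ⟨restr hR φ, restr_mem F hφ hR, fun x => he ⟨x, hR x.2⟩⟩

theorem Mor.comp {X Y : Subgroup Ω} {f g : Ω → Ω} (hf : Mor F X f) (hm : Set.MapsTo f X Y)
    (hg : Mor F Y g) : Mor F X (g ∘ f) := by
  obtain ⟨φ, hφ, he⟩ := hf
  obtain ⟨ψ, hψ, he'⟩ := hg
  have hY : ∀ x, φ x ∈ Y := fun x => by rw [he x]; exact hm x.2
  refine ⟨compose φ ψ hY, compose_mem F hφ hψ hY, fun x => ?_⟩
  rw [compose_apply, he' ⟨φ x, hY x⟩, Function.comp_apply, ← he x]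

theorem mor_id {X : Subgroup Ω} (hX : X ≤ S) : Mor F X id :=
  ⟨X.subtype, subtype_mem F hX, fun _ => rfl⟩

theorem mor_conj {X : Subgroup Ω} {g : Ω} (hX : X ≤ S) (hg : g ∈ S) :
    Mor F X (fun x => g * x * g⁻¹) :=
  ⟨conjHom X g, F.conj_mem hX hg, fun _ => rfl⟩

theorem Mor.image_of_range {X Y : Subgroup Ω} {φ : X →* Ω} {f : Ω → Ω}
    (he : ∀ x : X, φ x = f x) (h : φ.range = Y) : f '' (X : Set Ω) = Y := by
  ext y
  rw [← h]
  constructor
  · rintro ⟨x, hx, rfl⟩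
    exact ⟨⟨x, hx⟩, he _⟩
  · rintro ⟨x, rfl⟩
    exact ⟨x, x.2, (he x).symm⟩

theorem Mor.range_eq {X Y : Subgroup Ω} {φ : X →* Ω} {f : Ω → Ω}
    (he : ∀ x : X, φ x = f x) (h : f '' (X : Set Ω) = Y) : φ.range = Y :=
  SetLike.coe_injective (by
    rw [← h, Mor.image_of_range he rfl])

theorem Mor.isConj {X Y : Subgroup Ω} {f : Ω → Ω} (h : Mor F X f)
    (hY : f '' (X : Set Ω) = Y) : F.IsConj X Y := by
  obtain ⟨φ, hφ, he⟩ := h
  exact ⟨φ, hφ, Mor.range_eq he hY⟩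

theorem Mor.exists_image {X : Subgroup Ω} {f : Ω → Ω} (h : Mor F X f) :
    ∃ Y : Subgroup Ω, f '' (X : Set Ω) = Y ∧ F.IsConj X Y := by
  obtain ⟨φ, hφ, he⟩ := h
  exact ⟨φ.range, Mor.image_of_range he rfl, φ, hφ, rfl⟩

theorem exists_mor_of_isConj {X Y : Subgroup Ω} (h : F.IsConj X Y) :
    ∃ f, Mor F X f ∧ f '' (X : Set Ω) = Y := by
  obtain ⟨φ, hφ, hr⟩ := h
  obtain ⟨f, hf, he⟩ := mor_of_hom hφ
  exact ⟨f, hf, Mor.image_of_range (fun x => (he x).symm) hr⟩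

theorem Mor.inv {X Y : Subgroup Ω} {f : Ω → Ω} (h : Mor F X f) (hY : f '' (X : Set Ω) = Y) :
    ∃ g, Mor F Y g ∧ g '' (Y : Set Ω) = X ∧ (∀ x ∈ X, g (f x) = x) ∧
      ∀ y ∈ Y, f (g y) = y := by
  obtain ⟨φ, hφ, he⟩ := h
  obtain ⟨ψ, hψ, hr, h1, h2⟩ := exists_inv F hφ (Mor.range_eq he hY)
  obtain ⟨g, hg, he'⟩ := mor_of_hom hψ
  refine ⟨g, hg, Mor.image_of_range (fun x => (he' x).symm) hr, fun x hx => ?_, fun y hy => ?_⟩
  · have hm : φ ⟨x, hx⟩ ∈ Y := by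
      rw [← Mor.range_eq he hY]
      exact ⟨_, rfl⟩
    have := he' ⟨_, hm⟩
    rw [h1 ⟨x, hx⟩ hm] at this
    rw [← he ⟨x, hx⟩]
    exact this
  · have hm : ψ ⟨y, hy⟩ ∈ X := hr ▸ ⟨_, rfl⟩
    have := h2 ⟨y, hy⟩ hm
    rw [he ⟨_, hm⟩] at this
    rw [he' ⟨y, hy⟩]
    exact this

theorem mapsTo_of_image {X : Subgroup Ω} {Y : Subgroup Ω} {f : Ω → Ω}
    (h : f '' (X : Set Ω) = Y) : Set.MapsTo f (X : Set Ω) Y :=
  fun x hx => h ▸ Set.mem_image_of_mem f hx

theorem image_comp_eq {X Y Z : Subgroup Ω} {f g : Ω → Ω} (hf : f '' (X : Set Ω) = Y)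
    (hg : g '' (Y : Set Ω) = Z) : (g ∘ f) '' (X : Set Ω) = Z := by
  rw [Set.image_comp, hf, hg]

theorem card_of_image [Finite S] {X Y : Subgroup Ω} {f : Ω → Ω} (h : Mor F X f)
    (hY : f '' (X : Set Ω) = Y) : Nat.card Y = Nat.card X :=
  (isConj_card (h.isConj hY)).symm

theorem image_of_mapsTo [Finite S] {X Y : Subgroup Ω} {f : Ω → Ω} (h : Mor F X f) (hYS : Y ≤ S)
    (hm : Set.MapsTo f (X : Set Ω) Y) (hc : Nat.card Y ≤ Nat.card X) :
    f '' (X : Set Ω) = Y := by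
  obtain ⟨Z, hZ, hconj⟩ := h.exists_image
  have := finite_of_le hYS
  have hZY : Z ≤ Y := fun z hz => by
    have hz' : z ∈ f '' (X : Set Ω) := hZ.symm ▸ hz
    obtain ⟨x, hx, rfl⟩ := hz'
    exact hm hx
  rw [hZ, Subgroup.eq_of_le_of_card_ge hZY (hc.trans (isConj_card hconj).le)]

theorem card_le_of_mapsTo [Finite S] {X Y : Subgroup Ω} {f : Ω → Ω} (h : Mor F X f) (hYS : Y ≤ S)
    (hm : Set.MapsTo f (X : Set Ω) Y) : Nat.card X ≤ Nat.card Y := by
  have := finite_of_le hYS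
  refine Nat.card_le_card_of_injective (fun x : X => (⟨f x, hm x.2⟩ : Y)) fun a b hab => ?_
  exact Subtype.ext (h.injOn a.2 b.2 (congrArg Subtype.val hab))

theorem mem_normalizer_of_mor [Finite S] {R X Y : Subgroup Ω} {f : Ω → Ω} (h : Mor F R f)
    (hXR : X ≤ R) (hY : f '' (X : Set Ω) = Y) {g : Ω} (hg : g ∈ R)
    (hgX : g ∈ Subgroup.normalizer (X : Set Ω)) : f g ∈ Subgroup.normalizer (Y : Set Ω) := by
  have := finite_of_le (isConj_le_right ((h.mono hXR).isConj hY))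
  refine mem_normalizer_of_finite fun y hy => ?_
  have hy' : y ∈ f '' (X : Set Ω) := hY.symm ▸ hy
  obtain ⟨x, hx, rfl⟩ := hy'
  rw [← h.map_conj hg (hXR hx)]
  exact mapsTo_of_image hY (conj_mem_of_mem_normalizer hgX hx)

theorem mapsTo_normalizerIn [Finite S] {R X Y : Subgroup Ω} {f : Ω → Ω} (h : Mor F R f)
    (hXR : X ≤ R) (hY : f '' (X : Set Ω) = Y) (hR : R ≤ normalizerIn S X) :
    Set.MapsTo f (R : Set Ω) (normalizerIn S Y) :=
  fun g hg => ⟨h.mem hg, mem_normalizer_of_mor h hXR hY hg (hR hg).2⟩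

theorem lt_of_image [Finite S] {R X R' Y : Subgroup Ω} {f : Ω → Ω} (h : Mor F R f) (hXR : X < R)
    (hY : f '' (X : Set Ω) = Y) (hR : f '' (R : Set Ω) = R') : Y < R' := by
  refine lt_of_le_of_ne ?_ fun he => ?_
  · intro y hy
    have hy' : y ∈ f '' (X : Set Ω) := hY.symm ▸ hy
    rw [← SetLike.mem_coe, ← hR]
    exact Set.image_mono hXR.le hy'
  · have h1 := card_of_image h hR
    have h2 := card_of_image (h.mono hXR.le) hY
    rw [← he, h2] at h1
    have := finite_of_le h.le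
    exact hXR.ne (Subgroup.eq_of_le_of_card_ge hXR.le h1.ge)

/-- An automorphism in the system as a total function. -/
theorem exists_mor_of_aut {R : Subgroup Ω} (hR : R ≤ S) {α : MulAut R} (hα : α ∈ F.autGroup R) :
    ∃ a, Mor F R a ∧ a '' (R : Set Ω) = R ∧ ∀ x : R, ((α x : R) : Ω) = a x := by
  obtain ⟨a, ha, he⟩ := mor_of_hom (autHom_mem F hR hα)
  exact ⟨a, ha, Mor.image_of_range (fun x => (he x).symm) (range_autHom α), fun x => (he x).symm⟩

theorem Mor.exists_aut {R : Subgroup Ω} {a : Ω → Ω} (h : Mor F R a)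
    (hR : a '' (R : Set Ω) = R) :
    ∃ α ∈ F.autGroup R, ∀ x : R, ((α x : R) : Ω) = a x := by
  obtain ⟨φ, hφ, he⟩ := h
  have hr := Mor.range_eq he hR
  refine ⟨isoOf φ (F.injective_of_mem hφ) hr, mem_autGroup_of_hom F ?_, fun x => he x⟩
  have : autHom (isoOf φ (F.injective_of_mem hφ) hr) = φ := by
    ext x
    rfl
  rwa [this]

theorem lt_normalizerIn_inf {p : ℕ} [Fact p.Prime] [Finite S] (hS : IsPGroup p S)
    {R M : Subgroup Ω} (hM : M ≤ S) (h : R < M) :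
    R < normalizerIn S R ⊓ M := by
  have := finite_of_le hM
  refine (lt_normalizerIn (S := M) (hS.to_le hM) h).trans_le fun g hg => ?_
  exact ⟨⟨hM hg.1, hg.2⟩, hg.1⟩

/-! ### Edges and confluence -/

variable (F) in
/-- Some map of the system carries `X` to `Y` and the normalizer of `X` into that of `Y`. -/
def Edge (X Y : Subgroup Ω) : Prop :=
  ∃ f, Mor F (normalizerIn S X) f ∧
    Set.MapsTo f (normalizerIn S X : Set Ω) (normalizerIn S Y) ∧ f '' (X : Set Ω) = Y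

theorem edge_refl {X : Subgroup Ω} : Edge F X X :=
  ⟨id, mor_id (normalizerIn_le S X), fun _ hx => hx, Set.image_id _⟩

theorem Edge.trans {X Y Z : Subgroup Ω} (h₁ : Edge F X Y) (h₂ : Edge F Y Z) : Edge F X Z := by
  obtain ⟨f, hf, hfm, hfY⟩ := h₁
  obtain ⟨g, hg, hgm, hgZ⟩ := h₂
  exact ⟨g ∘ f, hf.comp hfm hg, hgm.comp hfm, image_comp_eq hfY hgZ⟩

theorem Edge.isConj {X Y : Subgroup Ω} (hX : X ≤ S) (h : Edge F X Y) : F.IsConj X Y := by
  obtain ⟨f, hf, -, hfY⟩ := h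
  exact (hf.mono (le_normalizerIn hX)).isConj hfY

variable (F) in
/-- `X` and `Y` have a common successor. -/
def Conf (X Y : Subgroup Ω) : Prop := ∃ Z, Edge F X Z ∧ Edge F Y Z

theorem Conf.symm {X Y : Subgroup Ω} (h : Conf F X Y) : Conf F Y X :=
  let ⟨Z, h₁, h₂⟩ := h
  ⟨Z, h₂, h₁⟩

theorem Edge.conf {X Y : Subgroup Ω} (h : Edge F X Y) : Conf F X Y := ⟨Y, h, edge_refl⟩

/-- Two successors of one subgroup are linked by a map on the normalizer of the latter. -/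
theorem bridge [Finite S] {M A B : Subgroup Ω} (hM : M < normalizerIn S M) (h₁ : Edge F M A)
    (h₂ : Edge F M B) :
    ∃ (R : Subgroup Ω) (h : Ω → Ω), A < R ∧ R ≤ normalizerIn S A ∧ Mor F R h ∧
      h '' (A : Set Ω) = B ∧ Nat.card R = Nat.card (normalizerIn S M) := by
  obtain ⟨f, hf, hfm, hfA⟩ := h₁
  obtain ⟨g, hg, hgm, hgB⟩ := h₂
  obtain ⟨R, hR, -⟩ := hf.exists_image
  obtain ⟨f', hf', hf'R, hf'f, -⟩ := hf.inv hR
  refine ⟨R, g ∘ f', lt_of_image hf hM hfA hR, ?_, hf'.comp (mapsTo_of_image hf'R) hg, ?_,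
    card_of_image hf hR⟩
  · intro r hr
    have hr' : r ∈ f '' (normalizerIn S M : Set Ω) := hR.symm ▸ hr
    obtain ⟨x, hx, rfl⟩ := hr'
    exact hfm hx
  · rw [Set.image_comp, ← hfA, ← Set.image_comp f', Set.image_congr (f := f' ∘ f)
      (g := id) fun x hx => hf'f x (hM.le hx), Set.image_id, hgB]

/-! ### Stabilizers -/

variable (F) in
/-- The automorphisms of `R` in the system that preserve `X`. -/
def stabAut (R X : Subgroup Ω) : Subgroup (MulAut R) where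
  carrier := {α | α ∈ F.autGroup R ∧ ∀ x : R, ((α x : R) : Ω) ∈ X ↔ (x : Ω) ∈ X}
  one_mem' := ⟨one_mem _, fun _ => Iff.rfl⟩
  mul_mem' {α β} hα hβ := ⟨mul_mem hα.1 hβ.1, fun x => (hα.2 (β x)).trans (hβ.2 x)⟩
  inv_mem' {α} hα := ⟨inv_mem hα.1, fun x => by
    rw [← hα.2 (α⁻¹ x), show α (α⁻¹ x) = x from α.apply_symm_apply x]⟩

theorem mem_stabAut {R X : Subgroup Ω} {α : MulAut R} :
    α ∈ stabAut F R X ↔
      α ∈ F.autGroup R ∧ ∀ x : R, ((α x : R) : Ω) ∈ X ↔ (x : Ω) ∈ X :=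
  Iff.rfl

theorem stabAut_image {R X : Subgroup Ω} {α : MulAut R} (hα : α ∈ stabAut F R X) (hXR : X ≤ R)
    {a : Ω → Ω} (he : ∀ x : R, ((α x : R) : Ω) = a x) : a '' (X : Set Ω) = X := by
  ext y
  constructor
  · rintro ⟨x, hx, rfl⟩
    rw [← he ⟨x, hXR hx⟩]
    exact (hα.2 _).2 hx
  · intro hy
    refine ⟨((α⁻¹ ⟨y, hXR hy⟩ : R) : Ω), ?_, ?_⟩
    · exact ((inv_mem hα : α⁻¹ ∈ stabAut F R X).2 _).2 hy
    · rw [← he, show α (α⁻¹ ⟨y, hXR hy⟩) = ⟨y, hXR hy⟩ from α.apply_symm_apply _]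

theorem mem_stabAut_of_mor {R X : Subgroup Ω} {α : MulAut R} (hα : α ∈ F.autGroup R)
    (hXR : X ≤ R) {a : Ω → Ω} (ha : Mor F R a) (he : ∀ x : R, ((α x : R) : Ω) = a x)
    (haX : a '' (X : Set Ω) = X) : α ∈ stabAut F R X := by
  refine ⟨hα, fun x => ?_⟩
  rw [he x]
  constructor
  · intro h
    have h' : a x ∈ a '' (X : Set Ω) := haX.symm ▸ h
    obtain ⟨z, hz, hzx⟩ := h'
    rwa [← ha.injOn (hXR hz) x.2 hzx]
  · exact fun h => mapsTo_of_image haX h

variable (F) in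
/-- `R` is receptive and `S` induces a Sylow subgroup of the stabilizer of `X` on it. -/
def Top (p : ℕ) (R X : Subgroup Ω) : Prop :=
  R ≤ S ∧ X ≤ R ∧ F.IsReceptive R ∧ ∃ T : Sylow p (stabAut F R X),
    (T : Subgroup (stabAut F R X)) =
      (autInducedBy (normalizerIn S X) R).subgroupOf (stabAut F R X)

theorem mulAut_conj_apply {R : Type*} [Group R] (α ξ : MulAut R) (x : R) :
    (α * ξ * α⁻¹) (α x) = α (ξ x) := by
  simp

theorem exists_top {p : ℕ} [Fact p.Prime] [Finite S] (hS : IsPGroup p S)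
    {R₀ X₀ : Subgroup Ω} (hR₀ : R₀ ≤ S) (hX₀ : X₀ ≤ R₀)
    (hsat : ∃ Q, F.IsConj R₀ Q ∧ F.IsFullyAutomized p Q ∧ F.IsReceptive Q) :
    ∃ (R X : Subgroup Ω) (f : Ω → Ω), Top F p R X ∧ Mor F R₀ f ∧ f '' (R₀ : Set Ω) = R ∧
      f '' (X₀ : Set Ω) = X := by
  obtain ⟨R, hconj, hFA, hrec⟩ := hsat
  have hR : R ≤ S := hrec.1
  obtain ⟨f₁, hf₁, hf₁R⟩ := exists_mor_of_isConj hconj
  obtain ⟨X₁, hX₁, -⟩ := (hf₁.mono hX₀).exists_image
  have hX₁R : X₁ ≤ R := fun x hx => by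
    have hx' : x ∈ f₁ '' (X₀ : Set Ω) := hX₁.symm ▸ hx
    obtain ⟨z, hz, rfl⟩ := hx'
    exact mapsTo_of_image hf₁R (hX₀ hz)
  have := finite_mulAut hR
  obtain ⟨P₁⟩ : Nonempty (Sylow p (stabAut F R X₁)) := inferInstance
  obtain ⟨α, hα, hαP⟩ := IsFullyAutomized.exists_conj hFA
    (X := (P₁ : Subgroup (stabAut F R X₁)).map (stabAut F R X₁).subtype)
    ((Subgroup.map_subtype_le _).trans fun _ h => h.1) (P₁.isPGroup'.map _)
  obtain ⟨a, ha, haR, hae⟩ := exists_mor_of_aut hR hα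
  obtain ⟨X, hX, -⟩ := (ha.mono hX₁R).exists_image
  have hXR : X ≤ R := fun x hx => by
    have hx' : x ∈ a '' (X₁ : Set Ω) := hX.symm ▸ hx
    obtain ⟨z, hz, rfl⟩ := hx'
    exact mapsTo_of_image haR (hX₁R hz)
  have hαX : ∀ y : R, ((α y : R) : Ω) ∈ X ↔ (y : Ω) ∈ X₁ := fun y => by
    rw [hae y, ← SetLike.mem_coe, ← hX, Set.mem_image]
    exact ⟨fun ⟨z, hz, hzy⟩ => ha.injOn (hX₁R hz) y.2 hzy ▸ hz, fun h => ⟨y, h, rfl⟩⟩
  have hconjmem : ∀ ξ, α * ξ * α⁻¹ ∈ stabAut F R X ↔ ξ ∈ stabAut F R X₁ := by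
    intro ξ
    rw [mem_stabAut, mem_stabAut]
    refine and_congr ⟨fun h => ?_, fun h => mul_mem (mul_mem hα h) (inv_mem hα)⟩ ?_
    · have := mul_mem (mul_mem (inv_mem hα) h) hα
      simpa [mul_assoc] using this
    · rw [α.surjective.forall]
      refine forall_congr' fun y => ?_
      rw [mulAut_conj_apply, hαX, hαX]
  have hcard : Nat.card (stabAut F R X₁) = Nat.card (stabAut F R X) := by
    refine Nat.card_congr ⟨fun ξ => ⟨α * ξ * α⁻¹, (hconjmem _).2 ξ.2⟩,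
      fun ζ => ⟨α⁻¹ * ζ * α, (hconjmem _).1 (by simpa [mul_assoc] using ζ.2)⟩,
      fun ξ => ?_, fun ζ => ?_⟩ <;> exact Subtype.ext (by simp [mul_assoc])
  refine ⟨R, X, a ∘ f₁, ⟨hR, hXR, hrec, ?_⟩, hf₁.comp (mapsTo_of_image hf₁R) ha,
    image_comp_eq hf₁R haR, image_comp_eq hX₁ hX⟩
  set T := (autInducedBy (normalizerIn S X) R).subgroupOf (stabAut F R X) with hT
  have hTp : IsPGroup p T :=
    ((isPGroup_autInducedBy hS R).to_le (autInducedBy_mono (normalizerIn_le S X))).of_injective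
      ((stabAut F R X).subtype.subgroupComap (autInducedBy (normalizerIn S X) R))
      (fun a b hab => Subtype.ext (Subtype.ext (congrArg
        (fun z : autInducedBy (normalizerIn S X) R => (z : MulAut R)) hab)))
  obtain ⟨U, hU⟩ := hTp.exists_le_sylow
  refine ⟨U, ?_⟩
  rw [hT]
  refine (Subgroup.eq_of_le_of_card_ge hU ?_).symm
  change Nat.card (U : Subgroup (stabAut F R X)) ≤ _
  rw [U.card_eq_multiplicity, ← hcard, ← P₁.card_eq_multiplicity]
  refine Nat.card_le_card_of_injective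
    (fun ξ : P₁ => (⟨⟨α * (ξ.1 : MulAut R) * α⁻¹, (hconjmem _).2 ξ.1.2⟩, ?_⟩ : T)) ?_
  · show α * (ξ.1 : MulAut R) * α⁻¹ ∈ autInducedBy (normalizerIn S X) R
    obtain ⟨g, hg, hge⟩ := mem_autInducedBy.1 (hαP _ ⟨ξ.1, ξ.2, rfl⟩)
    have hstab := (hconjmem _).2 ξ.1.2
    have := finite_of_le (hXR.trans hR)
    refine mem_autInducedBy.2 ⟨g, ⟨hg, mem_normalizer_of_finite fun x hx => ?_⟩, hge⟩
    rw [show x = ((⟨x, hXR hx⟩ : R) : Ω) from rfl, ← hge]
    exact (hstab.2 _).2 hx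
  · intro ξ η h
    have := congrArg (fun z : T => ((z : stabAut F R X) : MulAut R)) h
    simp only at this
    exact Subtype.ext (Subtype.ext (mul_left_cancel (mul_right_cancel this)))

/-- The extension property, for maps given as functions. -/
theorem extend_of_receptive [Finite S] {R' R : Subgroup Ω} (hR : F.IsReceptive R) {f : Ω → Ω}
    (hf : Mor F R' f) (hfR : f '' (R' : Set Ω) = R) :
    ∃ (E : Subgroup Ω) (χ : Ω → Ω), R' ≤ E ∧ E ≤ normalizerIn S R' ∧ Mor F E χ ∧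
      (∀ x ∈ R', χ x = f x) ∧
      ∀ g ∈ normalizerIn S R',
        (∃ k ∈ S, ∀ x ∈ R', f (g * x * g⁻¹) = k * f x * k⁻¹) → g ∈ E := by
  obtain ⟨φ, hφ, he⟩ := hf
  obtain ⟨ψ, hψ, hext, -⟩ := IsReceptive.extend hR hφ (Mor.range_eq he hfR)
  obtain ⟨χ, hχ, hχe⟩ := mor_of_hom hψ
  have hle : R' ≤ extender S R' φ := le_extender (source_le hφ) (apply_mem hφ)
  refine ⟨_, χ, hle, extender_le_normalizerIn S R' φ, hχ, fun x hx => ?_, ?_⟩
  · rw [hχe ⟨x, hle hx⟩, hext x hx (hle hx), he]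
  · rintro g hg ⟨k, hk, hke⟩
    refine mem_extender.2 ⟨hg.1, hg.2, k, hk, fun x hx => ?_⟩
    rw [he, he]
    exact hke x x.2

/-- A map onto the big member of a top pair extends to normalizing elements after an adjustment. -/
theorem lift {p : ℕ} [Fact p.Prime] [Finite S] (hS : IsPGroup p S) {R X R' X' : Subgroup Ω}
    (hT : Top F p R X) {f : Ω → Ω} (hf : Mor F R' f) (hX' : X' ≤ R')
    (hfR : f '' (R' : Set Ω) = R) (hfX : f '' (X' : Set Ω) = X) :
    ∃ b χ, Mor F R b ∧ b '' (R : Set Ω) = R ∧ b '' (X : Set Ω) = X ∧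
      Mor F (normalizerIn S R' ⊓ normalizerIn S X') χ ∧
      (∀ x ∈ R', x ∈ normalizerIn S X' → χ x = b (f x)) ∧
      Set.MapsTo χ (normalizerIn S R' ⊓ normalizerIn S X' : Subgroup Ω)
        (normalizerIn S R ⊓ normalizerIn S X : Subgroup Ω) ∧
      ∀ x ∈ X', χ x = b (f x) := by
  obtain ⟨hR, hXR, hrec, T, hTeq⟩ := hT
  have hf0 := hf
  obtain ⟨φ, hφ, he⟩ := hf0
  have hr := Mor.range_eq he hfR
  set e := isoOf φ (F.injective_of_mem hφ) hr with hedef
  set Z := (autInducedBy (normalizerIn S X') R').map (MulAut.congr e).toMonoidHom with hZ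
  have heX : ∀ x : R', ((e x : R) : Ω) ∈ X ↔ (x : Ω) ∈ X' := fun x => by
    rw [hedef, isoOf_coe, he, ← SetLike.mem_coe, ← hfX, Set.mem_image]
    exact ⟨fun ⟨z, hz, hzy⟩ => hf.injOn (hX' hz) x.2 hzy ▸ hz, fun h => ⟨x, h, rfl⟩⟩
  have hZA : Z ≤ F.autGroup R :=
    (Subgroup.map_mono ((autInducedBy_mono (normalizerIn_le S X')).trans
      (autInducedBy_le_autGroup F hf.le))).trans (map_congr_autGroup F hφ hr).le
  have hZs : Z ≤ stabAut F R X := by
    rintro _ hζ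
    refine ⟨hZA hζ, ?_⟩
    obtain ⟨ξ, hξ, rfl⟩ := hζ
    obtain ⟨g, hg, hge⟩ := mem_autInducedBy.1 hξ
    rw [e.surjective.forall]
    intro x
    change ((e (ξ (e.symm (e x))) : R) : Ω) ∈ X ↔ _
    rw [e.symm_apply_apply, heX, heX, hge x]
    exact (Subgroup.mem_normalizer_iff.1 hg.2 x).symm
  have hZp : IsPGroup p (Z.subgroupOf (stabAut F R X)) :=
    (((isPGroup_autInducedBy hS R').to_le
      (autInducedBy_mono (normalizerIn_le S X'))).map _).of_equiv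
      (Subgroup.subgroupOfEquivOfLe hZs).symm
  have := finite_mulAut hR
  obtain ⟨U, hU⟩ := hZp.exists_le_sylow
  obtain ⟨β, hβ⟩ := MulAction.exists_smul_eq (stabAut F R X) U T
  obtain ⟨b, hb, hbR, hbe⟩ := exists_mor_of_aut hR β.2.1
  have hbX : b '' (X : Set Ω) = X := stabAut_image β.2 hXR hbe
  obtain ⟨E, χ, hRE, -, hχ, hχe, hmem⟩ := extend_of_receptive hrec
    (hf.comp (mapsTo_of_image hfR) hb) (image_comp_eq hfR hbR)
  have hsub : normalizerIn S R' ⊓ normalizerIn S X' ≤ E := by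
    intro g hg
    refine hmem g hg.1 ?_
    let ξ := conjAut hg.1.2
    have hξ : ξ ∈ autInducedBy (normalizerIn S X') R' := conjAut_mem_autInducedBy hg.2 hg.1.2
    let ζ : stabAut F R X := ⟨MulAut.congr e ξ, hZs ⟨ξ, hξ, rfl⟩⟩
    have h1 : ζ ∈ (U : Subgroup (stabAut F R X)) := hU ⟨ξ, hξ, rfl⟩
    have h2 : β * ζ * β⁻¹ ∈ (T : Subgroup (stabAut F R X)) := by
      rw [← hβ, Sylow.coe_subgroup_smul]
      exact ⟨_, h1, rfl⟩
    rw [hTeq] at h2
    obtain ⟨k, hk, hke⟩ := mem_autInducedBy.1 (show (β : MulAut R) * MulAut.congr e ξ * (β : MulAut R)⁻¹ ∈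
      autInducedBy (normalizerIn S X) R from h2)
    refine ⟨k, hk.1, fun x hx => ?_⟩
    have := hke ((β : MulAut R) (e ⟨x, hx⟩))
    rw [mulAut_conj_apply] at this
    change (((β : MulAut R) (e (ξ (e.symm (e ⟨x, hx⟩)))) : R) : Ω) = _ at this
    rw [e.symm_apply_apply, hbe, hbe] at this
    simp only [hedef, isoOf_coe, he] at this
    exact this
  refine ⟨b, χ, hb, hbR, hbX, hχ.mono hsub, fun x hx _ => hχe x hx, ?_,
    fun x hx => hχe x (hX' hx)⟩
  intro g hg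
  have hχR : χ '' (R' : Set Ω) = R := by
    rw [Set.image_congr hχe]
    exact image_comp_eq hfR hbR
  have hχX : χ '' (X' : Set Ω) = X := by
    rw [Set.image_congr fun x hx => hχe x (hX' hx)]
    exact image_comp_eq hfX hbX
  exact ⟨⟨hχ.mem (hsub hg), mem_normalizer_of_mor hχ hRE hχR (hsub hg) hg.1.2⟩,
    hχ.mem (hsub hg), mem_normalizer_of_mor hχ (hX'.trans hRE) hχX (hsub hg) hg.2.2⟩

/-! ### The subgroup `W` -/

variable (F) in
/-- The elements of the normalizer of `X` inducing elements of `O_p` of the automizer. -/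
def wsub (p : ℕ) (X : Subgroup Ω) : Subgroup Ω :=
  (((pCore p (F.autGroup X)).map (F.autGroup X).subtype).comap (conjMap S X)).map
    (normalizerIn S X).subtype

theorem mem_wsub {p : ℕ} {X : Subgroup Ω} {g : Ω} :
    g ∈ wsub F p X ↔ g ∈ normalizerIn S X ∧ ∃ κ : F.autGroup X, κ ∈ pCore p (F.autGroup X) ∧
      ∀ x : X, (((κ : MulAut X) x : X) : Ω) = g * x * g⁻¹ := by
  constructor
  · rintro ⟨g, hg, rfl⟩
    obtain ⟨κ, hκ, hκe⟩ := hg
    refine ⟨g.2, κ, hκ, fun x => ?_⟩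
    rw [show ((κ : MulAut X)) = conjMap S X g from hκe]
    rfl
  · rintro ⟨hg, κ, hκ, he⟩
    refine ⟨⟨g, hg⟩, ⟨κ, hκ, ?_⟩, rfl⟩
    ext x
    exact he x

theorem wsub_le {p : ℕ} {X : Subgroup Ω} : wsub F p X ≤ normalizerIn S X :=
  fun _ hg => (mem_wsub.1 hg).1

theorem map_pCore_le {G H : Type*} [Group G] [Group H] {p : ℕ} (e : G →* H)
    (he : Function.Surjective e) : (pCore p G).map e ≤ pCore p H :=
  LocalEven2.le_pCore ((LocalEven2.pCore_normal p G).map e he)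
    ((LocalEven2.pCore_isPGroup p G).map e)

theorem wsub_transport [Finite S] {p : ℕ} {R X Y : Subgroup Ω} {f : Ω → Ω} (hf : Mor F R f)
    (hXR : X ≤ R) (hY : f '' (X : Set Ω) = Y) {g : Ω} (hg : g ∈ R) (hgW : g ∈ wsub F p X) :
    f g ∈ wsub F p Y := by
  obtain ⟨hgN, κ, hκ, hκe⟩ := mem_wsub.1 hgW
  have hXY := hf.mono hXR
  obtain ⟨φ, hφ, he⟩ := hXY
  have hr := Mor.range_eq he hY
  let e := MulAut.congr (isoOf φ (F.injective_of_mem hφ) hr)
  have hmem : ∀ a : F.autGroup X, e a ∈ F.autGroup Y := fun a => exists_mulAut_congr F hφ hr a.2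
  let c : F.autGroup X →* F.autGroup Y :=
    ((e.toMonoidHom).comp (F.autGroup X).subtype).codRestrict _ hmem
  have hc : Function.Surjective c := by
    rintro ⟨β, hβ⟩
    rw [← map_congr_autGroup F hφ hr] at hβ
    obtain ⟨a, ha, rfl⟩ := hβ
    exact ⟨⟨a, ha⟩, rfl⟩
  refine mem_wsub.2 ⟨⟨hf.mem hg, mem_normalizer_of_mor hf hXR hY hg hgN.2⟩, c κ,
    map_pCore_le c hc ⟨κ, hκ, rfl⟩, fun y => ?_⟩
  obtain ⟨x, rfl⟩ := (isoOf φ (F.injective_of_mem hφ) hr).surjective y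
  change ((isoOf φ _ hr ((κ : MulAut X) ((isoOf φ _ hr).symm (isoOf φ _ hr x))) : Y) : Ω) = _
  rw [MulEquiv.symm_apply_apply, isoOf_coe, isoOf_coe, he, he, hκe, hf.map_conj hg (hXR x.2)]

theorem le_wsub [Finite S] {p : ℕ} (hS : IsPGroup p S) {X : Subgroup Ω} (hX : X ≤ S) :
    X ≤ wsub F p X := by
  intro u hu
  set N := (autInducedBy X X).subgroupOf (F.autGroup X) with hNdef
  have hN : N.Normal := by
    refine ⟨fun η hη a => ?_⟩
    obtain ⟨v, hv, hve⟩ := mem_autInducedBy.1 hη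
    refine mem_autInducedBy.2 ⟨(((a : MulAut X) ⟨v, hv⟩ : X) : Ω), SetLike.coe_mem _, ?_⟩
    rw [(a : MulAut X).surjective.forall]
    intro x
    have h1 : (η : MulAut X) x = ⟨v, hv⟩ * x * ⟨v, hv⟩⁻¹ := Subtype.ext (hve x)
    change ((((a : MulAut X) * (η : MulAut X) * (a : MulAut X)⁻¹) ((a : MulAut X) x) : X) : Ω) = _
    rw [mulAut_conj_apply, h1, map_mul, map_mul, map_inv]
    rfl
  have hle : autInducedBy X X ≤ F.autGroup X :=
    (autInducedBy_mono hX).trans (autInducedBy_le_autGroup F hX)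
  have hp : IsPGroup p N :=
    ((isPGroup_autInducedBy hS X).to_le (autInducedBy_mono hX)).of_equiv
      (Subgroup.subgroupOfEquivOfLe hle).symm
  have huA : conjAut (Subgroup.le_normalizer hu) ∈ autInducedBy X X :=
    conjAut_mem_autInducedBy hu _
  exact mem_wsub.2 ⟨⟨hX hu, Subgroup.le_normalizer hu⟩, ⟨_, hle huA⟩,
    LocalEven2.le_pCore hN hp (Subgroup.mem_subgroupOf.2 huA), fun _ => rfl⟩

/-- The Frattini argument in the stabilizer. -/
theorem split_top {p : ℕ} [Fact p.Prime] [Finite S] {R X : Subgroup Ω} (hT : Top F p R X)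
    {a : Ω → Ω} (ha : Mor F R a) (haR : a '' (R : Set Ω) = R) (haX : a '' (X : Set Ω) = X) :
    ∃ g v, g ∈ wsub F p X ∧ Mor F R v ∧ v '' (R : Set Ω) = R ∧ v '' (X : Set Ω) = X ∧
      (∀ x ∈ X, a x = g * v x * g⁻¹) ∧
      ∀ d ∈ wsub F p X, d ∈ normalizerIn S R →
        ∃ k ∈ S, ∀ x ∈ R, v (d * x * d⁻¹) = k * v x * k⁻¹ := by
  obtain ⟨hR, hXR, -, T, hTeq⟩ := hT
  have := finite_mulAut hR
  have := finite_mulAut (hXR.trans hR)
  have hres : ∀ α : stabAut F R X, ∃ ρ : F.autGroup X,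
      ∀ x : X, (((ρ : MulAut X) x : X) : Ω) = (((α : MulAut R) ⟨x, hXR x.2⟩ : R) : Ω) := by
    intro α
    obtain ⟨b, hb, -, hbe⟩ := exists_mor_of_aut hR α.2.1
    obtain ⟨ρ, hρ, hρe⟩ := (hb.mono hXR).exists_aut (stabAut_image α.2 hXR hbe)
    exact ⟨⟨ρ, hρ⟩, fun x => (hρe x).trans (hbe ⟨x, hXR x.2⟩).symm⟩
  choose r₀ hr₀ using hres
  let r : stabAut F R X →* F.autGroup X := MonoidHom.mk' r₀ fun α β => by
    ext x
    rw [hr₀]
    change _ = (((r₀ α : MulAut X) ((r₀ β : MulAut X) x) : X) : Ω)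
    rw [hr₀]
    exact congrArg (fun z : R => (((α : MulAut R) z : R) : Ω)) (Subtype.ext (hr₀ β x).symm)
  let LK : Subgroup (stabAut F R X) := (pCore p (F.autGroup X)).comap r
  have hLK : LK.Normal := (LocalEven2.pCore_normal p _).comap r
  have hQp : IsPGroup p ((T : Subgroup (stabAut F R X)).subgroupOf LK) :=
    T.isPGroup'.of_injective (LK.subtype.subgroupComap (T : Subgroup (stabAut F R X)))
      (fun a b hab => Subtype.ext (Subtype.ext (congrArg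
        (fun z : (T : Subgroup (stabAut F R X)) => (z : stabAut F R X)) hab)))
  obtain ⟨Q, hQ⟩ := hQp.exists_le_sylow
  have hQeq : (Q : Subgroup LK) = (T : Subgroup (stabAut F R X)).subgroupOf LK := by
    obtain ⟨T', hT'⟩ := (Q.isPGroup'.map LK.subtype).exists_le_sylow
    obtain ⟨l, hl⟩ := MulAction.exists_smul_eq (stabAut F R X) T' T
    refine (Subgroup.eq_of_le_of_card_ge hQ ?_).symm
    refine Nat.card_le_card_of_injective (fun q : Q =>
      (⟨⟨l * (q.1 : stabAut F R X) * l⁻¹, hLK.conj_mem _ q.1.2 l⟩, ?_⟩ :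
        (T : Subgroup (stabAut F R X)).subgroupOf LK)) ?_
    · show l * (q.1 : stabAut F R X) * l⁻¹ ∈ (T : Subgroup (stabAut F R X))
      rw [← hl, Sylow.coe_subgroup_smul]
      exact ⟨_, hT' ⟨q.1, q.2, rfl⟩, rfl⟩
    · intro q q' h
      have := congrArg
        (fun z : (T : Subgroup (stabAut F R X)).subgroupOf LK => (z.1 : stabAut F R X)) h
      simp only at this
      exact Subtype.ext (Subtype.ext (mul_left_cancel (mul_right_cancel this)))
  obtain ⟨α, hα, hαe⟩ := ha.exists_aut haR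
  have hαs : α ∈ stabAut F R X := mem_stabAut_of_mor hα hXR ha hαe haX
  have htop := Sylow.normalizer_sup_eq_top Q
  rw [sup_comm] at htop
  obtain ⟨lam, hlam, ν, hν, hprod⟩ :
      ∃ lam ∈ LK, ∃ ν ∈ Subgroup.normalizer ((Q : Subgroup LK).map LK.subtype : Set _),
        lam * ν = (⟨α, hαs⟩ : stabAut F R X) :=
    Subgroup.mem_sup_of_normal_left.1 (htop ▸ Subgroup.mem_top _)
  -- the image of `lam`
  have hM : (LK.map r.rangeRestrict).Normal := hLK.map _ r.rangeRestrict_surjective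
  have hMp : IsPGroup p (LK.map r.rangeRestrict) := by
    refine (LocalEven2.pCore_isPGroup p (F.autGroup X)).of_injective
      (((r.range.subtype).comp (LK.map r.rangeRestrict).subtype).codRestrict _ ?_) ?_
    · rintro ⟨_, l, hl, rfl⟩
      exact hl
    · intro a b hab
      exact Subtype.ext (Subtype.ext
        (congrArg (fun z : pCore p (F.autGroup X) => (z : F.autGroup X)) hab))
  have hMT := hMp.le_sylow_of_normal (T.mapSurjective r.rangeRestrict_surjective)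
  obtain ⟨t, ht, htr⟩ := hMT ⟨lam, hlam, rfl⟩
  have ht' : t ∈ (autInducedBy (normalizerIn S X) R).subgroupOf (stabAut F R X) := hTeq ▸ ht
  obtain ⟨g, hg, hge⟩ := mem_autInducedBy.1 ht'
  have hrt : r t = r lam := congrArg Subtype.val htr
  have hgW : g ∈ wsub F p X := mem_wsub.2 ⟨hg, r t, hrt ▸ hlam, fun x => by
    rw [show r t = r₀ t from rfl, hr₀]; exact hge _⟩
  obtain ⟨v, hv, hvR, hve⟩ := exists_mor_of_aut hR ν.2.1
  have hvX : v '' (X : Set Ω) = X := stabAut_image ν.2 hXR hve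
  refine ⟨g, v, hgW, hv, hvR, hvX, fun x hx => ?_, fun d hdW hdN => ?_⟩
  · have hvx : v x ∈ X := mapsTo_of_image hvX hx
    have h1 : a x = (((lam : MulAut R) ((ν : MulAut R) ⟨x, hXR hx⟩) : R) : Ω) := by
      rw [← hαe ⟨x, hXR hx⟩]
      exact congrArg (fun z : stabAut F R X => ((((z : MulAut R)) ⟨x, hXR hx⟩ : R) : Ω)) hprod.symm
    have h2 : (ν : MulAut R) ⟨x, hXR hx⟩ = ⟨v x, hXR hvx⟩ := Subtype.ext (hve ⟨x, hXR hx⟩)
    rw [h1, h2, ← hr₀ lam ⟨v x, hvx⟩, show r₀ lam = r lam from rfl, ← hrt,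
      show r t = r₀ t from rfl, hr₀]
    exact hge _
  · obtain ⟨hdX, κ, hκ, hκe⟩ := mem_wsub.1 hdW
    let δ : stabAut F R X := ⟨conjAut hdN.2, conjAut_mem_autGroup F hR hdN.1 hdN.2, fun x =>
      (Subgroup.mem_normalizer_iff.1 hdX.2 x).symm⟩
    have hrδ : r δ = κ := by
      ext x
      rw [show r δ = r₀ δ from rfl, hr₀, hκe]
      rfl
    have hδL : δ ∈ LK := Subgroup.mem_comap.2 (hrδ ▸ hκ)
    have hδT : δ ∈ (T : Subgroup (stabAut F R X)) := by
      rw [hTeq]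
      exact conjAut_mem_autInducedBy hdX hdN.2
    have hδQ : δ ∈ (Q : Subgroup LK).map LK.subtype :=
      ⟨⟨δ, hδL⟩, by rw [hQeq]; exact hδT, rfl⟩
    obtain ⟨q, hq, hqe⟩ := (Subgroup.mem_normalizer_iff.1 hν δ).1 hδQ
    have hqT : (q : stabAut F R X) ∈ (T : Subgroup (stabAut F R X)) := by
      have : q ∈ (T : Subgroup (stabAut F R X)).subgroupOf LK := hQeq ▸ hq
      exact this
    rw [show (q : stabAut F R X) = ν * δ * ν⁻¹ from hqe, hTeq] at hqT
    obtain ⟨k, hk, hke⟩ := mem_autInducedBy.1 (show (ν : MulAut R) * conjAut hdN.2 *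
      (ν : MulAut R)⁻¹ ∈ autInducedBy (normalizerIn S X) R from hqT)
    refine ⟨k, hk.1, fun x hx => ?_⟩
    have := hke ((ν : MulAut R) ⟨x, hx⟩)
    rw [mulAut_conj_apply, hve, hve] at this
    exact this

/-! ### Induction on the orders of subgroups -/

section Level

variable {p : ℕ} [Fact p.Prime] [Finite S] (hS : IsPGroup p S) {n : ℕ}
  (hbig : ∀ R : Subgroup Ω, R ≤ S → n < Nat.card R →
    ∃ Q, F.IsConj R Q ∧ F.IsFullyAutomized p Q ∧ F.IsReceptive Q)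
  (hn : n < Nat.card S)

include hS hn in
theorem lt_normalizerIn_level {X : Subgroup Ω} (hX : X ≤ S) (hc : Nat.card X = n) :
    X < normalizerIn S X :=
  lt_normalizerIn hS (lt_of_le_of_ne hX fun h => by rw [h] at hc; omega)

theorem card_lt_card {A B : Subgroup Ω} (hB : B ≤ S) (h : A < B) :
    Nat.card A < Nat.card B := by
  have := finite_of_le hB
  by_contra hc
  exact h.ne (Subgroup.eq_of_le_of_card_ge h.le (not_lt.1 hc))

include hS hbig hn in
/-- A map between members of a class defined on a larger subgroup gives a common successor. -/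
theorem step {X Y R : Subgroup Ω} {f : Ω → Ω} (hcX : Nat.card X = n) (hXR : X < R)
    (hR : R ≤ normalizerIn S X) (hf : Mor F R f) (hY : f '' (X : Set Ω) = Y) : Conf F X Y := by
  have hRS := hR.trans (normalizerIn_le S X)
  have hfm := mapsTo_normalizerIn hf hXR.le hY hR
  rcases eq_or_lt_of_le hR with rfl | hRlt
  · exact Edge.conf ⟨f, hf, hfm, hY⟩
  obtain ⟨R₂, hR₂, hR₂c⟩ := hf.exists_image
  have hYR₂ : Y < R₂ := lt_of_image hf hXR hY hR₂
  have hR₂le : R₂ ≤ normalizerIn S Y := fun y hy => by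
    have hy' : y ∈ f '' (R : Set Ω) := hR₂.symm ▸ hy
    obtain ⟨x, hx, rfl⟩ := hy'
    exact hfm hx
  obtain ⟨g, hg, hgR, hgf, -⟩ := hf.inv hR₂
  have hgY : g '' (Y : Set Ω) = X := by
    rw [← hY, Set.image_image, Set.image_congr (g := id) fun x hx => hgf x (hXR.le hx),
      Set.image_id]
  rcases eq_or_lt_of_le hR₂le with rfl | hR₂lt
  · exact (Edge.conf ⟨g, hg, mapsTo_normalizerIn hg hYR₂.le hgY le_rfl, hgY⟩).symm
  have decS := card_lt_card (le_refl S) (hRlt.trans_le (normalizerIn_le S X))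
  obtain ⟨R', X', ψ, hT, hψ, hψR, hψX⟩ := exists_top hS hRS hXR.le
    (hbig R hRS (hcX ▸ card_lt_card hRS hXR))
  -- the first normalizer
  obtain ⟨b, χ, hb, -, hbX, hχ, -, hχm, hχX⟩ := lift hS hT hψ hXR.le hψR hψX
  have hD : R < normalizerIn S R ⊓ normalizerIn S X :=
    lt_normalizerIn_inf hS (normalizerIn_le S X) hRlt
  have hχX' : χ '' (X : Set Ω) = X' := by
    rw [Set.image_congr hχX]
    exact image_comp_eq hψX hbX
  have dec₁ := card_lt_card (inf_le_left.trans (normalizerIn_le S R)) hD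
  have c₁ : Conf F X X' :=
    step hcX (hXR.trans hD) inf_le_right hχ hχX'
  -- the second normalizer
  obtain ⟨b₂, χ₂, hb₂, -, hb₂X, hχ₂, -, hχ₂m, hχ₂X⟩ :=
    lift hS hT (hg.comp (mapsTo_of_image hgR) hψ) hYR₂.le (image_comp_eq hgR hψR)
      (image_comp_eq hgY hψX)
  have hcY : Nat.card Y = n := (card_of_image (hf.mono hXR.le) hY).trans hcX
  have hD₂ : R₂ < normalizerIn S R₂ ⊓ normalizerIn S Y :=
    lt_normalizerIn_inf hS (normalizerIn_le S Y) hR₂lt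
  have hχ₂X' : χ₂ '' (Y : Set Ω) = X' := by
    rw [Set.image_congr hχ₂X]
    exact image_comp_eq (image_comp_eq hgY hψX) hb₂X
  have dec₂ := card_lt_card (inf_le_left.trans (normalizerIn_le S R₂)) hD₂
  have hR₂card := card_of_image hf hR₂
  have c₂ : Conf F Y X' :=
    step hcY (hYR₂.trans hD₂) inf_le_right hχ₂ hχ₂X'
  obtain ⟨A, hXA, hX'A⟩ := c₁
  obtain ⟨B, hYB, hX'B⟩ := c₂
  have hψXc := card_of_image (hψ.mono hXR.le) hψX
  have hX'S : X' ≤ S := hT.2.1.trans hT.1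
  obtain ⟨R₃, h, hAR₃, hR₃, hh, hhB, hR₃c⟩ :=
    bridge (lt_normalizerIn_level hS hn hX'S (hψXc.trans hcX)) hX'A hX'B
  have hcA : Nat.card A = n :=
    (isConj_card (hX'A.isConj hX'S)).symm.trans (hψXc.trans hcX)
  have dec₃ := card_le_of_mapsTo hχ (normalizerIn_le S X')
    (hχm.mono_right (fun _ h => (Subgroup.mem_inf.1 h).2))
  obtain ⟨C, hAC, hBC⟩ := step hcA hAR₃ hR₃ hh hhB
  exact ⟨C, hXA.trans hAC, hYB.trans hBC⟩
termination_by Nat.card S - Nat.card R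
decreasing_by
  all_goals omega

include hS hbig hn in
theorem Conf.trans {X Y Z : Subgroup Ω} (hY : Y ≤ S) (hcY : Nat.card Y = n)
    (h₁ : Conf F X Y) (h₂ : Conf F Y Z) : Conf F X Z := by
  obtain ⟨A, hXA, hYA⟩ := h₁
  obtain ⟨B, hYB, hZB⟩ := h₂
  obtain ⟨R, h, hAR, hR, hh, hhB, -⟩ := bridge (lt_normalizerIn_level hS hn hY hcY) hYA hYB
  obtain ⟨C, hAC, hBC⟩ :=
    step hS hbig hn ((isConj_card (hYA.isConj hY)).symm.trans hcY) hAR hR hh hhB
  exact ⟨C, hXA.trans hAC, hZB.trans hBC⟩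

/-- The value on `U` extends to a map of `W` into itself. -/
def Good (F : FusionSystem S) (p : ℕ) (U : Subgroup Ω) (a : Ω → Ω) : Prop :=
  ∃ χ, Mor F (wsub F p U) χ ∧ Set.MapsTo χ (wsub F p U : Set Ω) (wsub F p U) ∧
    ∀ u ∈ U, χ u = a u

theorem Good.congr {U : Subgroup Ω} {a b : Ω → Ω} (h : Good F p U a)
    (he : ∀ u ∈ U, b u = a u) : Good F p U b :=
  let ⟨χ, h₁, h₂, h₃⟩ := h
  ⟨χ, h₁, h₂, fun u hu => (h₃ u hu).trans (he u hu).symm⟩

theorem Good.comp {U : Subgroup Ω} {a b : Ω → Ω} (ha : Good F p U a) (hb : Good F p U b)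
    (hm : Set.MapsTo a (U : Set Ω) U) : Good F p U (b ∘ a) := by
  obtain ⟨χ, hχ, hχm, hχe⟩ := ha
  obtain ⟨χ', hχ', hχ'm, hχ'e⟩ := hb
  refine ⟨χ' ∘ χ, hχ.comp hχm hχ', hχ'm.comp hχm, fun u hu => ?_⟩
  simp only [Function.comp_apply]
  rw [hχe u hu, hχ'e _ (hm hu)]

include hS in
theorem Good.inv {U : Subgroup Ω} (hU : U ≤ S) {a c : Ω → Ω} (ha : Good F p U a)
    (hc : ∀ u ∈ U, a (c u) = u) (hm : Set.MapsTo c (U : Set Ω) U) : Good F p U c := by
  obtain ⟨χ, hχ, hχm, hχe⟩ := ha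
  have hWS : wsub F p U ≤ S := wsub_le.trans (normalizerIn_le S U)
  obtain ⟨χ', hχ', hχ'W, hl, -⟩ := hχ.inv (image_of_mapsTo hχ hWS hχm le_rfl)
  refine ⟨χ', hχ', mapsTo_of_image hχ'W, fun u hu => ?_⟩
  have hcu := hm hu
  have h1 := hl _ (le_wsub hS hU hcu)
  rw [hχe _ hcu, hc u hu] at h1
  exact h1

theorem good_conj {U : Subgroup Ω} (hU : U ≤ S) {g : Ω} (hg : g ∈ normalizerIn S U) :
    Good F p U (fun x => g * x * g⁻¹) := by
  have hWS : wsub F p U ≤ S := wsub_le.trans (normalizerIn_le S U)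
  refine ⟨_, mor_conj hWS hg.1, ?_, fun _ _ => rfl⟩
  intro w hw
  have himg : (fun x => g * x * g⁻¹) '' (U : Set Ω) = U := by
    refine image_of_mapsTo (F := F) (mor_conj hU hg.1) hU ?_ le_rfl
    exact fun x hx => conj_mem_of_mem_normalizer hg.2 hx
  exact wsub_transport (mor_conj (normalizerIn_le S U) hg.1) (le_normalizerIn hU) himg
    (wsub_le hw) hw

variable {U : Subgroup Ω} (hcU : Nat.card U = n) (hU : U ≤ S)
  (huniv : ∀ X, F.IsConj U X → Edge F X U)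

include hS hbig hn hcU hU huniv in
theorem good_of_step {R : Subgroup Ω} {a : Ω → Ω} (hUR : U < R) (hR : R ≤ normalizerIn S U)
    (ha : Mor F R a) (haU : a '' (U : Set Ω) = U) : Good F p U a := by
  by_cases hW : wsub F p U ≤ R
  · exact ⟨a, ha.mono hW, fun w hw => wsub_transport ha hUR.le haU (hW hw) hw, fun _ _ => rfl⟩
  have hRS := hR.trans (normalizerIn_le S U)
  obtain ⟨R₂, hR₂, -⟩ := ha.exists_image
  have hUR₂ : U < R₂ := lt_of_image ha hUR haU hR₂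
  have hR₂le : R₂ ≤ normalizerIn S U := fun y hy => by
    have hy' : y ∈ a '' (R : Set Ω) := hR₂.symm ▸ hy
    obtain ⟨x, hx, rfl⟩ := hy'
    exact mapsTo_normalizerIn ha hUR.le haU hR hx
  have hRlt : R < normalizerIn S U :=
    lt_of_le_of_ne hR fun he => hW (he ▸ wsub_le)
  have hR₂card := card_of_image ha hR₂
  have hR₂lt : R₂ < normalizerIn S U := lt_of_le_of_ne hR₂le fun he => by
    have h1 := card_lt_card (normalizerIn_le S U) hRlt
    rw [← he, hR₂card] at h1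
    omega
  obtain ⟨a', ha', ha'R, ha'a, -⟩ := ha.inv hR₂
  have ha'U : a' '' (U : Set Ω) = U := by
    conv_lhs => rw [← haU]
    rw [Set.image_image, Set.image_congr (g := id) fun x hx => ha'a x (hUR.le hx), Set.image_id]
  have decS := card_lt_card (le_refl S) (hRlt.trans_le (normalizerIn_le S U))
  obtain ⟨R', X', ψ, hT, hψ, hψR, hψX⟩ := exists_top hS hRS hUR.le
    (hbig R hRS (hcU ▸ card_lt_card hRS hUR))
  have hX'S : X' ≤ S := hT.2.1.trans hT.1
  obtain ⟨e, he, hem, heU⟩ := huniv X' ((hψ.mono hUR.le).isConj hψX)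
  obtain ⟨b, χ, hb, hbR, hbX, hχ, hχR', hχm, hχU⟩ := lift hS hT hψ hUR.le hψR hψX
  obtain ⟨b₂, χ₂, hb₂, hb₂R, hb₂X, hχ₂, -, hχ₂m, hχ₂U⟩ :=
    lift hS hT (ha'.comp (mapsTo_of_image ha'R) hψ) hUR₂.le (image_comp_eq ha'R hψR)
      (image_comp_eq ha'U hψX)
  have hχm' : Set.MapsTo χ (normalizerIn S R ⊓ normalizerIn S U : Subgroup Ω)
      (normalizerIn S X') := hχm.mono_right fun _ h => (Subgroup.mem_inf.1 h).2
  have hχ₂m' : Set.MapsTo χ₂ (normalizerIn S R₂ ⊓ normalizerIn S U : Subgroup Ω)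
      (normalizerIn S X') := hχ₂m.mono_right fun _ h => (Subgroup.mem_inf.1 h).2
  have hD : R < normalizerIn S R ⊓ normalizerIn S U :=
    lt_normalizerIn_inf hS (normalizerIn_le S U) hRlt
  have hD₂ : R₂ < normalizerIn S R₂ ⊓ normalizerIn S U :=
    lt_normalizerIn_inf hS (normalizerIn_le S U) hR₂lt
  have hχX : χ '' (U : Set Ω) = X' := by
    rw [Set.image_congr hχU]
    exact image_comp_eq hψX hbX
  have hχ₂X : χ₂ '' (U : Set Ω) = X' := by
    rw [Set.image_congr hχ₂U]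
    exact image_comp_eq (image_comp_eq ha'U hψX) hb₂X
  have dec₁ := card_lt_card (inf_le_left.trans (normalizerIn_le S R)) hD
  have dec₂ := card_lt_card (inf_le_left.trans (normalizerIn_le S R₂)) hD₂
  have hc₁U : (e ∘ χ) '' (U : Set Ω) = U := image_comp_eq hχX heU
  have hc₂U : (e ∘ χ₂) '' (U : Set Ω) = U := image_comp_eq hχ₂X heU
  have g₁ : Good F p U (e ∘ χ) :=
    good_of_step (hUR.trans hD) inf_le_right (hχ.comp hχm' he) hc₁U
  have g₂ : Good F p U (e ∘ χ₂) :=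
    good_of_step (hUR₂.trans hD₂) inf_le_right (hχ₂.comp hχ₂m' he) hc₂U
  -- the automorphism of the top pair
  obtain ⟨b', hb', hb'R, hb'b, -⟩ := hb.inv hbR
  have hb'X : b' '' (X' : Set Ω) = X' := by
    conv_lhs => rw [← hbX]
    rw [Set.image_image, Set.image_congr (g := id) fun x hx => hb'b x (hT.2.1 hx), Set.image_id]
  obtain ⟨g, v, hgW, hv, hvR, hvX, hsplit, hvext⟩ := split_top hT
    (hb'.comp (mapsTo_of_image hb'R) hb₂) (image_comp_eq hb'R hb₂R) (image_comp_eq hb'X hb₂X)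
  obtain ⟨E, χv, hR'E, hEN, hχv, hχve, hEmem⟩ := extend_of_receptive hT.2.2.1 hv hvR
  -- an element outside `R'`
  obtain ⟨w, hwW, hwN, hwR⟩ : ∃ w ∈ wsub F p U, w ∈ normalizerIn S R ∧ w ∉ R := by
    have hWN : R ≤ Subgroup.normalizer (wsub F p U : Set Ω) := by
      intro r hr
      have := finite_of_le (wsub_le.trans (normalizerIn_le S U) : wsub F p U ≤ S)
      refine mem_normalizer_of_finite fun y hy => ?_
      refine wsub_transport (mor_conj (normalizerIn_le S U) (hRS hr)) (le_normalizerIn hU) ?_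
        (wsub_le hy) hy
      refine image_of_mapsTo (F := F) (mor_conj hU (hRS hr)) hU ?_ le_rfl
      exact fun x hx => conj_mem_of_mem_normalizer (hR hr).2 hx
    have hlt : R < wsub F p U ⊔ R :=
      lt_of_le_of_ne le_sup_right fun he => hW (le_sup_left.trans he.ge)
    have hsupS : wsub F p U ⊔ R ≤ S :=
      sup_le (wsub_le.trans (normalizerIn_le S U)) hRS
    obtain ⟨y, hy, hyR⟩ := SetLike.exists_of_lt (lt_normalizerIn_inf hS hsupS hlt)
    have hy2 : y ∈ ((wsub F p U ⊔ R : Subgroup Ω) : Set Ω) := hy.2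
    rw [Subgroup.coe_mul_of_right_le_normalizer_left _ _ hWN] at hy2
    obtain ⟨w, hw, r, hr, rfl⟩ := hy2
    refine ⟨w, hw, ?_, fun hwR => hyR (mul_mem hwR hr)⟩
    have := mul_mem hy.1 (le_normalizerIn hRS (R.inv_mem hr))
    simpa using this
  have hwD : w ∈ normalizerIn S R ⊓ normalizerIn S U := ⟨hwN, wsub_le hwW⟩
  have hwW' : χ w ∈ wsub F p X' :=
    wsub_transport hχ (hUR.le.trans hD.le) hχX hwD hwW
  have hχR : χ '' (R : Set Ω) = R' := by
    rw [Set.image_congr fun x hx => hχR' x hx (hR hx)]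
    exact image_comp_eq hψR hbR
  have hwnot : χ w ∉ R' := fun h => by
    have h' : χ w ∈ χ '' (R : Set Ω) := hχR.symm ▸ h
    obtain ⟨z, hz, hzw⟩ := h'
    exact hwR (hχ.injOn (hD.le hz) hwD hzw ▸ hz)
  have hwE : χ w ∈ E := hEmem _ (hχm hwD).1 (hvext _ hwW' (hχm hwD).1)
  let D := E ⊓ normalizerIn S X'
  have hX'R' : X' ≤ R' := hT.2.1
  have hR'X' : R' ≤ normalizerIn S X' := fun y hy => by
    have hy' : y ∈ χ '' (R : Set Ω) := hχR.symm ▸ hy
    obtain ⟨x, hx, rfl⟩ := hy'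
    exact hχm' (hD.le hx)
  have hR'D : R' < D := by
    refine lt_of_le_of_ne (le_inf hR'E hR'X') fun he => hwnot ?_
    rw [he]
    exact ⟨hwE, hχm' hwD⟩
  have hX'D : X' < D := lt_of_le_of_lt hX'R' hR'D
  obtain ⟨R₄, hR₄, -⟩ := (he.mono (inf_le_right : D ≤ _)).exists_image
  have hUR₄ : U < R₄ := lt_of_image (he.mono inf_le_right) hX'D heU hR₄
  have hR₄le : R₄ ≤ normalizerIn S U := fun y hy => by
    have hy' : y ∈ e '' (D : Set Ω) := hR₄.symm ▸ hy
    obtain ⟨x, hx, rfl⟩ := hy'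
    exact hem (inf_le_right (a := E) hx)
  obtain ⟨e', he', he'D, he'e, hee'⟩ := (he.mono (inf_le_right : D ≤ _)).inv hR₄
  have hχvX : χv '' (X' : Set Ω) = X' := by
    rw [Set.image_congr fun x hx => hχve x (hX'R' hx)]
    exact hvX
  have hχvm : Set.MapsTo χv (D : Set Ω) (normalizerIn S X') := fun d hd =>
    ⟨hχv.mem hd.1, mem_normalizer_of_mor hχv (hX'R'.trans hR'E) hχvX hd.1 hd.2.2⟩
  have he'U : e' '' (U : Set Ω) = X' := by
    rw [← heU, Set.image_image, Set.image_congr (g := id) fun x hx => he'e x (hX'D.le hx),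
      Set.image_id]
  have hc₃ : Mor F R₄ ((e ∘ χv) ∘ e') :=
    he'.comp (mapsTo_of_image he'D) ((hχv.mono inf_le_left).comp hχvm he)
  have hc₃U : ((e ∘ χv) ∘ e') '' (U : Set Ω) = U :=
    image_comp_eq he'U (image_comp_eq hχvX heU)
  have dec₃ := card_lt_card (inf_le_right.trans (normalizerIn_le S X') : D ≤ S) hR'D
  have hR₄card := card_of_image (he.mono (inf_le_right : D ≤ _)) hR₄
  have hR'card := card_of_image hψ hψR
  have g₃ : Good F p U ((e ∘ χv) ∘ e') := good_of_step hUR₄ hR₄le hc₃ hc₃U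
  have g₄ : Good F p U ((fun x => e g * x * (e g)⁻¹) ∘ ((e ∘ χv) ∘ e')) :=
    g₃.comp (good_conj hU (hem (wsub_le hgW))) (mapsTo_of_image hc₃U)
  -- assemble
  obtain ⟨c₂, hc₂, hc₂U', hc₂l, hc₂r⟩ :=
    ((hχ₂.mono (hUR₂.le.trans hD₂.le)).comp
      (fun x hx => hχ₂m' ((hUR₂.le.trans hD₂.le) hx)) he).inv hc₂U
  have g₅ : Good F p U c₂ := g₂.inv hS hU hc₂r (mapsTo_of_image hc₂U')
  have hm₄ : Set.MapsTo ((fun x => e g * x * (e g)⁻¹) ∘ ((e ∘ χv) ∘ e')) (U : Set Ω) U :=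
    fun u hu => conj_mem_of_mem_normalizer (hem (wsub_le hgW)).2 (mapsTo_of_image hc₃U hu)
  refine ((g₁.comp g₄ (mapsTo_of_image hc₁U)).comp g₅
    (hm₄.comp (mapsTo_of_image hc₁U))).congr fun u hu => ?_
  have hu' : a u ∈ U := mapsTo_of_image haU hu
  have hx : χ u ∈ X' := mapsTo_of_image hχX hu
  have hvx : v (χ u) ∈ X' := mapsTo_of_image hvX hx
  have hχ₂a : χ₂ (a u) = (b₂ ∘ b') (χ u) := by
    rw [hχ₂U _ hu', hχU u hu]
    simp only [Function.comp_apply]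
    rw [ha'a u (hUR.le hu), hb'b _ (mapsTo_of_image hψR (hUR.le hu))]
  have key : e g * e (v (χ u)) * (e g)⁻¹ = e (χ₂ (a u)) := by
    rw [hχ₂a, hsplit _ hx, he.map_conj (wsub_le hgW) (le_normalizerIn hX'S hvx)]
  simp only [Function.comp_apply]
  rw [he'e (χ u) (hX'D.le hx), hχve _ (hX'R' hx), key]
  exact (hc₂l (a u) hu').symm
termination_by Nat.card S - Nat.card R
decreasing_by
  all_goals omega

end Level

/-! ### Systems cut out by a property of maps -/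

variable (F) in
/-- The subsystem of the maps satisfying a property stable under the operations of the system. -/
def cutSystem (Q : Subgroup Ω → (Ω → Ω) → Prop)
    (hconj : ∀ (Y : Subgroup Ω) (g : Ω) (f : Ω → Ω), Y ≤ S → g ∈ S →
      (∀ y ∈ Y, f y = g * y * g⁻¹) → Q Y f)
    (hcomp : ∀ (Y Z : Subgroup Ω) (f g h : Ω → Ω), Mor F Y f → Mor F Z g →
      Set.MapsTo f (Y : Set Ω) Z → Q Y f → Q Z g → (∀ y ∈ Y, h y = g (f y)) → Q Y h)
    (hinv : ∀ (Y Z : Subgroup Ω) (f g : Ω → Ω), Mor F Y f → f '' (Y : Set Ω) = Z →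
      Mor F Z g → (∀ y ∈ Y, g (f y) = y) → Q Y f → Q Z g) : FusionSystem S where
  Hom Y := {φ | φ ∈ F.Hom Y ∧ ∀ f, (∀ y : Y, φ y = f y) → Q Y f}
  le_of_mem h := F.le_of_mem h.1
  injective_of_mem h := F.injective_of_mem h.1
  conj_mem {P g} hP hg :=
    ⟨F.conj_mem hP hg, fun f hf => hconj P g f hP hg fun y hy => (hf ⟨y, hy⟩).symm⟩
  comp_mem {P R φ ψ} hφ hψ h := by
    refine ⟨F.comp_mem hφ.1 hψ.1 h, fun k hk => ?_⟩
    obtain ⟨f, hf, hfe⟩ := mor_of_hom hφ.1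
    obtain ⟨g, hg, hge⟩ := mor_of_hom hψ.1
    refine hcomp P R f g k hf hg (fun y hy => ?_) (hφ.2 f fun y => (hfe y).symm)
      (hψ.2 g fun y => (hge y).symm) fun y hy => ?_
    · rw [hfe ⟨y, hy⟩]
      exact h _
    · rw [← hk ⟨y, hy⟩, hfe ⟨y, hy⟩, hge ⟨_, h _⟩]
      rfl
  inv_mem {P φ} hφ := by
    obtain ⟨ψ, hψ, he⟩ := F.inv_mem hφ.1
    refine ⟨ψ, ⟨hψ, fun g hg => ?_⟩, he⟩
    obtain ⟨f, hf, hfe⟩ := mor_of_hom hφ.1
    refine hinv P φ.range f g hf (Mor.image_of_range (fun x => (hfe x).symm) rfl)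
      ⟨ψ, hψ, hg⟩ (fun y hy => ?_) (hφ.2 f fun y => (hfe y).symm)
    rw [hfe ⟨y, hy⟩, ← hg ⟨φ ⟨y, hy⟩, _, rfl⟩]
    exact he ⟨y, hy⟩

theorem image_eq_of_congr {X Y : Subgroup Ω} {f g : Ω → Ω} (h : f '' (X : Set Ω) = Y)
    (he : ∀ x ∈ X, g x = f x) : g '' (X : Set Ω) = Y := by
  rw [Set.image_congr he, h]

theorem le_of_image {R X Y Z : Subgroup Ω} {f : Ω → Ω} (hX : f '' (X : Set Ω) = Y)
    (hR : f '' (R : Set Ω) = Z) (h : X ≤ R) : Y ≤ Z := by
  rw [← SetLike.coe_subset_coe, ← hX, ← hR]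
  exact Set.image_mono h

theorem saturated_level {p : ℕ} [Fact p.Prime] [Finite S] (hS : IsPGroup p S)
    (ℋ : Set (Subgroup Ω)) (hℋconj : ∀ R ∈ ℋ, ∀ Q, F.IsConj R Q → Q ∈ ℋ)
    (hgen : ∀ E : FusionSystem S, (∀ R ∈ ℋ, F.Hom R ⊆ E.Hom R) → F ≤ E)
    (hstar : ∀ R : Subgroup Ω, F.IsCentric R → R ∉ ℋ → ∃ Q, F.IsConj R Q ∧
      ¬ (autInducedBy S Q ⊓ (pCore p ↥(F.autGroup Q)).map (F.autGroup Q).subtype ≤ Inn Q))
    {P : Subgroup Ω} (hP : P ≤ S) (hPℋ : P ∉ ℋ) (hlt : Nat.card P < Nat.card S)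
    (hbig : ∀ R : Subgroup Ω, R ≤ S → Nat.card P < Nat.card R →
      ∃ Q, F.IsConj R Q ∧ F.IsFullyAutomized p Q ∧ F.IsReceptive Q) :
    ∃ Q, F.IsConj P Q ∧ F.IsFullyAutomized p Q ∧ F.IsReceptive Q := by
  -- members of the class
  have hcl : ∀ {X}, F.IsConj P X → X ≤ S ∧ Nat.card X = Nat.card P := fun h =>
    ⟨isConj_le_right h, (isConj_card h).symm⟩
  have hgrow : ∀ {X}, F.IsConj P X → ∀ Y ∈ ℋ, Y ≤ S → X ≤ Y → X < normalizerIn S X ⊓ Y := by
    intro X hX Y hY hYS hXY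
    refine lt_normalizerIn_inf hS hYS (lt_of_le_of_ne hXY fun he => hPℋ ?_)
    exact hℋconj Y hY P (he ▸ isConj_symm hX)
  have hgrowS : ∀ {X}, F.IsConj P X → X < normalizerIn S X := fun h =>
    lt_normalizerIn_level hS hlt (hcl h).1 (hcl h).2
  have himgcl : ∀ {X Y Z : Subgroup Ω} {f : Ω → Ω}, Mor F Y f → X ≤ Y → F.IsConj P X →
      f '' (X : Set Ω) = Z → F.IsConj P Z := fun hf hXY hX hZ =>
    isConj_trans hX ((hf.mono hXY).isConj hZ)
  -- confluence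
  let Q₁ : Subgroup Ω → (Ω → Ω) → Prop := fun Y f =>
    ∀ X Z : Subgroup Ω, X ≤ Y → F.IsConj P X → f '' (X : Set Ω) = Z → Conf F X Z
  let E₁ : FusionSystem S := cutSystem F Q₁
    (by
      intro Y g f hY hg hf X Z hXY hX hZ
      exact step hS hbig hlt (hcl hX).2 (hgrowS hX) le_rfl
        (mor_conj (normalizerIn_le S X) hg)
        (image_eq_of_congr hZ fun x hx => (hf x (hXY hx)).symm))
    (by
      intro Y Z f g h hf hg hm h₁ h₂ hh X W hXY hX hW
      obtain ⟨M, hM, -⟩ := (hf.mono hXY).exists_image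
      have hMZ : M ≤ Z := fun y hy => by
        have hy' : y ∈ f '' (X : Set Ω) := hM.symm ▸ hy
        obtain ⟨x, hx, rfl⟩ := hy'
        exact hm (hXY hx)
      have hMc := himgcl hf hXY hX hM
      have hgM : g '' (M : Set Ω) = W := by
        rw [← hM, Set.image_image, ← hW]
        exact Set.image_congr fun x hx => (hh x (hXY hx)).symm
      exact Conf.trans hS hbig hlt (hcl hMc).1 (hcl hMc).2 (h₁ X M hXY hX hM)
        (h₂ M W hMZ hMc hgM))
    (by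
      intro Y Z f g hf hfZ hg hgf h X W hXZ hX hW
      have hgY : g '' (Z : Set Ω) = Y := by
        rw [← hfZ, Set.image_image, Set.image_congr (g := id) hgf, Set.image_id]
      have hWY : W ≤ Y := le_of_image hW hgY hXZ
      have hfW : f '' (W : Set Ω) = X := by
        rw [← hW, Set.image_image]
        refine Set.image_congr (g := id) (fun x hx => ?_) |>.trans (Set.image_id _)
        have hx' : x ∈ f '' (Y : Set Ω) := hfZ.symm ▸ hXZ hx
        obtain ⟨y, hy, rfl⟩ := hx'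
        rw [hgf y hy]
        rfl
      exact (h W X hWY (himgcl hg hXZ hX hW) hfW).symm)
  have hall₁ : F ≤ E₁ := hgen E₁ fun Y hY φ hφ => ⟨hφ, fun f hf X Z hXY hX hZ => by
    have hD := hgrow hX Y hY (source_le hφ) hXY
    exact step hS hbig hlt (hcl hX).2 hD inf_le_left
      ((show Mor F Y f from ⟨φ, hφ, hf⟩).mono inf_le_right) hZ⟩
  have hconf : ∀ X, F.IsConj P X → Conf F P X := fun X hX => by
    obtain ⟨φ, hφ, hr⟩ := hX
    obtain ⟨f, hf, hfe⟩ := mor_of_hom hφ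
    exact (hall₁ P hφ).2 f (fun y => (hfe y).symm) P X le_rfl (isConj_refl F hP)
      (Mor.image_of_range (fun x => (hfe x).symm) hr)
  obtain ⟨U, hPU, huniv⟩ : ∃ U, F.IsConj P U ∧ ∀ X, F.IsConj P X → Edge F X U := by
    classical
    have hfin : {X : Subgroup Ω | F.IsConj P X}.Finite :=
      finite_subgroups_le.subset fun X hX => (hcl hX).1
    have : ∀ s : Finset (Subgroup Ω), (∀ X ∈ s, F.IsConj P X) →
        ∃ U, F.IsConj P U ∧ ∀ X ∈ s, Edge F X U := by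
      intro s
      induction s using Finset.induction_on with
      | empty => exact fun _ => ⟨P, isConj_refl F hP, by simp⟩
      | insert X s hXs ih =>
        intro hs
        obtain ⟨U, hU, hsU⟩ := ih fun Y hY => hs Y (Finset.mem_insert_of_mem hY)
        obtain ⟨C, hXC, hUC⟩ := Conf.trans hS hbig hlt hP rfl
          (hconf X (hs X (Finset.mem_insert_self X s))).symm (hconf U hU)
        refine ⟨C, isConj_trans hU (hUC.isConj (hcl hU).1), fun Y hY => ?_⟩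
        rcases Finset.mem_insert.1 hY with rfl | hY
        · exact hXC
        · exact (hsU Y hY).trans hUC
    obtain ⟨U, hU, h⟩ := this hfin.toFinset fun X hX => hfin.mem_toFinset.1 hX
    exact ⟨U, hU, fun X hX => h X (hfin.mem_toFinset.2 hX)⟩
  obtain ⟨hUS, hUc⟩ := hcl hPU
  have huniv' : ∀ X, F.IsConj U X → Edge F X U := fun X hX => huniv X (isConj_trans hPU hX)
  -- every automorphism of `U` extends to `W`
  let EF : Subgroup Ω → (Ω → Ω) → Prop := fun X e =>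
    Mor F (normalizerIn S X) e ∧
      Set.MapsTo e (normalizerIn S X : Set Ω) (normalizerIn S U) ∧ e '' (X : Set Ω) = U
  let Q₂ : Subgroup Ω → (Ω → Ω) → Prop := fun Y f =>
    ∀ X Z : Subgroup Ω, X ≤ Y → F.IsConj P X → f '' (X : Set Ω) = Z → ∀ ex ez c,
      EF X ex → EF Z ez → (∀ x ∈ X, c (ex x) = ez (f x)) → Good F p U c
  have hgm : ∀ (X Z D : Subgroup Ω) (f ex ez c : Ω → Ω), X < D → D ≤ normalizerIn S X →
      Mor F D f → f '' (X : Set Ω) = Z → EF X ex → EF Z ez →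
      (∀ x ∈ X, c (ex x) = ez (f x)) → Good F p U c := by
    intro X Z D f ex ez c hXD hD hf hZ hex hez hc
    obtain ⟨R, hR, -⟩ := (hex.1.mono hD).exists_image
    obtain ⟨ex', hex', hex'D, hl, -⟩ := (hex.1.mono hD).inv hR
    have hfm := mapsTo_normalizerIn hf hXD.le hZ hD
    have hex'U : ex' '' (U : Set Ω) = X := by
      rw [← hex.2.2, Set.image_image,
        Set.image_congr (g := id) fun x hx => hl x (hXD.le hx), Set.image_id]
    refine (good_of_step hS hbig hlt hUc hUS huniv' (R := R) (a := (ez ∘ f) ∘ ex')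
      (lt_of_image (hex.1.mono hD) hXD hex.2.2 hR) (fun r hr => ?_)
      (hex'.comp (mapsTo_of_image hex'D) (hf.comp hfm hez.1))
      (image_comp_eq hex'U (image_comp_eq hZ hez.2.2))).congr fun u hu => ?_
    · have hr' : r ∈ ex '' (D : Set Ω) := hR.symm ▸ hr
      obtain ⟨x, hx, rfl⟩ := hr'
      exact hex.2.1 (hD hx)
    · have hu' : u ∈ ex '' (X : Set Ω) := hex.2.2.symm ▸ hu
      obtain ⟨x, hx, rfl⟩ := hu'
      rw [hc x hx]
      simp only [Function.comp_apply]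
      rw [hl x (hXD.le hx)]
  let E₂ : FusionSystem S := cutSystem F Q₂
    (by
      intro Y g f hY hg hf X Z hXY hX hZ ex ez c hex hez hc
      refine hgm X Z _ (fun x => g * x * g⁻¹) ex ez c (hgrowS hX) le_rfl
        (mor_conj (normalizerIn_le S X) hg)
        (image_eq_of_congr hZ fun x hx => (hf x (hXY hx)).symm) hex hez fun x hx => ?_
      rw [hc x hx, hf x (hXY hx)])
    (by
      intro Y Z f g h hf hg hm h₁ h₂ hh X W hXY hX hW ex ez c hex hez hc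
      obtain ⟨M, hM, -⟩ := (hf.mono hXY).exists_image
      have hMZ : M ≤ Z := fun y hy => by
        have hy' : y ∈ f '' (X : Set Ω) := hM.symm ▸ hy
        obtain ⟨x, hx, rfl⟩ := hy'
        exact hm (hXY hx)
      have hMc := himgcl hf hXY hX hM
      have hgM : g '' (M : Set Ω) = W := by
        rw [← hM, Set.image_image, ← hW]
        exact Set.image_congr fun x hx => (hh x (hXY hx)).symm
      obtain ⟨em, hem⟩ := huniv M hMc
      obtain ⟨ex', -, hex'U, hxl, -⟩ :=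
        (hex.1.mono (le_normalizerIn (hcl hX).1)).inv hex.2.2
      obtain ⟨em', -, hem'U, hml, -⟩ :=
        (hem.1.mono (le_normalizerIn (hcl hMc).1)).inv hem.2.2
      have g₁ : Good F p U ((em ∘ f) ∘ ex') := h₁ X M hXY hX hM ex em _ hex hem
        fun x hx => by simp only [Function.comp_apply]; rw [hxl x hx]
      have g₂ : Good F p U ((ez ∘ g) ∘ em') := h₂ M W hMZ hMc hgM em ez _ hem hez
        fun x hx => by simp only [Function.comp_apply]; rw [hml x hx]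
      refine (g₁.comp g₂ ?_).congr fun u hu => ?_
      · exact mapsTo_of_image (image_comp_eq hex'U (image_comp_eq hM hem.2.2))
      · have hu' : u ∈ ex '' (X : Set Ω) := hex.2.2.symm ▸ hu
        obtain ⟨x, hx, rfl⟩ := hu'
        rw [hc x hx, hh x (hXY hx)]
        simp only [Function.comp_apply]
        rw [hxl x hx, hml _ (mapsTo_of_image hM hx)])
    (by
      intro Y Z f g hf hfZ hg hgf h X W hXZ hX hW ex ez c hex hez hc
      have hgY : g '' (Z : Set Ω) = Y := by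
        rw [← hfZ, Set.image_image, Set.image_congr (g := id) hgf, Set.image_id]
      have hWY : W ≤ Y := le_of_image hW hgY hXZ
      have hfg : ∀ x ∈ X, f (g x) = x := fun x hx => by
        have hx' : x ∈ f '' (Y : Set Ω) := hfZ.symm ▸ hXZ hx
        obtain ⟨y, hy, rfl⟩ := hx'
        rw [hgf y hy]
      have hfW : f '' (W : Set Ω) = X := by
        rw [← hW, Set.image_image, Set.image_congr (g := id) hfg, Set.image_id]
      have hWc := himgcl hg hXZ hX hW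
      obtain ⟨ez', -, hez'U, hzl, -⟩ :=
        (hez.1.mono (le_normalizerIn (hcl hWc).1)).inv hez.2.2
      have g₁ : Good F p U ((ex ∘ f) ∘ ez') := h W X hWY hWc hfW ez ex _ hez hex
        fun x hx => by simp only [Function.comp_apply]; rw [hzl x hx]
      refine g₁.inv hS hUS (fun u hu => ?_) (fun u hu => ?_)
      · have hu' : u ∈ ex '' (X : Set Ω) := hex.2.2.symm ▸ hu
        obtain ⟨x, hx, rfl⟩ := hu'
        simp only [Function.comp_apply]
        rw [hc x hx, hzl _ (mapsTo_of_image hW hx), hfg x hx]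
      · have hu' : u ∈ ex '' (X : Set Ω) := hex.2.2.symm ▸ hu
        obtain ⟨x, hx, rfl⟩ := hu'
        rw [hc x hx]
        exact mapsTo_of_image hez.2.2 (mapsTo_of_image hW hx))
  have hall₂ : F ≤ E₂ := hgen E₂ fun Y hY φ hφ =>
    ⟨hφ, fun f hf X Z hXY hX hZ ex ez c hex hez hc =>
      hgm X Z _ f ex ez c (hgrow hX Y hY (source_le hφ) hXY) inf_le_left
        ((show Mor F Y f from ⟨φ, hφ, hf⟩).mono inf_le_right) hZ hex hez hc⟩
  have hgood : ∀ a, Mor F U a → a '' (U : Set Ω) = U → Good F p U a := fun a ha haU => by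
    obtain ⟨φ, hφ, he⟩ := ha
    exact (hall₂ U hφ).2 a he U U le_rfl hPU haU id id a
      ⟨mor_id (normalizerIn_le S U), fun _ h => h, Set.image_id _⟩
      ⟨mor_id (normalizerIn_le S U), fun _ h => h, Set.image_id _⟩ fun _ _ => rfl
  -- `W` is larger than `U`
  have hWS : wsub F p U ≤ S := wsub_le.trans (normalizerIn_le S U)
  have hUW : U < wsub F p U := by
    refine lt_of_le_of_ne (le_wsub hS hUS) fun he => ?_
    have hno : ∀ X, F.IsConj P X → ∀ g ∈ wsub F p X, g ∈ X := by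
      intro X hX g hg
      obtain ⟨e, hee, hem, heU⟩ := huniv X hX
      have h1 := wsub_transport hee (le_normalizerIn (hcl hX).1) heU (wsub_le hg) hg
      rw [← he, ← SetLike.mem_coe, ← heU] at h1
      obtain ⟨x, hx, hxg⟩ := h1
      exact hee.injOn (le_normalizerIn (hcl hX).1 hx) (wsub_le hg) hxg ▸ hx
    by_cases hcen : F.IsCentric P
    · obtain ⟨X, hX, hnot⟩ := hstar P hcen hPℋ
      refine hnot ?_
      rintro ξ ⟨hξ, κ, hκ, rfl⟩
      obtain ⟨g, hgN, hgS, hge⟩ := mem_autInducedBy_iff_conjAut.1 hξ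
      have hgX : g ∈ X := hno X hX g (mem_wsub.2 ⟨⟨hgS, hgN⟩, κ, hκ, fun x =>
        (congrArg (fun (α : MulAut X) => ((α x : X) : Ω)) hge).symm⟩)
      rw [inn_eq_autInducedBy, ← hge]
      exact conjAut_mem_autInducedBy hgX hgN
    · refine hcen ⟨hP, fun X hX g hg => hno X hX g (mem_wsub.2
        ⟨centralizerIn_le_normalizerIn S X hg, 1, one_mem _, fun x => ?_⟩)⟩
      exact ((mem_centralizerIn_iff_conj.1 hg).2 x x.2).symm
  obtain ⟨W₁, U₁, ψ, hT, hψ, hψW, hψU⟩ :=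
    exists_top hS hWS hUW.le (hbig _ hWS (hUc ▸ card_lt_card hWS hUW))
  obtain ⟨b₀, χ, hb₀, hb₀W, hb₀U, hχ, hχW', hχm, hχU'⟩ := lift hS hT hψ hUW.le hψW hψU
  have hNW : normalizerIn S U ≤ normalizerIn S (wsub F p U) := by
    intro g hg
    have := finite_of_le hWS
    refine ⟨hg.1, mem_normalizer_of_finite fun w hw => ?_⟩
    refine wsub_transport (mor_conj (normalizerIn_le S U) hg.1) (le_normalizerIn hUS) ?_
      (wsub_le hw) hw
    refine image_of_mapsTo (F := F) (mor_conj hUS hg.1) hUS ?_ le_rfl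
    exact fun x hx => conj_mem_of_mem_normalizer hg.2 hx
  rw [inf_eq_right.2 hNW] at hχ hχm
  have hχU : χ '' (U : Set Ω) = U₁ := by
    rw [Set.image_congr hχU']
    exact image_comp_eq hψU hb₀U
  have hχW : χ '' (wsub F p U : Set Ω) = W₁ := by
    rw [Set.image_congr fun x hx => hχW' x hx (wsub_le hx)]
    exact image_comp_eq hψW hb₀W
  obtain ⟨hW₁S, hUW₁, hrec, T, hTeq⟩ := hT
  have hU₁S : U₁ ≤ S := hUW₁.trans hW₁S
  have hU₁ : F.IsConj P U₁ := isConj_trans hPU ((hχ.mono (le_normalizerIn hUS)).isConj hχU)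
  have hχimg : χ '' (normalizerIn S U : Set Ω) = normalizerIn S U₁ := by
    obtain ⟨e₁, he₁, he₁m, -⟩ := huniv U₁ hU₁
    exact image_of_mapsTo hχ (normalizerIn_le S U₁)
      (hχm.mono_right fun _ h => (Subgroup.mem_inf.1 h).2)
      (card_le_of_mapsTo he₁ (normalizerIn_le S U) he₁m)
  have hN₁ : normalizerIn S U₁ ≤ normalizerIn S W₁ := fun y hy => by
    have hy' : y ∈ χ '' (normalizerIn S U : Set Ω) := hχimg.symm ▸ hy
    obtain ⟨x, hx, rfl⟩ := hy'
    exact (hχm hx).1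
  obtain ⟨χ', hχ', hχ'N, hχl, hχr⟩ := hχ.inv hχimg
  have hW₁N : W₁ ≤ normalizerIn S U₁ := le_of_image hχW hχimg wsub_le
  have hχ'U : χ' '' (U₁ : Set Ω) = U := by
    rw [← hχU, Set.image_image,
      Set.image_congr (g := id) fun x hx => hχl x (le_normalizerIn hUS hx), Set.image_id]
  have hχ'W : χ' '' (W₁ : Set Ω) = wsub F p U := by
    rw [← hχW, Set.image_image,
      Set.image_congr (g := id) fun x hx => hχl x (wsub_le hx), Set.image_id]
  -- automorphisms of `U₁` extend to `W₁`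
  have hext : ∀ a, Mor F U₁ a → a '' (U₁ : Set Ω) = U₁ →
      ∃ b, Mor F W₁ b ∧ b '' (W₁ : Set Ω) = W₁ ∧ ∀ x ∈ U₁, b x = a x := by
    intro a ha haU
    have hc : Mor F U ((χ' ∘ a) ∘ χ) := (hχ.mono (le_normalizerIn hUS)).comp (mapsTo_of_image hχU)
      (ha.comp (mapsTo_of_image haU) (hχ'.mono (le_normalizerIn hU₁S)))
    obtain ⟨κ, hκ, hκm, hκe⟩ := hgood _ hc (image_comp_eq hχU (image_comp_eq haU hχ'U))
    refine ⟨(χ ∘ κ) ∘ χ', (hχ'.mono hW₁N).comp (mapsTo_of_image hχ'W)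
      (hκ.comp hκm (hχ.mono wsub_le)),
      image_comp_eq hχ'W (image_comp_eq (image_of_mapsTo hκ hWS hκm le_rfl) hχW), fun x hx => ?_⟩
    simp only [Function.comp_apply]
    rw [hκe _ (mapsTo_of_image hχ'U hx)]
    simp only [Function.comp_apply]
    rw [hχr x (le_normalizerIn hU₁S hx), hχr _ (le_normalizerIn hU₁S (mapsTo_of_image haU hx))]
  have := finite_mulAut hW₁S
  have := finite_mulAut hU₁S
  have hres : ∀ α : stabAut F W₁ U₁, ∃ ρ : F.autGroup U₁,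
      ∀ x : U₁, (((ρ : MulAut U₁) x : U₁) : Ω) =
        (((α : MulAut W₁) ⟨x, hUW₁ x.2⟩ : W₁) : Ω) := by
    intro α
    obtain ⟨b, hb, -, hbe⟩ := exists_mor_of_aut hW₁S α.2.1
    obtain ⟨ρ, hρ, hρe⟩ := (hb.mono hUW₁).exists_aut (stabAut_image α.2 hUW₁ hbe)
    exact ⟨⟨ρ, hρ⟩, fun x => (hρe x).trans (hbe ⟨x, hUW₁ x.2⟩).symm⟩
  choose r₀ hr₀ using hres
  let r : stabAut F W₁ U₁ →* F.autGroup U₁ := MonoidHom.mk' r₀ fun α β => by
    ext x
    rw [hr₀]
    change _ = (((r₀ α : MulAut U₁) ((r₀ β : MulAut U₁) x) : U₁) : Ω)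
    rw [hr₀]
    exact congrArg (fun z : W₁ => (((α : MulAut W₁) z : W₁) : Ω)) (Subtype.ext (hr₀ β x).symm)
  have hsurj : Function.Surjective r := by
    rintro ⟨ρ, hρ⟩
    obtain ⟨a, ha, haU, hae⟩ := exists_mor_of_aut hU₁S hρ
    obtain ⟨b, hb, hbW, hba⟩ := hext a ha haU
    obtain ⟨β, hβ, hβe⟩ := hb.exists_aut hbW
    refine ⟨⟨β, mem_stabAut_of_mor hβ hUW₁ hb hβe (image_eq_of_congr haU hba)⟩, ?_⟩
    ext x
    rw [show r _ = r₀ _ from rfl, hr₀, hβe, hba x x.2, ← hae]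
  have hmap : ((T : Subgroup (stabAut F W₁ U₁)).map r).map (F.autGroup U₁).subtype =
      autInducedBy S U₁ := by
    rw [hTeq]
    ext ξ
    constructor
    · rintro ⟨_, ⟨t, ht, rfl⟩, rfl⟩
      obtain ⟨g, hg, hge⟩ := mem_autInducedBy.1 ht
      refine mem_autInducedBy.2 ⟨g, hg.1, fun x => ?_⟩
      rw [show r t = r₀ t from rfl, Subgroup.coe_subtype, hr₀]
      exact hge _
    · intro hξ
      obtain ⟨g, hgN, hgS, rfl⟩ := mem_autInducedBy_iff_conjAut.1 hξ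
      have hg₁ : g ∈ normalizerIn S W₁ := hN₁ ⟨hgS, hgN⟩
      let δ : stabAut F W₁ U₁ := ⟨conjAut hg₁.2, conjAut_mem_autGroup F hW₁S hgS hg₁.2,
        fun x => (Subgroup.mem_normalizer_iff.1 hgN x).symm⟩
      refine ⟨r δ, ⟨δ, conjAut_mem_autInducedBy (K := normalizerIn S U₁) ⟨hgS, hgN⟩ hg₁.2, rfl⟩, ?_⟩
      ext x
      rw [show r δ = r₀ δ from rfl, Subgroup.coe_subtype, hr₀]
      rfl
  refine ⟨U₁, hU₁, isFullyAutomized_of_card hU₁S ?_, hU₁S, ?_⟩
  · rw [← hmap, ← Nat.card_congr (Subgroup.equivMapOfInjective _ (F.autGroup U₁).subtype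
      Subtype.val_injective).toEquiv]
    exact (T.mapSurjective hsurj).card_eq_multiplicity
  -- receptivity
  intro Q φ hφ hr
  obtain ⟨f, hf, hfe⟩ := mor_of_hom hφ
  have hfU : f '' (Q : Set Ω) = U₁ := Mor.image_of_range (fun x => (hfe x).symm) hr
  have hQ : F.IsConj P Q := isConj_trans hU₁ (isConj_symm ⟨φ, hφ, hr⟩)
  obtain ⟨h, hh, hhm, hhU⟩ : Edge F Q U₁ := (huniv Q hQ).trans
    ⟨χ, hχ, hχm.mono_right (fun _ h => (Subgroup.mem_inf.1 h).2), hχU⟩
  have hQS : Q ≤ S := source_le hφ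
  obtain ⟨h', hh', hh'U, hhl, -⟩ := (hh.mono (le_normalizerIn hQS)).inv hhU
  obtain ⟨b, hb, hbW, hba⟩ :=
    hext (f ∘ h') (hh'.comp (mapsTo_of_image hh'U) hf) (image_comp_eq hh'U hfU)
  have hNext := extender_le_normalizerIn S Q φ
  obtain ⟨D, hD, -⟩ := (hh.mono hNext).exists_image
  have hDN : D ≤ normalizerIn S U₁ := fun d hd => by
    have hd' : d ∈ h '' (extender S Q φ : Set Ω) := hD.symm ▸ hd
    obtain ⟨g, hg, rfl⟩ := hd'
    exact hhm (hNext hg)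
  have hDW : D ≤ normalizerIn S W₁ := hDN.trans hN₁
  have hbU : b '' (U₁ : Set Ω) = U₁ :=
    image_eq_of_congr (image_comp_eq hh'U hfU) hba
  obtain ⟨φb, hφb, hφbe⟩ := hb
  have hrb := Mor.range_eq hφbe hbW
  set e := isoOf φb (F.injective_of_mem hφb) hrb with hedef
  set Z := (autInducedBy D W₁).map (MulAut.congr e).toMonoidHom with hZdef
  have hb : Mor F W₁ b := ⟨φb, hφb, hφbe⟩
  have hZs : Z ≤ stabAut F W₁ U₁ := by
    rintro _ ⟨ξ, hξ, rfl⟩
    refine ⟨(map_congr_autGroup F hφb hrb).le ⟨ξ, (autInducedBy_mono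
      (hDW.trans (normalizerIn_le S W₁))).trans (autInducedBy_le_autGroup F hW₁S) hξ, rfl⟩, ?_⟩
    obtain ⟨g, hg, hge⟩ := mem_autInducedBy.1 hξ
    rw [e.surjective.forall]
    intro x
    change ((e (ξ (e.symm (e x))) : W₁) : Ω) ∈ U₁ ↔ _
    have hiff : ∀ x : W₁, b x ∈ U₁ ↔ (x : Ω) ∈ U₁ := fun x => by
      rw [← SetLike.mem_coe, ← hbU, Set.mem_image]
      exact ⟨fun ⟨z, hz, hzy⟩ => hb.injOn (hUW₁ hz) x.2 hzy ▸ hz, fun h => ⟨x, h, rfl⟩⟩
    rw [e.symm_apply_apply]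
    simp only [hedef, isoOf_coe, hφbe]
    rw [hiff, hiff, hge x]
    exact (Subgroup.mem_normalizer_iff.1 (hDN hg).2 x).symm
  let Y : Subgroup (stabAut F W₁ U₁) :=
    ((autInducedBy S U₁).subgroupOf (F.autGroup U₁)).comap r
  have hTY : (T : Subgroup (stabAut F W₁ U₁)) ≤ Y := fun t ht =>
    hmap.le ⟨r t, ⟨t, ht, rfl⟩, rfl⟩
  have hhconj : ∀ {g x : Ω}, g ∈ normalizerIn S Q → x ∈ Q →
      h (g * x * g⁻¹) = h g * h x * (h g)⁻¹ := fun hg hx =>
    hh.map_conj hg (le_normalizerIn hQS hx)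
  have hZY : Z.subgroupOf (stabAut F W₁ U₁) ≤ Y := by
    rintro ⟨ζ, hζs⟩ ⟨ξ, hξ, rfl⟩
    obtain ⟨d, hd, hde⟩ := mem_autInducedBy.1 hξ
    have hd' : d ∈ h '' (extender S Q φ : Set Ω) := hD.symm ▸ hd
    obtain ⟨g, hg, rfl⟩ := hd'
    obtain ⟨-, hgN, k, hk, hke⟩ := mem_extender.1 hg
    refine mem_autInducedBy.2 ⟨k, hk, fun x => ?_⟩
    obtain ⟨y, hy⟩ : ∃ y : Q, b (h y) = (x : Ω) := by
      have hx : (x : Ω) ∈ (b ∘ h) '' (Q : Set Ω) := by
        rw [image_comp_eq hhU hbU]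
        exact x.2
      obtain ⟨y, hy, hye⟩ := hx
      exact ⟨⟨y, hy⟩, hye⟩
    have hbh : ∀ {z : Ω}, z ∈ Q → b (h z) = f z := fun hz => by
      rw [hba _ (mapsTo_of_image hhU hz), Function.comp_apply, hhl _ hz]
    rw [Subgroup.coe_subtype, show r _ = r₀ _ from rfl, hr₀]
    have he1 : (⟨x, hUW₁ x.2⟩ : W₁) = e ⟨h y, hUW₁ (mapsTo_of_image hhU y.2)⟩ :=
      Subtype.ext (by rw [hedef, isoOf_coe, hφbe]; exact hy.symm)
    rw [he1]
    change ((e (ξ (e.symm (e _))) : W₁) : Ω) = _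
    rw [e.symm_apply_apply, hedef, isoOf_coe, hφbe, hde]
    simp only
    rw [← hhconj (hNext hg) y.2, hbh (conj_mem_of_mem_normalizer hgN y.2), ← hy, hbh y.2,
      hfe ⟨_, conj_mem_of_mem_normalizer hgN y.2⟩, hke y, hfe y]
  have hZp : IsPGroup p (Z.subgroupOf (stabAut F W₁ U₁)) :=
    (((isPGroup_autInducedBy hS W₁).to_le
      (autInducedBy_mono (hDW.trans (normalizerIn_le S W₁)))).map _).of_equiv
      (Subgroup.subgroupOfEquivOfLe hZs).symm
  obtain ⟨V, hV⟩ := (hZp.of_equiv (Subgroup.subgroupOfEquivOfLe hZY).symm).exists_le_sylow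
  obtain ⟨y, hy⟩ := MulAction.exists_smul_eq Y V (T.subtype hTY)
  obtain ⟨t, ht, htr⟩ : ∃ t ∈ (T : Subgroup (stabAut F W₁ U₁)), r t = r y.1 := by
    obtain ⟨_, ⟨t, ht, rfl⟩, he⟩ := hmap.ge (show ((r y.1 : F.autGroup U₁) : MulAut U₁) ∈
      autInducedBy S U₁ from y.2)
    exact ⟨t, ht, Subtype.ext he⟩
  let c : stabAut F W₁ U₁ := t⁻¹ * y.1
  obtain ⟨cf, hcf, hcfW, hce⟩ := exists_mor_of_aut hW₁S c.2.1
  have hcid : ∀ x ∈ U₁, cf x = x := fun x hx => by
    have h1 : r c = 1 := by rw [map_mul, map_inv, htr, inv_mul_cancel]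
    rw [← hce ⟨x, hUW₁ hx⟩, ← hr₀ c ⟨x, hx⟩, show r₀ c = r c from rfl, h1]
    rfl
  obtain ⟨E, χE, hWE, -, hχE, hχEe, hEmem⟩ :=
    extend_of_receptive hrec (hb.comp (mapsTo_of_image hbW) hcf) (image_comp_eq hbW hcfW)
  have hDE : D ≤ E := fun d hd => hEmem d (hDW hd) <| by
    let ξ := conjAut (hDW hd).2
    have hξ : ξ ∈ autInducedBy D W₁ := conjAut_mem_autInducedBy hd _
    let ζ : stabAut F W₁ U₁ := ⟨MulAut.congr e ξ, hZs ⟨ξ, hξ, rfl⟩⟩
    have hζY : ζ ∈ Y := hZY ⟨ξ, hξ, rfl⟩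
    have h2 : y * ⟨ζ, hζY⟩ * y⁻¹ ∈ (T.subtype hTY : Subgroup Y) := by
      rw [← hy, Sylow.coe_subgroup_smul]
      exact ⟨_, hV (show (⟨ζ, hζY⟩ : Y) ∈ _ from ⟨ξ, hξ, rfl⟩), rfl⟩
    have h3 : y.1 * ζ * y.1⁻¹ ∈ (T : Subgroup (stabAut F W₁ U₁)) := h2
    have h4 : c * ζ * c⁻¹ ∈ (T : Subgroup (stabAut F W₁ U₁)) := by
      have := mul_mem (mul_mem (inv_mem ht) h3) ht
      simpa [c, mul_assoc] using this
    rw [hTeq] at h4
    obtain ⟨k, hk, hke⟩ := mem_autInducedBy.1 (show (c : MulAut W₁) * MulAut.congr e ξ *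
      (c : MulAut W₁)⁻¹ ∈ autInducedBy (normalizerIn S U₁) W₁ from h4)
    refine ⟨k, hk.1, fun x hx => ?_⟩
    have := hke ((c : MulAut W₁) (e ⟨x, hx⟩))
    rw [mulAut_conj_apply] at this
    change (((c : MulAut W₁) (e (ξ (e.symm (e ⟨x, hx⟩)))) : W₁) : Ω) = _ at this
    rw [e.symm_apply_apply, hce, hce] at this
    simp only [hedef, isoOf_coe, hφbe] at this
    exact this
  obtain ⟨ψ', hψ', hψe⟩ := (hh.mono hNext).comp (mapsTo_of_image hD) (hχE.mono hDE)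
  refine ⟨ψ', hψ', fun x hxQ hxN => ?_⟩
  have hx₁ : h x ∈ U₁ := mapsTo_of_image hhU hxQ
  rw [hψe, ← hfe ⟨x, hxQ⟩]
  simp only [Function.comp_apply]
  rw [hχEe _ (hUW₁ hx₁)]
  simp only [Function.comp_apply]
  rw [hba _ hx₁, Function.comp_apply, hhl x hxQ, hcid _ (mapsTo_of_image hfU hxQ)]

/-- The saturation criterion. -/
theorem isSaturated_of_generated {p : ℕ} [Fact p.Prime] [Finite S] (hS : IsPGroup p S)
    (ℋ : Set (Subgroup Ω)) (hℋconj : ∀ R ∈ ℋ, ∀ Q, F.IsConj R Q → Q ∈ ℋ)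
    (hsat : ∀ R ∈ ℋ, ∃ Q, F.IsConj R Q ∧ F.IsFullyAutomized p Q ∧ F.IsReceptive Q)
    (hgen : ∀ E : FusionSystem S, (∀ R ∈ ℋ, F.Hom R ⊆ E.Hom R) → F ≤ E)
    (hstar : ∀ R : Subgroup Ω, F.IsCentric R → R ∉ ℋ → ∃ Q, F.IsConj R Q ∧
      ¬ (autInducedBy S Q ⊓ (pCore p ↥(F.autGroup Q)).map (F.autGroup Q).subtype ≤ Inn Q)) :
    F.IsSaturated p := by
  have key : ∀ m, ∀ P : Subgroup Ω, P ≤ S → Nat.card S ≤ Nat.card P + m →
      ∃ Q, F.IsConj P Q ∧ F.IsFullyAutomized p Q ∧ F.IsReceptive Q := by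
    intro m
    induction m using Nat.strong_induction_on with
    | _ m ih =>
      intro P hP hm
      by_cases hPℋ : P ∈ ℋ
      · exact hsat P hPℋ
      rcases hP.eq_or_lt with rfl | hlt
      · exfalso
        have hc : F.IsCentric P := ⟨le_rfl, fun Q hQ => by
          rw [isConj_self_top F hQ]
          exact centralizerIn_le _ _⟩
        obtain ⟨Q, hQ, hnot⟩ := hstar P hc hPℋ
        rw [isConj_self_top F hQ, autInducedBy_self] at hnot
        exact hnot inf_le_left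
      · have hc := card_lt_card le_rfl hlt
        refine saturated_level hS ℋ hℋconj hgen hstar hP hPℋ hc fun R hR hRc => ?_
        exact ih (Nat.card S - Nat.card R) (by omega) R hR (by omega)
  exact fun P hP => key (Nat.card S) P hP (Nat.le_add_left _ _)

end Cfsg.Agent.Lib.Fusion.Criterion
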