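import Cfsg.Agent.Lib.Fusion.KNormalizer
import Cfsg.Prelude.Def_TwoFusion

/-!
Saturated systems over `S = S₁ × S₂` with both factors strongly closed.
-/

set_option autoImplicit false
set_option linter.unusedSectionVars false

namespace Cfsg.Agent.Lib.Fusion.DirectFactors

open Cfsg Cfsg.FusionSystem Cfsg.Agent.Lib.Fusion

variable {Ω : Type*} [Group Ω] {p : ℕ} [Fact p.Prime]

theorem range_sup_le {A B C : Subgroup Ω} (φ : ↥(A ⊔ B) →* Ω)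
    (hA : ∀ v (hv : v ∈ A), φ ⟨v, Subgroup.mem_sup_left hv⟩ ∈ C)
    (hB : ∀ v (hv : v ∈ B), φ ⟨v, Subgroup.mem_sup_right hv⟩ ∈ C) : ∀ x, φ x ∈ C := by
  have hle : A ⊔ B ≤ (C.comap φ).map (A ⊔ B).subtype :=
    sup_le (fun v hv => ⟨⟨v, Subgroup.mem_sup_left hv⟩, hA v hv, rfl⟩)
      (fun v hv => ⟨⟨v, Subgroup.mem_sup_right hv⟩, hB v hv, rfl⟩)
  rintro ⟨x, hx⟩
  obtain ⟨y, hy, he⟩ := hle hx
  rw [show (⟨x, hx⟩ : ↥(A ⊔ B)) = y from Subtype.ext he.symm]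
  exact hy

/-- The restriction of a saturated system to a strongly closed direct factor is saturated. -/
theorem restrict_isSaturated {T S₁ : Subgroup Ω} [Finite T] {E : FusionSystem T}
    (hE : E.IsSaturated p) (hST : S₁ ≤ T)
    (hK : ∀ g ∈ T, ∃ a ∈ S₁, ∀ x ∈ S₁, g * x * g⁻¹ = a * x * a⁻¹) (hcl : E.StronglyClosed S₁)
    {R : FusionSystem S₁} (hR : ∀ P : Subgroup Ω, P ≤ S₁ → R.Hom P = E.Hom P) :
    R.IsSaturated p := by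
  intro P hP
  obtain ⟨Q, ⟨φ, hφ, hr⟩, ⟨-, T₀, hT₀⟩, -, hrec⟩ := hE P (hP.trans hST)
  have hQ : Q ≤ S₁ := by
    rw [← hr]; rintro _ ⟨v, rfl⟩; exact hcl.2 P hP φ hφ v
  have hind : autInducedBy T Q = autInducedBy S₁ Q := by
    refine le_antisymm (fun α hα => ?_) (autInducedBy_mono hST)
    obtain ⟨g, hg, he⟩ := mem_autInducedBy.1 hα
    obtain ⟨a, ha, hga⟩ := hK g hg
    exact mem_autInducedBy.2 ⟨a, ha, fun x => by rw [he x, hga _ (hQ x.2)]⟩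
  have haut : R.autGroup Q = E.autGroup Q := by
    unfold FusionSystem.autGroup
    rw [hR Q hQ]
  refine ⟨Q, ⟨φ, by rw [hR P hP]; exact hφ, hr⟩, ⟨hQ, ?_⟩, hQ, fun P' φ' hφ' hr' => ?_⟩
  · rw [haut, ← hind]
    exact ⟨T₀, hT₀⟩
  · have hP' : P' ≤ S₁ := source_le hφ'
    rw [hR P' hP'] at hφ'
    obtain ⟨ψ, hψ, hext⟩ := hrec P' φ' hφ' hr'
    have hle : extender S₁ P' φ' ≤ extender T P' φ' := by
      intro g hg
      obtain ⟨hgS, hgN, a, ha, he⟩ := mem_extender.1 hg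
      exact mem_extender.2 ⟨hST hgS, hgN, a, hST ha, he⟩
    refine ⟨restr hle ψ, ?_, fun x hx hxN => hext x hx (hle hxN)⟩
    rw [hR _ (extender_le S₁ P' φ')]
    exact restr_mem E hψ hle

variable {S : Subgroup Ω} [Finite S] {F : FusionSystem S} {S₁ S₂ : Subgroup Ω}

/-- Maps defined inside one factor extend over the other factor. -/
theorem exists_extend_sup (hS : IsPGroup p S) (hF : F.IsSaturated p) (h₁ : F.StronglyClosed S₁)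
    (h₂ : F.StronglyClosed S₂) (hcomm : ∀ a ∈ S₁, ∀ b ∈ S₂, a * b = b * a) {P : Subgroup Ω}
    (hP : P ≤ S₁) {φ : P →* Ω} (hφ : φ ∈ F.Hom P) :
    ∃ ψ ∈ F.Hom (P ⊔ S₂), (∀ v (hv : v ∈ P), ψ ⟨v, Subgroup.mem_sup_left hv⟩ = φ ⟨v, hv⟩) ∧
      ∀ v (hv : v ∈ S₂), ψ ⟨v, Subgroup.mem_sup_right hv⟩ ∈ S₂ := by
  have hPS : P ≤ S := hP.trans h₁.1
  obtain ⟨Q₀, ⟨χ, hχ, hχr⟩, -, hrec⟩ := hF P hPS
  obtain ⟨ι, hι, hιr, hι1, hι2⟩ := exists_inv F hφ rfl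
  have hQ : φ.range ≤ S₁ := by rintro _ ⟨v, rfl⟩; exact h₁.2 P hP φ hφ v
  -- extensions of maps onto `Q₀`
  have key : ∀ (R : Subgroup Ω), R ≤ S₁ → ∀ θ ∈ F.Hom R, θ.range = Q₀ →
      ∃ Θ ∈ F.Hom (R ⊔ S₂), (∀ v (hv : v ∈ R), Θ ⟨v, Subgroup.mem_sup_left hv⟩ = θ ⟨v, hv⟩) ∧
        (∀ v (hv : v ∈ S₂), Θ ⟨v, Subgroup.mem_sup_right hv⟩ ∈ S₂) ∧ Θ.range = Q₀ ⊔ S₂ := by
    intro R hR θ hθ hθr
    have hle : R ⊔ S₂ ≤ extender S R θ := by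
      refine sup_le (le_extender (hR.trans h₁.1) (apply_mem hθ)) fun g hg => ?_
      exact centralizerIn_le_extender θ (mem_centralizerIn.2 ⟨h₂.1 hg, fun v hv => hcomm v (hR hv) g hg⟩)
    obtain ⟨Θ, hΘ, hext⟩ := hrec.2 R θ hθ hθr
    have hm : ∀ v (hv : v ∈ S₂), restr hle Θ ⟨v, Subgroup.mem_sup_right hv⟩ ∈ S₂ := fun v hv =>
      h₂.2 S₂ le_rfl (restr (le_sup_right.trans hle) Θ) (restr_mem F hΘ _) ⟨v, hv⟩
    refine ⟨restr hle Θ, restr_mem F hΘ hle, fun v hv => hext v hv _, hm, le_antisymm ?_ (sup_le ?_ ?_)⟩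
    · rintro _ ⟨v, rfl⟩
      refine range_sup_le (C := Q₀ ⊔ S₂) _ (fun w hw => ?_)
        (fun w hw => Subgroup.mem_sup_right (hm w hw)) v
      refine Subgroup.mem_sup_left ?_
      rw [← hθr]
      exact ⟨⟨w, hw⟩, (hext w hw _).symm⟩
    · rw [← hθr]
      rintro _ ⟨⟨w, hw⟩, rfl⟩
      exact ⟨⟨w, Subgroup.mem_sup_left hw⟩, hext w hw _⟩
    · have := finite_of_le h₂.1
      have e : img (restr hle Θ) S₂ = S₂ := by
        refine eq_of_le_of_card ?_ (card_img (F.injective_of_mem (restr_mem F hΘ hle)) le_sup_right).ge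
        intro w hw
        obtain ⟨u, hu, hu₂, rfl⟩ := mem_img.1 hw
        exact hm u hu₂
      exact e.ge.trans (img_le_range _ _)
  obtain ⟨Χ₁, hΧ₁, he₁, hs₁, hr₁⟩ := key P hP χ hχ hχr
  have hm : ∀ v, ι v ∈ P := fun v => hιr.le ⟨v, rfl⟩
  have hθ : compose ι χ hm ∈ F.Hom φ.range := compose_mem F hι hχ hm
  have hθr : (compose ι χ hm).range = Q₀ := by rw [range_compose, hιr, img_self, hχr]
  obtain ⟨Χ₂, hΧ₂, he₂, hs₂, hr₂⟩ := key φ.range hQ _ hθ hθr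
  obtain ⟨Ψ, hΨ, -, hΨl, -⟩ := exists_inv F hΧ₂ hr₂
  have hmem : ∀ v, Χ₁ v ∈ Q₀ ⊔ S₂ := fun v => hr₁.le ⟨v, rfl⟩
  refine ⟨compose Χ₁ Ψ hmem, compose_mem F hΧ₁ hΨ hmem, fun v hv => ?_, fun v hv => ?_⟩
  · rw [compose_apply]
    have hmv : φ ⟨v, hv⟩ ∈ φ.range := ⟨_, rfl⟩
    have e : Χ₁ ⟨v, Subgroup.mem_sup_left hv⟩ = Χ₂ ⟨φ ⟨v, hv⟩, Subgroup.mem_sup_left hmv⟩ := by
      rw [he₁ v hv, he₂ _ hmv, compose_apply]
      exact congrArg χ (Subtype.ext (hι1 ⟨v, hv⟩ hmv).symm)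
    simp only [e]
    exact hΨl ⟨φ ⟨v, hv⟩, Subgroup.mem_sup_left hmv⟩ _
  · rw [compose_apply]
    exact h₂.2 S₂ le_rfl (restr le_sup_right Ψ) (restr_mem F hΨ le_sup_right) ⟨_, hs₁ v hv⟩

/-- An automorphism of one factor extends to one of `S`. -/
theorem exists_extend_top (hS : IsPGroup p S) (hF : F.IsSaturated p) (h₁ : F.StronglyClosed S₁)
    (h₂ : F.StronglyClosed S₂) (hcomm : ∀ a ∈ S₁, ∀ b ∈ S₂, a * b = b * a) (hsup : S₁ ⊔ S₂ = S)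
    {φ : S₁ →* Ω} (hφ : φ ∈ F.Hom S₁) :
    ∃ ψ ∈ F.Hom S, ∃ ψ' ∈ F.Hom S, (∀ v (hv : v ∈ S₁), ψ ⟨v, h₁.1 hv⟩ = φ ⟨v, hv⟩) ∧
      (∀ v (h : ψ' v ∈ S), ψ ⟨ψ' v, h⟩ = v) ∧ (∀ v (h : ψ v ∈ S), ψ' ⟨ψ v, h⟩ = v) := by
  obtain ⟨ψ, hψ, he, -⟩ := exists_extend_sup hS hF h₁ h₂ hcomm le_rfl hφ
  have hψ' : restr hsup.ge ψ ∈ F.Hom S := restr_mem F hψ hsup.ge
  have hr : (restr hsup.ge ψ).range = S :=
    eq_of_le_of_card (range_le hψ') (card_range_eq (F.injective_of_mem hψ')).ge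
  obtain ⟨ι, hι, -, hl, hr'⟩ := exists_inv F hψ' hr
  exact ⟨_, hψ', ι, hι, fun v hv => he v hv, fun v h => hr' v h, fun v h => hl v h⟩

end Cfsg.Agent.Lib.Fusion.DirectFactors
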