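import Cfsg.Agent.Lib.Fusion.Inner
import Cfsg.Agent.Lib.Fusion.Aut
import Mathlib.Data.ZMod.Basic

/-!
An abelian `2`-group with distinct invariants has no automorphism of odd order.
-/

set_option autoImplicit false

namespace Cfsg.Agent.Lib.Fusion

theorem zmod_two_torsion {k : ℕ} (hk : 1 ≤ k) {z : ZMod (2 ^ k)} (h : 2 • z = 0) (hz : z ≠ 0) :
    z = ((2 ^ (k - 1) : ℕ) : ZMod (2 ^ k)) := by
  have : NeZero (2 ^ k) := ⟨by positivity⟩
  have h1 : ((2 * z.val : ℕ) : ZMod (2 ^ k)) = 0 := by
    rw [Nat.cast_mul, ZMod.natCast_zmod_val, ← h, nsmul_eq_mul]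
  rw [ZMod.natCast_eq_zero_iff] at h1
  obtain ⟨c, hc⟩ := h1
  have hlt := z.val_lt
  have hpos : z.val ≠ 0 := fun h0 => hz (by rwa [ZMod.val_eq_zero] at h0)
  have h2 : 2 ^ k = 2 * 2 ^ (k - 1) := by rw [← pow_succ', Nat.sub_add_cancel hk]
  have hc1 : c = 1 := by
    have hc2 : c < 2 := by
      by_contra h'
      have := Nat.mul_le_mul_left (2 ^ k) (not_lt.1 h')
      omega
    have hc0 : c ≠ 0 := by
      rintro rfl
      omega
    omega
  rw [hc1, mul_one] at hc
  rw [← ZMod.natCast_zmod_val z, show z.val = 2 ^ (k - 1) by omega]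

variable {n : ℕ} {a : Fin n → ℕ}

/-- An odd-order endomorphism of a group with distinct invariants is the identity. -/
theorem eq_self_of_distinct (ha : StrictMono a) (ha1 : ∀ i, 1 ≤ a i)
    (f : ((i : Fin n) → ZMod (2 ^ a i)) →+ ((i : Fin n) → ZMod (2 ^ a i)))
    (hf : Function.Injective f) {m : ℕ} (hm : Odd m) (hfm : ∀ x, f^[m] x = x) :
    ∀ x, f x = x := by
  have step : ∀ x, f (f x - x) = f x - x → 2 • (f x - x) = 0 → f x = x := by
    intro x hd h2
    have hit : ∀ k : ℕ, f^[k] x = x + k • (f x - x) := by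
      intro k
      induction k with
      | zero => simp
      | succ k ih =>
        rw [Function.iterate_succ_apply', ih, map_add, map_nsmul, hd, succ_nsmul]
        abel
    have h := hit m
    obtain ⟨l, rfl⟩ := hm
    rw [hfm, left_eq_add, add_nsmul, one_nsmul, mul_comm, mul_nsmul', h2, nsmul_zero, zero_add,
      sub_eq_zero] at h
    exact h
  have tors : ∀ (i : Fin n) (x : (i : Fin n) → ZMod (2 ^ a i)), 2 • x = 0 →
      (∀ j, j < i → x j = 0) → ∀ j, ∃ w, x j = (2 ^ (a i - 1)) • w := by
    intro i x hx hlow j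
    by_cases hxj : x j = 0
    · exact ⟨0, by rw [hxj, nsmul_zero]⟩
    refine ⟨((2 ^ (a j - a i) : ℕ) : ZMod (2 ^ a j)), ?_⟩
    have hij : i ≤ j := le_of_not_gt fun h => hxj (hlow j h)
    rw [zmod_two_torsion (ha1 j) (congrFun hx j) hxj, nsmul_eq_mul, ← Nat.cast_mul, ← pow_add]
    congr 2
    have := ha.monotone hij
    have := ha1 i
    omega
  have flag : ∀ d : ℕ, ∀ x : (i : Fin n) → ZMod (2 ^ a i), 2 • x = 0 →
      (∀ j : Fin n, (j : ℕ) + d < n → x j = 0) → f x = x := by
    intro d
    induction d with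
    | zero =>
      intro x _ hlow
      rw [show x = 0 from funext fun j => hlow j (by have := j.2; omega), map_zero]
    | succ d ih =>
      intro x hx hlow
      by_cases hd : n ≤ d
      · exact ih x hx fun j hj => absurd hj (by omega)
      let i : Fin n := ⟨n - (d + 1), by omega⟩
      have hlow' : ∀ j, j < i → x j = 0 := fun j hj => hlow j (by
        have : (j : ℕ) < n - (d + 1) := hj
        omega)
      by_cases hxi : x i = 0
      · refine ih x hx fun j hj => ?_
        rcases lt_or_eq_of_le (show (j : ℕ) ≤ n - (d + 1) by omega) with h | h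
        · exact hlow j (by omega)
        · rw [show j = i from Fin.ext h, hxi]
      choose w hw using tors i x hx hlow'
      have hfx : f x = (2 ^ (a i - 1)) • f w := by
        rw [← map_nsmul]
        exact congrArg f (funext hw)
      have hfx2 : 2 • f x = 0 := by rw [← map_nsmul, hx, map_zero]
      have hfl : ∀ j, j < i → f x j = 0 := by
        intro j hj
        rw [hfx, Pi.smul_apply, nsmul_eq_mul]
        have := ha hj
        obtain ⟨c, hc⟩ := Nat.exists_eq_add_of_le (show a j ≤ a i - 1 by omega)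
        rw [hc, pow_add, Nat.cast_mul, ZMod.natCast_self, zero_mul, zero_mul]
      have hfi : f x i = x i := by
        by_cases h0 : f x i = 0
        · exfalso
          have h1 : f (f x) = f x := ih (f x) hfx2 fun j hj => by
            rcases lt_or_eq_of_le (show (j : ℕ) ≤ n - (d + 1) by omega) with h | h
            · exact hfl j h
            · rw [show j = i from Fin.ext h, h0]
          rw [hf h1] at h0
          exact hxi h0
        · rw [zmod_two_torsion (ha1 i) (congrFun hfx2 i) h0,
            zmod_two_torsion (ha1 i) (congrFun hx i) hxi]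
      have h2 : 2 • (f x - x) = 0 := by rw [nsmul_sub, hfx2, hx, sub_zero]
      refine step x (ih _ h2 fun j hj => ?_) h2
      rcases lt_or_eq_of_le (show (j : ℕ) ≤ n - (d + 1) by omega) with h | h
      · rw [Pi.sub_apply, hfl j h, hlow' j h, sub_zero]
      · rw [show j = i from Fin.ext h, Pi.sub_apply, hfi, sub_self]
  have hall : ∀ k : ℕ, ∀ x : (i : Fin n) → ZMod (2 ^ a i), (2 ^ k) • x = 0 → f x = x := by
    intro k
    induction k with
    | zero =>
      intro x hx
      rw [pow_zero, one_nsmul] at hx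
      rw [hx, map_zero]
    | succ k ih =>
      intro x hx
      have h1 := ih (2 • x) (by rwa [← mul_nsmul', ← pow_succ])
      rw [map_nsmul] at h1
      have h2 : 2 • (f x - x) = 0 := by rw [nsmul_sub, h1, sub_self]
      exact step x (flag n _ h2 fun j hj => absurd hj (by omega)) h2
  intro x
  refine hall (∑ i, a i) x (funext fun j => ?_)
  rw [Pi.smul_apply, nsmul_eq_mul]
  obtain ⟨c, hc⟩ := Nat.exists_eq_add_of_le
    (Finset.single_le_sum (fun i _ => Nat.zero_le (a i)) (Finset.mem_univ j))
  rw [hc, pow_add, Nat.cast_mul, ZMod.natCast_self, zero_mul, zero_mul]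
  rfl

open Cfsg Cfsg.FusionSystem

/-- Only the inner system lives on an abelian `2`-group with distinct invariants. -/
theorem inner_of_distinct {Ω : Type*} [Group Ω] {S : Subgroup Ω} [Finite S] (ha : StrictMono a)
    (ha1 : ∀ i, 1 ≤ a i) (e : ↥S ≃* Multiplicative ((i : Fin n) → ZMod (2 ^ a i)))
    (F : FusionSystem S) (hF : F.IsSaturated 2) (P : Subgroup Ω) :
    F.Hom P = (innerFusionSystem S).Hom P := by
  have hab : ∀ x ∈ S, ∀ y ∈ S, x * y = y * x := fun x hx y hy =>
    congrArg Subtype.val (e.injective (by rw [map_mul, map_mul, mul_comm]) :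
      (⟨x, hx⟩ : S) * ⟨y, hy⟩ = ⟨y, hy⟩ * ⟨x, hx⟩)
  have : Fact (Nat.Prime 2) := ⟨Nat.prime_two⟩
  have hS : IsPGroup 2 S := fun x => by
    refine ⟨∑ i, a i, e.injective ?_⟩
    rw [map_pow, map_one]
    refine Multiplicative.toAdd.injective (funext fun j => ?_)
    rw [toAdd_pow, toAdd_one, Pi.smul_apply, nsmul_eq_mul]
    obtain ⟨c, hc⟩ := Nat.exists_eq_add_of_le
      (Finset.single_le_sum (fun i _ => Nat.zero_le (a i)) (Finset.mem_univ j))
    rw [hc, pow_add, Nat.cast_mul, ZMod.natCast_self, zero_mul, zero_mul]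
    rfl
  have hn := isNormal_top_of_abelian hS hF hab
  have hfn : F.IsFullyNormalized S := ⟨le_rfl, fun R _ => by
    rw [show normalizerIn S S = S from
      le_antisymm (normalizerIn_le S S) (le_normalizerIn le_rfl)]
    exact Subgroup.card_le_of_le (normalizerIn_le S R)⟩
  have haut : ∀ α ∈ F.autGroup S, α = 1 := by
    have := finite_mulAut (le_refl S)
    obtain ⟨-, R, hR⟩ := (IsSaturated.automized_receptive hS hF hfn).1
    have hbot : (R : Subgroup (F.autGroup S)) = ⊥ := by
      refine (Subgroup.eq_bot_iff_forall _).2 fun r hr => Subtype.ext ?_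
      rw [hR, Subgroup.mem_subgroupOf, mem_autInducedBy] at hr
      obtain ⟨g, hg, hge⟩ := hr
      refine MulEquiv.ext fun x => Subtype.ext ?_
      rw [hge, hab g hg x x.2, mul_inv_cancel_right]
      rfl
    intro α hα
    have hodd : Odd (orderOf α) := by
      have h := R.not_dvd_index
      rw [hbot, Subgroup.index_bot] at h
      rw [Nat.odd_iff, ← Nat.two_dvd_ne_zero]
      exact fun hd => h (hd.trans ((Subgroup.orderOf_mk α hα).symm ▸ orderOf_dvd_natCard _))
    let f : ((i : Fin n) → ZMod (2 ^ a i)) →+ ((i : Fin n) → ZMod (2 ^ a i)) :=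
      AddMonoidHom.mk' (fun x => (e (α (e.symm (Multiplicative.ofAdd x)))).toAdd) fun x y => by
        rw [ofAdd_add, map_mul, map_mul, map_mul]
        rfl
    have hfe : ∀ x : S, f (e x).toAdd = (e (α x)).toAdd := fun x => by
      show (e (α (e.symm (Multiplicative.ofAdd (e x).toAdd)))).toAdd = _
      rw [ofAdd_toAdd, e.symm_apply_apply]
    have hit : ∀ (k : ℕ) (x : S), f^[k] (e x).toAdd = (e ((α ^ k) x)).toAdd := by
      intro k
      induction k with
      | zero => intro x; rfl
      | succ k ih =>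
        intro x
        rw [Function.iterate_succ_apply', ih, hfe, pow_succ', MulAut.mul_apply]
    have h1 := eq_self_of_distinct ha ha1 f
      (fun x y h => Multiplicative.ofAdd.injective (e.symm.injective (α.injective (e.injective
        (Multiplicative.toAdd.injective h))))) hodd fun x => by
      have h2 := hit (orderOf α) (e.symm (Multiplicative.ofAdd x))
      rw [pow_orderOf_eq_one, MulAut.one_apply, e.apply_symm_apply, toAdd_ofAdd] at h2
      exact h2
    refine MulEquiv.ext fun x => e.injective (Multiplicative.toAdd.injective ?_)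
    rw [MulAut.one_apply, ← hfe, h1]
  refine Set.Subset.antisymm (fun φ hφ => ?_) ?_
  · have hP := source_le hφ
    obtain ⟨ψ, hψ, hψe, hψS⟩ := hn.2 P φ hφ
    have hc := restr_mem F hψ (le_sup_right : S ≤ P ⊔ S)
    have hcr : (restr le_sup_right ψ).range = S := (range_restr _ ψ).trans hψS
    have h1 := haut (isoOf _ (F.injective_of_mem hc) hcr) (mem_autGroup_of_hom F (by
      rw [show autHom (isoOf _ (F.injective_of_mem hc) hcr) = restr le_sup_right ψ from
        MonoidHom.ext fun w => rfl]
      exact hc))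
    refine ⟨hP, 1, S.one_mem, fun x => ?_⟩
    rw [one_mul, inv_one, mul_one, ← hψe x]
    exact congrArg Subtype.val (MulEquiv.congr_fun h1 ⟨x, hP x.2⟩)
  · rintro φ ⟨hP, g, hg, hge⟩
    rw [show φ = conjHom P g from MonoidHom.ext hge]
    exact F.conj_mem hP hg

end Cfsg.Agent.Lib.Fusion
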