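import Cfsg.Agent.Lib.Fusion.Essential
import Cfsg.Agent.Lib.Fusion.NormalCriteria

/-!
An essential subgroup has no invariant series with factors of prime order.
-/

set_option autoImplicit false

namespace Cfsg.Agent.Lib.Fusion

open Cfsg Cfsg.FusionSystem

/-- An automorphism of `p`-power order acts trivially on an invariant factor of order `p`. -/
theorem mulAut_fix_of_prime_factor {P : Type*} [Group P] {p k : ℕ} [Fact p.Prime] (α : MulAut P)
    (hα : α ^ p ^ k = 1) (U V : Subgroup P) [U.Normal] (hU : ∀ x ∈ U, α x ∈ U)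
    (hV : ∀ x ∈ V, α x ∈ V) (hidx : U.relIndex V ∣ p) {x : P} (hx : x ∈ V) :
    x⁻¹ * α x ∈ U := by
  classical
  have hp : p.Prime := Fact.out
  let αV : V →* V := (α.toMonoidHom.comp V.subtype).codRestrict V fun y => hV _ y.2
  let β : V ⧸ U.subgroupOf V →* V ⧸ U.subgroupOf V :=
    QuotientGroup.map (U.subgroupOf V) (U.subgroupOf V) αV fun y hy => hU _ hy
  let xb : V ⧸ U.subgroupOf V := QuotientGroup.mk (⟨x, hx⟩ : V)
  suffices h : β xb = xb by
    have h' : (QuotientGroup.mk (⟨x, hx⟩ : V) : V ⧸ U.subgroupOf V) =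
        QuotientGroup.mk (αV ⟨x, hx⟩) := h.symm
    have h'' := QuotientGroup.eq.1 h'
    exact h''
  by_cases h1 : xb = 1
  · rw [h1, map_one]
  have hcard : Nat.card (V ⧸ U.subgroupOf V) = p := by
    rcases (Nat.dvd_prime hp).1 hidx with h | h
    · have h' : Nat.card (V ⧸ U.subgroupOf V) = 1 := h
      obtain ⟨hs, -⟩ := Nat.card_eq_one_iff_unique.1 h'
      exact (h1 (Subsingleton.elim _ _)).elim
    · exact h
  have hfin : Finite (V ⧸ U.subgroupOf V) :=
    Nat.finite_of_card_ne_zero (hcard ▸ hp.ne_zero)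
  obtain ⟨j, -, hj⟩ : ∃ j, j < p ∧ xb ^ j = β xb := by
    have hxo : orderOf xb = p :=
      ((Nat.dvd_prime hp).1 (hcard ▸ orderOf_dvd_natCard xb)).resolve_left
        fun e => h1 (orderOf_eq_one_iff.1 e)
    have hmem : β xb ∈ Subgroup.zpowers xb := by
      rw [zpowers_eq_top_of_prime_card hcard h1]
      exact Subgroup.mem_top _
    obtain ⟨j, hj⟩ := mem_powers_iff_mem_zpowers.2 hmem
    refine ⟨j % p, Nat.mod_lt _ hp.pos, ?_⟩
    rw [← hxo, pow_mod_orderOf]
    exact hj
  have hit : ∀ n : ℕ, ∃ hm : (α ^ n) x ∈ V,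
      (QuotientGroup.mk (⟨(α ^ n) x, hm⟩ : V) : V ⧸ U.subgroupOf V) = xb ^ j ^ n := by
    intro n
    induction n with
    | zero => exact ⟨by simpa using hx, by simp [xb]⟩
    | succ n ih =>
      obtain ⟨hm, he⟩ := ih
      have hm' : (α ^ (n + 1)) x ∈ V := by
        rw [pow_succ', MulAut.mul_apply]; exact hV _ hm
      refine ⟨hm', ?_⟩
      have e : (⟨(α ^ (n + 1)) x, hm'⟩ : V) = αV ⟨(α ^ n) x, hm⟩ :=
        Subtype.ext (by show (α ^ (n + 1)) x = α ((α ^ n) x); rw [pow_succ', MulAut.mul_apply])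
      rw [e]
      show β (QuotientGroup.mk (⟨(α ^ n) x, hm⟩ : V)) = _
      rw [he, map_pow, ← hj, ← pow_mul, pow_succ']
  obtain ⟨hm, he⟩ := hit (p ^ k)
  have hxo : orderOf xb = p :=
    ((Nat.dvd_prime hp).1 (hcard ▸ orderOf_dvd_natCard xb)).resolve_left
      fun e => h1 (orderOf_eq_one_iff.1 e)
  have e1 : (⟨(α ^ p ^ k) x, hm⟩ : V) = ⟨x, hx⟩ := Subtype.ext (by simp [hα])
  rw [e1] at he
  change xb = xb ^ j ^ p ^ k at he
  have h2 : j ^ p ^ k ≡ 1 [MOD orderOf xb] := pow_eq_pow_iff_modEq.1 (by rw [pow_one]; exact he.symm)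
  rw [hxo, ← ZMod.natCast_eq_natCast_iff, Nat.cast_pow, ZMod.pow_card_pow, Nat.cast_one] at h2
  have h3 : xb ^ j = xb ^ 1 := pow_eq_pow_iff_modEq.2 (by
    rw [hxo, ← ZMod.natCast_eq_natCast_iff, Nat.cast_one]; exact h2)
  rw [← hj, h3, pow_one]

variable {Ω : Type*} [Group Ω] {S : Subgroup Ω} [Finite S] {p : ℕ} [Fact p.Prime]
  {F : FusionSystem S}

/-- An essential subgroup has no invariant series with factors of order dividing `p`. -/
theorem IsEssential.not_series (hS : IsPGroup p S) (hF : F.IsSaturated p) {P : Subgroup Ω}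
    (hP : F.IsEssential p P) (W : ℕ → Subgroup P) (m : ℕ) (h0 : W 0 = ⊥) (hm : W m = ⊤)
    (hinv : ∀ α ∈ F.autGroup P, ∀ i, ∀ x ∈ W i, α x ∈ W i)
    (hidx : ∀ i < m, (W i).relIndex (W (i + 1)) ∣ p) : False := by
  have hPS := hP.1.1
  have := finite_of_le hPS
  have hnormal : ∀ i, (W i).Normal := fun i => ⟨fun x hx g => by
    have hg : MulAut.conj g ∈ F.autGroup P := inn_le_autGroup F hPS ⟨g, rfl⟩
    simpa using hinv _ hg i x hx⟩
  obtain ⟨g, hg, hgP⟩ :=
    SetLike.exists_of_lt (lt_normalizerIn hS (IsEssential.lt hF hS hP))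
  refine hgP (mem_of_conjAut_inn hP.1 hg ?_)
  have hA : conjAut hg.2 ∈ F.autGroup P := conjAut_mem_autGroup F hPS hg.1 hg.2
  rw [← (IsEssential.radical hS hF hP).2]
  obtain ⟨k, hk⟩ := isPGroup_autInducedBy hS P
    ⟨conjAut hg.2, conjAut_mem_autInducedBy hg.1 hg.2⟩
  have hk' : conjAut hg.2 ^ p ^ k = 1 := congrArg Subtype.val hk
  refine stab_mem_pCore (hS.to_le hPS) _ W m h0 hm hinv hA fun i hi x hx => ?_
  haveI := hnormal i
  exact mulAut_fix_of_prime_factor _ hk' _ _ (hinv _ hA i) (hinv _ hA (i + 1)) (hidx i hi) hx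

/-- No subgroups of orders `p` and `p ^ 2` inside an essential subgroup of order at most `p ^ 3`
are invariant in a chain. -/
theorem IsEssential.not_chain (hS : IsPGroup p S) (hF : F.IsSaturated p) {P : Subgroup Ω}
    (hP : F.IsEssential p P) {A B : Subgroup P} (hAB : A ≤ B) (hA : Nat.card A ∣ p)
    (hB : A.relIndex B ∣ p) (hT : B.index ∣ p)
    (hAi : ∀ α ∈ F.autGroup P, ∀ x ∈ A, α x ∈ A)
    (hBi : ∀ α ∈ F.autGroup P, ∀ x ∈ B, α x ∈ B) : False := by
  refine IsEssential.not_series hS hF hP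
    (fun i => match i with | 0 => ⊥ | 1 => A | 2 => B | _ => ⊤) 3 rfl rfl ?_ ?_
  · intro α hα i x hx
    match i, hx with
    | 0, hx => simp only [Subgroup.mem_bot] at hx ⊢; rw [hx, map_one]
    | 1, hx => exact hAi α hα x hx
    | 2, hx => exact hBi α hα x hx
    | i + 3, _ => exact Subgroup.mem_top _
  · intro i hi
    interval_cases i
    · simpa [Subgroup.relIndex_bot_left] using hA
    · simpa using hB
    · simpa [Subgroup.relIndex_top_right] using hT

theorem relIndex_map_dvd {G G' : Type*} [CommGroup G] [CommGroup G'] (f : G →* G') {H K : Subgroup G}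
    (hHK : H ≤ K) : (H.map f).relIndex (K.map f) ∣ H.relIndex K := by
  rw [Subgroup.relIndex_map_map]
  have e : K ⊔ f.ker = K ⊔ (H ⊔ f.ker) := by rw [← sup_assoc, sup_eq_left.2 hHK]
  rw [e, Subgroup.relIndex_sup_right]
  exact Subgroup.relIndex_dvd_of_le_left _ le_sup_left

/-- An abelian essential subgroup has no invariant subgroup of index dividing `p` in which the
`p`-th powers have index dividing `p`. -/
theorem IsEssential.not_abelian_split (hS : IsPGroup p S) (hF : F.IsSaturated p) {P : Subgroup Ω}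
    (hP : F.IsEssential p P) (hab : IsMulCommutative P) (L : Subgroup P)
    (hLi : ∀ α ∈ F.autGroup P, ∀ x ∈ L, α x ∈ L) (hpow : ∀ x : P, x ^ p ∈ L)
    (hL : L.index ∣ p)
    (hR : (Subgroup.closure (Set.range fun x : P => x ^ p)).relIndex L ∣ p) : False := by
  have hPS := hP.1.1
  have := finite_of_le hPS
  letI : CommGroup P := { (inferInstance : Group P) with mul_comm := hab.is_comm.comm }
  obtain ⟨n, hn⟩ := IsPGroup.iff_card.1 (hS.to_le hPS)
  let q : ℕ → P →* P := fun i => powMonoidHom (p ^ i)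
  let D : ℕ → Subgroup P := fun j => if Even j then (q (j / 2)).range else L.map (q (j / 2))
  have hR' : Subgroup.closure (Set.range fun x : P => x ^ p) = (powMonoidHom p : P →* P).range := by
    refine le_antisymm ((Subgroup.closure_le _).2 ?_) ?_
    · rintro _ ⟨x, rfl⟩; exact ⟨x, rfl⟩
    · rintro _ ⟨x, rfl⟩; exact Subgroup.subset_closure ⟨x, rfl⟩
  rw [hR'] at hR
  have hstep : ∀ j, (D (j + 1)).relIndex (D j) ∣ p := by
    intro j
    rcases Nat.even_or_odd' j with ⟨i, rfl | rfl⟩
    · have e1 : D (2 * i) = (⊤ : Subgroup P).map (q i) := by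
        simp only [D, even_two_mul, if_true, Nat.mul_div_cancel_left _ two_pos,
          MonoidHom.range_eq_map]
      have e2 : D (2 * i + 1) = L.map (q i) := by
        simp only [D, Nat.not_even_two_mul_add_one, if_false,
          show (2 * i + 1) / 2 = i by omega]
      rw [e1, e2]
      refine (relIndex_map_dvd (q i) le_top).trans ?_
      rwa [Subgroup.relIndex_top_right]
    · have e1 : D (2 * i + 1) = L.map (q i) := by
        simp only [D, Nat.not_even_two_mul_add_one, if_false,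
          show (2 * i + 1) / 2 = i by omega]
      have e2 : D (2 * i + 1 + 1) = ((powMonoidHom p : P →* P).range).map (q i) := by
        simp only [D, show 2 * i + 1 + 1 = 2 * (i + 1) by omega, even_two_mul, if_true,
          Nat.mul_div_cancel_left _ two_pos]
        rw [← MonoidHom.range_comp]
        congr 1
        ext x
        simp [q, ← pow_mul, pow_succ, mul_comm]
      rw [e1, e2]
      refine (relIndex_map_dvd (q i) ?_).trans hR
      rintro _ ⟨x, rfl⟩
      exact hpow x
  refine IsEssential.not_series hS hF hP (fun k => D (2 * n - k)) (2 * n) ?_ ?_ ?_ ?_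
  · simp only [D, Nat.sub_zero, even_two_mul, if_true, Nat.mul_div_cancel_left _ two_pos]
    rw [eq_bot_iff]
    rintro _ ⟨x, rfl⟩
    show x ^ p ^ n ∈ (⊥ : Subgroup P)
    rw [← hn, pow_card_eq_one']
    exact Subgroup.one_mem _
  · simp only [D, Nat.sub_self, Nat.zero_div, Even.zero, if_true]
    exact MonoidHom.range_eq_top.2 fun x => ⟨x, by simp [q]⟩
  · intro α hα k
    generalize 2 * n - k = j
    intro x hx
    simp only [D] at hx ⊢
    split_ifs at hx ⊢
    · obtain ⟨y, rfl⟩ := hx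
      exact ⟨α y, (map_pow α y _).symm⟩
    · obtain ⟨y, hy, rfl⟩ := hx
      exact ⟨α y, hLi α hα y hy, (map_pow α y _).symm⟩
  · intro k hk
    have h := hstep (2 * n - (k + 1))
    rwa [show 2 * n - (k + 1) + 1 = 2 * n - k by omega] at h

end Cfsg.Agent.Lib.Fusion
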