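import Cfsg.Agent.Lib.Fusion.EssentialSeries
import Cfsg.Prelude.Def_Transfer

/-!
An extraspecial subgroup of index `p` contains no proper essential subgroup.
-/

set_option autoImplicit false

namespace Cfsg.Agent.Lib.Fusion

open Cfsg Cfsg.FusionSystem
open scoped commutatorElement

variable {Ω : Type*} [Group Ω]

/-- The elements of `A` that act trivially on `Z` and on the cosets of `Z`. -/
def pointStab {E : Type*} [Group E] (A : Subgroup (MulAut E)) (Z : Subgroup E) : Subgroup A where
  carrier := {x | (∀ e, e⁻¹ * (x : MulAut E) e ∈ Z) ∧ ∀ z ∈ Z, (x : MulAut E) z = z}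
  one_mem' := ⟨fun e => by simp, fun z _ => by simp⟩
  mul_mem' := by
    intro x y hx hy
    refine ⟨fun e => ?_, fun z hz => ?_⟩
    · have h := Z.mul_mem (hy.1 e) (hx.1 ((y : MulAut E) e))
      rw [Subgroup.coe_mul, MulAut.mul_apply]
      simpa [mul_assoc] using h
    · rw [Subgroup.coe_mul, MulAut.mul_apply, hy.2 z hz, hx.2 z hz]
  inv_mem' := by
    intro x hx
    refine ⟨fun e => ?_, fun z hz => ?_⟩
    · have h := Z.inv_mem (hx.1 (((x : MulAut E))⁻¹ e))
      rw [MulAut.apply_inv_self, mul_inv_rev, inv_inv] at h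
      rw [Subgroup.coe_inv]
      exact h
    · rw [Subgroup.coe_inv]
      nth_rw 1 [← hx.2 z hz]
      rw [MulAut.inv_apply_self]

variable {S : Subgroup Ω} [Finite S] {p : ℕ} [Fact p.Prime] {F : FusionSystem S}

/-- No proper subgroup of an extraspecial subgroup of index `p` is essential. -/
theorem essential_eq_of_extraspecial (hS : IsPGroup p S) {Q : Subgroup Ω} (hQS : Q ≤ S)
    (hQ : IsExtraspecial p Q) (hQi : (Q.subgroupOf S).index = p) (h6 : p ^ 6 ≤ Nat.card S)
    (hF : F.IsSaturated p) {E : Subgroup Ω} (hEQ : E ≤ Q) (hE : F.IsEssential p E) : E = Q := by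
  by_contra hne
  have hp : p.Prime := Fact.out
  have hlt : E < Q := lt_of_le_of_ne hEQ hne
  have hc := hE.1
  have hES := hc.1
  have := finite_of_le hES
  have := finite_of_le hQS
  have := finite_mulAut hES
  have hCE : ∀ x ∈ S, (∀ e ∈ E, e * x = x * e) → x ∈ E := fun x hx h =>
    hc.2 E (isConj_refl F hES) (mem_centralizerIn.2 ⟨hx, h⟩)
  -- the centre of `Q`
  obtain ⟨⟨-, -, hder⟩, hcard⟩ := hQ
  set Z : Subgroup Ω := (Subgroup.center Q).map Q.subtype with hZdef
  have hZcard : Nat.card Z = p := by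
    rw [hZdef, Subgroup.card_map_of_injective Q.subtype_injective]
    exact hcard
  have hZQ : Z ≤ Q := Subgroup.map_subtype_le _
  have hZcomm : ∀ z ∈ Z, ∀ x ∈ Q, x * z = z * x := by
    rintro _ ⟨z, hz, rfl⟩ x hx
    exact congrArg Subtype.val (Subgroup.mem_center_iff.1 hz ⟨x, hx⟩)
  have hcen : ∀ x ∈ Q, (∀ y ∈ Q, y * x = x * y) → x ∈ Z := fun x hx h =>
    ⟨⟨x, hx⟩, Subgroup.mem_center_iff.2 fun y => Subtype.ext (h y y.2), rfl⟩
  have hcm : ∀ x ∈ Q, ∀ y ∈ Q, x * y * x⁻¹ * y⁻¹ ∈ Z := fun x hx y hy => by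
    refine ⟨⟨x, hx⟩ * ⟨y, hy⟩ * ⟨x, hx⟩⁻¹ * ⟨y, hy⟩⁻¹, ?_, rfl⟩
    rw [← hder, SetLike.mem_coe, commutator_def, ← commutatorElement_def]
    exact Subgroup.commutator_mem_commutator (Subgroup.mem_top _) (Subgroup.mem_top _)
  have hZE : Z ≤ E := fun z hz => hCE z (hQS (hZQ hz)) fun e he => hZcomm z hz e (hEQ he)
  set ZE : Subgroup E := Z.subgroupOf E with hZEdef
  have hZEcard : Nat.card ZE = p := by
    rw [hZEdef, Nat.card_congr (Subgroup.subgroupOfEquivOfLe hZE).toEquiv, hZcard]
  have hEnorm : ∀ g ∈ Q, g ∈ Subgroup.normalizer (E : Set Ω) := fun g hg =>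
    mem_normalizer_of_finite fun e he => by
      have h := E.mul_mem (hZE (hcm g hg e (hEQ he))) he
      rwa [inv_mul_cancel_right] at h
  -- elements of `Q` centralise `E / Z`
  have hcent : ∀ (g : Ω) (hg : g ∈ Q) (e : E), e⁻¹ * conjAut (hEnorm g hg) e ∈ ZE := by
    intro g hg e
    show (e : Ω)⁻¹ * (g * e * g⁻¹) ∈ Z
    have h1 := hcm g hg e (hEQ e.2)
    have h2 : (g * e * g⁻¹ * (e : Ω)⁻¹) * e = e * (g * e * g⁻¹ * (e : Ω)⁻¹) :=
      (hZcomm _ h1 e (hEQ e.2)).symm
    rw [inv_mul_cancel_right] at h2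
    rw [h2, inv_mul_cancel_left]
    exact h1
  have hfix : ∀ (g : Ω) (hg : g ∈ Q), ∀ z ∈ ZE, conjAut (hEnorm g hg) z = z := by
    intro g hg z hz
    refine Subtype.ext ?_
    show g * z * g⁻¹ = z
    rw [hZcomm z hz g hg, mul_inv_cancel_right]
  set X := F.autGroup E with hX
  -- `E` is abelian
  have hab : ∀ a b : E, a * b = b * a := by
    by_contra hnab
    push Not at hnab
    obtain ⟨a, b, hab'⟩ := hnab
    have hcomE : commutator E = ZE := by
      refine eq_of_le_of_card ?_ ?_
      · rw [commutator_def, Subgroup.commutator_le]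
        intro x _ y _
        show (x : Ω) * y * (x : Ω)⁻¹ * (y : Ω)⁻¹ ∈ Z
        exact hcm x (hEQ x.2) y (hEQ y.2)
      · have hle : commutator E ≤ ZE := by
          rw [commutator_def, Subgroup.commutator_le]
          intro x _ y _
          show (x : Ω) * y * (x : Ω)⁻¹ * (y : Ω)⁻¹ ∈ Z
          exact hcm x (hEQ x.2) y (hEQ y.2)
        rcases (Nat.dvd_prime hp).1 (hZEcard ▸ Subgroup.card_dvd_of_le hle) with h | h
        · refine absurd ?_ hab'
          have h1 : ⁅a, b⁆ ∈ commutator E :=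
            Subgroup.commutator_mem_commutator (Subgroup.mem_top _) (Subgroup.mem_top _)
          rw [Subgroup.eq_bot_of_card_eq _ h, Subgroup.mem_bot] at h1
          exact commutatorElement_eq_one_iff_mul_comm.1 h1
        · rw [h, hZEcard]
    have hinv : ∀ α ∈ X, ∀ x ∈ ZE, α x ∈ ZE := by
      intro α _ x hx
      rw [← hcomE] at hx ⊢
      have : (commutator E).map α.toMonoidHom ≤ commutator E := by
        rw [commutator_def, Subgroup.map_commutator]
        exact Subgroup.commutator_mono le_top le_top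
      exact this ⟨x, hx, rfl⟩
    obtain ⟨g, hg, hgE⟩ := SetLike.exists_of_lt hlt
    refine hgE (mem_of_conjAut_inn hc (g := g) ⟨hQS hg, hEnorm g hg⟩ ?_)
    rw [← (IsEssential.radical hS hF hE).2]
    refine stab_mem_pCore (hS.to_le hES) _
      (fun i => match i with | 0 => ⊥ | 1 => ZE | _ => ⊤) 2 rfl rfl ?_
      (conjAut_mem_autGroup F hES (hQS hg) (hEnorm g hg)) ?_
    · intro α hα i x hx
      match i, hx with
      | 0, hx => simp only [Subgroup.mem_bot] at hx ⊢; rw [hx, map_one]
      | 1, hx => exact hinv α hα x hx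
      | i + 2, _ => exact Subgroup.mem_top _
    · intro i hi x hx
      interval_cases i
      · show x⁻¹ * _ ∈ (⊥ : Subgroup E)
        rw [Subgroup.mem_bot, inv_mul_eq_one]
        exact (hfix g hg x hx).symm
      · exact hcent g hg x
  -- the outer automorphism group
  obtain ⟨-, -, hnorm, Y₀, hY₀⟩ := hE
  set π := QuotientGroup.mk' ((Inn E).subgroupOf X)
  have hπ : ∀ x : X, π x = 1 → x = 1 := fun x hx => by
    obtain ⟨q, hq⟩ := (QuotientGroup.eq_one_iff x).1 hx
    refine Subtype.ext (hq.symm.trans (MulEquiv.ext fun e => ?_))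
    show q * e * q⁻¹ = e
    rw [hab q e, mul_inv_cancel_right]
  set A := pointStab X ZE with hA
  have hAp : IsPGroup p A := by
    intro x
    refine ⟨1, Subtype.ext (Subtype.ext (MulEquiv.ext fun e => ?_))⟩
    have hc' : ∀ n : ℕ, (((x : X) : MulAut E) ^ n) e =
        e * (e⁻¹ * ((x : X) : MulAut E) e) ^ n := by
      intro n
      induction n with
      | zero => simp
      | succ n ih =>
        rw [pow_succ', MulAut.mul_apply, ih, map_mul,
          map_pow, x.2.2 _ (x.2.1 e), pow_succ']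
        simp [mul_assoc]
    show ((((x : X) : MulAut E)) ^ p ^ 1) e = e
    rw [pow_one, hc' p,
      show (e⁻¹ * ((x : X) : MulAut E) e) ^ p = 1 from by
        have h := pow_card_eq_one' (x := (⟨_, x.2.1 e⟩ : ZE))
        rw [hZEcard] at h
        exact congrArg Subtype.val h, mul_one]
  obtain ⟨T, hT⟩ := (hAp.map π).exists_le_sylow
  obtain ⟨Y, hYt, hY⟩ := exists_core_of_stronglyPEmbedded hY₀ T
  -- the automorphisms induced by `Q` lie in `A`
  let ρ : Q →* A := MonoidHom.mk'
    (fun g => ⟨⟨conjAut (hEnorm g g.2), conjAut_mem_autGroup F hES (hQS g.2) (hEnorm g g.2)⟩,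
      hcent g g.2, hfix g g.2⟩)
    fun a b => Subtype.ext (Subtype.ext (MulEquiv.ext fun e => Subtype.ext (by
      show ((a : Ω) * b) * e * ((a : Ω) * b)⁻¹ = a * (b * e * (b : Ω)⁻¹) * (a : Ω)⁻¹
      group)))
  have hρker : ρ.ker = E.subgroupOf Q := by
    ext g
    rw [MonoidHom.mem_ker, Subgroup.mem_subgroupOf]
    constructor
    · intro h
      refine hCE g (hQS g.2) fun e he => ?_
      have h1 : (g : Ω) * e * (g : Ω)⁻¹ = e :=
        congrArg (fun x : A => ((((x : X) : MulAut E) ⟨e, he⟩ : E) : Ω)) h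
      exact (mul_inv_eq_iff_eq_mul.1 h1).symm
    · intro hg
      refine Subtype.ext (Subtype.ext (MulEquiv.ext fun e => Subtype.ext ?_))
      show (g : Ω) * e * (g : Ω)⁻¹ = e
      have h1 : (g : Ω) * e = e * g := congrArg Subtype.val (hab ⟨g, hg⟩ e)
      rw [h1, mul_inv_cancel_right]
  have hAcard : p < Nat.card A := by
    have h1 : (E.subgroupOf Q).index ≤ Nat.card A := by
      rw [← hρker, Subgroup.index_ker]
      exact Subgroup.card_le_card_group _
    refine lt_of_lt_of_le ?_ h1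
    obtain ⟨j, hj⟩ := (hS.to_le hQS).index (E.subgroupOf Q)
    have hj0 : j ≠ 0 := by
      rintro rfl
      rw [pow_zero] at hj
      exact hlt.not_ge (Subgroup.subgroupOf_eq_top.1 (Subgroup.index_eq_one.1 hj))
    by_contra hsmall
    have hj1 : (E.subgroupOf Q).index = p := by
      have : j = 1 := by
        by_contra hj2
        apply hsmall
        rw [hj]
        exact lt_of_lt_of_le (lt_self_pow₀ hp.one_lt (by omega : 1 < j)) le_rfl
      rw [hj, this, pow_one]
    obtain ⟨g, hg, hgE⟩ := SetLike.exists_of_lt hlt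
    -- every element of `E` commuting with `g` is central in `Q`
    have hinj : ∀ e : E, g * e = e * g → e ∈ ZE := by
      intro e he
      refine hcen e (hEQ e.2) fun y hy => ?_
      let K : Subgroup Q := Subgroup.centralizer {(⟨e, hEQ e.2⟩ : Q)}
      have hEK : E.subgroupOf Q ≤ K := fun y hy => by
        rw [Subgroup.mem_centralizer_singleton_iff]
        exact Subtype.ext (congrArg (fun v : E => (v : Ω)) (hab ⟨((y : Q) : Ω), hy⟩ e))
      have hgK : (⟨g, hg⟩ : Q) ∈ K := by
        rw [Subgroup.mem_centralizer_singleton_iff]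
        exact Subtype.ext he
      have hK : K = ⊤ := by
        rcases (Nat.dvd_prime hp).1 (hj1 ▸ Subgroup.index_dvd_of_le hEK) with h | h
        · exact Subgroup.index_eq_one.1 h
        · exfalso
          have := Subgroup.relIndex_mul_index hEK
          rw [h, hj1] at this
          have h2 : (E.subgroupOf Q).relIndex K = 1 :=
            Nat.eq_of_mul_eq_mul_right hp.pos (this.trans (one_mul p).symm)
          exact hgE (Subgroup.relIndex_eq_one.1 h2 hgK)
      have : (⟨y, hy⟩ : Q) ∈ K := hK ▸ Subgroup.mem_top _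
      exact congrArg Subtype.val (Subgroup.mem_centralizer_singleton_iff.1 this)
    let γ : E →* ZE := MonoidHom.mk' (fun e => ⟨_, hcent g hg e⟩) fun a b => Subtype.ext (by
      show (a * b)⁻¹ * conjAut (hEnorm g hg) (a * b) =
        a⁻¹ * conjAut (hEnorm g hg) a * (b⁻¹ * conjAut (hEnorm g hg) b)
      rw [map_mul, mul_inv_rev, hab b⁻¹ a⁻¹]
      simp only [mul_assoc]
      congr 1
      rw [← mul_assoc, hab b⁻¹ (conjAut (hEnorm g hg) a), mul_assoc])
    have hker : γ.ker ≤ ZE := fun e he => hinj e (by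
      have h1 : e⁻¹ * conjAut (hEnorm g hg) e = 1 := congrArg Subtype.val he
      rw [inv_mul_eq_one] at h1
      have h2 : g * e * g⁻¹ = e := congrArg Subtype.val h1.symm
      exact mul_inv_eq_iff_eq_mul.1 h2)
    have hEle : Nat.card E ≤ p * p := by
      rw [← Subgroup.card_mul_index γ.ker, Subgroup.index_ker]
      exact Nat.mul_le_mul (hZEcard ▸ Nat.le_of_dvd Nat.card_pos (Subgroup.card_dvd_of_le hker))
        ((Subgroup.card_le_card_group _).trans hZEcard.le)
    have hQc : Nat.card Q * p = Nat.card S := by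
      rw [← hQi, ← Nat.card_congr (Subgroup.subgroupOfEquivOfLe hQS).toEquiv]
      exact Subgroup.card_mul_index _
    have hEc : Nat.card E * p = Nat.card Q := by
      rw [← hj1, ← Nat.card_congr (Subgroup.subgroupOfEquivOfLe hEQ).toEquiv]
      exact Subgroup.card_mul_index _
    rw [← hQc, ← hEc] at h6
    have h4 : Nat.card E * p * p ≤ p ^ 4 := by
      calc Nat.card E * p * p ≤ p * p * p * p := by gcongr
        _ = p ^ 4 := by ring
    have h5 : p ^ 4 < p ^ 6 := Nat.pow_lt_pow_right hp.one_lt (by norm_num)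
    omega
  -- a nontrivial element of `A` fixing a given element
  have hexists : ∀ w : E, ∃ a ∈ A, a ≠ 1 ∧ ((a : X) : MulAut E) w = w := by
    intro w
    by_contra hcon
    push Not at hcon
    let f : A → ZE := fun a => ⟨_, a.2.1 w⟩
    have hf : Function.Injective f := by
      intro a b h
      have h1 : ((a : X) : MulAut E) w = ((b : X) : MulAut E) w :=
        mul_left_cancel (congrArg Subtype.val h : w⁻¹ * _ = w⁻¹ * _)
      by_contra hab'
      refine hcon ((b⁻¹ * a : A) : X) (b⁻¹ * a).2 (fun e => hab' ?_) ?_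
      · have : (b⁻¹ * a : A) = 1 := Subtype.ext e
        exact (inv_mul_eq_one.1 this).symm
      · show (((b : X) : MulAut E))⁻¹ (((a : X) : MulAut E) w) = w
        rw [h1, MulAut.inv_apply_self]
    have := Nat.card_le_card_of_injective f hf
    omega
  -- every element lies in `Y`
  refine hYt (eq_top_iff.2 fun y _ => ?_)
  obtain ⟨g, rfl⟩ := QuotientGroup.mk'_surjective _ y
  have hAT : ∀ a ∈ A, π a ∈ (T : Subgroup (X ⧸ (Inn E).subgroupOf X)) := fun a ha =>
    hT ⟨a, ha, rfl⟩
  obtain ⟨a, ha, ha1, -⟩ := hexists 1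
  by_cases hgZ : ∀ z ∈ ZE, ((g : X) : MulAut E) z ∈ ZE
  · refine mem_of_core hY (hAT a ha) (fun h => ha1 (hπ a h)) ?_
    rw [← map_mul, ← map_inv, ← map_mul]
    refine hAT _ ⟨fun e => ?_, fun z hz => ?_⟩
    · show e⁻¹ * (g : MulAut E) ((a : MulAut E) ((g : MulAut E)⁻¹ e)) ∈ ZE
      have h := hgZ _ (ha.1 ((g : MulAut E)⁻¹ e))
      rwa [map_mul, map_inv, MulAut.apply_inv_self] at h
    · show (g : MulAut E) ((a : MulAut E) ((g : MulAut E)⁻¹ z)) = z
      have hz' : (g : MulAut E)⁻¹ z ∈ ZE := by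
        have hmap : ZE.map (g : MulAut E).toMonoidHom = ZE := eq_of_le_of_card
          (by rintro _ ⟨x, hx, rfl⟩; exact hgZ x hx)
          (Subgroup.card_map_of_injective (MulEquiv.injective _)).ge
        obtain ⟨x, hx, rfl⟩ := hmap.ge hz
        rwa [MulEquiv.coe_toMonoidHom, MulAut.inv_apply_self]
      rw [ha.2 _ hz', MulAut.apply_inv_self]
  · push Not at hgZ
    obtain ⟨z₀, hz₀, hgz₀⟩ := hgZ
    have hz1 : z₀ ≠ 1 := fun h => hgz₀ (by rw [h, map_one]; exact one_mem _)
    have hgen : ∀ z ∈ ZE, z ∈ Subgroup.zpowers z₀ := by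
      intro z hz
      have h1 : Subgroup.zpowers (⟨z₀, hz₀⟩ : ZE) = ⊤ :=
        zpowers_eq_top_of_prime_card hZEcard fun h => hz1 (congrArg Subtype.val h)
      obtain ⟨k, hk⟩ := Subgroup.mem_zpowers_iff.1 (h1.ge (Subgroup.mem_top (⟨z, hz⟩ : ZE)))
      exact Subgroup.mem_zpowers_iff.2 ⟨k, congrArg Subtype.val hk⟩
    obtain ⟨a, ha, ha1, haf⟩ := hexists ((g : MulAut E) z₀)
    obtain ⟨a', ha', ha'1, ha'f⟩ := hexists ((g : MulAut E)⁻¹ z₀)
    set b : X := g * a' * g⁻¹ with hb
    have hbz : ∀ z ∈ ZE, (b : MulAut E) z = z := by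
      intro z hz
      obtain ⟨k, rfl⟩ := Subgroup.mem_zpowers_iff.1 (hgen z hz)
      rw [map_zpow]
      congr 1
      show (g : MulAut E) ((a' : MulAut E) ((g : MulAut E)⁻¹ z₀)) = z₀
      rw [ha'f, MulAut.apply_inv_self]
    have hag : ∀ z ∈ ZE, (a : MulAut E) ((g : MulAut E) z) = (g : MulAut E) z := by
      intro z hz
      obtain ⟨k, rfl⟩ := Subgroup.mem_zpowers_iff.1 (hgen z hz)
      rw [map_zpow, map_zpow, haf]
    have hcomm : Commute a b := by
      refine Subtype.ext (MulEquiv.ext fun e => ?_)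
      show (a : MulAut E) ((b : MulAut E) e) = (b : MulAut E) ((a : MulAut E) e)
      set f := (g : MulAut E)⁻¹ e with hf
      set d := f⁻¹ * (a' : MulAut E) f with hd
      set c := e⁻¹ * (a : MulAut E) e with hc'
      have hbe : (b : MulAut E) e = e * (g : MulAut E) d := by
        show (g : MulAut E) ((a' : MulAut E) f) = _
        rw [hd, map_mul, map_inv, hf, MulAut.apply_inv_self, mul_inv_cancel_left]
      have hae : (a : MulAut E) e = e * c := by rw [hc', mul_inv_cancel_left]
      have hd1 : d ∈ ZE := ha'.1 f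
      calc (a : MulAut E) ((b : MulAut E) e) = (a : MulAut E) (e * (g : MulAut E) d) := by rw [hbe]
        _ = (a : MulAut E) e * (a : MulAut E) ((g : MulAut E) d) := map_mul _ _ _
        _ = e * c * (g : MulAut E) d := by rw [hag d hd1, ← hae]
        _ = e * (g : MulAut E) d * c := by rw [mul_assoc, hab c, ← mul_assoc]
        _ = (b : MulAut E) e * (b : MulAut E) c := by rw [← hbe, hbz c (ha.1 e)]
        _ = (b : MulAut E) (e * c) := (map_mul _ _ _).symm
        _ = (b : MulAut E) ((a : MulAut E) e) := by rw [← hae]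
    have hπb : Commute (π a) (π b) := hcomm.map π
    have hpow : ∀ x : X, x ∈ A → IsPGroup p (Subgroup.zpowers (π x)) := fun x hx =>
      (hAp.map π).to_le (Subgroup.zpowers_le.2 ⟨x, hx, rfl⟩)
    have hbp : IsPGroup p (Subgroup.zpowers (π b)) := by
      have h1 := (hpow a' ha').map (MulAut.conj (π g)).toMonoidHom
      rw [MonoidHom.map_zpowers] at h1
      rw [hb, map_mul, map_mul, map_inv]
      exact h1
    have hsup := IsPGroup.to_sup_of_normal_right' (hpow a ha) hbp
      (Subgroup.zpowers_le.2 ((Subgroup.centralizer_le_normalizer _)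
        (Subgroup.mem_centralizer_iff.2 fun u hu => by
          obtain ⟨k, rfl⟩ := Subgroup.mem_zpowers_iff.1 hu
          exact ((hπb.symm).zpow_left k).eq)))
    obtain ⟨T', hT'⟩ := hsup.exists_le_sylow
    obtain ⟨h, hh⟩ := MulAction.exists_smul_eq (X ⧸ (Inn E).subgroupOf X) T T'
    have hmemT : ∀ u ∈ (T' : Subgroup (X ⧸ (Inn E).subgroupOf X)),
        h⁻¹ * u * h ∈ (T : Subgroup (X ⧸ (Inn E).subgroupOf X)) := by
      intro u hu
      rw [← hh, Sylow.coe_subgroup_smul] at hu
      obtain ⟨v, hv, rfl⟩ := hu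
      simpa [MulAut.conj_apply, mul_assoc] using! hv
    have hhY : h⁻¹ ∈ Y := mem_of_core hY (hAT a ha) (fun h => ha1 (hπ a h)) (by
      rw [inv_inv]
      exact hmemT _ (hT' (Subgroup.mem_sup_left (Subgroup.mem_zpowers _))))
    have hgY : h⁻¹ * π g ∈ Y := mem_of_core hY (hAT a' ha') (fun h => ha'1 (hπ a' h)) (by
      have h2 := hmemT _ (hT' (Subgroup.mem_sup_right (Subgroup.mem_zpowers (π b))))
      rw [hb, map_mul, map_mul, map_inv] at h2
      simpa [mul_assoc] using h2)
    have := Y.mul_mem (Y.inv_mem hhY) hgY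
    rwa [inv_inv, mul_inv_cancel_left] at this

end Cfsg.Agent.Lib.Fusion
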