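import Cfsg.Prelude.Def_FusionComponents
import Cfsg.Agent.Lib.Fusion.NormalCriteria
import Cfsg.Agent.Lib.Fusion.GroupSystem

/-!
Factor systems modulo a strongly closed subgroup: existence, and Puig's theorem that every map
of a saturated system induces a map of the factor system.
-/

set_option autoImplicit false
set_option linter.unusedSectionVars false

namespace Cfsg.Agent.Lib.Fusion

open Cfsg Cfsg.FusionSystem

variable {Ω : Type*} [Group Ω] {S : Subgroup Ω} {F : FusionSystem S} {T : Subgroup Ω}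

theorem StronglyClosed.map_mem (hT : F.StronglyClosed T) {P : Subgroup Ω} {φ : P →* Ω}
    (hφ : φ ∈ F.Hom P) (x : P) (hx : (x : Ω) ∈ T) : φ x ∈ T :=
  hT.2 (P ⊓ T) inf_le_right _ (restr_mem F hφ inf_le_left) ⟨x, x.2, hx⟩

theorem StronglyClosed.map_mem_iff (hT : F.StronglyClosed T) {P : Subgroup Ω} {φ : P →* Ω}
    (hφ : φ ∈ F.Hom P) (x : P) : φ x ∈ T ↔ (x : Ω) ∈ T := by
  refine ⟨fun h => ?_, StronglyClosed.map_mem hT hφ x⟩
  obtain ⟨c, hc, -, hl, -⟩ := exists_inv F hφ rfl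
  have hm : φ x ∈ φ.range := ⟨x, rfl⟩
  have h1 := StronglyClosed.map_mem hT hc ⟨φ x, hm⟩ h
  rwa [hl x hm] at h1

theorem StronglyClosed.conj_mem_self [Finite S] (hT : F.StronglyClosed T) {g t : Ω} (hg : g ∈ S)
    (ht : t ∈ T) : g * t * g⁻¹ ∈ T :=
  conj_mem_of_mem_normalizer
    (WeaklyClosed.le_normalizer (StronglyClosed.weaklyClosed hT) hg) ht

/-- The maps congruent modulo `T` to maps with source containing `T`. -/
def liftSystem (F : FusionSystem S) [Finite S] (T : Subgroup Ω) (hT : F.StronglyClosed T) :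
    FusionSystem S where
  Hom P := {φ | φ ∈ F.Hom P ∧ ∃ χ ∈ F.Hom (P ⊔ T),
    ∀ x : P, (φ x)⁻¹ * χ (Subgroup.inclusion le_sup_left x) ∈ T}
  le_of_mem h := F.le_of_mem h.1
  injective_of_mem h := F.injective_of_mem h.1
  conj_mem {P g} hP hg := ⟨F.conj_mem hP hg, conjHom _ g, F.conj_mem (sup_le hP hT.1) hg,
    fun x => by
      show (g * (x : Ω) * g⁻¹)⁻¹ * (g * (x : Ω) * g⁻¹) ∈ T
      rw [inv_mul_cancel]
      exact T.one_mem⟩
  comp_mem := by
    rintro P Q φ ψ ⟨hφ, χ, hχ, eφ⟩ ⟨hψ, ρ, hρ, eψ⟩ h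
    have hm : ∀ z, χ z ∈ Q ⊔ T := by
      intro z
      have h1 : img χ (P ⊔ T) ≤ Q ⊔ T := by
        rw [img_sup χ le_sup_left le_sup_right]
        refine sup_le ?_ ?_
        · rintro _ ⟨x, hx, rfl⟩
          have h2 := (Q ⊔ T).mul_mem (Subgroup.mem_sup_left (h ⟨x, hx⟩))
            (Subgroup.mem_sup_right (eφ ⟨x, hx⟩))
          rwa [mul_inv_cancel_left] at h2
        · rintro _ ⟨x, hx, rfl⟩
          exact Subgroup.mem_sup_right (StronglyClosed.map_mem hT hχ x hx)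
      exact h1 (apply_mem_img χ z z.2)
    refine ⟨F.comp_mem hφ hψ h, compose χ ρ hm, compose_mem F hχ hρ hm, fun x => ?_⟩
    have e : (⟨χ (Subgroup.inclusion le_sup_left x), hm _⟩ : ↥(Q ⊔ T)) =
        Subgroup.inclusion le_sup_left ⟨φ x, h x⟩ *
          ⟨(φ x)⁻¹ * χ (Subgroup.inclusion le_sup_left x), Subgroup.mem_sup_right (eφ x)⟩ :=
      Subtype.ext (mul_inv_cancel_left _ _).symm
    show (ψ ⟨φ x, h x⟩)⁻¹ * ρ ⟨χ (Subgroup.inclusion le_sup_left x), hm _⟩ ∈ T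
    rw [e, map_mul, ← mul_assoc]
    exact T.mul_mem (eψ ⟨φ x, h x⟩) (StronglyClosed.map_mem hT hρ _ (eφ x))
  inv_mem := by
    rintro P φ ⟨hφ, χ, hχ, eφ⟩
    obtain ⟨c, hc, hcr, hl, -⟩ := exists_inv F hφ rfl
    have hr : χ.range = φ.range ⊔ T := by
      rw [← img_self χ, img_sup χ le_sup_left le_sup_right,
        WeaklyClosed.img_eq (StronglyClosed.weaklyClosed hT) hχ le_sup_right]
      refine le_antisymm (sup_le ?_ le_sup_right) (sup_le ?_ le_sup_right)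
      · rintro _ ⟨x, hx, rfl⟩
        have h2 := (φ.range ⊔ T).mul_mem
          (Subgroup.mem_sup_left (⟨⟨x, hx⟩, rfl⟩ : φ ⟨x, hx⟩ ∈ φ.range))
          (Subgroup.mem_sup_right (eφ ⟨x, hx⟩))
        rwa [mul_inv_cancel_left] at h2
      · rintro _ ⟨x, rfl⟩
        have h2 := (img χ P ⊔ T).mul_mem
          (Subgroup.mem_sup_left (apply_mem_img χ (Subgroup.inclusion le_sup_left x) x.2))
          (Subgroup.mem_sup_right (T.inv_mem (eφ x)))
        rwa [mul_inv_rev, inv_inv, mul_inv_cancel_left] at h2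
    obtain ⟨d, hd, -, hdl, -⟩ := exists_inv F hχ hr
    refine ⟨c, ⟨hc, d, hd, ?_⟩, fun x => hl x _⟩
    rintro ⟨_, x, rfl⟩
    have hm : φ x ∈ φ.range := ⟨x, rfl⟩
    show (c ⟨φ x, hm⟩)⁻¹ * d (Subgroup.inclusion le_sup_left ⟨φ x, hm⟩) ∈ T
    set t := (φ x)⁻¹ * χ (Subgroup.inclusion le_sup_left x) with htdef
    have e : Subgroup.inclusion (le_sup_left : φ.range ≤ φ.range ⊔ T) ⟨φ x, hm⟩ =
        ⟨χ (Subgroup.inclusion le_sup_left x), hr.le ⟨_, rfl⟩⟩ *
          ⟨t⁻¹, Subgroup.mem_sup_right (T.inv_mem (eφ x))⟩ :=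
      Subtype.ext (by simp [htdef])
    rw [e, map_mul, hdl, hl, ← mul_assoc]
    show (x : Ω)⁻¹ * (x : Ω) * _ ∈ T
    rw [inv_mul_cancel, one_mul]
    exact StronglyClosed.map_mem hT hd _ (T.inv_mem (eφ x))

section Puig

variable {p : ℕ} [Fact p.Prime] [Finite S]

/-- The automorphisms of `U` acting trivially modulo `T`. -/
def modKer (hT : F.StronglyClosed T) {U : Subgroup Ω} (_hU : U ≤ S) :
    Subgroup (F.autGroup U) where
  carrier := {α | ∀ x : U, (x : Ω)⁻¹ * (((α : MulAut U) x : U) : Ω) ∈ T}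
  one_mem' x := by
    show (x : Ω)⁻¹ * (x : Ω) ∈ T
    rw [inv_mul_cancel]
    exact T.one_mem
  mul_mem' {a b} ha hb x := by
    have := T.mul_mem (hb x) (ha ((b : MulAut U) x))
    rwa [mul_assoc, mul_inv_cancel_left] at this
  inv_mem' {a} ha x := by
    have := T.inv_mem (ha ((a : MulAut U)⁻¹ x))
    rw [show (a : MulAut U) ((a : MulAut U)⁻¹ x) = x from (a : MulAut U).apply_symm_apply x,
      mul_inv_rev, inv_inv] at this
    exact this

theorem modKer_normal (hT : F.StronglyClosed T) {U : Subgroup Ω} (hU : U ≤ S) :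
    (modKer hT hU).Normal := by
  refine ⟨fun a ha b x => ?_⟩
  set y := (b : MulAut U)⁻¹ x
  have hx : (b : MulAut U) y = x := (b : MulAut U).apply_symm_apply x
  have h := StronglyClosed.map_mem hT (autHom_mem F hU b.2) (y⁻¹ * (a : MulAut U) y) (ha y)
  rw [autHom_apply, map_mul, map_inv, hx, Subgroup.coe_mul, Subgroup.coe_inv] at h
  exact h

/-- Puig's theorem: every map is congruent modulo a strongly closed subgroup `T` to a map whose
source contains `T`. -/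
theorem exists_lift_mod (hS : IsPGroup p S) (hF : F.IsSaturated p) (hT : F.StronglyClosed T)
    {P : Subgroup Ω} {φ : P →* Ω} (hφ : φ ∈ F.Hom P) :
    ∃ χ ∈ F.Hom (P ⊔ T), ∀ x : P, (φ x)⁻¹ * χ (Subgroup.inclusion le_sup_left x) ∈ T := by
  let E := liftSystem F T hT
  suffices hle : F ≤ E from (hle P hφ).2
  have hTU : ∀ U : Subgroup Ω, U ≤ S → T ≤ U → F.autGroup U ≤ E.autGroup U := by
    intro U hU hTU α hα
    refine mem_autGroup_of_hom E ⟨autHom_mem F hU hα, restr (sup_le le_rfl hTU) (autHom α),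
      restr_mem F (autHom_mem F hU hα) _, fun x => ?_⟩
    show ((α x : U) : Ω)⁻¹ * ((α x : U) : Ω) ∈ T
    rw [inv_mul_cancel]
    exact T.one_mem
  refine alperin_ind hS hF E (hTU S le_rfl hT.1) fun U hU ih => ?_
  obtain ⟨hc, hn, -⟩ := id hU
  have hUS := hc.1
  by_cases hle : T ≤ U
  · exact hTU U hUS hle
  have := finite_mulAut hUS
  have hKn := modKer_normal hT hUS
  obtain ⟨-, R, hR⟩ := (IsSaturated.automized_receptive hS hF hn).1
  obtain ⟨R', hR'⟩ := exists_sylow_subgroupOf_normal R (modKer hT hUS)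
  intro α hα
  have htop : (⟨α, hα⟩ : F.autGroup U) ∈
      Subgroup.normalizer (((R' : Subgroup (modKer hT hUS)).map (modKer hT hUS).subtype :
        Subgroup (F.autGroup U)) : Set (F.autGroup U)) ⊔ modKer hT hUS := by
    rw [Sylow.normalizer_sup_eq_top R']
    trivial
  obtain ⟨β, hβ, k, hk, hβk⟩ := Subgroup.mem_sup_of_normal_right.1 htop
  have hα' : α = (β : MulAut U) * k := congrArg Subtype.val hβk.symm
  rw [hα']
  refine Subgroup.mul_mem _ ?_ (mem_autGroup_of_hom E ⟨autHom_mem F hUS k.2,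
    (U ⊔ T).subtype, subtype_mem F (sup_le hUS hT.1), fun x => ?_⟩)
  · obtain ⟨g, hg, hgU⟩ : ∃ g ∈ normalizerIn T U, g ∉ U := by
      by_contra hcon
      push Not at hcon
      exact hle (le_of_normalizer_le hS hUS hT.1
        (hUS.trans (WeaklyClosed.le_normalizer (StronglyClosed.weaklyClosed hT))) hcon)
    have hgS : g ∈ normalizerIn S U := ⟨hT.1 hg.1, hg.2⟩
    have hβ' := autHom_mem F hUS β.2
    obtain ⟨ψ, hψ, hext, -⟩ :=
      IsReceptive.extend (IsSaturated.automized_receptive hS hF hn).2 hβ' (range_autHom _)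
    have hge : g ∈ extender S U (autHom (β : MulAut U)) := by
      rw [mem_extender_iff_congr (F.injective_of_mem hβ') (range_autHom _) hgS]
      have e : isoOf (autHom (β : MulAut U)) (F.injective_of_mem hβ') (range_autHom _) =
          (β : MulAut U) := MulEquiv.ext fun x => Subtype.ext rfl
      rw [e]
      let c : F.autGroup U := ⟨conjAut hgS.2, conjAut_mem_autGroup F hUS hgS.1 hgS.2⟩
      have hcR : c ∈ (R : Subgroup (F.autGroup U)) := by
        rw [hR]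
        exact conjAut_mem_autInducedBy hgS.1 hgS.2
      have hcK : c ∈ modKer hT hUS := fun x => by
        show (x : Ω)⁻¹ * (g * x * g⁻¹) ∈ T
        have h1 := StronglyClosed.conj_mem_self hT (S.inv_mem (hUS x.2)) hg.1
        rw [inv_inv] at h1
        have h2 := T.mul_mem h1 (T.inv_mem hg.1)
        simpa only [mul_assoc] using h2
      have hcX : c ∈ (R' : Subgroup (modKer hT hUS)).map (modKer hT hUS).subtype :=
        ⟨⟨c, hcK⟩, by rw [hR']; exact hcR, rfl⟩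
      obtain ⟨z, hz, hzc⟩ := conj_mem_of_mem_normalizer hβ hcX
      have h3 : β * c * β⁻¹ ∈ (R : Subgroup (F.autGroup U)) := by
        rw [← hzc]
        rw [hR'] at hz
        exact hz
      rw [hR] at h3
      exact h3
    have hlt : U < extender S U (autHom (β : MulAut U)) :=
      lt_of_le_of_ne (le_extender hUS (apply_mem hβ')) fun e => hgU (e ▸ hge)
    have hψE : ψ ∈ E.Hom (extender S U (autHom (β : MulAut U))) := by
      refine ih _ ?_ ψ hψ
      have := finite_of_le (extender_le S U (autHom (β : MulAut U)))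
      by_contra hge'
      exact hlt.ne (Subgroup.eq_of_le_of_card_ge hlt.le (not_lt.1 hge'))
    refine mem_autGroup_of_hom E ?_
    have e : autHom (β : MulAut U) = restr hlt.le ψ :=
      MonoidHom.ext fun x => (hext x x.2 (hlt.le x.2)).symm
    rw [e]
    exact restr_mem E hψE hlt.le
  · show (((k : MulAut U) x : U) : Ω)⁻¹ * (x : Ω) ∈ T
    have := T.inv_mem (hk x)
    rwa [mul_inv_rev, inv_inv] at this

end Puig

section Quotient

variable {Ω' : Type*} [Group Ω'] {S' : Subgroup Ω'} {θ : S →* Ω'}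

theorem mem_preimage_iff {P' : Subgroup Ω'} (x : S) :
    (x : Ω) ∈ preimageAlong θ P' ↔ θ x ∈ P' := by
  constructor
  · rintro ⟨y, hy, hyx⟩
    obtain rfl : y = x := Subtype.ext hyx
    exact hy
  · exact fun h => ⟨x, h, rfl⟩

theorem preimage_le (θ : S →* Ω') (P' : Subgroup Ω') : preimageAlong θ P' ≤ S :=
  Subgroup.map_subtype_le _

theorem mem_image_iff {P : Subgroup Ω} {y : Ω'} :
    y ∈ imageAlong θ P ↔ ∃ x : S, (x : Ω) ∈ P ∧ θ x = y := Iff.rfl

theorem eq_of_ker (hker : ∀ s : S, θ s = 1 ↔ (s : Ω) ∈ T) (a b : S)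
    (h : (a : Ω)⁻¹ * (b : Ω) ∈ T) : θ a = θ b := by
  have h1 := (hker (a⁻¹ * b)).2 h
  rwa [map_mul, map_inv, inv_mul_eq_one] at h1

theorem mem_of_eq_ker (hker : ∀ s : S, θ s = 1 ↔ (s : Ω) ∈ T) (a b : S) (h : θ a = θ b) :
    (a : Ω)⁻¹ * (b : Ω) ∈ T :=
  (hker (a⁻¹ * b)).1 (by rw [map_mul, map_inv, h, inv_mul_cancel])

theorem preimage_imageAlong (hker : ∀ s : S, θ s = 1 ↔ (s : Ω) ∈ T) (hT : T ≤ S)
    {P : Subgroup Ω} (hP : P ≤ S) : preimageAlong θ (imageAlong θ P) = P ⊔ T := by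
  apply le_antisymm
  · rintro _ ⟨x, hx, rfl⟩
    obtain ⟨y, hy, hxy⟩ := mem_image_iff.1 hx
    have := (P ⊔ T).mul_mem (Subgroup.mem_sup_left hy)
      (Subgroup.mem_sup_right (mem_of_eq_ker hker y x hxy))
    rwa [mul_inv_cancel_left] at this
  · refine sup_le (fun x hx => ?_) fun t ht => ?_
    · exact (mem_preimage_iff ⟨x, hP hx⟩).2 ⟨⟨x, hP hx⟩, hx, rfl⟩
    · refine (mem_preimage_iff ⟨t, hT ht⟩).2 ?_
      rw [(hker ⟨t, hT ht⟩).2 ht]
      exact one_mem _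

theorem imageAlong_preimage (hr : θ.range = S') {P' : Subgroup Ω'} (hP' : P' ≤ S') :
    imageAlong θ (preimageAlong θ P') = P' := by
  ext y
  rw [mem_image_iff]
  constructor
  · rintro ⟨x, hx, rfl⟩
    exact (mem_preimage_iff x).1 hx
  · intro hy
    obtain ⟨x, rfl⟩ := hr.ge (hP' hy)
    exact ⟨x, (mem_preimage_iff x).2 hy, rfl⟩

/-- A map defined on a subgroup containing the kernel induces a map on the image. -/
theorem exists_induced (hker : ∀ s : S, θ s = 1 ↔ (s : Ω) ∈ T) (hT : F.StronglyClosed T)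
    {Q : Subgroup Ω} {χ : Q →* Ω} (hχ : χ ∈ F.Hom Q) :
    ∃ φ' : imageAlong θ Q →* Ω', InducedAlong θ χ φ' := by
  have hQ := source_le hχ
  let f : Q →* imageAlong θ Q := (θ.comp (Subgroup.inclusion hQ)).codRestrict _ fun x =>
    mem_image_iff.2 ⟨_, x.2, rfl⟩
  let g : Q →* Ω' := θ.comp (χ.codRestrict S (apply_mem hχ))
  have hf : Function.Surjective f := by
    rintro ⟨y, hy⟩
    obtain ⟨x, hx, rfl⟩ := mem_image_iff.1 hy
    exact ⟨⟨x, hx⟩, rfl⟩
  have hfg : f.ker ≤ g.ker := fun x hx =>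
    (hker _).2 (StronglyClosed.map_mem hT hχ x ((hker _).1 (congrArg Subtype.val hx)))
  exact ⟨MonoidHom.liftOfSurjective f hf ⟨g, hfg⟩, hQ, apply_mem hχ, fun x => (f x).2,
    fun x => MonoidHom.liftOfRightInverse_comp_apply f _ _ ⟨g, hfg⟩ x⟩

/-- The factor system modulo a strongly closed subgroup. -/
noncomputable def factorSystem [Finite S] (F : FusionSystem S) {T : Subgroup Ω}
    (hT : F.StronglyClosed T) (θ : S →* Ω') (hker : ∀ s : S, θ s = 1 ↔ (s : Ω) ∈ T)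
    (hr : θ.range = S') : FusionSystem S' where
  Hom P' := {φ' | P' ≤ S' ∧ ∃ φ ∈ F.Hom (preimageAlong θ P'), InducedAlong θ φ φ'}
  le_of_mem := by
    rintro P' φ' ⟨hP', φ, hφ, hP, hφS, hm, h⟩
    refine ⟨hP', fun y => ?_⟩
    obtain ⟨x, hx⟩ := hr.ge (hP' y.2)
    have hxP : (x : Ω) ∈ preimageAlong θ P' := (mem_preimage_iff x).2 (hx ▸ y.2)
    have h1 := h ⟨x, hxP⟩
    rw [show y = ⟨θ x, (mem_preimage_iff x).1 hxP⟩ from Subtype.ext hx.symm, h1, ← hr]
    exact ⟨_, rfl⟩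
  injective_of_mem := by
    rintro P' φ' ⟨hP', φ, hφ, hP, hφS, hm, h⟩
    rw [injective_iff_map_eq_one]
    intro y hy
    obtain ⟨x, hx⟩ := hr.ge (hP' y.2)
    have hxP : (x : Ω) ∈ preimageAlong θ P' := (mem_preimage_iff x).2 (hx ▸ y.2)
    have h1 := h ⟨x, hxP⟩
    rw [show (⟨θ ⟨(⟨(x : Ω), hxP⟩ : preimageAlong θ P'), _⟩, hm ⟨x, hxP⟩⟩ : P') = y from
      Subtype.ext hx, hy] at h1
    refine Subtype.ext (hx.symm.trans ((hker x).2 ?_))
    exact (StronglyClosed.map_mem_iff hT hφ ⟨x, hxP⟩).1 ((hker _).1 h1.symm)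
  conj_mem := by
    intro P' g' hP' hg'
    obtain ⟨g, rfl⟩ := hr.ge hg'
    refine ⟨hP', conjHom _ g, F.conj_mem (preimage_le θ P') g.2, preimage_le θ P',
      fun x => ?_, fun x => (mem_preimage_iff (θ := θ) (P' := P') ⟨x, preimage_le θ P' x.2⟩).1 x.2, fun x => ?_⟩
    · exact S.mul_mem (S.mul_mem g.2 (preimage_le θ P' x.2)) (S.inv_mem g.2)
    · show θ g * θ ⟨x, _⟩ * (θ g)⁻¹ = _
      rw [← map_inv, ← map_mul, ← map_mul]
      rfl
  comp_mem := by
    rintro P' Q' φ' ψ' ⟨hP', φ, hφ, hP, hφS, hm, h⟩ ⟨-, ψ, hψ, hQ, hψS, hn, k⟩ hc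
    have hφQ : ∀ x, φ x ∈ preimageAlong θ Q' := fun x =>
      (mem_preimage_iff ⟨φ x, hφS x⟩).2 (h x ▸ hc _)
    refine ⟨hP', compose φ ψ hφQ, compose_mem F hφ hψ hφQ, hP, fun x => hψS _, hm, fun x => ?_⟩
    show ψ' ⟨φ' ⟨θ _, hm x⟩, _⟩ = θ ⟨ψ ⟨φ x, hφQ x⟩, _⟩
    rw [← k ⟨φ x, hφQ x⟩]
    exact congrArg ψ' (Subtype.ext (h x))
  inv_mem := by
    rintro P' φ' ⟨hP', φ, hφ, hP, hφS, hm, h⟩
    have hval : ∀ (y : P'), ∃ x : preimageAlong θ P', θ ⟨x, hP x.2⟩ = y := by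
      intro y
      obtain ⟨x, hx⟩ := hr.ge (hP' y.2)
      exact ⟨⟨x, (mem_preimage_iff x).2 (hx ▸ y.2)⟩, hx⟩
    have hinj : Function.Injective φ' := by
      rw [injective_iff_map_eq_one]
      intro y hy
      obtain ⟨x, hx⟩ := hval y
      have h1 := h x
      rw [show (⟨θ ⟨x, hP x.2⟩, hm x⟩ : P') = y from Subtype.ext hx, hy] at h1
      exact Subtype.ext (hx.symm.trans ((hker _).2
        ((StronglyClosed.map_mem_iff hT hφ x).1 ((hker _).1 h1.symm))))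
    have hT' : T ≤ preimageAlong θ P' := fun t ht =>
      (mem_preimage_iff ⟨t, hT.1 ht⟩).2 (by rw [(hker ⟨t, hT.1 ht⟩).2 ht]; exact one_mem _)
    have hpre : φ.range = preimageAlong θ φ'.range := by
      refine le_antisymm ?_ ?_
      · rintro _ ⟨x, rfl⟩
        exact (mem_preimage_iff ⟨φ x, hφS x⟩).2 ⟨⟨_, hm x⟩, h x⟩
      · rintro _ ⟨z, ⟨y, hy⟩, rfl⟩
        obtain ⟨x, hx⟩ := hval y
        have h1 := h x
        rw [show (⟨θ ⟨x, hP x.2⟩, hm x⟩ : P') = y from Subtype.ext hx, hy] at h1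
        have h2 := mem_of_eq_ker hker ⟨φ x, hφS x⟩ z h1.symm
        have h3 : φ x⁻¹⁻¹ * ((φ x)⁻¹ * (z : Ω)) ∈ φ.range :=
          mul_mem ⟨_, rfl⟩ ((WeaklyClosed.img_eq (StronglyClosed.weaklyClosed hT) hφ hT').ge.trans
            (img_le_range φ T) h2)
        rwa [inv_inv, mul_inv_cancel_left] at h3
    obtain ⟨c, hc, -, hl, -⟩ := exists_inv F hφ hpre
    have hle : φ'.range ≤ S' := by
      rintro _ ⟨y, rfl⟩
      obtain ⟨x, hx⟩ := hval y
      rw [show y = ⟨θ ⟨x, hP x.2⟩, hm x⟩ from Subtype.ext hx.symm, h x, ← hr]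
      exact ⟨_, rfl⟩
    let ψ' : φ'.range →* Ω' := P'.subtype.comp (MonoidHom.ofInjective hinj).symm.toMonoidHom
    have hψ' : ∀ y : P', ψ' ⟨φ' y, ⟨y, rfl⟩⟩ = y := fun y => congrArg Subtype.val
      ((MonoidHom.ofInjective hinj).symm_apply_apply y)
    refine ⟨ψ', ⟨hle, c, hc, preimage_le θ _, apply_mem hc,
      fun z => (mem_preimage_iff (θ := θ) (P' := φ'.range) ⟨z, preimage_le θ _ z.2⟩).1 z.2, ?_⟩, hψ'⟩
    rintro ⟨z, hz⟩
    obtain ⟨x, rfl⟩ := hpre.ge hz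
    have e : (⟨θ ⟨φ x, preimage_le θ _ hz⟩, (mem_preimage_iff ⟨φ x, hφS x⟩).1 hz⟩ : φ'.range) =
        ⟨φ' ⟨_, hm x⟩, ⟨_, rfl⟩⟩ := Subtype.ext (h x).symm
    refine (congrArg ψ' e).trans ((hψ' _).trans ?_)
    exact congrArg θ (Subtype.ext (hl x hz).symm)

theorem factorSystem_spec [Finite S] (hT : F.StronglyClosed T)
    (hker : ∀ s : S, θ s = 1 ↔ (s : Ω) ∈ T) (hr : θ.range = S') :
    F.IsFactorSystem T θ (factorSystem F hT θ hker hr) :=
  ⟨hT.1, hker, hr, fun _ _ => Iff.rfl⟩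

/-- Puig: the quotient map is a surjective morphism onto the factor system. -/
theorem isSurjectiveMorphism_factor {p : ℕ} [Fact p.Prime] [Finite S] (hS : IsPGroup p S)
    (hF : F.IsSaturated p) (hT : F.StronglyClosed T) {E : FusionSystem S'}
    (hE : F.IsFactorSystem T θ E) : F.IsSurjectiveMorphism E θ := by
  obtain ⟨-, hker, hr, hiff⟩ := hE
  refine ⟨⟨fun s => hr ▸ ⟨s, rfl⟩, fun P φ hφ => ?_⟩, hr,
    fun P' hP' φ' hφ' => ((hiff P' φ').1 hφ').2⟩
  have hP := source_le hφ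
  obtain ⟨χ, hχ, hcong⟩ := exists_lift_mod hS hF hT hφ
  obtain ⟨χ', hχ', hmod⟩ : ∃ χ' ∈ F.Hom (preimageAlong θ (imageAlong θ P)),
      ∀ (x : P) (hx : (x : Ω) ∈ preimageAlong θ (imageAlong θ P)),
        (φ x)⁻¹ * χ' ⟨x, hx⟩ ∈ T := by
    rw [preimage_imageAlong hker hT.1 hP]
    exact ⟨χ, hχ, fun x _ => hcong x⟩
  have hPle : imageAlong θ P ≤ S' := by
    rw [← hr]
    rintro _ ⟨x, -, rfl⟩
    exact ⟨x, rfl⟩
  obtain ⟨φ', hφ'⟩ : ∃ φ' : imageAlong θ P →* Ω', InducedAlong θ χ' φ' := by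
    have := exists_induced hker hT hχ'
    rwa [imageAlong_preimage hr hPle] at this
  refine ⟨φ', (hiff _ φ').2 ⟨hPle, χ', hχ', hφ'⟩, ?_⟩
  obtain ⟨h1, h2, h3, h4⟩ := hφ'
  have hmem : ∀ x : P, (x : Ω) ∈ preimageAlong θ (imageAlong θ P) := fun x =>
    (mem_preimage_iff (θ := θ) (P' := imageAlong θ P) ⟨x, hP x.2⟩).2 ⟨⟨x, hP x.2⟩, x.2, rfl⟩
  refine ⟨hP, apply_mem hφ, fun x => mem_image_iff.2 ⟨_, x.2, rfl⟩, fun x => ?_⟩
  refine (h4 ⟨x, hmem x⟩).trans (eq_of_ker hker _ _ ?_).symm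
  exact hmod x (hmem x)

end Quotient

end Cfsg.Agent.Lib.Fusion
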