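import Cfsg.Agent.Lib.Fusion.Factor
import Cfsg.Agent.Lib.Fusion.Axioms

/-!
The factor system of a saturated system is saturated; morphisms onto a system.
-/

set_option autoImplicit false
set_option linter.unusedSectionVars false

namespace Cfsg.Agent.Lib.Fusion

open Cfsg Cfsg.FusionSystem

variable {Ω : Type*} [Group Ω] {S : Subgroup Ω} {F : FusionSystem S} {T : Subgroup Ω}
  {Ω' : Type*} [Group Ω'] {S' : Subgroup Ω'} {θ : S →* Ω'} {E : FusionSystem S'}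

/-- Membership in a fully automized Sylow subgroup can be arranged inside a normal subgroup. -/
theorem exists_conj_mem_of_sup {A : Type*} [Group A] [Finite A] {p : ℕ} [Fact p.Prime]
    (R : Sylow p A) (K : Subgroup A) [K.Normal] {X : Subgroup A} (hXp : IsPGroup p X)
    (hX : X ≤ (R : Subgroup A) ⊔ K) :
    ∃ k ∈ K, ∀ x ∈ X, k * x * k⁻¹ ∈ (R : Subgroup A) := by
  set H := (R : Subgroup A) ⊔ K
  obtain ⟨U, hU⟩ := (hXp.of_equiv (Subgroup.subgroupOfEquivOfLe hX).symm).exists_le_sylow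
  obtain ⟨⟨e, he⟩, heU⟩ :=
    MulAction.exists_smul_eq H U (R.subtype (le_sup_left : (R : Subgroup A) ≤ H))
  obtain ⟨r, hr, k, hk, rfl⟩ := Subgroup.mem_sup_of_normal_right.1 he
  refine ⟨k, hk, fun x hx => ?_⟩
  have h1 : (⟨x, hX hx⟩ : H) ∈ (U : Subgroup H) := hU hx
  have h2 : (⟨r * k, he⟩ : H) * ⟨x, hX hx⟩ * (⟨r * k, he⟩ : H)⁻¹ ∈
      (R.subtype (le_sup_left : (R : Subgroup A) ≤ H) : Subgroup H) := by
    rw [← heU, Sylow.coe_subgroup_smul]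
    exact ⟨_, h1, rfl⟩
  have h3 : r * k * x * (r * k)⁻¹ ∈ (R : Subgroup A) := h2
  have h4 := (R : Subgroup A).mul_mem
    ((R : Subgroup A).mul_mem ((R : Subgroup A).inv_mem hr) h3) hr
  simpa [mul_assoc] using h4

variable [Finite S]

/-- The image of a lift of a map with image `Q'` is the preimage of `Q'`. -/
theorem range_lift (hker : ∀ s : S, θ s = 1 ↔ (s : Ω) ∈ T) (hT : F.StronglyClosed T)
    (hr : θ.range = S') {R' Q' : Subgroup Ω'} (hR' : R' ≤ S') {φ' : R' →* Ω'}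
    (hQ : φ'.range = Q') {φ : preimageAlong θ R' →* Ω}
    (hφ : φ ∈ F.Hom (preimageAlong θ R')) (h : InducedAlong θ φ φ') :
    φ.range = preimageAlong θ Q' := by
  obtain ⟨hP, hφS, hm, h⟩ := h
  subst hQ
  refine le_antisymm ?_ ?_
  · rintro _ ⟨x, rfl⟩
    exact (mem_preimage_iff (θ := θ) ⟨φ x, hφS x⟩).2 ⟨⟨_, hm x⟩, h x⟩
  · rintro _ ⟨z, ⟨y, hy⟩, rfl⟩
    obtain ⟨x₀, hx₀⟩ := hr.ge (hR' y.2)
    have hxP : (x₀ : Ω) ∈ preimageAlong θ R' := (mem_preimage_iff x₀).2 (hx₀ ▸ y.2)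
    have h1 := h ⟨x₀, hxP⟩
    rw [show (⟨θ ⟨(⟨(x₀ : Ω), hxP⟩ : preimageAlong θ R'), _⟩, hm ⟨x₀, hxP⟩⟩ : R') = y from
      Subtype.ext hx₀, hy] at h1
    have h2 := mem_of_eq_ker hker ⟨φ ⟨x₀, hxP⟩, hφS _⟩ z h1.symm
    have hT' : T ≤ preimageAlong θ R' := fun t ht =>
      (mem_preimage_iff (θ := θ) (P' := R') ⟨t, hT.1 ht⟩).2
        (by rw [(hker ⟨t, hT.1 ht⟩).2 ht]; exact one_mem _)
    have h3 := mul_mem (⟨⟨x₀, hxP⟩, rfl⟩ : φ ⟨x₀, hxP⟩ ∈ φ.range)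
      ((WeaklyClosed.img_eq (StronglyClosed.weaklyClosed hT) hφ hT').ge.trans
        (img_le_range φ T) h2)
    rwa [mul_inv_cancel_left] at h3

theorem kernel_le_preimage (hker : ∀ s : S, θ s = 1 ↔ (s : Ω) ∈ T) (hT : T ≤ S)
    (P' : Subgroup Ω') : T ≤ preimageAlong θ P' := fun t ht =>
  (mem_preimage_iff (θ := θ) (P' := P') ⟨t, hT ht⟩).2
    (by rw [(hker ⟨t, hT ht⟩).2 ht]; exact one_mem _)

theorem normalizer_preimage {Q' : Subgroup Ω'} {g : S}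
    (hg : θ g ∈ Subgroup.normalizer (Q' : Set Ω')) :
    (g : Ω) ∈ Subgroup.normalizer (preimageAlong θ Q' : Set Ω) := by
  refine mem_normalizer_iff'.2 ⟨?_, ?_⟩
  · rintro _ ⟨x, hx, rfl⟩
    refine (mem_preimage_iff (g * x * g⁻¹)).2 ?_
    rw [map_mul, map_mul, map_inv]
    exact conj_mem_of_mem_normalizer hg hx
  · rintro _ ⟨x, hx, rfl⟩
    refine (mem_preimage_iff (g⁻¹ * x * g)).2 ?_
    rw [map_mul, map_mul, map_inv]
    exact (mem_normalizer_iff'.1 hg).2 _ hx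

variable {p : ℕ} [Fact p.Prime]

/-- The image of a fully normalized preimage is receptive. -/
theorem receptive_factor (hS : IsPGroup p S) (hF : F.IsSaturated p) (hT : F.StronglyClosed T)
    (hE : F.IsFactorSystem T θ E) {Q' : Subgroup Ω'} (hQ' : Q' ≤ S')
    (hn : F.IsFullyNormalized (preimageAlong θ Q')) : E.IsReceptive Q' := by
  obtain ⟨-, hker, hr, hiff⟩ := hE
  set Q := preimageAlong θ Q'
  obtain ⟨hfa, hrec⟩ := IsSaturated.automized_receptive hS hF hn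
  obtain ⟨hQS, Rs, hRs⟩ := hfa
  refine ⟨hQ', fun R' φ' hφ' hrange => ?_⟩
  set R := preimageAlong θ R' with hR
  obtain ⟨hR', φ, hφ, hind⟩ := (hiff R' φ').1 hφ'
  have hφr : φ.range = Q := range_lift hker hT hr hR' hrange hφ hind
  obtain ⟨hP, hφS, hm, hind⟩ := hind
  set N' := extender S' R' φ'
  set N := preimageAlong θ N'
  have hNR : N ≤ normalizerIn S R := by
    rintro _ ⟨g, hg, rfl⟩
    exact ⟨g.2, normalizer_preimage (mem_extender.1 hg).2.1⟩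
  have := finite_mulAut hQS
  have hKn := modKer_normal hT hQS
  let i := isoOf φ (F.injective_of_mem hφ) hφr
  let X₀ := (autInducedBy N R).map (MulAut.congr i).toMonoidHom
  have hNS : N ≤ S := hNR.trans (normalizerIn_le S R)
  have hX₀ : X₀ ≤ F.autGroup Q :=
    (Subgroup.map_mono ((autInducedBy_mono hNS).trans (autInducedBy_le_autGroup F hP))).trans
      (map_congr_autGroup F hφ hφr).le
  have hX₀p : IsPGroup p X₀ := by
    have := finite_of_le hNS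
    exact (isPGroup_autInducedBy (hS.to_le hNS) R).map _
  have hXH : X₀.subgroupOf (F.autGroup Q) ≤ (Rs : Subgroup (F.autGroup Q)) ⊔ modKer hT hQS := by
    rintro ⟨_, hξ⟩ ⟨c, hc, rfl⟩
    obtain ⟨g, hgN, hgE, rfl⟩ := mem_autInducedBy_iff_conjAut.1 hc
    obtain ⟨g₀, hg₀, rfl⟩ := hgE
    obtain ⟨-, hgN', h', hh', H'⟩ := mem_extender.1 hg₀
    obtain ⟨h, rfl⟩ := hr.ge hh'
    have key : ∀ x : R, θ ⟨φ (conjAut hgN x), hφS _⟩ = θ (h * ⟨φ x, hφS x⟩ * h⁻¹) := by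
      intro x
      have hmem : θ g₀ * θ ⟨x, hP x.2⟩ * (θ g₀)⁻¹ ∈ R' := conj_mem_of_mem_normalizer hgN' (hm x)
      rw [map_mul, map_mul, map_inv, ← hind x, ← H' ⟨_, hm x⟩ hmem, ← hind (conjAut hgN x)]
      refine congrArg φ' (Subtype.ext ?_)
      show θ ⟨(g₀ : Ω) * x * (g₀ : Ω)⁻¹, _⟩ = θ g₀ * θ ⟨x, hP x.2⟩ * (θ g₀)⁻¹
      rw [← map_inv, ← map_mul, ← map_mul]
      rfl
    have hhN : (h : Ω) ∈ Subgroup.normalizer (Q : Set Ω) := by
      have := finite_of_le hQS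
      refine mem_normalizer_of_finite fun y hy => ?_
      rw [← hφr] at hy
      obtain ⟨x, rfl⟩ := hy
      have h1 : (φ (conjAut hgN x) : Ω) ∈ Q := hφr.le ⟨_, rfl⟩
      have h2 := mem_of_eq_ker hker _ _ (key x)
      have h3 := Q.mul_mem h1 (kernel_le_preimage hker hT.1 Q' h2)
      rwa [mul_inv_cancel_left] at h3
    let η : F.autGroup Q := ⟨conjAut hhN, conjAut_mem_autGroup F hQS h.2 hhN⟩
    have hη : η ∈ (Rs : Subgroup (F.autGroup Q)) := by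
      rw [hRs]
      exact conjAut_mem_autInducedBy h.2 hhN
    have hk : η⁻¹ * ⟨_, hξ⟩ ∈ modKer hT hQS := by
      intro y
      obtain ⟨x, rfl⟩ := i.surjective y
      have e : (((η⁻¹ * ⟨_, hξ⟩ : F.autGroup Q) : MulAut Q) (i x) : Ω) =
          (h : Ω)⁻¹ * φ (conjAut hgN x) * (h : Ω) := by
        set z := ((η⁻¹ * ⟨_, hξ⟩ : F.autGroup Q) : MulAut Q) (i x)
        have hz : conjAut hhN z = i (conjAut hgN x) := by
          show conjAut hhN ((conjAut hhN).symm (i (conjAut hgN (i.symm (i x))))) = _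
          rw [MulEquiv.apply_symm_apply, MulEquiv.symm_apply_apply]
        have hz' : (h : Ω) * z * (h : Ω)⁻¹ = φ (conjAut hgN x) := congrArg Subtype.val hz
        rw [← hz']
        group
      rw [e, isoOf_coe]
      have h2 := StronglyClosed.conj_mem_self hT (S.inv_mem h.2)
        (mem_of_eq_ker hker _ _ (key x).symm)
      rw [inv_inv] at h2
      simpa [mul_assoc] using h2
    have h5 := Subgroup.mul_mem ((Rs : Subgroup (F.autGroup Q)) ⊔ modKer hT hQS)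
      (Subgroup.mem_sup_left hη) (Subgroup.mem_sup_right hk)
    rwa [mul_inv_cancel_left] at h5
  obtain ⟨k, hkK, hkX⟩ := exists_conj_mem_of_sup Rs (modKer hT hQS)
    (hX₀p.of_equiv (Subgroup.subgroupOfEquivOfLe hX₀).symm) hXH
  have hφQ : ∀ x, φ x ∈ Q := fun x => hφr.le ⟨x, rfl⟩
  let φ₁ := compose φ (autHom (k : MulAut Q)) hφQ
  have hφ₁ : φ₁ ∈ F.Hom R := compose_mem F hφ (autHom_mem F hQS k.2) hφQ
  have hr₁ : φ₁.range = Q := by rw [range_compose, hφr, img_self, range_autHom]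
  have hN : N ≤ extender S R φ₁ := by
    intro g hg
    rw [mem_extender_iff_congr (F.injective_of_mem hφ₁) hr₁ (hNR hg)]
    have e : isoOf φ₁ (F.injective_of_mem hφ₁) hr₁ = i.trans (k : MulAut Q) :=
      MulEquiv.ext fun x => Subtype.ext rfl
    rw [e]
    have hmemX : MulAut.congr i (conjAut (hNR hg).2) ∈ X₀ :=
      ⟨_, conjAut_mem_autInducedBy hg (hNR hg).2, rfl⟩
    have h1 := hkX ⟨_, hX₀ hmemX⟩ hmemX
    rw [hRs] at h1
    exact h1
  obtain ⟨ψ, hψ, hext, -⟩ := IsReceptive.extend hrec hφ₁ hr₁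
  have hψN : restr hN ψ ∈ F.Hom N := restr_mem F hψ hN
  have hN'S : N' ≤ S' := extender_le S' R' φ'
  obtain ⟨ψ', hψ'⟩ : ∃ ψ' : N' →* Ω', InducedAlong θ (restr hN ψ) ψ' := by
    have := exists_induced hker hT hψN
    rwa [imageAlong_preimage hr hN'S] at this
  refine ⟨ψ', (hiff N' ψ').2 ⟨hN'S, _, hψN, hψ'⟩, fun x' hxR hxN => ?_⟩
  obtain ⟨hP_, hψS, hm', hind'⟩ := hψ'
  obtain ⟨x, rfl⟩ := hr.ge (hR' hxR)
  have hxN' : (x : Ω) ∈ N := (mem_preimage_iff x).2 hxN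
  have hxR' : (x : Ω) ∈ R := (mem_preimage_iff x).2 hxR
  refine (hind' ⟨x, hxN'⟩).trans ?_
  refine Eq.trans ?_ (hind ⟨x, hxR'⟩).symm
  refine (eq_of_ker hker _ _ ?_).symm
  show (φ ⟨x, hxR'⟩)⁻¹ * ψ ⟨x, hN hxN'⟩ ∈ T
  rw [hext x hxR' (hN hxN')]
  exact hkK ⟨_, hφQ ⟨x, hxR'⟩⟩

/-- The image of a fully normalized preimage is fully automized. -/
theorem automized_factor (hS : IsPGroup p S) (hF : F.IsSaturated p) (hT : F.StronglyClosed T)
    (hE : F.IsFactorSystem T θ E) {Q' : Subgroup Ω'} (hQ' : Q' ≤ S')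
    (hn : F.IsFullyNormalized (preimageAlong θ Q')) : E.IsFullyAutomized p Q' := by
  obtain ⟨-, hker, hr, hiff⟩ := hE
  set Q := preimageAlong θ Q' with hQdef
  obtain ⟨hQS, Rs, hRs⟩ := (IsSaturated.automized_receptive hS hF hn).1
  have hlift : ∀ y : Q', ∃ x : Q, θ ⟨x, hQS x.2⟩ = y := by
    intro y
    obtain ⟨x, hx⟩ := hr.ge (hQ' y.2)
    exact ⟨⟨x, (mem_preimage_iff x).2 (hx ▸ y.2)⟩, hx⟩
  have hcomp : ∀ α : F.autGroup Q, ∃ β ∈ E.autGroup Q',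
      ∀ (x : Q) (hx : θ ⟨x, hQS x.2⟩ ∈ Q'),
        ((β ⟨_, hx⟩ : Q') : Ω') = θ ⟨(α : MulAut Q) x, hQS (((α : MulAut Q) x)).2⟩ := by
    intro α
    have hα := autHom_mem F hQS α.2
    obtain ⟨φ', hφ'⟩ : ∃ φ' : Q' →* Ω', InducedAlong θ (autHom (α : MulAut Q)) φ' := by
      have := exists_induced hker hT hα
      rwa [imageAlong_preimage hr hQ'] at this
    have hmem : φ' ∈ E.Hom Q' := (hiff Q' φ').2 ⟨hQ', _, hα, hφ'⟩
    obtain ⟨hP_, hφS_, hm, h⟩ := hφ'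
    have hrange : φ'.range = Q' := by
      ext y
      constructor
      · rintro ⟨z, rfl⟩
        obtain ⟨x, hx⟩ := hlift z
        rw [show z = ⟨θ ⟨x, hQS x.2⟩, hm x⟩ from Subtype.ext hx.symm, h x]
        exact hm ((α : MulAut Q) x)
      · intro hy
        obtain ⟨x, hx⟩ := hlift ⟨y, hy⟩
        refine ⟨⟨_, hm ((α : MulAut Q).symm x)⟩, ?_⟩
        rw [h]
        refine Eq.trans ?_ hx
        refine congrArg θ (Subtype.ext ?_)
        show (((α : MulAut Q) ((α : MulAut Q).symm x) : Q) : Ω) = x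
        rw [MulEquiv.apply_symm_apply]
    exact ⟨isoOf φ' (E.injective_of_mem hmem) hrange, mem_autGroup_of_hom E hmem, fun x hx => h x⟩
  choose π hπmem hπ using hcomp
  let f : F.autGroup Q →* E.autGroup Q' :=
    MonoidHom.mk' (fun α => ⟨π α, hπmem α⟩) fun a b => Subtype.ext (MulEquiv.ext fun y => by
      obtain ⟨x, hx⟩ := hlift y
      have hy : θ ⟨x, hQS x.2⟩ ∈ Q' := hx ▸ y.2
      rw [show y = ⟨_, hy⟩ from Subtype.ext hx.symm]
      refine Subtype.ext ?_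
      have h2 : θ ⟨((b : MulAut Q) x : Q), hQS ((b : MulAut Q) x).2⟩ ∈ Q' :=
        (mem_preimage_iff (θ := θ) ⟨_, hQS ((b : MulAut Q) x).2⟩).1 ((b : MulAut Q) x).2
      show (π (a * b) ⟨_, hy⟩ : Ω') = (π a (π b ⟨_, hy⟩) : Ω')
      rw [hπ (a * b) x hy, show π b ⟨_, hy⟩ = ⟨_, h2⟩ from Subtype.ext (hπ b x hy), hπ a _ h2]
      rfl)
  have hf : Function.Surjective f := by
    rintro ⟨β, hβ⟩
    obtain ⟨-, φ, hφ, hind⟩ := (hiff Q' (autHom β)).1 (autHom_mem E hQ' hβ)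
    have hφr : φ.range = Q := range_lift hker hT hr hQ' (range_autHom β) hφ hind
    obtain ⟨hP_, hφS, hm, h⟩ := hind
    refine ⟨⟨isoOf φ (F.injective_of_mem hφ) hφr, mem_autGroup_of_hom F hφ⟩,
      Subtype.ext (MulEquiv.ext fun y => ?_)⟩
    obtain ⟨x, hx⟩ := hlift y
    have hy : θ ⟨x, hQS x.2⟩ ∈ Q' := hx ▸ y.2
    rw [show y = ⟨_, hy⟩ from Subtype.ext hx.symm]
    refine Subtype.ext ?_
    show (π _ ⟨_, hy⟩ : Ω') = _
    rw [hπ _ x hy]
    exact (h x).symm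
  have := finite_mulAut hQS
  have : Finite (E.autGroup Q') := Finite.of_surjective f hf
  refine ⟨hQ', Rs.mapSurjective hf, ?_⟩
  rw [Sylow.coe_mapSurjective, hRs]
  ext β
  constructor
  · rintro ⟨α, hα, rfl⟩
    obtain ⟨g, hgN, hgS, hgα⟩ := mem_autInducedBy_iff_conjAut.1 (Subgroup.mem_subgroupOf.1 hα)
    refine mem_autInducedBy.2 ⟨θ ⟨g, hgS⟩, hr ▸ ⟨_, rfl⟩, fun y => ?_⟩
    obtain ⟨x, hx⟩ := hlift y
    have hy : θ ⟨x, hQS x.2⟩ ∈ Q' := hx ▸ y.2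
    rw [show y = ⟨_, hy⟩ from Subtype.ext hx.symm]
    show (π α ⟨_, hy⟩ : Ω') = _
    rw [hπ α x hy, ← map_inv, ← map_mul, ← map_mul]
    refine congrArg θ (Subtype.ext ?_)
    show (((α : MulAut Q) x : Q) : Ω) = _
    rw [← hgα]
    rfl
  · intro hβ
    obtain ⟨g', hgN', hgS', hgβ⟩ := mem_autInducedBy_iff_conjAut.1 (Subgroup.mem_subgroupOf.1 hβ)
    obtain ⟨g, rfl⟩ := hr.ge hgS'
    have hgN := normalizer_preimage (θ := θ) hgN'
    refine ⟨⟨conjAut hgN, conjAut_mem_autGroup F hQS g.2 hgN⟩,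
      conjAut_mem_autInducedBy g.2 hgN, Subtype.ext (MulEquiv.ext fun y => Subtype.ext ?_)⟩
    obtain ⟨x, hx⟩ := hlift y
    have hy : θ ⟨x, hQS x.2⟩ ∈ Q' := hx ▸ y.2
    rw [show y = ⟨_, hy⟩ from Subtype.ext hx.symm]
    show (π _ ⟨_, hy⟩ : Ω') = _
    rw [hπ _ x hy, ← hgβ]
    show θ ⟨(g : Ω) * x * (g : Ω)⁻¹, _⟩ = θ g * θ ⟨x, hQS x.2⟩ * (θ g)⁻¹
    rw [← map_inv, ← map_mul, ← map_mul]
    rfl

/-- The factor system of a saturated system is saturated. -/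
theorem factor_isSaturated (hS : IsPGroup p S) (hF : F.IsSaturated p) (hT : F.StronglyClosed T)
    (hE : F.IsFactorSystem T θ E) : E.IsSaturated p := by
  obtain ⟨-, hker, hr, hiff⟩ := id hE
  intro P' hP'
  set P := preimageAlong θ P'
  obtain ⟨Q, ⟨χ, hχ, hχr⟩, hQ⟩ := exists_fullyNormalized F (preimage_le θ P')
  have hTQ : T ≤ Q := by
    rw [← hχr]
    exact (WeaklyClosed.img_eq (StronglyClosed.weaklyClosed hT) hχ
      (kernel_le_preimage hker hT.1 P')).ge.trans (img_le_range χ T)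
  obtain ⟨χ', hχ'⟩ : ∃ χ' : P' →* Ω', InducedAlong θ χ χ' := by
    have := exists_induced hker hT hχ
    rwa [imageAlong_preimage hr hP'] at this
  have hmem : χ' ∈ E.Hom P' := (hiff P' χ').2 ⟨hP', χ, hχ, hχ'⟩
  have hpre : preimageAlong θ χ'.range = Q := by
    rw [← range_lift hker hT hr hP' rfl hχ hχ', hχr]
  have hQ' : χ'.range ≤ S' := range_le hmem
  exact ⟨χ'.range, ⟨χ', hmem, rfl⟩, automized_factor hS hF hT hE hQ' (hpre.symm ▸ hQ),
    receptive_factor hS hF hT hE hQ' (hpre.symm ▸ hQ)⟩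

theorem ker_stronglyClosed {F' : FusionSystem S'} (hα : F.IsMorphism F' θ) :
    F.StronglyClosed ((θ.ker).map S.subtype) := by
  obtain ⟨-, hm⟩ := hα
  refine ⟨Subgroup.map_subtype_le _, fun R hR φ hφ x => ?_⟩
  obtain ⟨φ', -, hP, hφS, hP', hind⟩ := hm R φ hφ
  obtain ⟨y, hy, hyx⟩ := hR x.2
  have h1 : θ ⟨x, hP x.2⟩ = 1 := by
    rw [← MonoidHom.mem_ker, ← Subtype.ext (a1 := y) (a2 := ⟨x, hP x.2⟩) hyx]
    exact hy
  refine ⟨⟨φ x, hφS x⟩, ?_, rfl⟩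
  show θ ⟨φ x, hφS x⟩ = 1
  rw [← hind x]
  have e : (⟨θ ⟨x, hP x.2⟩, hP' x⟩ : imageAlong θ R) = 1 := Subtype.ext h1
  rw [e, map_one]

/-- A surjective morphism makes the target the factor system by the kernel. -/
theorem isFactorSystem_of_surjective {F' : FusionSystem S'}
    (hα : F.IsSurjectiveMorphism F' θ) :
    F.IsFactorSystem ((θ.ker).map S.subtype) θ F' := by
  obtain ⟨⟨-, hm⟩, hr, hs⟩ := hα
  refine ⟨Subgroup.map_subtype_le _, fun s => ⟨fun h => ⟨s, h, rfl⟩, ?_⟩, hr,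
    fun P' φ' => ⟨fun h => ⟨source_le h, hs P' (source_le h) φ' h⟩, ?_⟩⟩
  · rintro ⟨y, hy, hys⟩
    obtain rfl : y = s := Subtype.ext hys
    exact hy
  · rintro ⟨hP', φ, hφ, hind⟩
    obtain ⟨ψ, hψ, hindψ⟩ : ∃ ψ ∈ F'.Hom P', InducedAlong θ φ ψ := by
      have h1 := hm _ φ hφ
      rwa [imageAlong_preimage hr hP'] at h1
    have : φ' = ψ := by
      obtain ⟨hP, hS₁, hm₁, h₁⟩ := hind
      obtain ⟨hP₂, hS₂, hm₂, h₂⟩ := hindψ
      ext y
      obtain ⟨x, hx⟩ := hr.ge (hP' y.2)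
      have hxP : (x : Ω) ∈ preimageAlong θ P' := (mem_preimage_iff x).2 (hx ▸ y.2)
      rw [show y = ⟨θ ⟨x, hP hxP⟩, hm₁ ⟨x, hxP⟩⟩ from Subtype.ext hx.symm, h₁ ⟨x, hxP⟩,
        h₂ ⟨x, hxP⟩]
    rw [this]
    exact hψ

end Cfsg.Agent.Lib.Fusion
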