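import Cfsg.Agent.Lib.Fusion.SectionFree
import Cfsg.Agent.Lib.Fusion.Quotient
import Cfsg.Agent.Lib.Cores.PCore
import Cfsg.Agent.Lib.Transfer.Frobenius
import Cfsg.Agent.Lib.Cores.Residual

/-!
Factor systems inherit section freeness.

The model of a normalizer in the factor system is the quotient of a model in the system by the
kernel, divided by its largest normal `p'`-subgroup.
-/

set_option autoImplicit false
set_option linter.unusedSectionVars false

namespace Cfsg.Agent.Lib.Fusion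

open Cfsg Cfsg.FusionSystem

universe u v w z

/-- Dividing the realizing group by a normal `p'`-subgroup does not change the system. -/
theorem IsRealizedBy.quotient_pprime {Ω : Type u} [Group Ω] {S : Subgroup Ω} [Finite S] {p : ℕ}
    [Fact p.Prime] {F : FusionSystem S} {G : Type v} [Group G] [Finite G] {ι : S →* G}
    (h : F.IsRealizedBy ι) (T : Sylow p G) (hT : (T : Subgroup G) = ι.range) (K : Subgroup G)
    [K.Normal] (hK : (Nat.card K).Coprime p) :
    F.IsRealizedBy ((QuotientGroup.mk' K).comp ι) := by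
  have hinf : ∀ x : S, ι x ∈ K → x = 1 := by
    intro x hx
    apply h.1
    rw [map_one]
    obtain ⟨n, hn⟩ := IsPGroup.iff_card.1 T.2
    have hd : orderOf (ι x) ∣ p ^ n := by
      have h1 : ι x ∈ (T : Subgroup G) := hT ▸ ⟨x, rfl⟩
      rw [← hn, ← Subgroup.orderOf_mk (ι x) h1]
      exact orderOf_dvd_natCard _
    have hd' : orderOf (ι x) ∣ Nat.card K := by
      rw [← Subgroup.orderOf_mk (ι x) hx]
      exact orderOf_dvd_natCard _
    exact orderOf_eq_one_iff.1 (Nat.eq_one_of_dvd_coprimes (hK.pow_right n) hd' hd)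
  have hi : Function.Injective ((QuotientGroup.mk' K).comp ι) := by
    rw [← MonoidHom.ker_eq_bot_iff, eq_bot_iff]
    intro x hx
    exact Subgroup.mem_bot.2 (hinf x ((QuotientGroup.eq_one_iff _).1 hx))
  refine ⟨hi, fun P hP φ hφ => ⟨fun hm => ?_, ?_⟩⟩
  · obtain ⟨g, hg⟩ := (h.2 P hP φ hφ).1 hm
    exact ⟨QuotientGroup.mk' K g, fun x => congrArg (QuotientGroup.mk' K) (hg x)⟩
  · rintro ⟨g', hg'⟩
    obtain ⟨g, rfl⟩ := QuotientGroup.mk'_surjective K g'
    let X := (P.subgroupOf S).map ((MulAut.conj g).toMonoidHom.comp ι)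
    have := finite_of_le hP
    have hXp : IsPGroup p X := by
      refine IsPGroup.map (IsPGroup.to_subgroup ?_ _) _
      intro s
      obtain ⟨k, hk⟩ := T.2 ⟨ι s, hT ▸ ⟨s, rfl⟩⟩
      refine ⟨k, h.1 ?_⟩
      rw [map_pow, map_one]
      exact congrArg Subtype.val hk
    have hX : X ≤ (T : Subgroup G) ⊔ K := by
      rintro _ ⟨s, hs, rfl⟩
      have h1 : (g * ι s * g⁻¹ : G)⁻¹ * ι ⟨φ ⟨s, hs⟩, hφ _⟩ ∈ K :=
        QuotientGroup.eq.1 (hg' ⟨s, hs⟩).symm
      show g * ι s * g⁻¹ ∈ _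
      have h2 := Subgroup.mul_mem ((T : Subgroup G) ⊔ K)
        (Subgroup.mem_sup_left (show ι ⟨φ ⟨s, hs⟩, hφ _⟩ ∈ (T : Subgroup G) from hT ▸ ⟨_, rfl⟩))
        (Subgroup.mem_sup_right (K.inv_mem h1))
      rwa [mul_inv_rev, inv_inv, mul_inv_cancel_left] at h2
    obtain ⟨k, hk, hkX⟩ := exists_conj_mem_of_sup T K hXp hX
    refine (h.2 P hP φ hφ).2 ⟨k * g, fun x => ?_⟩
    have h1 := hkX _ ⟨⟨x, hP x.2⟩, x.2, rfl⟩
    rw [hT] at h1
    obtain ⟨y, hy⟩ := h1
    have hkg : k * g * ι ⟨x, hP x.2⟩ * (k * g)⁻¹ = ι y := by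
      rw [hy]
      show _ = k * (g * ι ⟨x, hP x.2⟩ * g⁻¹) * k⁻¹
      group
    rw [hkg]
    refine congrArg ι (hi ?_)
    refine (hg' x).trans ?_
    show _ = QuotientGroup.mk' K (ι y)
    rw [← hkg]
    simp only [map_mul, map_inv,
      show QuotientGroup.mk' K k = 1 from (QuotientGroup.eq_one_iff k).2 hk, one_mul]
    rfl

variable {Ω : Type u} [Group Ω] {S : Subgroup Ω} [Finite S] {p : ℕ} [Fact p.Prime]
  {F : FusionSystem S} {Q : Subgroup Ω}
  {Ω' : Type v} [Group Ω'] {S' : Subgroup Ω'} {θ : S →* Ω'} {E : FusionSystem S'}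

/-- The quotient map between normalizers. -/
theorem exists_normalizer_hom (hker : ∀ s : S, θ s = 1 ↔ (s : Ω) ∈ Q) (hr : θ.range = S')
    {P' : Subgroup Ω'} (hP' : P' ≤ S') :
    ∃ θ₁ : ↥(normalizerIn S (preimageAlong θ P')) →* ↥(normalizerIn S' P'),
      (∀ x, ((θ₁ x : ↥(normalizerIn S' P')) : Ω') = θ ⟨x, x.2.1⟩) ∧ Function.Surjective θ₁ := by
  have hfin : Finite S' := by
    rw [← hr]
    exact Finite.of_surjective θ.rangeRestrict θ.rangeRestrict_surjective
  have := finite_of_le hP'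
  let f : ↥(normalizerIn S (preimageAlong θ P')) →* Ω' :=
    θ.comp (Subgroup.inclusion (normalizerIn_le S _))
  have hf : ∀ x, f x ∈ normalizerIn S' P' := by
    intro x
    refine ⟨hr ▸ ⟨_, rfl⟩, mem_normalizer_of_finite fun y hy => ?_⟩
    obtain ⟨z, rfl⟩ := hr.ge (hP' hy)
    have h1 := (mem_preimage_iff (θ := θ) (P' := P') z).2 hy
    have h2 := (mem_preimage_iff (θ := θ) (P' := P') (⟨x, x.2.1⟩ * z * ⟨x, x.2.1⟩⁻¹)).1
      (conj_mem_of_mem_normalizer x.2.2 h1)
    rw [map_mul, map_mul, map_inv] at h2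
    exact h2
  refine ⟨f.codRestrict _ hf, fun x => rfl, fun y => ?_⟩
  obtain ⟨z, hz⟩ := hr.ge y.2.1
  exact ⟨⟨z, z.2, normalizer_preimage (hz ▸ y.2.2)⟩, Subtype.ext hz⟩

theorem card_normalizerIn_preimage (hQS : Q ≤ S) (hker : ∀ s : S, θ s = 1 ↔ (s : Ω) ∈ Q)
    (hr : θ.range = S') {P' : Subgroup Ω'} (hP' : P' ≤ S') :
    Nat.card (normalizerIn S (preimageAlong θ P')) = Nat.card Q * Nat.card (normalizerIn S' P') := by
  obtain ⟨θ₁, hθ₁, hs⟩ := exists_normalizer_hom hker hr hP'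
  have hQN : Q ≤ normalizerIn S (preimageAlong θ P') :=
    (kernel_le_preimage hker hQS P').trans (le_normalizerIn (preimage_le θ P'))
  have e : θ₁.ker = Q.subgroupOf (normalizerIn S (preimageAlong θ P')) := by
    ext x
    rw [MonoidHom.mem_ker, Subgroup.mem_subgroupOf, ← hker ⟨x, x.2.1⟩, ← hθ₁, OneMemClass.coe_eq_one]
  have h1 := θ₁.ker.card_mul_index
  rw [Subgroup.index_ker, MonoidHom.range_eq_top.2 hs, Subgroup.card_top, e,
    Nat.card_congr (Subgroup.subgroupOfEquivOfLe hQN).toEquiv] at h1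
  exact h1.symm

/-- Factor systems inherit section freeness. -/
theorem factor_sectionFree (hS : IsPGroup p S) (hF : F.IsSaturated p) {H : Type w} [Group H]
    (hfree : F.IsSectionFree p H) (hQ : F.StronglyClosed Q) (hE : F.IsFactorSystem Q θ E) :
    E.IsSectionFree p H := by
  intro P' hn' hc' M hM L' _ ι' hL' hinv
  have hEs := factor_isSaturated hS hF hQ hE
  obtain ⟨hQS, hker, hr, hiff⟩ := id hE
  have hP' := hn'.1
  have : Finite S' := by
    rw [← hr]
    exact Finite.of_surjective θ.rangeRestrict θ.rangeRestrict_surjective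
  have hS' : IsPGroup p S' := by
    rw [← hr]
    exact hS.of_surjective θ.rangeRestrict θ.rangeRestrict_surjective
  let P := preimageAlong θ P'
  have hPS : P ≤ S := preimage_le θ P'
  have hQP : Q ≤ P := kernel_le_preimage hker hQS P'
  -- conjugates of `P` are preimages of conjugates of `P'`
  have hconj : ∀ P₁, F.IsConj P P₁ → ∃ P₁', E.IsConj P' P₁' ∧ preimageAlong θ P₁' = P₁ := by
    rintro P₁ ⟨χ, hχ, hχr⟩
    obtain ⟨χ', hχ'⟩ : ∃ χ' : P' →* Ω', InducedAlong θ χ χ' := by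
      have := exists_induced hker hQ hχ
      rwa [imageAlong_preimage hr hP'] at this
    have hmem : χ' ∈ E.Hom P' := (hiff P' χ').2 ⟨hP', χ, hχ, hχ'⟩
    exact ⟨χ'.range, ⟨χ', hmem, rfl⟩,
      (range_lift hker hQ hr hP' rfl hχ hχ').symm.trans hχr⟩
  have hPc : F.IsCentric P := by
    refine ⟨hPS, fun P₁ hP₁ c hc => ?_⟩
    obtain ⟨P₁', hP₁', rfl⟩ := hconj P₁ hP₁
    refine (mem_preimage_iff (θ := θ) ⟨c, hc.1⟩).2 (hc'.2 P₁' hP₁' ⟨hr ▸ ⟨_, rfl⟩, fun y hy => ?_⟩)
    obtain ⟨x, rfl⟩ := hr.ge ((isConj_le_right hP₁') hy)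
    have h1 : x * ⟨c, hc.1⟩ = ⟨c, hc.1⟩ * x :=
      Subtype.ext (hc.2 x ((mem_preimage_iff x).2 hy))
    rw [← map_mul, h1, map_mul]
  have hPn : F.IsFullyNormalized P := by
    refine ⟨hPS, fun P₁ hP₁ => ?_⟩
    obtain ⟨P₁', hP₁', rfl⟩ := hconj P₁ hP₁
    rw [card_normalizerIn_preimage hQS hker hr hP',
      card_normalizerIn_preimage hQS hker hr (isConj_le_right hP₁')]
    exact Nat.mul_le_mul_left _ (hn'.2 _ hP₁')
  let T := normalizerIn S P
  let T' := normalizerIn S' P'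
  obtain ⟨θ₁, hθ₁, hθ₁s⟩ := exists_normalizer_hom hker hr hP'
  have : Finite T := finite_of_le (normalizerIn_le S P)
  have : Finite T' := finite_of_le (normalizerIn_le S' P')
  let N := normalizerSystem F P hPS
  have hN := normalizerSystem_spec F P hPS
  obtain ⟨L, _, ι, hL⟩ := exists_model (hS.to_le (normalizerIn_le S P))
    (IsNormalizerSystem.isConstrained hS hF hPn hPc hN)
  have : Finite L := hL.1
  have hi := hL.2.1.1
  have hPN : N.IsNormal P := IsNormalizerSystem.isNormal hN hPS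
  have hQT : Q ≤ T := hQP.trans (le_normalizerIn hPS)
  -- `Q` is normal in the local system
  have hQN : N.IsNormal Q := by
    refine ⟨hQT, fun X φ hφ => ?_⟩
    obtain ⟨ψ, hψ, hψe, hψP⟩ := hPN.2 X φ hφ
    have hle : X ⊔ Q ≤ X ⊔ P := sup_le_sup_left hQP X
    refine ⟨restr hle ψ, restr_mem N hψ hle, fun x => hψe x, ?_⟩
    show img (restr hle ψ) Q = Q
    rw [img_restr hle ψ le_sup_right]
    exact WeaklyClosed.img_eq (StronglyClosed.weaklyClosed hQ)
      (IsNormalizerSystem.le_system hN hψ) (hQP.trans le_sup_right)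
  let Qn := imageAlong ι Q
  have hQn : Qn.Normal := IsModel.image_normal hL hQN
  let A := L ⧸ Qn
  let q : L →* A := QuotientGroup.mk' Qn
  have hker₁ : θ₁.ker ≤ (q.comp ι).ker := by
    intro x hx
    refine (QuotientGroup.eq_one_iff _).2 (apply_mem_imageAlong ι x ((hker ⟨x, x.2.1⟩).1 ?_))
    rw [← hθ₁, MonoidHom.mem_ker.1 hx, Subgroup.coe_one]
  let ιA : T' →* A := θ₁.liftOfSurjective hθ₁s ⟨q.comp ι, hker₁⟩
  have hιA : ∀ x, ιA (θ₁ x) = q (ι x) := fun x =>
    MonoidHom.liftOfRightInverse_comp_apply θ₁ _ _ ⟨q.comp ι, hker₁⟩ x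
  have hιAi : Function.Injective ιA := by
    rw [← MonoidHom.ker_eq_bot_iff, eq_bot_iff]
    intro y hy
    obtain ⟨x, rfl⟩ := hθ₁s y
    have h1 : ι x ∈ Qn := (QuotientGroup.eq_one_iff _).1 ((hιA x).symm.trans hy)
    rw [Subgroup.mem_bot]
    apply Subtype.ext
    rw [hθ₁, Subgroup.coe_one]
    exact (hker _).2 ((apply_mem_imageAlong_iff hi).1 h1)
  let PA := imageAlong ιA P'
  have hPA : PA = (imageAlong ι P).map q := by
    ext y
    constructor
    · intro hy
      obtain ⟨w, hwT, hw, rfl⟩ := mem_imageAlong.1 hy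
      obtain ⟨x, hx⟩ := hθ₁s ⟨w, hwT⟩
      rw [← hx, hιA]
      refine ⟨ι x, apply_mem_imageAlong ι x ((mem_preimage_iff (θ := θ) ⟨x, x.2.1⟩).2 ?_), rfl⟩
      rw [← hθ₁, hx]
      exact hw
    · rintro ⟨_, hl, rfl⟩
      obtain ⟨x, hxT, hx, rfl⟩ := mem_imageAlong.1 hl
      rw [← hιA]
      refine apply_mem_imageAlong ιA _ ?_
      rw [hθ₁]
      exact (mem_preimage_iff (θ := θ) ⟨x, hxT.1⟩).1 hx
  have hPn' : (imageAlong ι P).Normal := IsModel.image_normal hL hPN
  have hPAn : PA.Normal := hPA ▸ hPn'.map q (QuotientGroup.mk'_surjective Qn)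
  have hP'T : P' ≤ T' := le_normalizerIn hP'
  -- `A` realizes `M`
  have hA : M.IsRealizedBy ιA := by
    refine ⟨hιAi, fun X hX φ hφ => ⟨fun h => ?_, ?_⟩⟩
    · rw [hM X] at h
      obtain ⟨-, -, -, ψ', hψ', hψe, hψP⟩ := h
      have hXS : X ⊔ P' ≤ S' := source_le hψ'
      obtain ⟨-, ψ, hψ, hind⟩ := (hiff _ ψ').1 hψ'
      obtain ⟨hU, hψS, hm, hind⟩ := hind
      let U := preimageAlong θ (X ⊔ P')
      have hXP : X ⊔ P' ≤ T' := sup_le hX hP'T
      have hψT' : ∀ z, ψ' z ∈ T' := IsNormalizerSystem.ext_mem hP' hφ hψe hψP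
      have hUT : U ≤ T := fun y hy =>
        ⟨hU hy, normalizer_preimage (g := (⟨y, hU hy⟩ : S))
          (hXP ((mem_preimage_iff ⟨y, hU hy⟩).1 hy)).2⟩
      have hψT : ∀ y : U, ψ y ∈ T := fun y =>
        ⟨hψS y, normalizer_preimage (g := (⟨ψ y, hψS y⟩ : S)) (by rw [← hind y]; exact (hψT' _).2)⟩
      have hPU : P ≤ U := fun y hy =>
        (mem_preimage_iff (θ := θ) ⟨y, hPS hy⟩).2
          (Subgroup.mem_sup_right ((mem_preimage_iff (θ := θ) ⟨y, hPS hy⟩).1 hy))
      have himg : img ψ P = P := by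
        have := finite_of_le hPS
        refine Subgroup.eq_of_le_of_card_ge ?_ (card_img (F.injective_of_mem hψ) hPU).ge
        intro y hy
        obtain ⟨x, hxU, hx, rfl⟩ := mem_img.1 hy
        refine (mem_preimage_iff (θ := θ) ⟨_, hψS ⟨x, hxU⟩⟩).2 ?_
        rw [← hind ⟨x, hxU⟩]
        exact hψP.le ⟨_, (mem_preimage_iff (θ := θ) ⟨x, hPS hx⟩).1 hx, rfl⟩
      have hle : U ⊔ P ≤ U := sup_le le_rfl hPU
      have hψN : ψ ∈ N.Hom U := ⟨hψ, hUT, hψT, restr hle ψ, restr_mem F hψ hle, fun y => rfl,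
        (img_restr hle ψ le_sup_right).trans himg⟩
      obtain ⟨g, hg⟩ := IsRealizedBy.exists_conj hL.2.1 hψN
      refine ⟨q g, fun x => ?_⟩
      obtain ⟨y, hy⟩ := hθ₁s ⟨x, hX x.2⟩
      have hy' : θ ⟨y, y.2.1⟩ = (x : Ω') := by rw [← hθ₁, hy]
      have hyU : (y : Ω) ∈ U :=
        (mem_preimage_iff (θ := θ) ⟨y, y.2.1⟩).2 (hy' ▸ Subgroup.mem_sup_left x.2)
      have h1 := congrArg q (hg ⟨y, hyU⟩)
      rw [map_mul, map_mul, map_inv, ← hιA, ← hιA, show (⟨(y : Ω), hUT hyU⟩ : T) = y from rfl,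
        hy] at h1
      refine Eq.trans (congrArg ιA (Subtype.ext ?_)) h1
      show φ x = _
      rw [hθ₁, ← hψe x]
      refine Eq.trans (congrArg ψ' ?_) (hind ⟨y, hyU⟩)
      exact Subtype.ext hy'.symm
    · rintro ⟨g', hg'⟩
      obtain ⟨g, rfl⟩ := QuotientGroup.mk'_surjective Qn g'
      have hXP : X ⊔ P' ≤ T' := sup_le hX hP'T
      have hXS : X ⊔ P' ≤ S' := hXP.trans (normalizerIn_le S' P')
      set U := preimageAlong θ (X ⊔ P')
      have hU : U ≤ S := preimage_le θ _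
      have hUT : U ≤ T := fun y hy =>
        ⟨hU hy, normalizer_preimage (g := (⟨y, hU hy⟩ : S))
          (hXP ((mem_preimage_iff ⟨y, hU hy⟩).1 hy)).2⟩
      have hr' : X ⊔ P' ≤ ((ιA.range.comap ((MulAut.conj (q g)).toMonoidHom.comp ιA)).map
          T'.subtype) := by
        refine sup_le (fun y hy => ⟨⟨y, hX hy⟩, ⟨_, hg' ⟨y, hy⟩⟩, rfl⟩) fun y hy => ?_
        refine ⟨⟨y, hP'T hy⟩, ?_, rfl⟩
        exact imageAlong_le_range ιA P'
          (hPAn.conj_mem _ (apply_mem_imageAlong ιA (⟨y, hP'T hy⟩ : T') hy) (q g))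
      obtain ⟨χ, hχ, hχe⟩ := IsRealizedBy.exists_hom hL.2.1 hUT g fun y => by
        obtain ⟨w, hw, hwy⟩ := hr' ((mem_preimage_iff (θ := θ) ⟨y, hU y.2⟩).1 y.2)
        obtain ⟨w', hw'⟩ := hw
        obtain ⟨x, rfl⟩ := hθ₁s w'
        have hwe : θ₁ ⟨y, hUT y.2⟩ = w := Subtype.ext ((hθ₁ _).trans hwy.symm)
        have h1 : q (ι x) = q (g * ι ⟨y, hUT y.2⟩ * g⁻¹) := by
          rw [← hιA, hw', ← hwe, map_mul, map_mul, map_inv, ← hιA]
          rfl
        obtain ⟨t, ht⟩ := imageAlong_le_range ι Q (QuotientGroup.eq.1 h1)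
        exact ⟨x * t, by rw [map_mul, ht, mul_inv_cancel_left]⟩
      obtain ⟨χ', hχ'⟩ : ∃ χ' : ↥(X ⊔ P') →* Ω', InducedAlong θ χ χ' := by
        have := exists_induced hker hQ (IsNormalizerSystem.le_system hN hχ)
        rwa [imageAlong_preimage hr hXS] at this
      have hχ'E : χ' ∈ E.Hom (X ⊔ P') :=
        (hiff _ χ').2 ⟨hXS, χ, IsNormalizerSystem.le_system hN hχ, hχ'⟩
      obtain ⟨hU', hχS, hm, hind⟩ := hχ'
      have key : ∀ (w : T') (hw : (w : Ω') ∈ X ⊔ P'), ∃ (y : T') ,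
          (y : Ω') = χ' ⟨w, hw⟩ ∧ ιA y = q g * ιA w * (q g)⁻¹ := by
        intro w hw
        obtain ⟨x, rfl⟩ := hθ₁s w
        have hxU : (x : Ω) ∈ U := (mem_preimage_iff (θ := θ) ⟨x, x.2.1⟩).2 (by rwa [← hθ₁])
        refine ⟨θ₁ ⟨χ ⟨x, hxU⟩, apply_mem hχ _⟩, ?_, ?_⟩
        · rw [hθ₁]
          refine (hind ⟨x, hxU⟩).symm.trans ?_
          exact congrArg χ' (Subtype.ext (hθ₁ x).symm)
        · rw [hιA, hχe, map_mul, map_mul, map_inv, hιA]
      have hφe : ∀ x : X, χ' (Subgroup.inclusion le_sup_left x) = φ x := by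
        intro x
        obtain ⟨y, hy, hye⟩ := key ⟨x, hX x.2⟩ (Subgroup.mem_sup_left x.2)
        rw [show Subgroup.inclusion le_sup_left x =
          (⟨((⟨(x : Ω'), hX x.2⟩ : T') : Ω'), Subgroup.mem_sup_left x.2⟩ : ↥(X ⊔ P')) from rfl,
          ← hy]
        exact congrArg Subtype.val (hιAi (hye.trans (hg' x).symm) : y = ⟨φ x, hφ x⟩)
      rw [hM X]
      refine ⟨?_, hX, hφ, χ', hχ'E, hφe, ?_⟩
      · rw [show φ = restr le_sup_left χ' from MonoidHom.ext fun x => (hφe x).symm]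
        exact restr_mem E hχ'E _
      · have := finite_of_le hP'
        refine Subgroup.eq_of_le_of_card_ge ?_
          (card_img (E.injective_of_mem hχ'E) le_sup_right).ge
        rintro _ ⟨⟨y, hyU⟩, hy, rfl⟩
        obtain ⟨z, hz, hze⟩ := key ⟨y, hP'T hy⟩ hyU
        rw [show χ' ⟨y, hyU⟩ = z from hz.symm]
        refine (apply_mem_imageAlong_iff hιAi).1 ?_
        rw [hze]
        exact hPAn.conj_mem _ (apply_mem_imageAlong ιA (⟨y, hP'T hy⟩ : T') hy) _
  -- the Sylow subgroup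
  obtain ⟨R, hR⟩ := hL.2.2.1
  let RA : Sylow p A := R.mapSurjective (QuotientGroup.mk'_surjective Qn)
  have hRA : (RA : Subgroup A) = ιA.range := by
    rw [Sylow.coe_mapSurjective, hR]
    ext y
    constructor
    · rintro ⟨_, ⟨x, rfl⟩, rfl⟩
      exact ⟨θ₁ x, hιA x⟩
    · rintro ⟨w, rfl⟩
      obtain ⟨x, rfl⟩ := hθ₁s w
      exact ⟨ι x, ⟨x, rfl⟩, (hιA x).symm⟩
  -- the centralizer of the image of `P'`
  let C := Subgroup.centralizer (PA : Set A)
  have hCn : C.Normal := Subgroup.normal_centralizer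
  have hCR : ∀ c ∈ C, c ∈ (RA : Subgroup A) → c ∈ PA := by
    intro c hc hcR
    rw [hRA] at hcR
    obtain ⟨t, rfl⟩ := hcR
    refine apply_mem_imageAlong ιA t (hc'.2 P' (isConj_refl E hP') ⟨t.2.1, fun y hy => ?_⟩)
    have h1 := Subgroup.mem_centralizer_iff.1 hc _
      (apply_mem_imageAlong ιA (⟨y, hP'T hy⟩ : T') hy)
    rw [← map_mul, ← map_mul] at h1
    exact congrArg Subtype.val (hιAi h1)
  let K : Subgroup A := Cfsg.pPrimeCore p A
  have hKn : K.Normal := pPrimeCore_normal p A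
  have hKp : (Nat.card K).Coprime p := Cfsg.Agent.Lib.Cores.pPrimeCore_coprime p A
  -- `C` lies in `PA ⊔ K`
  have hCK : C ≤ PA ⊔ K := by
    have hU₀ : IsPGroup p (((RA : Subgroup A)).subgroupOf C) :=
      RA.2.comap_of_injective C.subtype C.subtype_injective
    have hU₁ : ¬ p ∣ (((RA : Subgroup A)).subgroupOf C).index := by
      intro h
      refine RA.not_dvd_index (h.trans ?_)
      set R₀ : Subgroup A := (RA : Subgroup A)
      have h1 := Subgroup.relIndex_mul_relIndex (R₀ ⊓ C) R₀ (R₀ ⊔ C) inf_le_left le_sup_left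
      have h2 := Subgroup.relIndex_mul_relIndex (R₀ ⊓ C) C (R₀ ⊔ C) inf_le_right le_sup_right
      rw [Subgroup.inf_relIndex_left] at h1
      rw [Subgroup.inf_relIndex_right, Subgroup.relIndex_sup_right, ← h1, mul_comm] at h2
      have h3 : R₀.relIndex C = R₀.relIndex (R₀ ⊔ C) :=
        Nat.eq_of_mul_eq_mul_left
          (Nat.pos_of_ne_zero (Subgroup.index_ne_zero_of_finite : C.relIndex R₀ ≠ 0)) h2
      show R₀.relIndex C ∣ R₀.index
      rw [h3]
      exact Subgroup.relIndex_dvd_index_of_le le_sup_left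
    let U : Sylow p C := hU₀.toSylow hU₁
    have hU : (U : Subgroup C) = ((RA : Subgroup A)).subgroupOf C := rfl
    have hcent : ∀ c : C, c ∈ (U : Subgroup C) → c ∈ Subgroup.center C := by
      intro c hc
      refine Subgroup.mem_center_iff.2 fun d => Subtype.ext ?_
      exact (Subgroup.mem_centralizer_iff.1 d.2 _ (hCR c c.2 hc)).symm
    have hpc : HasNormalPComplement p C :=
      Cfsg.Agent.Lib.Transfer.hasNormalPComplement_of_normalizer_le_centralizer U
        fun c _ => Subgroup.mem_centralizer_iff.2 fun d hd =>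
          (Subgroup.mem_center_iff.1 (hcent d hd) c).symm
    have hquot := Cfsg.Agent.Lib.Cores.hasNormalPComplement_iff_pPrimeCore.1 hpc
    let V : Subgroup C := (U : Subgroup C) ⊔ pPrimeCore p C
    have hV : V = ⊤ := by
      apply Subgroup.index_eq_one.1
      obtain ⟨n, hn⟩ := IsPGroup.iff_card.1 hquot
      have h1 : V.index ∣ (pPrimeCore p C).index := Subgroup.index_dvd_of_le le_sup_right
      have h2 : V.index ∣ (U : Subgroup C).index := Subgroup.index_dvd_of_le le_sup_left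
      rw [Subgroup.index_eq_card (pPrimeCore p C), hn] at h1
      obtain ⟨k, -, hk⟩ := (Nat.dvd_prime_pow Fact.out).1 h1
      rcases Nat.eq_zero_or_pos k with h0 | h0
      · rw [hk, h0, pow_zero]
      · exact absurd ((hk ▸ dvd_pow_self p h0.ne' : p ∣ V.index).trans h2) U.not_dvd_index
    intro c hc
    have h3 : (⟨c, hc⟩ : C) ∈ V := hV ▸ Subgroup.mem_top _
    have h4 : V.map C.subtype ≤ PA ⊔ K := by
      rw [Subgroup.map_sup]
      refine sup_le_sup ?_ (Cfsg.Agent.Lib.Cores.map_subtype_pPrimeCore_le C)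
      rintro _ ⟨d, hd, rfl⟩
      exact hCR d d.2 hd
    exact h4 ⟨_, h3, rfl⟩
  -- the model
  let B := A ⧸ K
  let qK : A →* B := QuotientGroup.mk' K
  have hB : M.IsModel p B (qK.comp ιA) := by
    refine ⟨inferInstance, IsRealizedBy.quotient_pprime hA RA hRA K hKp,
      ⟨RA.mapSurjective (QuotientGroup.mk'_surjective K), ?_⟩, ?_⟩
    · rw [Sylow.coe_mapSurjective, hRA, MonoidHom.range_comp]
    · have hPAp : IsPGroup p PA :=
        RA.2.to_le (hRA ▸ imageAlong_le_range ιA P')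
      have hPB : PA.map qK ≤ pCore p B :=
        le_sSup ⟨hPAn.map qK (QuotientGroup.mk'_surjective K), hPAp.map qK⟩
      intro b hb
      obtain ⟨a, rfl⟩ := QuotientGroup.mk'_surjective K b
      have haC : a ∈ C := by
        refine Subgroup.mem_centralizer_iff.2 fun y hy => ?_
        have h1 := Subgroup.mem_centralizer_iff.1 hb (qK y) (hPB ⟨y, hy, rfl⟩)
        rw [← map_mul, ← map_mul] at h1
        have h2 : (y * a)⁻¹ * (a * y) ∈ K := QuotientGroup.eq.1 h1
        have h3 : (y * a)⁻¹ * (a * y) ∈ PA := by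
          rw [show (y * a)⁻¹ * (a * y) = a⁻¹ * y⁻¹ * a * y by group]
          have h4 := hPAn.conj_mem _ (PA.inv_mem hy) a⁻¹
          rw [inv_inv] at h4
          exact PA.mul_mem h4 hy
        have h5 : (y * a)⁻¹ * (a * y) = 1 := by
          obtain ⟨n, hn⟩ := IsPGroup.iff_card.1 hPAp
          have hd := orderOf_dvd_natCard (⟨_, h3⟩ : PA)
          have hd' := orderOf_dvd_natCard (⟨_, h2⟩ : K)
          rw [Subgroup.orderOf_mk] at hd hd'
          rw [hn] at hd
          exact orderOf_eq_one_iff.1 (Nat.eq_one_of_dvd_coprimes (hKp.pow_right n) hd' hd)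
        exact inv_mul_eq_one.1 h5
      have h6 : qK a ∈ (PA ⊔ K).map qK := ⟨a, hCK haC, rfl⟩
      rw [Subgroup.map_sup, QuotientGroup.map_mk'_self, sup_bot_eq] at h6
      exact hPB h6
  obtain ⟨e, -⟩ := model_unique (hS'.to_le (normalizerIn_le S' P'))
    (IsNormalizerSystem.isConstrained hS' hEs hn' hc' hM) hB hL'
  obtain ⟨K₀, f, hf⟩ := exists_surjective_of_involves hinv
  let σ : L →* L' := e.toMonoidHom.comp (qK.comp q)
  have hσ : Function.Surjective σ :=
    e.surjective.comp ((QuotientGroup.mk'_surjective K).comp (QuotientGroup.mk'_surjective Qn))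
  refine hfree P hPn hPc N hN L ι hL (involves_of_surjective (K₀.comap σ)
    (f.comp (σ.subgroupComap K₀)) (hf.comp fun y => ?_))
  obtain ⟨x, hx⟩ := hσ y
  exact ⟨⟨x, show σ x ∈ K₀ from hx.symm ▸ y.2⟩, Subtype.ext hx⟩

end Cfsg.Agent.Lib.Fusion
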