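import Cfsg.Agent.Lib.Fusion.Essential

/-!
Generating families: the class of an essential subgroup cannot be left out.
-/

set_option autoImplicit false
set_option linter.unusedSectionVars false

namespace Cfsg.Agent.Lib.Fusion

open Cfsg Cfsg.FusionSystem

variable {Ω : Type*} [Group Ω] {S : Subgroup Ω}

/-- `φ`, with source a conjugate of `Q`, becomes an element of `extAut F Q` when read through
maps that carry the normalizers of its source and image into that of `Q`. -/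
def GoodMap (F : FusionSystem S) (Q : Subgroup Ω) {P : Subgroup Ω} (φ : P →* Ω) : Prop :=
  ∀ ψ ∈ F.Hom (normalizerIn S P), img ψ P = Q →
    ∀ ψ' ∈ F.Hom (normalizerIn S φ.range), img ψ' φ.range = Q →
      ∀ α : MulAut Q,
        (∀ (x : P) (hN : (x : Ω) ∈ normalizerIn S P) (hN' : φ x ∈ normalizerIn S φ.range)
          (hQ : ψ ⟨x, hN⟩ ∈ Q), ((α ⟨ψ ⟨x, hN⟩, hQ⟩ : Q) : Ω) = ψ' ⟨φ x, hN'⟩) →
        α ∈ extAut F Q

variable {p : ℕ} [Fact p.Prime] [Finite S] {F : FusionSystem S} {Q : Subgroup Ω}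

theorem goodMap_of_extends (hS : IsPGroup p S) {P R : Subgroup Ω} {φ : P →* Ω}
    (hφ : φ ∈ F.Hom P) (hlt : P < R) {χ : R →* Ω} (hχ : χ ∈ F.Hom R)
    (hext : ∀ (x : Ω) (hP : x ∈ P) (hR : x ∈ R), χ ⟨x, hR⟩ = φ ⟨x, hP⟩) : GoodMap F Q φ := by
  intro ψ hψ himg ψ' hψ' himg' α hα
  have hRS := source_le hχ
  let N := normalizerIn R P
  have := finite_of_le hRS
  have hPN : P < N := lt_normalizerIn (hS.to_le hRS) hlt
  have hNR : N ≤ R := normalizerIn_le R P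
  have hNS : N ≤ normalizerIn S P := fun x hx => ⟨hRS hx.1, hx.2⟩
  let a := restr hNS ψ
  have ha : a ∈ F.Hom N := restr_mem F hψ hNS
  obtain ⟨c, hc, hcr, hl, hl'⟩ := exists_inv F ha rfl
  have hcR : ∀ y, c y ∈ R := fun y => hNR (hcr.le ⟨y, rfl⟩)
  let d := compose c χ hcR
  have hd : d ∈ F.Hom a.range := compose_mem F hc hχ hcR
  have hdN : ∀ y, d y ∈ normalizerIn S φ.range := by
    intro y
    have := finite_of_le (range_le hφ)
    refine ⟨apply_mem hd y, mem_normalizer_of_finite ?_⟩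
    rintro _ ⟨x, rfl⟩
    have hy : c y ∈ N := hcr.le ⟨y, rfl⟩
    have hm : c y * x * (c y)⁻¹ ∈ P := conj_mem_of_mem_normalizer hy.2 x.2
    refine ⟨⟨_, hm⟩, ?_⟩
    show φ ⟨_, hm⟩ = χ ⟨c y, _⟩ * φ x * (χ ⟨c y, _⟩)⁻¹
    rw [← hext _ hm (hlt.le hm), ← hext _ x.2 (hlt.le x.2)]
    exact (map_mul χ (⟨c y, hcR y⟩ * ⟨(x : Ω), hlt.le x.2⟩) (⟨c y, hcR y⟩)⁻¹).trans
      (by rw [map_mul, map_inv])
  let e := compose d ψ' hdN
  have he : e ∈ F.Hom a.range := compose_mem F hd hψ' hdN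
  have hQa : Q < a.range := by
    have hle : Q ≤ a.range := by
      rw [← himg]
      intro y hy
      obtain ⟨x, hxN, hxP, rfl⟩ := mem_img.1 hy
      exact ⟨⟨x, hPN.le hxP⟩, rfl⟩
    refine lt_of_le_of_ne hle fun h => hPN.ne ?_
    have := finite_of_le (hNR.trans hRS)
    refine Subgroup.eq_of_le_of_card_ge hPN.le ?_
    rw [← card_range_eq (F.injective_of_mem ha), ← h, ← himg,
      card_img (F.injective_of_mem hψ) (hPN.le.trans hNS)]
  refine mem_extAut_of_extends hQa he fun y hyQ hya => ?_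
  obtain ⟨x, hxN, hxP, hxy⟩ := mem_img.1 (himg.ge hyQ)
  subst hxy
  have h1 : c ⟨ψ ⟨x, hxN⟩, hya⟩ = x := hl ⟨x, hPN.le hxP⟩ hya
  have h2 : d ⟨ψ ⟨x, hxN⟩, hya⟩ = φ ⟨x, hxP⟩ := by
    show χ ⟨c _, _⟩ = _
    simp only [h1]
    exact hext x hxP _
  show ψ' ⟨d _, _⟩ = _
  simp only [h2]
  exact (hα ⟨x, hxP⟩ hxN (h2 ▸ hdN ⟨_, hya⟩) hyQ).symm

/-- Automorphisms of `Q` obtained by transporting a map between conjugates. -/
theorem exists_transport {P : Subgroup Ω} {φ : P →* Ω} (hφ : φ ∈ F.Hom P)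
    {ψ : normalizerIn S P →* Ω} (hψ : ψ ∈ F.Hom (normalizerIn S P)) (himg : img ψ P = Q)
    {ψ' : normalizerIn S φ.range →* Ω} (hψ' : ψ' ∈ F.Hom (normalizerIn S φ.range))
    (himg' : img ψ' φ.range = Q) :
    ∃ α ∈ F.autGroup Q,
      ∀ (x : P) (hN : (x : Ω) ∈ normalizerIn S P) (hN' : φ x ∈ normalizerIn S φ.range)
        (hQ : ψ ⟨x, hN⟩ ∈ Q), ((α ⟨ψ ⟨x, hN⟩, hQ⟩ : Q) : Ω) = ψ' ⟨φ x, hN'⟩ := by
  have hP := le_normalizerIn (source_le hφ)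
  have ha : restr hP ψ ∈ F.Hom P := restr_mem F hψ hP
  obtain ⟨c, hc, hcr, hl, -⟩ := exists_inv F ha ((range_restr hP ψ).trans himg)
  have hcP : ∀ y, c y ∈ P := fun y => hcr.le ⟨y, rfl⟩
  have hb : compose c φ hcP ∈ F.Hom Q := compose_mem F hc hφ hcP
  have hm : ∀ y, compose c φ hcP y ∈ normalizerIn S φ.range :=
    fun y => le_normalizerIn (range_le hφ) ⟨_, rfl⟩
  have hd : compose (compose c φ hcP) ψ' hm ∈ F.Hom Q := compose_mem F hb hψ' hm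
  have hdr : (compose (compose c φ hcP) ψ' hm).range = Q := by
    rw [range_compose, range_compose, hcr, img_self, himg']
  refine ⟨isoOf _ (F.injective_of_mem hd) hdr, mem_autGroup_of_hom F hd, fun x hN hN' hQ => ?_⟩
  show ψ' ⟨φ ⟨c ⟨ψ ⟨x, hN⟩, hQ⟩, _⟩, _⟩ = _
  have h1 : c ⟨ψ ⟨x, hN⟩, hQ⟩ = x := hl x hQ
  simp only [h1]

/-- The maps of `F` that are good at every conjugate of `Q`. -/
def avoidSystem (hS : IsPGroup p S) (hF : F.IsSaturated p) (hn : F.IsFullyNormalized Q)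
    (hQ : Q < S) : FusionSystem S where
  Hom P := {φ | φ ∈ F.Hom P ∧ (F.IsConj P Q → GoodMap F Q φ)}
  le_of_mem h := F.le_of_mem h.1
  injective_of_mem h := F.injective_of_mem h.1
  conj_mem := by
    intro P g hP hg
    refine ⟨F.conj_mem hP hg, fun hconj => ?_⟩
    have hlt : P < S := lt_of_le_of_ne hP fun e => hQ.ne
      (isConj_self_top F (e ▸ hconj))
    exact goodMap_of_extends hS (F.conj_mem hP hg) hlt (F.conj_mem le_rfl hg) fun x _ _ => rfl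
  comp_mem := by
    rintro P Q' φ χ ⟨hφ, gφ⟩ ⟨hχ, gχ⟩ h
    refine ⟨F.comp_mem hφ hχ h, fun hconj => ?_⟩
    have hle : φ.range ≤ Q' := by
      rintro _ ⟨x, rfl⟩
      exact h x
    have hconj₂ : F.IsConj φ.range Q := isConj_trans (isConj_symm ⟨φ, hφ, rfl⟩) hconj
    have hχ₂ : restr hle χ ∈ F.Hom φ.range := restr_mem F hχ hle
    have g₂ : GoodMap F Q (restr hle χ) := by
      rcases hle.eq_or_lt with e | hlt
      · subst e
        exact gχ hconj₂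
      · exact goodMap_of_extends hS hχ₂ hlt hχ fun x _ _ => rfl
    have g₁ := gφ hconj
    intro ψ hψ himg ψ' hψ' himg' α hα
    obtain ⟨ψm, hψm, -, himgm⟩ := IsSaturated.exists_normalizer_map hS hF hn hconj₂
    obtain ⟨α₁, hα₁, H₁⟩ := exists_transport hφ hψ himg hψm himgm
    have hrange : (χ.comp (φ.codRestrict Q' h)).range = (restr hle χ).range := by
      rw [range_restr]
      exact range_compose φ χ h
    obtain ⟨ψ'', hψ'', himg'', hv⟩ : ∃ ψ'' ∈ F.Hom (normalizerIn S (restr hle χ).range),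
        img ψ'' (restr hle χ).range = Q ∧ ∀ z hz hz', ψ'' ⟨z, hz⟩ = ψ' ⟨z, hz'⟩ := by
      revert ψ'
      rw [hrange]
      exact fun ψ' hψ' himg' _ => ⟨ψ', hψ', himg', fun _ _ _ => rfl⟩
    obtain ⟨α₂, hα₂, H₂⟩ := exists_transport hχ₂ hψm himgm hψ'' himg''
    have e1 := g₁ ψ hψ himg ψm hψm himgm α₁ H₁
    have e2 := g₂ ψm hψm himgm ψ'' hψ'' himg'' α₂ H₂
    have : α = α₂ * α₁ := by
      ext y
      obtain ⟨x, hxN, hxP, hxy⟩ := mem_img.1 (himg.ge y.2)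
      have hy : y = ⟨ψ ⟨x, hxN⟩, hxy ▸ y.2⟩ := Subtype.ext hxy.symm
      rw [hy, hα ⟨x, hxP⟩ hxN (le_normalizerIn (range_le (F.comp_mem hφ hχ h)) ⟨⟨x, hxP⟩, rfl⟩),
        MulAut.mul_apply]
      have hm : φ ⟨x, hxP⟩ ∈ normalizerIn S φ.range := le_normalizerIn (range_le hφ) ⟨_, rfl⟩
      have hmQ : ψm ⟨φ ⟨x, hxP⟩, hm⟩ ∈ Q :=
        himgm ▸ apply_mem_img ψm _ (R := φ.range) ⟨_, rfl⟩
      rw [show α₁ ⟨ψ ⟨x, hxN⟩, hxy ▸ y.2⟩ = ⟨ψm ⟨φ ⟨x, hxP⟩, hm⟩, hmQ⟩ from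
          Subtype.ext (H₁ ⟨x, hxP⟩ hxN hm _),
        H₂ ⟨φ ⟨x, hxP⟩, ⟨_, rfl⟩⟩ hm (le_normalizerIn (range_le hχ₂) ⟨_, rfl⟩) hmQ]
      exact (hv _ _ _).symm
    rw [this]
    exact Subgroup.mul_mem _ e2 e1
  inv_mem := by
    rintro P φ ⟨hφ, gφ⟩
    obtain ⟨c, hc, hcr, hl, -⟩ := exists_inv F hφ rfl
    refine ⟨c, ⟨hc, fun hconj => ?_⟩, fun x => hl x _⟩
    have g₁ := gφ (isConj_trans ⟨φ, hφ, rfl⟩ hconj)
    intro ψ hψ himg ψ' hψ' himg' α hα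
    obtain ⟨ψ₀, hψ₀, himg₀, hv⟩ : ∃ ψ₀ ∈ F.Hom (normalizerIn S P),
        img ψ₀ P = Q ∧ ∀ z hz hz', ψ₀ ⟨z, hz⟩ = ψ' ⟨z, hz'⟩ := by
      revert ψ'
      rw [hcr]
      exact fun ψ' hψ' himg' _ => ⟨ψ', hψ', himg', fun _ _ _ => rfl⟩
    have e := g₁ ψ₀ hψ₀ himg₀ ψ hψ himg α⁻¹ fun x hN hN' hQ' => by
      have hQ : ψ ⟨φ x, hN'⟩ ∈ Q := himg ▸ apply_mem_img ψ _ (R := φ.range) ⟨x, rfl⟩
      have h1 := hα ⟨φ x, ⟨x, rfl⟩⟩ hN'
        (le_normalizerIn (range_le hc) ⟨_, rfl⟩) hQ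
      rw [MulAut.inv_apply]
      have h2 : α ⟨ψ ⟨φ x, hN'⟩, hQ⟩ = ⟨ψ₀ ⟨x, hN⟩, hQ'⟩ := by
        refine Subtype.ext (h1.trans ?_)
        show ψ' _ = ψ₀ ⟨x, hN⟩
        rw [hv _ hN (by rw [hcr]; exact hN)]
        exact congrArg ψ' (Subtype.ext (hl x _))
      rw [← h2, MulEquiv.symm_apply_apply]
    simpa using Subgroup.inv_mem _ e

theorem exists_avoiding (hS : IsPGroup p S) (hF : F.IsSaturated p) (hQ : F.IsEssential p Q) :
    ∃ E : FusionSystem S, (∀ R : Subgroup Ω, R ≤ S → ¬ F.IsConj Q R →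
      F.autGroup R ≤ E.autGroup R) ∧ ¬ F ≤ E := by
  have hlt := IsEssential.lt hF hS hQ
  refine ⟨avoidSystem hS hF hQ.2.1 hlt, fun R hR hnc α hα => mem_autGroup_of_hom _
    ⟨autHom_mem F hR hα, fun hc => absurd (isConj_symm hc) hnc⟩, fun hle => ?_⟩
  apply IsEssential.extAut_ne hS hF hQ
  refine le_antisymm (extAut_le F Q) fun α hα => ?_
  obtain ⟨hmem, hgood⟩ := hle Q (autHom_mem F hQ.1.1 hα)
  have hr := range_autHom α
  have hN : normalizerIn S (autHom α).range ≤ S := normalizerIn_le _ _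
  have hsub : ∀ {A N : Subgroup Ω}, A ≤ N → img N.subtype A = A :=
    fun h => Subgroup.map_subgroupOf_eq_of_le h
  refine hgood (isConj_refl F hQ.1.1) _ (subtype_mem F (normalizerIn_le S Q))
    (hsub (le_normalizerIn hQ.1.1)) _ (subtype_mem F hN) ?_ α fun x _ _ _ => rfl
  rw [hsub (le_normalizerIn (hr.le.trans hQ.1.1)), hr]

section Top

variable {Ω : Type*} [Group Ω] {S : Subgroup Ω} [Finite S]

/-- The maps of `F` that are conjugations when defined on the whole of `S`. -/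
def innerTopSystem (F : FusionSystem S) : FusionSystem S where
  Hom P := {φ | φ ∈ F.Hom P ∧ (P = S → φ ∈ (innerFusionSystem S).Hom P)}
  le_of_mem h := F.le_of_mem h.1
  injective_of_mem h := F.injective_of_mem h.1
  conj_mem hP hg := ⟨F.conj_mem hP hg, fun _ => (innerFusionSystem S).conj_mem hP hg⟩
  comp_mem := by
    rintro P Q φ χ ⟨hφ, gφ⟩ ⟨hχ, gχ⟩ h
    refine ⟨F.comp_mem hφ hχ h, fun e => (innerFusionSystem S).comp_mem (gφ e) (gχ ?_) h⟩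
    refine le_antisymm (source_le hχ) ?_
    have h1 : φ.range = S :=
      Subgroup.eq_of_le_of_card_ge (range_le hφ) (by rw [card_range_eq (F.injective_of_mem hφ), e])
    rintro x hx
    obtain ⟨y, rfl⟩ := h1.ge hx
    exact h y
  inv_mem := by
    rintro P φ ⟨hφ, gφ⟩
    obtain ⟨c, hc, hcr, hl, -⟩ := exists_inv F hφ rfl
    refine ⟨c, ⟨hc, fun e => ?_⟩, fun x => hl x _⟩
    have hP : P = S := isConj_self_top F (e ▸ isConj_symm ⟨φ, hφ, rfl⟩)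
    obtain ⟨ψ, hψ, h⟩ := (innerFusionSystem S).inv_mem (gφ hP)
    have : c = ψ := by
      ext y
      obtain ⟨_, x, rfl⟩ := y
      exact (hl x _).trans (h x).symm
    rw [this]
    exact hψ

theorem autGroup_le_of_generating_pair {F : FusionSystem S} {𝒬 : Set (Subgroup Ω)}
    (hg : ∀ E : FusionSystem S, (∀ R ∈ 𝒬, F.autGroup R ≤ E.autGroup R) → F ≤ E)
    (hS' : S ∉ 𝒬) (E : FusionSystem S) : F.autGroup S ≤ E.autGroup S := by
  intro α hα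
  have hle : F ≤ innerTopSystem F := by
    refine hg _ fun R hR => (Subgroup.closure_le _).2 fun β hβ => ?_
    exact mem_autGroup_of_hom _ ⟨hβ, fun e => absurd (e ▸ hR) hS'⟩
  have h1 := (hle S (autHom_mem F le_rfl hα)).2 rfl
  exact mem_autGroup_of_hom E (inner_le E S h1)

end Top

theorem le_of_generating (hS : IsPGroup p S) (hF : F.IsSaturated p)
    {𝒬₁ 𝒬₂ : Set (Subgroup Ω)}
    (h₁ : ∀ R ∈ 𝒬₁, ∀ R' : Subgroup Ω, F.IsConj R R' → R' ∈ 𝒬₁)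
    (h₂ : ∀ R ∈ 𝒬₂, ∀ R' : Subgroup Ω, F.IsConj R R' → R' ∈ 𝒬₂)
    (hg₁ : ∀ E : FusionSystem S, (∀ R ∈ 𝒬₁, F.autGroup R ≤ E.autGroup R) → F ≤ E)
    (hg₂ : ∀ E : FusionSystem S, (∀ R ∈ 𝒬₂, F.autGroup R ≤ E.autGroup R) → F ≤ E)
    {E : FusionSystem S} (hE : ∀ R ∈ 𝒬₁ ∩ 𝒬₂, F.autGroup R ≤ E.autGroup R) : F ≤ E := by
  have hclass : ∀ (𝒬 : Set (Subgroup Ω)),
      (∀ R ∈ 𝒬, ∀ R' : Subgroup Ω, F.IsConj R R' → R' ∈ 𝒬) →
      (∀ E : FusionSystem S, (∀ R ∈ 𝒬, F.autGroup R ≤ E.autGroup R) → F ≤ E) →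
      ∀ P : Subgroup Ω, F.IsEssential p P → P ∈ 𝒬 := by
    intro 𝒬 hc hg P hP
    by_contra hPn
    obtain ⟨D, hD, hnle⟩ := exists_avoiding hS hF hP
    refine hnle (hg D fun R hR => ?_)
    by_cases hRS : R ≤ S
    · exact hD R hRS fun hconj => hPn (hc R hR P (isConj_symm hconj))
    · refine (Subgroup.closure_le _).2 fun β hβ => absurd (source_le hβ) hRS
  refine alperin hS hF E fun P hP => ?_
  rcases hP with rfl | hP
  · by_cases h : P ∈ 𝒬₁ ∧ P ∈ 𝒬₂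
    · exact hE P h
    · rcases not_and_or.1 h with h | h
      · exact autGroup_le_of_generating_pair hg₁ h E
      · exact autGroup_le_of_generating_pair hg₂ h E
  · exact hE P ⟨hclass 𝒬₁ h₁ hg₁ P hP, hclass 𝒬₂ h₂ hg₂ P hP⟩

end Cfsg.Agent.Lib.Fusion
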