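import Cfsg.Agent.Lib.Fusion.TransferFunctorBasic
import Cfsg.Agent.S0649
import Cfsg.Agent.S0650
import Cfsg.Agent.Lib.Cores
import Cfsg.Agent.Lib.PGroups.Subnormal

/-!
The Thompson subgroup (abelian version) as a functor, and the local factorization
`G = C_G(V) N_G(J(P))` for `p`-th powers `V` of central elements lying in `O_p(G)`.
-/

set_option autoImplicit false
set_option linter.unusedSectionVars false

namespace Cfsg.Agent.Lib.Fusion

open Cfsg
open scoped commutatorElement

universe u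

theorem isMulCommutative_iff_forall {G : Type*} [Group G] {A : Subgroup G} :
    IsMulCommutative A ↔ ∀ a ∈ A, ∀ b ∈ A, a * b = b * a :=
  ⟨fun h a ha b hb => congrArg Subtype.val (h.is_comm.comm (⟨a, ha⟩ : A) ⟨b, hb⟩),
    fun h => ⟨⟨fun a b => Subtype.ext (h a a.2 b b.2)⟩⟩⟩

theorem map_maxAbelian_mem {Q R : Type*} [Group Q] [Group R] (φ : Q ≃* R) {A : Subgroup Q}
    (hA : A ∈ maxAbelianSubgroups Q) : A.map φ.toMonoidHom ∈ maxAbelianSubgroups R := by
  refine ⟨isMulCommutative_iff_forall.2 ?_, fun B hB => ?_⟩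
  · rintro _ ⟨a, ha, rfl⟩ _ ⟨b, hb, rfl⟩
    rw [← map_mul, isMulCommutative_iff_forall.1 hA.1 a ha b hb, map_mul]
  · have h := hA.2 (B.comap φ.toMonoidHom) (isMulCommutative_iff_forall.2 fun a ha b hb =>
      φ.injective (by rw [map_mul, map_mul]; exact isMulCommutative_iff_forall.1 hB _ ha _ hb))
    rw [Subgroup.card_map_of_injective φ.injective]
    refine le_trans (le_of_eq ?_) h
    rw [← Subgroup.card_map_of_injective (f := φ.toMonoidHom) φ.injective,
      Subgroup.map_comap_eq_self_of_surjective φ.surjective]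

theorem map_thompsonSubgroupA {Q R : Type*} [Group Q] [Group R] (φ : Q ≃* R) :
    (thompsonSubgroupA Q).map φ.toMonoidHom = thompsonSubgroupA R := by
  rw [thompsonSubgroupA, thompsonSubgroupA, (Subgroup.gc_map_comap φ.toMonoidHom).l_sSup]
  refine le_antisymm (iSup₂_le fun A hA => le_sSup (map_maxAbelian_mem φ hA))
    (sSup_le fun B hB => ?_)
  refine le_iSup₂_of_le (B.map φ.symm.toMonoidHom) (map_maxAbelian_mem φ.symm hB) ?_
  intro b hb
  exact ⟨φ.symm b, ⟨b, hb, rfl⟩, φ.apply_symm_apply b⟩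

theorem exists_maxAbelian_card (G : Type*) [Group G] [Finite G] :
    ∃ A, A ∈ maxAbelianSubgroups G := by
  have : Nonempty {A : Subgroup G // IsMulCommutative A} :=
    ⟨⟨⊥, isMulCommutative_iff_forall.2 fun a ha b hb => by
      rw [Subgroup.mem_bot.1 ha, Subgroup.mem_bot.1 hb]⟩⟩
  obtain ⟨⟨A, hA⟩, hmax⟩ := Finite.exists_max
    fun A : {A : Subgroup G // IsMulCommutative A} => Nat.card A.1
  exact ⟨A, hA, fun B hB => hmax ⟨B, hB⟩⟩

/-- The Thompson subgroup is a positive characteristic functor. -/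
theorem isPFunctor_thompson (p : ℕ) :
    IsPFunctor.{u} p fun Q _ => thompsonSubgroupA Q where
  natural := fun Q R _ _ _ _ φ => map_thompsonSubgroupA φ
  ne_bot := by
    intro Q _ _ _ hQ hbot
    change thompsonSubgroupA Q = ⊥ at hbot
    obtain ⟨A, hA⟩ := exists_maxAbelian_card Q
    have hA1 : A = ⊥ := le_bot_iff.1 (hbot ▸ le_sSup hA)
    obtain ⟨x, hx⟩ := exists_ne (1 : Q)
    have h := hA.2 (Subgroup.zpowers x) (isMulCommutative_iff_forall.2 (by
      rintro _ ⟨i, rfl⟩ _ ⟨j, rfl⟩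
      exact ((Commute.refl x).zpow_zpow i j).eq))
    rw [hA1, Subgroup.card_bot] at h
    exact hx (Subgroup.zpowers_eq_bot.1 (Subgroup.card_eq_one.1 (le_antisymm h Nat.card_pos)))

theorem map_thompsonSubgroupAOf {G H : Type*} [Group G] [Group H] (f : G →* H)
    (hf : Function.Injective f) (P : Subgroup G) :
    (thompsonSubgroupAOf P).map f = thompsonSubgroupAOf (P.map f) := by
  rw [thompsonSubgroupAOf, thompsonSubgroupAOf, ← map_thompsonSubgroupA (P.equivMapOfInjective f hf),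
    Subgroup.map_map, Subgroup.map_map]
  rfl

theorem thompsonSubgroupAOf_eq_of_le {G : Type*} [Group G] [Finite G] {Q P : Subgroup G}
    (hQP : Q ≤ P) (h : thompsonSubgroupAOf P ≤ Q) :
    thompsonSubgroupAOf P = thompsonSubgroupAOf Q := by
  set Q' := Q.subgroupOf P
  have hJ : thompsonSubgroupA P ≤ Q' := fun x hx => h ⟨x, hx, rfl⟩
  have key : thompsonSubgroupA P = thompsonSubgroupAOf Q' := by
    refine le_antisymm (sSup_le fun A hA => ?_) (Subgroup.map_le_iff_le_comap.2 (sSup_le fun B hB => ?_))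
    · have hAQ : A ≤ Q' := (le_sSup hA).trans hJ
      rw [← Subgroup.map_subgroupOf_eq_of_le hAQ]
      refine Subgroup.map_mono (le_sSup ⟨isMulCommutative_iff_forall.2 fun a ha b hb =>
        Subtype.ext (isMulCommutative_iff_forall.1 hA.1 a ha b hb), fun B hB => ?_⟩)
      rw [Nat.card_congr (Subgroup.subgroupOfEquivOfLe hAQ).toEquiv,
        ← Subgroup.card_map_of_injective Q'.subtype_injective (K := B)]
      exact hA.2 _ (isMulCommutative_iff_forall.2 (by
        rintro _ ⟨a, ha, rfl⟩ _ ⟨b, hb, rfl⟩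
        rw [← map_mul, isMulCommutative_iff_forall.1 hB a ha b hb, map_mul]))
    · obtain ⟨A, hA⟩ := exists_maxAbelian_card P
      have hAQ : A ≤ Q' := (le_sSup hA).trans hJ
      have hBP : B.map Q'.subtype ∈ maxAbelianSubgroups P := by
        refine ⟨isMulCommutative_iff_forall.2 ?_, fun C hC => le_trans (hA.2 C hC) ?_⟩
        · rintro _ ⟨a, ha, rfl⟩ _ ⟨b, hb, rfl⟩
          rw [← map_mul, isMulCommutative_iff_forall.1 hB.1 a ha b hb, map_mul]
        · rw [Subgroup.card_map_of_injective Q'.subtype_injective,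
            ← Nat.card_congr (Subgroup.subgroupOfEquivOfLe hAQ).toEquiv]
          exact hB.2 _ (isMulCommutative_iff_forall.2 fun a ha b hb =>
            Subtype.ext (isMulCommutative_iff_forall.1 hA.1 a ha b hb))
      exact Subgroup.map_le_iff_le_comap.1 (le_sSup hBP)
  rw [← Subgroup.map_subgroupOf_eq_of_le hQP, ← map_thompsonSubgroupAOf P.subtype P.subtype_injective,
    ← key]
  rfl

/-- If `J(R)` is not inside a normal subgroup `Q`, an element outside `Q` acts quadratically on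
`Z(Q)`. -/
theorem exists_quadratic {R : Type*} [Group R] [Finite R] {p : ℕ} [Fact p.Prime]
    (hR : IsPGroup p R) (Q : Subgroup R) [Q.Normal] (hJ : ¬ thompsonSubgroupA R ≤ Q) :
    ∃ a, a ∉ Q ∧ ∀ w ∈ Q ⊓ Subgroup.centralizer (Q : Set R), ⁅a, ⁅a, w⁆⁆ = 1 := by
  set W := Q ⊓ Subgroup.centralizer (Q : Set R) with hW
  have hWn : W.Normal := by rw [hW]; infer_instance
  have hWc : ∀ a ∈ W, ∀ b ∈ W, a * b = b * a := fun a ha b hb => hb.2 a ha.1
  have hne : Nonempty {A : Subgroup R // A ∈ maxAbelianSubgroups R ∧ ¬ A ≤ Q} := by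
    by_contra hc
    exact hJ (sSup_le fun A hA => by_contra fun hAQ => hc ⟨⟨A, hA, hAQ⟩⟩)
  obtain ⟨⟨A, hA, hAQ⟩, hmax⟩ := Finite.exists_max
    fun A : {A : Subgroup R // A ∈ maxAbelianSubgroups R ∧ ¬ A ≤ Q} => Nat.card (A.1 ⊓ W : Subgroup R)
  have hAc := isMulCommutative_iff_forall.1 hA.1
  by_cases hN : W ≤ Subgroup.normalizer (A : Set R)
  · obtain ⟨a, ha, haQ⟩ := SetLike.not_le_iff_exists.1 hAQ
    refine ⟨a, haQ, fun w hw => commutatorElement_eq_one_iff_mul_comm.2 (hAc a ha _ ?_)⟩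
    rw [show ⁅a, w⁆ = a * (w * a⁻¹ * w⁻¹) by rw [commutatorElement_def]; group]
    exact A.mul_mem ha ((Subgroup.mem_normalizer_iff.1 (hN hw) _).1 (A.inv_mem ha))
  exfalso
  have hWcomm : IsMulCommutative W := isMulCommutative_iff_forall.2 hWc
  have hWW : ⁅W, W⁆ ≤ A := le_of_eq_of_le
    (Subgroup.commutator_eq_bot_iff_le_centralizer.2 fun x hx y hy => hWc y hy x hx) bot_le
  obtain ⟨b, hb, hbN, hbA⟩ := S0649.result hR W (fun _ => hWcomm) A hA.1 hWW hN
  obtain ⟨hcard, hcomm, -, hlt, -, -, hle, -, -, -⟩ :=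
    S0650.result hR W (fun _ => hWcomm) A hA.1 hWW hN b hb hbN hbA
  generalize ((A ⊓ A.map (MulAut.conj b⁻¹).toMonoidHom) ⊔
    Subgroup.closure {g : R | ∃ a ∈ A, g = a * b⁻¹ * a⁻¹ * b}) = A' at hcard hcomm hlt hle
  have hA' : A' ∈ maxAbelianSubgroups R := ⟨hcomm, fun B hB => (hA.2 B hB).trans hcard.ge⟩
  by_cases hA'Q : A' ≤ Q
  · -- then `W ≤ A'`
    refine hN (le_trans ?_ hle)
    have hn : W ≤ Subgroup.normalizer (A' : Set R) := fun w hw => by
      rw [Subgroup.mem_normalizer_iff]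
      intro x
      constructor
      · intro hx
        rw [← hw.2 x (hA'Q hx), mul_inv_cancel_right]
        exact hx
      · intro hx
        have h1 : w⁻¹ * (w * x * w⁻¹) * w = w * x * w⁻¹ := by
          rw [mul_assoc, hw.2 _ (hA'Q hx), inv_mul_cancel_left]
        rw [show x = w * x * w⁻¹ by rw [← h1]; group]
        exact hx
    have hsup : IsMulCommutative (A' ⊔ W : Subgroup R) := by
      refine isMulCommutative_iff_forall.2 fun x hx y hy => ?_
      rw [← SetLike.mem_coe, Subgroup.coe_mul_of_right_le_normalizer_left _ _ hn] at hx hy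
      obtain ⟨a, ha, v, hv, rfl⟩ := hx
      obtain ⟨c, hc, u, hu, rfl⟩ := hy
      have h1 : Commute a c := isMulCommutative_iff_forall.1 hcomm a ha c hc
      have h2 : Commute a u := hu.2 a (hA'Q ha)
      have h3 : Commute c v := hv.2 c (hA'Q hc)
      exact ((h1.mul_right h2).mul_left (h3.symm.mul_right (hWc v hv u hu))).eq
    have h2 := hA'.2 _ hsup
    exact le_sup_right.trans (Subgroup.eq_of_le_of_card_ge (le_sup_left : A' ≤ A' ⊔ W) h2).ge
  · have h1 := hmax ⟨A', hA', hA'Q⟩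
    exact hlt.ne (Subgroup.eq_of_le_of_card_ge hlt.le h1)

/-- `G = C_G(V) N_G(J(P))` when `V`, generated by `p`-th powers of central elements of `P`, lies in
`O_p(G)`. -/
theorem thompson_local_factor {p : ℕ} [Fact p.Prime] : ∀ (n : ℕ) (G : Type u) [Group G] [Finite G],
    Nat.card G = n → ∀ (P : Sylow p G) (V : Subgroup G),
      V ≤ Subgroup.closure {y : G | ∃ z ∈ (P : Subgroup G) ⊓
        Subgroup.centralizer ((P : Subgroup G) : Set G), y = z ^ p} →
      V ≤ pCore p G → ∀ g : G, ∃ c ∈ Subgroup.centralizer (V : Set G),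
        ∃ m ∈ Subgroup.normalizer ((thompsonSubgroupAOf (P : Subgroup G)) : Set G), g = c * m := by
  intro n
  induction n using Nat.strong_induction_on with
  | _ n IH =>
  intro G _ _ hn P V hV hVQ g
  set Q := pCore p G with hQ
  have hQn : Q.Normal := pCore_normal p G
  have hQp : IsPGroup p Q := isPGroup_pCore_aux
  have hQP : Q ≤ (P : Subgroup G) := Cfsg.Agent.Lib.Cores.pCore_le_sylow P
  -- recursion through a normal subgroup centralizing `V`
  have frat : ∀ K : Subgroup G, K.Normal → K ≤ Subgroup.centralizer (V : Set G) →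
      ¬ (P : Subgroup G) ⊓ K ≤ Q → ∃ c ∈ Subgroup.centralizer (V : Set G),
        ∃ m ∈ Subgroup.normalizer ((thompsonSubgroupAOf (P : Subgroup G)) : Set G), g = c * m := by
    intro K hK hKV hne
    set U := (P : Subgroup G) ⊓ K with hU
    set M := Subgroup.normalizer (U : Set G)
    have hPM : (P : Subgroup G) ≤ M := fun s hs => by
      rw [Subgroup.mem_normalizer_iff]
      intro x
      constructor
      · rintro ⟨hx1, hx2⟩
        exact ⟨(P : Subgroup G).mul_mem ((P : Subgroup G).mul_mem hs hx1) ((P : Subgroup G).inv_mem hs),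
          hK.conj_mem x hx2 s⟩
      · rintro ⟨hx1, hx2⟩
        have e : x = s⁻¹ * (s * x * s⁻¹) * s := by group
        rw [e]
        exact ⟨(P : Subgroup G).mul_mem ((P : Subgroup G).mul_mem ((P : Subgroup G).inv_mem hs) hx1) hs, by
          have := hK.conj_mem _ hx2 s⁻¹
          rwa [inv_inv] at this⟩
    have hMtop : M ≠ ⊤ := fun e => hne (le_sSup ⟨Subgroup.normalizer_eq_top_iff.1 e,
      P.2.to_le inf_le_left⟩)
    have hlt : Nat.card M < n := by
      rw [← hn]
      by_contra hge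
      exact hMtop (Subgroup.eq_top_of_card_eq _
        (le_antisymm (Subgroup.card_le_card_group M) (not_lt.1 hge)))
    have hVM : V ≤ M := hVQ.trans (hQP.trans hPM)
    let PM : Sylow p M := P.subtype hPM
    have hPMmap : ((PM : Sylow p M) : Subgroup M).map M.subtype = (P : Subgroup G) := by
      rw [Sylow.coe_subtype, Subgroup.map_subgroupOf_eq_of_le hPM]
    have hVM' : V.subgroupOf M ≤ Subgroup.closure {y : M | ∃ z ∈ (PM : Subgroup M) ⊓
        Subgroup.centralizer ((PM : Subgroup M) : Set M), y = z ^ p} := by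
      rw [← Subgroup.map_le_map_iff_of_injective M.subtype_injective,
        Subgroup.map_subgroupOf_eq_of_le hVM, MonoidHom.map_closure]
      refine hV.trans (Subgroup.closure_mono ?_)
      rintro _ ⟨z, ⟨hz1, hz2⟩, rfl⟩
      refine ⟨⟨z, hPM hz1⟩ ^ p, ⟨⟨z, hPM hz1⟩, ⟨?_, fun t ht => ?_⟩, rfl⟩, rfl⟩
      · rw [Sylow.coe_subtype]; exact hz1
      · rw [Sylow.coe_subtype] at ht
        exact Subtype.ext (hz2 t ht)
    have hVQM : V.subgroupOf M ≤ pCore p M := by
      have hQMn : (Q.subgroupOf M).Normal := hQn.subgroupOf M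
      have hQMp : IsPGroup p (Q.subgroupOf M) :=
        hQp.comap_of_injective M.subtype M.subtype_injective
      exact (Subgroup.comap_mono hVQ).trans (le_sSup ⟨hQMn, hQMp⟩)
    obtain ⟨TS, hTS⟩ : ∃ TS : Sylow p K, (TS : Subgroup K) = U.subgroupOf K := by
      have hp' : IsPGroup p (U.subgroupOf K) :=
        (P.2.to_le inf_le_left).comap_of_injective K.subtype K.subtype_injective
      refine ⟨hp'.toSylow ?_, rfl⟩
      intro hdvd
      have h1 : (U.subgroupOf K).index = U.relIndex K := rfl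
      rw [h1, show U = (P : Subgroup G) ⊓ K from rfl, Subgroup.inf_relIndex_right] at hdvd
      exact P.not_dvd_index (hdvd.trans (Lib.PGroups.relIndex_dvd_index_of_normal_right K _))
    have hfr := Sylow.normalizer_sup_eq_top TS
    rw [hTS, Subgroup.map_subgroupOf_eq_of_le inf_le_right, sup_comm] at hfr
    have hg : g ∈ K ⊔ M := hfr.ge (Subgroup.mem_top g)
    rw [← SetLike.mem_coe, Subgroup.normal_mul] at hg
    obtain ⟨k, hk, m, hm, rfl⟩ := hg
    obtain ⟨c, hc, j, hj, hcj⟩ := IH _ hlt M rfl PM (V.subgroupOf M) hVM' hVQM ⟨m, hm⟩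
    refine ⟨k * (c : G), mul_mem (hKV hk) ?_, (j : G), ?_, ?_⟩
    · intro v hv
      exact congrArg Subtype.val (hc ⟨v, hVM hv⟩ hv)
    · have hj' := Subgroup.le_normalizer_map M.subtype ⟨j, hj, rfl⟩
      rw [map_thompsonSubgroupAOf M.subtype M.subtype_injective, hPMmap] at hj'
      exact hj'
    · rw [mul_assoc, ← Subgroup.coe_mul, ← hcj]
  by_cases hC : (P : Subgroup G) ⊓ Subgroup.centralizer (Q : Set G) ≤ Q
  swap
  · exact frat _ Subgroup.normal_centralizer (Subgroup.centralizer_le hVQ) hC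
  set Z := Q ⊓ Subgroup.centralizer (Q : Set G) with hZ
  have hZn : Z.Normal := by rw [hZ]; infer_instance
  have hzZ : ∀ z ∈ (P : Subgroup G) ⊓ Subgroup.centralizer ((P : Subgroup G) : Set G), z ∈ Z :=
    fun z hz => ⟨hC ⟨hz.1, Subgroup.centralizer_le hQP hz.2⟩, Subgroup.centralizer_le hQP hz.2⟩
  by_cases hJ : thompsonSubgroupAOf (P : Subgroup G) ≤ Q
  · refine ⟨1, one_mem _, g, ?_, (one_mul g).symm⟩
    rw [thompsonSubgroupAOf_eq_of_le hQP hJ]
    have hn' : (thompsonSubgroupAOf Q).Normal := by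
      refine Subgroup.normalizer_eq_top_iff.1 (eq_top_iff.2 fun x _ => ?_)
      rw [← SetLike.mem_coe]
      have h1 : (thompsonSubgroupAOf Q).map (MulAut.conj x).toMonoidHom = thompsonSubgroupAOf Q := by
        rw [map_thompsonSubgroupAOf (MulAut.conj x).toMonoidHom (MulAut.conj x).injective]
        congr 1
        refine le_antisymm ?_ ?_
        · rintro _ ⟨q, hq, rfl⟩
          exact hQn.conj_mem q hq x
        · intro q hq
          refine ⟨x⁻¹ * q * x⁻¹⁻¹, hQn.conj_mem q hq x⁻¹, ?_⟩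
          show x * (x⁻¹ * q * x⁻¹⁻¹) * x⁻¹ = q
          group
      rw [SetLike.mem_coe, Subgroup.mem_normalizer_iff]
      intro y
      conv_rhs => rw [← h1]
      exact (Subgroup.mem_map_iff_mem (f := (MulAut.conj x).toMonoidHom) (MulAut.conj x).injective).symm
    rw [Subgroup.normalizer_eq_top_iff.2 hn']
    exact Subgroup.mem_top g
  have hJ' : ¬ thompsonSubgroupA ↥(P : Subgroup G) ≤ Q.subgroupOf (P : Subgroup G) := fun hle =>
    hJ (Subgroup.map_le_iff_le_comap.2 hle)
  obtain ⟨⟨a, haP⟩, haQ, hquad⟩ := exists_quadratic P.2 (Q.subgroupOf (P : Subgroup G)) hJ'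
  have hquad' : ∀ w ∈ Z, ⁅a, ⁅a, w⁆⁆ = 1 := fun w hw => congrArg Subtype.val
    (hquad ⟨w, hQP hw.1⟩ ⟨hw.1, fun q hq => Subtype.ext (hw.2 q hq)⟩)
  classical
  obtain ⟨k, hk⟩ := P.2 ⟨a, haP⟩
  have hex : ∃ j, a ^ p ^ j ∈ Q := ⟨k, by
    have := congrArg Subtype.val hk
    rw [SubmonoidClass.coe_pow] at this
    rw [this]
    exact one_mem Q⟩
  set j := Nat.find hex
  have hj0 : j ≠ 0 := fun e => haQ (by
    have := Nat.find_spec hex
    rwa [show Nat.find hex = 0 from e, pow_zero, pow_one] at this)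
  obtain ⟨i, hi⟩ : ∃ i, j = i + 1 := ⟨j - 1, by omega⟩
  set t := a ^ p ^ i with ht
  have htQ : t ∉ Q := Nat.find_min hex (by omega)
  have htp : t ^ p ∈ Q := by
    rw [ht, ← pow_mul, ← pow_succ, ← hi]
    exact Nat.find_spec hex
  let K := Subgroup.centralizer ({y : G | ∃ w ∈ Z, y = w ^ p} : Set G)
  have hKn : K.Normal := ⟨fun x hx y => by
    rintro _ ⟨w, hw, rfl⟩
    have h1 := hx _ ⟨y⁻¹ * w * y⁻¹⁻¹, hZn.conj_mem w hw y⁻¹, rfl⟩
    rw [conj_pow, inv_inv] at h1
    calc w ^ p * (y * x * y⁻¹) = y * (y⁻¹ * w ^ p * y * x) * y⁻¹ := by group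
      _ = y * (x * (y⁻¹ * w ^ p * y)) * y⁻¹ := by rw [h1]
      _ = y * x * y⁻¹ * w ^ p := by group⟩
  have htK : t ∈ K := by
    rintro _ ⟨w, hw, rfl⟩
    set c := ⁅a, w⁆ with hc
    have hca : Commute a c := commutatorElement_eq_one_iff_mul_comm.1 (hquad' w hw)
    have hcZ : c ∈ Z := by
      rw [hc, commutatorElement_def]
      exact mul_mem (hZn.conj_mem w hw a) (inv_mem hw)
    have hcw : Commute c w := hw.2 c hcZ.1
    have hpow : ∀ m : ℕ, a ^ m * w * (a ^ m)⁻¹ = c ^ m * w := by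
      intro m
      induction m with
      | zero => simp
      | succ m ihm =>
        calc a ^ (m + 1) * w * (a ^ (m + 1))⁻¹ = a * (a ^ m * w * (a ^ m)⁻¹) * a⁻¹ := by
              rw [pow_succ']; group
          _ = a * c ^ m * w * a⁻¹ := by rw [ihm]; group
          _ = c ^ m * (a * w * a⁻¹) := by rw [(hca.pow_right m).eq]; group
          _ = c ^ (m + 1) * w := by rw [hc, pow_succ, commutatorElement_def]; group
    have hfix : t ^ p * w * (t ^ p)⁻¹ = w := by rw [hw.2 _ htp, mul_inv_cancel_right]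
    rw [ht, ← pow_mul, hpow, mul_eq_right, pow_mul] at hfix
    have e : t * w ^ p * t⁻¹ = w ^ p := by
      rw [← conj_pow, ht, hpow, (hcw.pow_left _).mul_pow, hfix, one_mul]
    exact (mul_inv_eq_iff_eq_mul.1 e).symm
  have hKV : K ≤ Subgroup.centralizer (V : Set G) := by
    intro x hx
    have h1 : V ≤ Subgroup.centralizer {x} := hV.trans ((Subgroup.closure_le _).2 (by
      rintro _ ⟨z, hz, rfl⟩ y hy
      rw [Set.mem_singleton_iff.1 hy]
      exact (hx _ ⟨z, hzZ z hz, rfl⟩).symm))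
    intro v hv
    exact ((h1 hv) x rfl).symm
  exact frat K hKn hKV fun hle => htQ (hle ⟨pow_mem haP _, htK⟩)

end Cfsg.Agent.Lib.Fusion
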