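import Cfsg.Agent.Lib.Fusion.TransferFunctor
import Cfsg.Agent.Lib.Fusion.ThompsonLocal

/-!
Generation of a system by the normalizer of a characteristic functor and the centralizer of the
`p`-th powers of the centre.
-/

set_option autoImplicit false
set_option linter.unusedSectionVars false

namespace Cfsg.Agent.Lib.Fusion

open Cfsg Cfsg.FusionSystem
open scoped commutatorElement

universe u

/-- A functor with a factorization `G = C_G(V) N_G(W(P))` for `p`-th powers `V` of central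
elements of `P` inside `O_p(G)`. -/
structure IsFactorFunctor (p : ℕ) (W : ∀ (Q : Type u) [Group Q], Subgroup Q) : Prop
    extends IsPFunctor p W where
  factor : ∀ (G : Type u) [Group G] [Finite G] (P : Sylow p G) (V : Subgroup G),
    V ≤ Subgroup.closure {y : G | ∃ z ∈ (P : Subgroup G) ⊓
        Subgroup.centralizer ((P : Subgroup G) : Set G), y = z ^ p} →
      V ≤ pCore p G → ∀ g : G, ∃ c ∈ Subgroup.centralizer (V : Set G),
        ∃ m ∈ Subgroup.normalizer (((W ↥(P : Subgroup G)).map (P : Subgroup G).subtype :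
          Subgroup G) : Set G), g = c * m

/-- The `p`-th powers of the centre. -/
abbrev cpow (p : ℕ) {Ω : Type u} [Group Ω] (S : Subgroup Ω) : Subgroup Ω :=
  powerClosure p 1 (S ⊓ Subgroup.centralizer (S : Set Ω))

/-- `F` is generated by the normalizer of the relative functor at `K` and the centralizer of the
`p`-th powers of the centre. -/
def GenCtrl (p : ℕ) (W : ∀ (Q : Type u) [Group Q], Subgroup Q) {Ω : Type u} [Group Ω]
    {S : Subgroup Ω} (F : FusionSystem S) (K : Subgroup Ω) : Prop :=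
  ∀ E : FusionSystem S,
    (∀ (X : Subgroup Ω) (φ : X →* Ω), φ ∈ F.normalizerHom (relFunctor W K S) X → φ ∈ E.Hom X) →
    (∀ (X : Subgroup Ω) (φ : X →* Ω), φ ∈ F.centralizerHom (cpow p S) X → φ ∈ E.Hom X) →
    ∀ (X : Subgroup Ω) (φ : X →* Ω), φ ∈ F.Hom X → φ ∈ E.Hom X

/-- The hypothesis on smaller groups. -/
def GenCtrlSmaller (p : ℕ) (W : ∀ (Q : Type u) [Group Q], Subgroup Q) (n : ℕ) : Prop :=
  ∀ {Ω : Type u} [Group Ω] {S : Subgroup Ω} [Finite S], Nat.card S < n → IsPGroup p S →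
    ∀ F : FusionSystem S, F.IsSaturated p → ∀ K : Subgroup Ω, F.IsNormal K →
      IsPGroup p (F.autGroup K) → GenCtrl p W F K

/-- The hypothesis on proper subsystems. -/
def GenCtrlProper (p : ℕ) (W : ∀ (Q : Type u) [Group Q], Subgroup Q) {Ω : Type u} [Group Ω]
    {S : Subgroup Ω} (F : FusionSystem S) : Prop :=
  ∀ F' : FusionSystem S, F' ≤ F → F' ≠ F → F'.IsSaturated p → ∀ K : Subgroup Ω, F'.IsNormal K →
    IsPGroup p (F'.autGroup K) → GenCtrl p W F' K

variable {p : ℕ} [Fact p.Prime] {W : ∀ (Q : Type u) [Group Q], Subgroup Q}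
  {Ω : Type u} [Group Ω] {S : Subgroup Ω} [Finite S] {F : FusionSystem S}

/-- The maps between subgroups of `T`. -/
def cutSystem (E : FusionSystem S) (T : Subgroup Ω) (hT : T ≤ S) : FusionSystem T where
  Hom P := {φ | φ ∈ E.Hom P ∧ P ≤ T ∧ ∀ x, φ x ∈ T}
  le_of_mem h := ⟨h.2.1, h.2.2⟩
  injective_of_mem h := E.injective_of_mem h.1
  conj_mem {P g} hP hg := ⟨E.conj_mem (hP.trans hT) (hT hg), hP, fun x => by
    show g * (x : Ω) * g⁻¹ ∈ T
    exact T.mul_mem (T.mul_mem hg (hP x.2)) (T.inv_mem hg)⟩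
  comp_mem {P R φ ψ} hφ hψ h := ⟨E.comp_mem hφ.1 hψ.1 h, hφ.2.1, fun x => hψ.2.2 _⟩
  inv_mem := by
    rintro P φ ⟨hφ, hP, hv⟩
    obtain ⟨ψ, hψ, h⟩ := E.inv_mem hφ
    refine ⟨ψ, ⟨hψ, ?_, ?_⟩, h⟩
    · rintro _ ⟨x, rfl⟩
      exact hv x
    · rintro ⟨_, x, rfl⟩
      rw [h x]
      exact hP x.2

omit [Finite S] in
theorem cpow_le_center (p : ℕ) : cpow p S ≤ S ⊓ Subgroup.centralizer (S : Set Ω) :=
  (Subgroup.closure_le _).2 (by rintro _ ⟨x, hx, rfl⟩; exact Subgroup.pow_mem _ hx _)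

omit [Finite S] in
theorem centralizerIn_cpow (p : ℕ) : centralizerIn S (cpow p S) = S :=
  le_antisymm (centralizerIn_le _ _) fun s hs => mem_centralizerIn.2 ⟨hs, fun v hv =>
    (((cpow_le_center p hv).2) s hs).symm⟩

omit [Finite S] in
theorem cpow_mono {P : Subgroup Ω} (hP : P ≤ S) :
    cpow p S ≤ cpow p (normalizerIn S P) := by
  refine Subgroup.closure_mono ?_
  rintro _ ⟨x, ⟨hx, hx'⟩, rfl⟩
  refine ⟨x, ⟨centralizerIn_le_normalizerIn S P (mem_centralizerIn.2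
    ⟨hx, fun s hs => hx' s (hP hs)⟩), fun s hs => hx' s hs.1⟩, rfl⟩

/-- Centralizer maps of a subsystem over a smaller group are centralizer maps. -/
theorem centralizerHom_mono {T : Subgroup Ω} {N : FusionSystem T} (hT : T ≤ S)
    (hle : ∀ (X : Subgroup Ω) (φ : X →* Ω), φ ∈ N.Hom X → φ ∈ F.Hom X)
    (hV : cpow p S ≤ cpow p T) {X : Subgroup Ω} {φ : X →* Ω}
    (hφ : φ ∈ N.centralizerHom (cpow p T) X) : φ ∈ F.centralizerHom (cpow p S) X := by
  obtain ⟨hφN, hX, -, ψ, hψ, hext, hfix⟩ := hφ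
  have hXS : X ≤ S := hX.trans ((centralizerIn_le _ _).trans hT)
  have hle' : X ⊔ cpow p S ≤ X ⊔ cpow p T := sup_le_sup_left hV _
  refine ⟨hle X φ hφN, by rw [centralizerIn_cpow]; exact hXS,
    fun x => by rw [centralizerIn_cpow]; exact apply_mem (hle X φ hφN) x,
    restr hle' ψ, restr_mem F (hle _ ψ hψ) _, fun x => hext x, fun x => hfix ⟨x, hV x.2⟩⟩

/-- The local step: inside a model every map is a centralizer map after a normalizer map. -/
theorem gen_local_control (hW : IsFactorFunctor p W) (hS : IsPGroup p S) (hF : F.IsConstrained p)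
    {K : Subgroup Ω} (hK : F.IsNormal K) (hKp : IsPGroup p (F.autGroup K)) (E : FusionSystem S)
    (hN : ∀ (X : Subgroup Ω) (φ : X →* Ω), φ ∈ F.normalizerHom (relFunctor W K S) X → φ ∈ E.Hom X)
    (hC : ∀ (X : Subgroup Ω) (φ : X →* Ω), φ ∈ F.centralizerHom (cpow p S) X → φ ∈ E.Hom X)
    {X₀ : Subgroup Ω} {φ₀ : X₀ →* Ω} (hφ₀ : φ₀ ∈ F.Hom X₀) : φ₀ ∈ E.Hom X₀ := by
  obtain ⟨L, _, ι, hL⟩ := exists_model hS hF
  have : Finite L := hL.1
  have hi := hL.2.1.1
  obtain ⟨T, hT⟩ := hL.2.2.1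
  have hKS := hK.1
  have hnK : S ≤ Subgroup.normalizer (K : Set Ω) :=
    WeaklyClosed.le_normalizer (StronglyClosed.weaklyClosed (IsNormal.stronglyClosed hK))
  have hKfn : F.IsFullyNormalized K := ⟨hKS, fun R _ => by
    rw [show normalizerIn S K = S from le_antisymm (normalizerIn_le S K) fun g hg => ⟨hg, hnK hg⟩]
    exact Subgroup.card_le_of_le (normalizerIn_le S R)⟩
  let Kn := imageAlong ι K
  have hKn : Kn.Normal := IsModel.image_normal hL hK
  -- the action on `K` is that of `S`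
  have hact : ∀ g : L, ∃ s : S, ∀ k : S, (k : Ω) ∈ K →
      g * ι k * g⁻¹ = ι (s * k * s⁻¹) := by
    intro g
    obtain ⟨φ, hφ, hφe⟩ := IsRealizedBy.exists_hom hL.2.1 hKS g fun k =>
      imageAlong_le_range ι K (hKn.conj_mem _ (apply_mem_imageAlong ι (⟨k, hKS k.2⟩ : S) k.2) g)
    have hr : φ.range = K := (StronglyClosed.weaklyClosed (IsNormal.stronglyClosed hK)).2 φ hφ
    obtain ⟨s, hs, hse⟩ := exists_conj_of_isPGroup_autGroup hS hF.1 hKfn hKp
      (α := isoOf φ (F.injective_of_mem hφ) hr) (mem_autGroup_of_hom F hφ)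
    refine ⟨⟨s, hs⟩, fun k hk => (hφe ⟨k, hk⟩).symm.trans (congrArg ι (Subtype.ext ?_))⟩
    exact hse ⟨k, hk⟩
  have hCn : (pCore p L).Normal := pCore_normal p L
  have hcore : pCore p L = imageAlong ι F.core := Model.pCore_eq hL
  set Vz := cpow p S with hVz
  have hVzS : Vz ≤ S := (cpow_le_center p).trans inf_le_left
  let Vn : Subgroup L := imageAlong ι Vz
  have hzcomm : ∀ z : S, (z : Ω) ∈ S ⊓ Subgroup.centralizer (S : Set Ω) → ∀ s : S, s * z = z * s :=
    fun z hz s => Subtype.ext (hz.2 s s.2)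
  have hVnP : Vn ≤ pCore p L := fun y hy => by
    obtain ⟨v, hvS, hv, rfl⟩ := mem_imageAlong.1 hy
    refine hL.2.2.2 (Subgroup.mem_centralizer_iff.2 fun y hy => ?_)
    obtain ⟨w, hwS, -, rfl⟩ := mem_imageAlong.1 (hcore ▸ hy)
    rw [← map_mul, ← map_mul, hzcomm ⟨v, hvS⟩ (cpow_le_center p hv)]
  let q : L →* L ⧸ Kn := QuotientGroup.mk' Kn
  have hq := QuotientGroup.mk'_surjective Kn
  let Tq : Sylow p (L ⧸ Kn) := T.mapSurjective hq
  set V := relFunctor W K S
  have hVS : V ≤ S := relFunctor_le W K S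
  set Wq : Subgroup (L ⧸ Kn) := (W ↥(Tq : Subgroup (L ⧸ Kn))).map (Tq : Subgroup (L ⧸ Kn)).subtype
  -- the functor of the quotient Sylow subgroup
  have hWq : Wq = (imageAlong ι V).map q := by
    have := subgroupOf_normal_of_le hnK
    let K₀ := (K.subgroupOf S).normalCore
    have hK₀ : K₀ = K.subgroupOf S := Subgroup.normalCore_eq_self _
    let f : S →* ↥(Tq : Subgroup (L ⧸ Kn)) := (q.comp ι).codRestrict _ fun s => by
      rw [Sylow.coe_mapSurjective, hT]
      exact ⟨_, ⟨s, rfl⟩, rfl⟩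
    have hfk : f.ker = K₀ := by
      ext s
      rw [MonoidHom.mem_ker, hK₀, Subgroup.mem_subgroupOf, ← apply_mem_imageAlong_iff hi,
        ← QuotientGroup.eq_one_iff]
      exact ⟨fun h => congrArg Subtype.val h, fun h => Subtype.ext h⟩
    have hfs : Function.Surjective f := by
      rintro ⟨y, hy⟩
      rw [Sylow.coe_mapSurjective, hT] at hy
      obtain ⟨_, ⟨s, rfl⟩, rfl⟩ := hy
      exact ⟨s, rfl⟩
    let e : ↥S ⧸ K₀ ≃* ↥(Tq : Subgroup (L ⧸ Kn)) :=
      (QuotientGroup.quotientMulEquivOfEq hfk.symm).trans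
        (QuotientGroup.quotientKerEquivOfSurjective f hfs)
    have hn := hW.natural _ _ (hS.to_quotient K₀) e
    have hV : imageAlong ι V = ((W (↥S ⧸ K₀)).comap (QuotientGroup.mk' K₀)).map ι := by
      show ((((W (↥S ⧸ K₀)).comap (QuotientGroup.mk' K₀)).map S.subtype).subgroupOf S).map ι = _
      rw [Subgroup.subgroupOf, Subgroup.comap_map_eq_self_of_injective S.subtype_injective]
    rw [show Wq = (W ↥(Tq : Subgroup (L ⧸ Kn))).map (Tq : Subgroup (L ⧸ Kn)).subtype from rfl, ← hn,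
      hV]
    ext y
    constructor
    · rintro ⟨_, ⟨w, hw, rfl⟩, rfl⟩
      obtain ⟨s, rfl⟩ := QuotientGroup.mk'_surjective K₀ w
      exact ⟨ι s, ⟨s, hw, rfl⟩, rfl⟩
    · rintro ⟨_, ⟨s, hs, rfl⟩, rfl⟩
      exact ⟨e (QuotientGroup.mk' K₀ s), ⟨_, hs, rfl⟩, rfl⟩
  let M : Subgroup L := (Subgroup.normalizer (Wq : Set (L ⧸ Kn))).comap q
  have hKV : Kn ≤ imageAlong ι V :=
    Subgroup.map_mono fun s hs => le_relFunctor hKS hnK hs
  have hMV : ∀ g ∈ M, ∀ y ∈ imageAlong ι V, g * y * g⁻¹ ∈ imageAlong ι V := by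
    intro g hg y hy
    have h1 := conj_mem_of_mem_normalizer hg (hWq.symm ▸ ⟨y, hy, rfl⟩ : q y ∈ Wq)
    rw [hWq, ← map_inv, ← map_mul, ← map_mul] at h1
    obtain ⟨w, hw, hwe⟩ := h1
    have h2 := (imageAlong ι V).mul_mem hw (hKV (QuotientGroup.eq.1 hwe))
    rwa [mul_inv_cancel_left] at h2
  have hTM : (T : Subgroup L) ≤ M := by
    intro t ht
    have := Finite.of_surjective q hq
    refine mem_normalizer_of_finite fun y hy => ?_
    rw [hWq] at hy ⊢
    obtain ⟨w, hw, rfl⟩ := hy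
    obtain ⟨v, hvS, hv, rfl⟩ := mem_imageAlong.1 hw
    rw [hT] at ht
    obtain ⟨s, rfl⟩ := ht
    refine ⟨ι (s * ⟨v, hvS⟩ * s⁻¹), apply_mem_imageAlong ι _ ?_, by simp [map_mul]⟩
    exact conj_mem_of_mem_normalizer
      (normalizer_le_relFunctor hW.toIsPFunctor hS hnK ⟨Subgroup.le_normalizer s.2, hnK s.2⟩) hv
  have hVq : Vn.map q ≤ Subgroup.closure {y : L ⧸ Kn | ∃ z ∈ (Tq : Subgroup (L ⧸ Kn)) ⊓
      Subgroup.centralizer ((Tq : Subgroup (L ⧸ Kn)) : Set (L ⧸ Kn)), y = z ^ p} := by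
    rintro _ ⟨y, hy, rfl⟩
    obtain ⟨v, hvS, hv, rfl⟩ := mem_imageAlong.1 hy
    have h1 : Vz ≤ ((Subgroup.closure {y : L ⧸ Kn | ∃ z ∈ (Tq : Subgroup (L ⧸ Kn)) ⊓
        Subgroup.centralizer ((Tq : Subgroup (L ⧸ Kn)) : Set (L ⧸ Kn)), y = z ^ p}).comap
          (q.comp ι)).map S.subtype := by
      refine (Subgroup.closure_le _).2 ?_
      rintro _ ⟨z, hz, rfl⟩
      refine ⟨⟨z, hz.1⟩ ^ p ^ 1, Subgroup.subset_closure ⟨q (ι ⟨z, hz.1⟩), ⟨?_, ?_⟩, ?_⟩, rfl⟩
      · rw [Sylow.coe_mapSurjective, hT]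
        exact ⟨_, ⟨_, rfl⟩, rfl⟩
      · intro t ht
        rw [Sylow.coe_mapSurjective, hT] at ht
        obtain ⟨_, ⟨s, rfl⟩, rfl⟩ := ht
        rw [← map_mul, ← map_mul, ← map_mul, ← map_mul, hzcomm ⟨z, hz.1⟩ hz]
      · rw [pow_one, map_pow]; rfl
    obtain ⟨w, hw, hwv⟩ := h1 hv
    rw [show (⟨v, hvS⟩ : S) = w from Subtype.ext hwv.symm]
    exact hw
  have hVqP : Vn.map q ≤ pCore p (L ⧸ Kn) := (Subgroup.map_mono hVnP).trans
    (le_sSup ⟨hCn.map q hq, (isPGroup_pCore_aux (p := p)).map q⟩)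
  let C : Subgroup L := (Subgroup.centralizer ((Vn.map q : Subgroup (L ⧸ Kn)) : Set (L ⧸ Kn))).comap q
  have hTC : (T : Subgroup L) ≤ C := by
    intro t ht
    rw [hT] at ht
    obtain ⟨s, rfl⟩ := ht
    rintro _ ⟨y, hy, rfl⟩
    obtain ⟨v, hvS, hv, rfl⟩ := mem_imageAlong.1 hy
    rw [← map_mul, ← map_mul, ← map_mul, ← map_mul, hzcomm ⟨v, hvS⟩ (cpow_le_center p hv)]
  have hCV : ∀ g ∈ C, ∀ v : S, (v : Ω) ∈ Vz → g * ι v = ι v * g := by
    intro g₀ hg₀ v hv
    have hp' : ∀ g ∈ C, (orderOf g).Coprime p → g * ι v = ι v * g := by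
      intro g hgC hord
      have hgK : ∀ k : S, (k : Ω) ∈ K → g * ι k * g⁻¹ = ι k := by
        intro k hk
        obtain ⟨s, hs⟩ := hact g
        -- powers of `g` act as powers of `s`
        have hpow : ∀ (n : ℕ) (k : S), (k : Ω) ∈ K → g ^ n * ι k * (g ^ n)⁻¹ =
            ι (s ^ n * k * (s ^ n)⁻¹) := by
          intro n
          induction n with
          | zero => intro k _; simp
          | succ n ihn =>
            intro k hk
            have hk' : ((s ^ n * k * (s ^ n)⁻¹ : S) : Ω) ∈ K := by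
              push_cast
              exact conj_mem_of_mem_normalizer (pow_mem (hnK s.2) n) hk
            rw [pow_succ', show g * g ^ n * ι k * (g * g ^ n)⁻¹ =
              g * (g ^ n * ι k * (g ^ n)⁻¹) * g⁻¹ by group, ihn k hk, hs _ hk']
            congr 1
            rw [pow_succ']
            group
        obtain ⟨a, ha⟩ := hS s
        have h1 := hpow (orderOf g) k hk
        rw [pow_orderOf_eq_one, one_mul, inv_one, mul_one] at h1
        -- `s ^ orderOf g` and `s ^ p ^ a` act trivially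
        let H₀ : Subgroup S :=
          { carrier := {w | w * k * w⁻¹ = k}
            one_mem' := by simp
            mul_mem' := fun {w v} hw hv => by
              show w * v * k * (w * v)⁻¹ = k
              rw [show w * v * k * (w * v)⁻¹ = w * (v * k * v⁻¹) * w⁻¹ by group, hv, hw]
            inv_mem' := fun {w} hw => by
              show w⁻¹ * k * w⁻¹⁻¹ = k
              conv_lhs => rw [← show w * k * w⁻¹ = k from hw]
              group }
        have h2 : s ∈ H₀ := by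
          have hA : s ^ orderOf g ∈ H₀ := (hi h1).symm
          have hB : s ^ p ^ a ∈ H₀ := by rw [ha]; exact H₀.one_mem
          have hco : Nat.gcd (orderOf g) (p ^ a) = 1 := hord.pow_right a
          have := Nat.gcd_eq_gcd_ab (orderOf g) (p ^ a)
          rw [hco] at this
          have h3 : s ^ ((orderOf g : ℤ) * (orderOf g).gcdA (p ^ a) +
              ((p ^ a : ℕ) : ℤ) * (orderOf g).gcdB (p ^ a)) ∈ H₀ := by
            rw [zpow_add, zpow_mul, zpow_mul, zpow_natCast, zpow_natCast]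
            exact H₀.mul_mem (H₀.zpow_mem hA _) (H₀.zpow_mem hB _)
          rw [← this, Nat.cast_one, zpow_one] at h3
          exact h3
        rw [hs k hk, show s * k * s⁻¹ = k from h2]
      obtain ⟨k, hkS, hk, hke⟩ := mem_imageAlong.1
        (QuotientGroup.eq.1 ((map_mul q (ι v) g).trans
          ((hgC (q (ι v)) ⟨ι v, apply_mem_imageAlong ι v hv, rfl⟩).trans (map_mul q g (ι v)).symm)) :
          (ι v * g)⁻¹ * (g * ι v) ∈ Kn)
      have hgk : g * ι ⟨k, hkS⟩ = ι ⟨k, hkS⟩ * g := mul_inv_eq_iff_eq_mul.1 (hgK ⟨k, hkS⟩ hk)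
      have h2 : g * ι v = ι v * g * ι ⟨k, hkS⟩ := by rw [hke, mul_inv_cancel_left]
      have h3 : ∀ n : ℕ, g ^ n * ι v = ι v * g ^ n * ι ⟨k, hkS⟩ ^ n := by
        intro n
        induction n with
        | zero => simp
        | succ n ihn =>
          calc g ^ (n + 1) * ι v = g ^ n * (g * ι v) := by rw [pow_succ, mul_assoc]
            _ = (g ^ n * ι v) * (g * ι ⟨k, hkS⟩) := by rw [h2]; simp only [mul_assoc]
            _ = ι v * g ^ n * (ι ⟨k, hkS⟩ ^ n * g) * ι ⟨k, hkS⟩ := by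
              rw [ihn]; simp only [mul_assoc]
            _ = ι v * g ^ n * (g * ι ⟨k, hkS⟩ ^ n) * ι ⟨k, hkS⟩ := by
              rw [((show Commute g (ι ⟨k, hkS⟩) from hgk).pow_right n).eq]
            _ = ι v * g ^ (n + 1) * ι ⟨k, hkS⟩ ^ (n + 1) := by
              rw [pow_succ g, pow_succ (ι ⟨k, hkS⟩)]; simp only [mul_assoc]
      have h4 := h3 (orderOf g)
      rw [pow_orderOf_eq_one, mul_one, one_mul, left_eq_mul] at h4
      obtain ⟨a, ha⟩ := hS ⟨k, hkS⟩
      have h5 : ι ⟨k, hkS⟩ ^ p ^ a = 1 := by rw [← map_pow, ha, map_one]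
      have h6 : orderOf (ι ⟨k, hkS⟩) = 1 :=
        Nat.eq_one_of_dvd_coprimes (hord.pow_right a) (orderOf_dvd_of_pow_eq_one h4)
          (orderOf_dvd_of_pow_eq_one h5)
      rw [orderOf_eq_one_iff.1 h6, mul_one] at h2
      exact h2
    have hRn : (pResidual p C).Normal := Lib.Transfer.pResidual_normal
    let r : C →* C ⧸ pResidual p C := QuotientGroup.mk' _
    have hr := QuotientGroup.mk'_surjective (pResidual p C)
    have htop : (((T.subtype hTC).mapSurjective hr : Sylow p (C ⧸ pResidual p C)) :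
        Subgroup (C ⧸ pResidual p C)) = ⊤ :=
      (((T.subtype hTC).mapSurjective hr).3
        ((Lib.Transfer.isPGroup_quotient_pResidual (G := C)).to_subgroup ⊤) le_top).symm
    obtain ⟨t, ht, hte⟩ := htop.ge (Subgroup.mem_top (r ⟨g₀, hg₀⟩))
    have h1 : t⁻¹ * ⟨g₀, hg₀⟩ ∈ pResidual p C := QuotientGroup.eq.1 hte
    have h2 : pResidual p C ≤ (Subgroup.centralizer {ι v}).comap C.subtype :=
      (Subgroup.closure_le _).2 fun g hg y hy => by
        rw [Set.mem_singleton_iff.1 hy]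
        exact (hp' g g.2 (by rw [Subgroup.orderOf_coe]; exact hg)).symm
    have h3 : (t : L) * ι v = ι v * (t : L) := by
      rw [Sylow.coe_subtype] at ht
      obtain ⟨s, hs⟩ := (hT.le (ht : (t : L) ∈ (T : Subgroup L)) : (t : L) ∈ ι.range)
      rw [← hs, ← map_mul, ← map_mul, hzcomm v (cpow_le_center p hv)]
    have h4 : g₀ = (t : L) * ((t⁻¹ * ⟨g₀, hg₀⟩ : C) : L) := by simp
    rw [h4]
    exact (((show Commute (t : L) (ι v) from h3).mul_left ((h2 h1) (ι v) rfl).symm)).eq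
  -- the factorization
  have hfac : ∀ g : L, ∃ c ∈ C, ∃ m ∈ M, g = c * m := by
    intro g
    obtain ⟨c, hc, m, hm, hgm⟩ := hW.factor (L ⧸ Kn) Tq (Vn.map q) hVq hVqP (q g)
    obtain ⟨m', hm'⟩ := hq m
    refine ⟨g * m'⁻¹, ?_, m', ?_, (inv_mul_cancel_right g m').symm⟩
    · show q (g * m'⁻¹) ∈ Subgroup.centralizer ((Vn.map q : Subgroup (L ⧸ Kn)) : Set (L ⧸ Kn))
      rw [map_mul, map_inv, hgm, hm', mul_inv_cancel_right]
      exact hc
    · show q m' ∈ Subgroup.normalizer (Wq : Set (L ⧸ Kn))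
      rw [hm']
      exact hm
  obtain ⟨g, hg⟩ := IsRealizedBy.exists_conj hL.2.1 hφ₀
  obtain ⟨c, hc, m, hm, rfl⟩ := hfac g
  have hX₀ := source_le hφ₀
  -- the intermediate subgroup
  let θ : X₀ →* L := (MulAut.conj m).toMonoidHom.comp (ι.comp (Subgroup.inclusion hX₀))
  have hθ : ∀ x : X₀, θ x = m * ι ⟨x, hX₀ x.2⟩ * m⁻¹ := fun x => rfl
  set D := C ⊓ M
  have hθD : θ.range ≤ D := by
    rintro _ ⟨x, rfl⟩
    refine ⟨?_, ?_⟩
    · have h1 : θ x = c⁻¹ * ι ⟨φ₀ x, apply_mem hφ₀ x⟩ * c := by rw [hg x, hθ]; group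
      rw [h1]
      exact C.mul_mem (C.mul_mem (C.inv_mem hc) (hTC (hT ▸ ⟨_, rfl⟩))) hc
    · rw [hθ]
      exact M.mul_mem (M.mul_mem hm (hTM (hT ▸ ⟨_, rfl⟩))) (M.inv_mem hm)
  have hθp : IsPGroup p θ.range := by
    rw [MonoidHom.range_eq_map]
    exact ((hS.to_le hX₀).to_subgroup ⊤).map θ
  have hTD : (T : Subgroup L) ≤ D := le_inf hTC hTM
  obtain ⟨TD, hTDle⟩ := (hθp.comap_of_injective D.subtype D.subtype_injective :
    IsPGroup p (θ.range.subgroupOf D)).exists_le_sylow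
  obtain ⟨⟨d, hdD⟩, hd⟩ := MulAction.exists_smul_eq D TD (T.subtype hTD)
  have hdθ : ∀ x : X₀, d * θ x * d⁻¹ ∈ ι.range := by
    intro x
    have h1 : (⟨θ x, hθD ⟨x, rfl⟩⟩ : D) ∈ (TD : Subgroup D) := hTDle ⟨x, rfl⟩
    have h2 : (⟨d, hdD⟩ * ⟨θ x, hθD ⟨x, rfl⟩⟩ * ⟨d, hdD⟩⁻¹ : D) ∈ (T.subtype hTD : Subgroup D) := by
      rw [← hd, Sylow.coe_subgroup_smul]
      exact ⟨_, h1, rfl⟩
    rw [Sylow.coe_subtype] at h2
    exact hT.le h2
  set m' := d * m with hm'
  set c' := c * d⁻¹ with hc'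
  have hm'M : m' ∈ M := M.mul_mem hdD.2 hm
  have hc'C : c' ∈ C := C.mul_mem hc (C.inv_mem hdD.1)
  -- the normalizer map
  have hnV : S ≤ Subgroup.normalizer (V : Set Ω) := fun s hs =>
    normalizer_le_relFunctor hW.toIsPFunctor hS hnK ⟨Subgroup.le_normalizer hs, hnK hs⟩
  obtain ⟨ψ, hψ, hψe⟩ := IsRealizedBy.exists_hom hL.2.1 (sup_le hX₀ hVS : X₀ ⊔ V ≤ S) m' fun w => by
    have h3 : X₀ ⊔ V ≤ ((ι.range.comap ((MulAut.conj m').toMonoidHom.comp ι)).map S.subtype) := by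
      refine sup_le (fun x hx => ⟨⟨x, hX₀ hx⟩, ?_, rfl⟩)
        fun v hv => ⟨⟨v, hVS hv⟩, imageAlong_le_range ι V
          (hMV m' hm'M _ (apply_mem_imageAlong ι (⟨v, hVS hv⟩ : S) hv)), rfl⟩
      show m' * ι ⟨x, hX₀ hx⟩ * m'⁻¹ ∈ ι.range
      have := hdθ ⟨x, hx⟩
      rw [hθ] at this
      convert this using 1
      rw [hm']; group
    obtain ⟨u, hu, hue⟩ := h3 w.2
    rwa [show (⟨(w : Ω), (sup_le hX₀ hVS) w.2⟩ : S) = u from Subtype.ext hue.symm]
  let φ₁ := restr (le_sup_left : X₀ ≤ X₀ ⊔ V) ψ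
  have hφ₁ : φ₁ ∈ F.Hom X₀ := restr_mem F hψ le_sup_left
  have himg : img ψ V = V := by
    have := finite_of_le hVS
    refine Subgroup.eq_of_le_of_card_ge ?_
      (card_img (F.injective_of_mem hψ) le_sup_right).ge
    intro w hw
    obtain ⟨v, hvX, hv, rfl⟩ := mem_img.1 hw
    refine (apply_mem_imageAlong_iff hi (x := ⟨ψ ⟨v, hvX⟩, apply_mem hψ _⟩)).1 ?_
    rw [hψe]
    exact hMV m' hm'M _ (apply_mem_imageAlong ι (⟨v, (sup_le hX₀ hVS) hvX⟩ : S) hv)
  have hφ₁E : φ₁ ∈ E.Hom X₀ := hN X₀ φ₁ ⟨hφ₁, fun w hw => ⟨hX₀ hw, hnV (hX₀ hw)⟩,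
    fun w => ⟨apply_mem hφ₁ w, hnV (apply_mem hφ₁ w)⟩, ψ, hψ, fun w => rfl, himg⟩
  -- the centralizer map
  set Y := φ₁.range
  have hYS : Y ≤ S := range_le hφ₁
  have hval : ∀ x : X₀, c' * ι ⟨φ₁ x, apply_mem hφ₁ x⟩ * c'⁻¹ = ι ⟨φ₀ x, apply_mem hφ₀ x⟩ := by
    intro x
    rw [show ι ⟨φ₁ x, apply_mem hφ₁ x⟩ = m' * ι ⟨x, hX₀ x.2⟩ * m'⁻¹ from
      hψe (Subgroup.inclusion le_sup_left x), hg x, hc', hm']
    group
  have hfixz : ∀ v : S, (v : Ω) ∈ Vz → c' * ι v * c'⁻¹ = ι v := fun v hv => by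
    rw [hCV c' hc'C v hv, mul_inv_cancel_right]
  obtain ⟨χ, hχ, hχe⟩ := IsRealizedBy.exists_hom hL.2.1 (sup_le hYS hVzS : Y ⊔ Vz ≤ S) c' fun w => by
    have h3 : Y ⊔ Vz ≤ ((ι.range.comap ((MulAut.conj c').toMonoidHom.comp ι)).map S.subtype) := by
      refine sup_le ?_ fun v hv => ⟨⟨v, hVzS hv⟩, ?_, rfl⟩
      · rintro _ ⟨x, rfl⟩
        exact ⟨⟨φ₁ x, apply_mem hφ₁ x⟩, ⟨_, (hval x).symm⟩, rfl⟩
      · exact ⟨⟨v, hVzS hv⟩, (hfixz _ hv).symm⟩
    obtain ⟨u, hu, hue⟩ := h3 w.2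
    rwa [show (⟨(w : Ω), (sup_le hYS hVzS) w.2⟩ : S) = u from Subtype.ext hue.symm]
  have hφ₂ : restr (le_sup_left : Y ≤ Y ⊔ Vz) χ ∈ F.Hom Y := restr_mem F hχ le_sup_left
  have hφ₂E := hC Y _ ⟨hφ₂, by rw [centralizerIn_cpow]; exact hYS,
    fun x => by rw [centralizerIn_cpow]; exact apply_mem hφ₂ x, χ, hχ, fun x => rfl, fun v =>
      congrArg Subtype.val (hi ((hχe (Subgroup.inclusion le_sup_right v)).trans
        (hfixz ⟨v, hVzS v.2⟩ v.2)))⟩
  refine mem_of_comp E hφ₁E hφ₂E (fun x => ⟨x, rfl⟩) fun x => ?_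
  exact congrArg Subtype.val (hi ((hval x).symm.trans
    (hχe (Subgroup.inclusion le_sup_left ⟨φ₁ x, x, rfl⟩)).symm))

/-- Normalizers of subgroups not normal in `F` satisfy the conclusion. -/
theorem gen_ctrl_normalizer (hS : IsPGroup p S) (hsm : GenCtrlSmaller p W (Nat.card S))
    (hpr : GenCtrlProper p W F) (hF : F.IsSaturated p) {K U : Subgroup Ω} (hK : F.IsNormal K)
    (hKp : IsPGroup p (F.autGroup K)) (hKU : K ≤ U) (hU : F.IsFullyNormalized U)
    (hUn : ¬ F.IsNormal U) (E : FusionSystem S)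
    (hC : ∀ (X : Subgroup Ω) (φ : X →* Ω), φ ∈ F.centralizerHom (cpow p S) X → φ ∈ E.Hom X)
    (hstep : ∀ (X : Subgroup Ω) (φ : X →* Ω),
      φ ∈ F.normalizerHom (relFunctor W K (normalizerIn S U)) X → X ≤ normalizerIn S U →
      (∀ x, φ x ∈ normalizerIn S U) → φ ∈ E.Hom X)
    {X : Subgroup Ω} {φ : X →* Ω} (hφ : φ ∈ F.normalizerHom U X) : φ ∈ E.Hom X := by
  let T := normalizerIn S U
  have hTS : T ≤ S := normalizerIn_le S U
  have : Finite T := finite_of_le hTS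
  have hTp : IsPGroup p T := hS.to_le hTS
  let N := normalizerSystem F U hU.1
  have hN := normalizerSystem_spec F U hU.1
  have hNs : N.IsSaturated p := normalizerSystem_isSaturated hS hF hU hN
  have hKT : K ≤ T := hKU.trans (le_normalizerIn hU.1)
  have hKn : N.IsNormal K := by
    refine ⟨hKT, fun Y χ hχ => ?_⟩
    obtain ⟨ψ, hψ, hψe, -⟩ := (IsNormalizerSystem.isNormal hN hU.1).2 Y χ hχ
    have hle : Y ⊔ K ≤ Y ⊔ U := sup_le_sup_left hKU Y
    refine ⟨restr hle ψ, restr_mem N hψ hle, fun y => hψe y, ?_⟩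
    show img (restr hle ψ) K = K
    rw [img_restr hle ψ le_sup_right]
    exact WeaklyClosed.img_eq (StronglyClosed.weaklyClosed (IsNormal.stronglyClosed hK)) hψ.1
      (hKU.trans le_sup_right)
  have hKp' : IsPGroup p (N.autGroup K) := hKp.to_le (autGroup_le_of_hom fun χ hχ => hχ.1)
  have hVmono : cpow p S ≤ cpow p T := cpow_mono hU.1
  rcases hTS.eq_or_lt with e | hlt
  · let F' := recast N e
    have hle : F' ≤ F := fun Y χ hχ => hχ.1
    have hne : F' ≠ F := by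
      intro heq
      apply hUn
      refine ⟨hU.1, fun Y χ hχ => ?_⟩
      have h1 : χ ∈ F'.Hom Y := by rw [heq]; exact hχ
      exact h1.2.2.2
    refine hpr F' hle hne (recast_isSaturated e hNs) K ?_ ?_ E ?_ ?_ X φ hφ
    · exact ⟨hK.1, hKn.2⟩
    · exact hKp'
    · rintro Y χ ⟨hχ, hY, hv, ψ, hψ, hψe, hψV⟩
      have hYT : Y ≤ normalizerIn S U := source_le (F := N) hχ
      have e' : normalizerIn S U = S := e
      refine hstep Y χ ?_ hYT (fun w => apply_mem (F := N) hχ w)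
      rw [e']
      exact ⟨hχ.1, hY, hv, ψ, hψ.1, hψe, hψV⟩
    · exact fun Y χ hχ => hC Y χ (centralizerHom_mono le_rfl (fun Z ρ hρ => hle Z hρ) le_rfl hχ)
  · refine (hsm ?_ hTp N hNs K hKn hKp' (cutSystem E T hTS) ?_ ?_ X φ hφ).1
    · by_contra hge
      exact hlt.ne (Subgroup.eq_of_le_of_card_ge hTS (not_lt.1 hge))
    · rintro Y χ ⟨hχ, hY, hv, ψ, hψ, hψe, hψV⟩
      refine ⟨hstep Y χ ?_ (hY.trans (normalizerIn_le _ _))
        (fun w => normalizerIn_le _ _ (hv w)), hY.trans (normalizerIn_le _ _),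
        fun w => normalizerIn_le _ _ (hv w)⟩
      exact ⟨hχ.1, fun w hw => ⟨hTS (hY hw).1, (hY hw).2⟩, fun w => ⟨hTS (hv w).1, (hv w).2⟩,
        ψ, hψ.1, hψe, hψV⟩
    · exact fun Y χ hχ => ⟨hC Y χ (centralizerHom_mono hTS (by exact fun Z ρ hρ => hρ.1) hVmono hχ),
        hχ.2.1.trans (centralizerIn_le _ _), fun w => centralizerIn_le _ _ (hχ.2.2.1 w)⟩

/-- The climbing argument. -/
theorem gen_ctrl_climb (hW : IsFactorFunctor p W) (hS : IsPGroup p S)
    (hsm : GenCtrlSmaller p W (Nat.card S)) (hpr : GenCtrlProper p W F) (hF : F.IsSaturated p)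
    {K : Subgroup Ω} (hK : F.IsNormal K) (hKp : IsPGroup p (F.autGroup K)) (hcore : F.core ≤ K)
    (E : FusionSystem S)
    (hC : ∀ (X : Subgroup Ω) (φ : X →* Ω), φ ∈ F.centralizerHom (cpow p S) X → φ ∈ E.Hom X)
    (hN : ∀ (X : Subgroup Ω) (φ : X →* Ω), φ ∈ F.normalizerHom (relFunctor W K S) X →
      φ ∈ E.Hom X)
    {k : ℕ} (hbig : ∀ R : Subgroup Ω, k < Nat.card R → ∀ φ ∈ F.Hom R,
      φ ∈ E.Hom R)
    {T : Subgroup Ω} (hKT : K < T) (hTS : T ≤ S) (hk : k < Nat.card T)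
    {X : Subgroup Ω} {φ : X →* Ω} (hφ : φ ∈ F.normalizerHom (relFunctor W K T) X)
    (hX : X ≤ T) (hv : ∀ x, φ x ∈ T) : φ ∈ E.Hom X := by
  suffices key : ∀ m, ∀ T : Subgroup Ω, K < T → T ≤ S → k < Nat.card T →
      Nat.card S ≤ Nat.card T + m → ∀ (X : Subgroup Ω) (φ : X →* Ω),
        φ ∈ F.normalizerHom (relFunctor W K T) X → X ≤ T → (∀ x, φ x ∈ T) →
          φ ∈ E.Hom X by
    exact key (Nat.card S) T hKT hTS hk (Nat.le_add_left _ _) X φ hφ hX hv
  intro m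
  induction m using Nat.strong_induction_on with
  | _ m IH =>
    intro T hKT hTS hk hm X φ hφ hX hv
    rcases hTS.eq_or_lt with e | hlt
    · exact hN X φ (e ▸ hφ)
    have : Finite T := finite_of_le hTS
    have hTp : IsPGroup p T := hS.to_le hTS
    have hnK : S ≤ Subgroup.normalizer (K : Set Ω) :=
      WeaklyClosed.le_normalizer (StronglyClosed.weaklyClosed (IsNormal.stronglyClosed hK))
    have hTK : T ≤ Subgroup.normalizer (K : Set Ω) := hTS.trans hnK
    let V := relFunctor W K T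
    have hVT : V ≤ T := relFunctor_le W K T
    have hVS : V ≤ S := hVT.trans hTS
    have hKV : K ≤ V := le_relFunctor hKT.le hTK
    have hVK : ¬ V ≤ K := relFunctor_not_le hW.toIsPFunctor hTp hKT hTK
    have hgrow : Nat.card T < Nat.card (normalizerIn S V) := by
      have h1 : normalizerIn S T ≤ normalizerIn S V :=
        fun g hg => ⟨hg.1, normalizer_le_relFunctor hW.toIsPFunctor hTp hTK ⟨hg.2, hnK hg.1⟩⟩
      have := finite_of_le (normalizerIn_le S V)
      have := finite_of_le (normalizerIn_le S T)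
      refine lt_of_lt_of_le ?_ (Subgroup.card_le_of_le h1)
      by_contra hge
      exact (lt_normalizerIn hS hlt).ne
        (Subgroup.eq_of_le_of_card_ge (le_normalizerIn hTS) (not_lt.1 hge))
    obtain ⟨V', hVV', hV'⟩ := exists_fullyNormalized F hVS
    obtain ⟨β, hβ, hβv, hβV⟩ := IsSaturated.exists_normalizer_map hS hF hV' hVV'
    have hβA : β ∈ E.Hom (normalizerIn S V) := hbig _ (hk.trans hgrow) β hβ
    have hKV' : K ≤ V' := by
      rw [← hβV, ← WeaklyClosed.img_eq (StronglyClosed.weaklyClosed (IsNormal.stronglyClosed hK))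
        hβ (hKV.trans (le_normalizerIn hVS))]
      exact img_mono β hKV
    have hV'n : ¬ F.IsNormal V' := by
      intro hn
      apply hVK
      have := finite_of_le hV'.1
      have := finite_of_le hVS
      have h1 : V' = K := le_antisymm ((le_core hn).trans hcore) hKV'
      have h2 := isConj_card hVV'
      rw [h1] at h2
      exact (Subgroup.eq_of_le_of_card_ge hKV h2.le).ge
    have hge : Nat.card (normalizerIn S V) ≤ Nat.card (normalizerIn S V') := by
      have := finite_of_le (normalizerIn_le S V')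
      exact Nat.card_le_card_of_injective (fun z => (⟨β z, hβv z⟩ : normalizerIn S V'))
        fun a b h => F.injective_of_mem hβ (congrArg Subtype.val h)
    obtain ⟨-, -, -, ψ, hψ, hψe, hψV⟩ := hφ
    let Y := X ⊔ V
    have hYT : Y ≤ T := sup_le hX hVT
    have hTV : T ≤ normalizerIn S V := fun g hg =>
      ⟨hTS hg, normalizer_le_relFunctor hW.toIsPFunctor hTp hTK ⟨Subgroup.le_normalizer hg, hTK hg⟩⟩
    have hψT : ∀ y : Y, ψ y ∈ T := by
      intro y
      have h1 : img ψ Y ≤ T := by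
        rw [img_sup ψ le_sup_left le_sup_right, show img ψ V = V from hψV]
        refine sup_le ?_ hVT
        rintro _ ⟨z, hz, rfl⟩
        rw [show ψ z = φ ⟨z, hz⟩ from hψe ⟨z, hz⟩]
        exact hv _
      exact h1 (apply_mem_img ψ y y.2)
    let b := restr (hYT.trans hTV) β
    have hb : b ∈ F.Hom Y := restr_mem F hβ _
    obtain ⟨c, hc, hcr, hl, -⟩ := exists_inv F hb rfl
    have hcY : ∀ y, c y ∈ Y := fun y => hcr.le ⟨y, rfl⟩
    let ψ' := compose (compose c ψ hcY) β fun y => hTV (hψT _)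
    have hψ' : ψ' ∈ F.Hom b.range := compose_mem F (compose_mem F hc hψ hcY) hβ fun y => hTV (hψT _)
    have hψ'b : ∀ y : Y, ψ' ⟨b y, y, rfl⟩ = β ⟨ψ y, hTV (hψT y)⟩ := fun y =>
      congrArg β (Subtype.ext (congrArg ψ (Subtype.ext (hl y _))))
    have hV'b : V' ≤ b.range := by
      rw [← hβV]
      rintro _ ⟨z, hz, rfl⟩
      exact ⟨⟨z, Subgroup.mem_sup_right hz⟩, rfl⟩
    have hψ'N : ψ' ∈ F.normalizerHom V' b.range := by
      have hle : b.range ⊔ V' ≤ b.range := sup_le le_rfl hV'b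
      refine ⟨hψ', ?_, fun y => hβv _, restr hle ψ', restr_mem F hψ' hle, fun y => rfl, ?_⟩
      · rintro _ ⟨y, rfl⟩
        exact hβv _
      · show img (restr hle ψ') V' = V'
        rw [img_restr hle ψ' le_sup_right]
        have := finite_of_le hV'.1
        refine Subgroup.eq_of_le_of_card_ge ?_ (card_img (F.injective_of_mem hψ') hV'b).ge
        intro y hy
        obtain ⟨z, hz, hzV, rfl⟩ := mem_img.1 hy
        obtain ⟨w, hw, hwV, hwz⟩ := mem_img.1 (hβV.ge hzV)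
        subst hwz
        rw [show ψ' ⟨β ⟨w, hw⟩, hz⟩ = _ from hψ'b ⟨w, Subgroup.mem_sup_right hwV⟩]
        exact hβV.le (apply_mem_img β _ (hψV.le ⟨_, hwV, rfl⟩))
    have hTc : Nat.card T < Nat.card (normalizerIn S V') := hgrow.trans_le hge
    have hKT' : K < normalizerIn S V' :=
      lt_of_le_of_ne (hKV'.trans (le_normalizerIn hV'.1)) fun h => by
        have h1 : Nat.card K ≤ Nat.card T := Subgroup.card_le_of_le hKT.le
        rw [h] at h1
        omega
    have h2 : Nat.card (normalizerIn S V') ≤ Nat.card S :=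
      Subgroup.card_le_of_le (normalizerIn_le S V')
    have hψ'A : ψ' ∈ E.Hom b.range :=
      gen_ctrl_normalizer hS hsm hpr hF hK hKp hKV' hV' hV'n E hC
        (fun Z χ hχ hZ hZv => IH (m - 1) (by omega) _ hKT' (normalizerIn_le S V') (by omega)
          (by omega) Z χ hχ hZ hZv) hψ'N
    have hbE : b ∈ E.Hom Y := restr_mem E hβA _
    obtain ⟨δ, hδ, hδr, hδl, -⟩ := exists_inv E hβA rfl
    have hm₁ : ∀ y, compose b ψ' (fun w => ⟨w, rfl⟩) y ∈ β.range := fun y => by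
      show ψ' ⟨b y, y, rfl⟩ ∈ β.range
      rw [hψ'b y]
      exact ⟨_, rfl⟩
    have hψE : ψ ∈ E.Hom Y := mem_of_comp E
      (compose_mem E hbE hψ'A fun w => ⟨w, rfl⟩) hδ hm₁ fun y => by
        rw [show (⟨compose b ψ' (fun w => ⟨w, rfl⟩) y, hm₁ y⟩ : β.range) =
          ⟨β ⟨ψ y, hTV (hψT y)⟩, _, rfl⟩ from Subtype.ext (hψ'b y)]
        exact (hδl ⟨ψ y, hTV (hψT y)⟩ _).symm
    have e : φ = restr le_sup_left ψ := MonoidHom.ext fun x => (hψe x).symm
    rw [e]
    exact restr_mem E hψE _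

/-- The case where `K` is the whole core. -/
theorem gen_ctrl_of_core (hW : IsFactorFunctor p W) (hS : IsPGroup p S)
    (hsm : GenCtrlSmaller p W (Nat.card S)) (hpr : GenCtrlProper p W F) (hF : F.IsSaturated p)
    {K : Subgroup Ω} (hK : F.IsNormal K) (hKp : IsPGroup p (F.autGroup K)) (hcore : F.core ≤ K) :
    GenCtrl p W F K := by
  intro E hN hC
  have hnK : S ≤ Subgroup.normalizer (K : Set Ω) :=
    WeaklyClosed.le_normalizer (StronglyClosed.weaklyClosed (IsNormal.stronglyClosed hK))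
  suffices hle : F ≤ E from fun X φ hφ => hle X hφ
  refine alperin_ind hS hF E ?_ fun P hP hbig => ?_
  · intro α hα
    have hα' := autHom_mem F le_rfl hα
    refine mem_autGroup_of_hom E ?_
    let V := relFunctor W K S
    have hVS : V ≤ S := relFunctor_le W K S
    have hle : S ⊔ V ≤ S := sup_le le_rfl hVS
    have hnV : S ≤ Subgroup.normalizer (V : Set Ω) := fun g hg =>
      normalizer_le_relFunctor hW.toIsPFunctor hS hnK ⟨Subgroup.le_normalizer hg, hnK hg⟩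
    refine hN S (autHom α) ⟨hα', fun g hg => ⟨hg, hnV hg⟩,
      fun y => ⟨apply_mem hα' y, hnV (apply_mem hα' y)⟩, restr hle (autHom α),
      restr_mem F hα' hle, fun y => rfl, ?_⟩
    show img (restr hle (autHom α)) V = V
    rw [img_restr hle _ le_sup_right]
    have := finite_of_le hVS
    refine Subgroup.eq_of_le_of_card_ge ?_ (card_img (F.injective_of_mem hα') hVS).ge
    intro y hy
    obtain ⟨v, hvS, hv, rfl⟩ := mem_img.1 hy
    exact relFunctor_map_aut hW.toIsPFunctor hS hnK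
      (fun w hw => StronglyClosed.map_mem (IsNormal.stronglyClosed hK) hα' w hw) hv
  · obtain ⟨hPc, hPn, -⟩ := id hP
    have hPS := hPc.1
    let R := normalizerIn S P
    have hRS : R ≤ S := normalizerIn_le S P
    have : Finite R := finite_of_le hRS
    have hRp : IsPGroup p R := hS.to_le hRS
    have hKP : K ≤ P := IsNormal.le_centricRadical hS hK hPc (IsEssential.radical hS hF hP)
    have hPR : P ≤ R := le_normalizerIn hPS
    have hPlt : Nat.card P < Nat.card R := by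
      by_contra hge
      exact (lt_normalizerIn hS (IsEssential.lt hF hS hP)).ne
        (Subgroup.eq_of_le_of_card_ge hPR (not_lt.1 hge))
    have hKR : K < R := lt_of_le_of_ne (hKP.trans hPR) fun h => by
      have := finite_of_le hPS
      have h1 : Nat.card K ≤ Nat.card P := Subgroup.card_le_of_le hKP
      rw [h] at h1
      exact absurd hPlt (not_lt.2 h1)
    have hN' := normalizerSystem_spec F P hPS
    let N := normalizerSystem F P hPS
    have hNc := IsNormalizerSystem.isConstrained hS hF hPn hPc hN'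
    have hKn : N.IsNormal K := by
      refine ⟨hKP.trans hPR, fun Y χ hχ => ?_⟩
      obtain ⟨ψ, hψ, hψe, -⟩ := (IsNormalizerSystem.isNormal hN' hPS).2 Y χ hχ
      have hle : Y ⊔ K ≤ Y ⊔ P := sup_le_sup_left hKP Y
      refine ⟨restr hle ψ, restr_mem N hψ hle, fun y => hψe y, ?_⟩
      show img (restr hle ψ) K = K
      rw [img_restr hle ψ le_sup_right]
      exact WeaklyClosed.img_eq (StronglyClosed.weaklyClosed (IsNormal.stronglyClosed hK)) hψ.1
        (hKP.trans le_sup_right)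
    intro α hα
    refine mem_autGroup_of_hom E ?_
    have hαN : autHom α ∈ N.Hom P := by
      refine autHom_mem N hPR ?_
      rw [IsNormalizerSystem.autGroup_eq hN' hPS]
      exact hα
    refine (gen_local_control hW hRp hNc hKn
      (hKp.to_le (autGroup_le_of_hom fun χ hχ => hχ.1)) (cutSystem E R hRS) ?_ ?_ hαN).1
    · rintro Y χ ⟨hχ, hY, hv, ψ, hψ, hψe, hψV⟩
      refine ⟨gen_ctrl_climb hW hS hsm hpr hF hK hKp hcore E hC hN
        (k := Nat.card P) (fun Q hQ χ' hχ' => hbig Q hQ χ' hχ') hKR hRS hPlt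
        ⟨hχ.1, fun w hw => ⟨hRS (hY hw).1, (hY hw).2⟩, fun w => ⟨hRS (hv w).1, (hv w).2⟩,
          ψ, hψ.1, hψe, hψV⟩ (hY.trans (normalizerIn_le _ _)) (fun w => (hv w).1),
        hY.trans (normalizerIn_le _ _), fun w => (hv w).1⟩
    · exact fun Y χ hχ => ⟨hC Y χ (centralizerHom_mono hRS (by exact fun Z ρ hρ => hρ.1) (cpow_mono hPS) hχ),
        hχ.2.1.trans (centralizerIn_le _ _), fun w => centralizerIn_le _ _ (hχ.2.2.1 w)⟩

/-- The induction step. -/
theorem gen_ctrl_step (hW : IsFactorFunctor p W) (hS : IsPGroup p S)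
    (hsm : GenCtrlSmaller p W (Nat.card S)) (hpr : GenCtrlProper p W F) (hF : F.IsSaturated p)
    {K : Subgroup Ω} (hK : F.IsNormal K) (hKp : IsPGroup p (F.autGroup K)) : GenCtrl p W F K := by
  by_cases hcore : F.core ≤ K
  · exact gen_ctrl_of_core hW hS hsm hpr hF hK hKp hcore
  intro E hN hC
  let Λ := F.core
  have hΛ := isNormal_core F
  have hΛS : Λ ≤ S := hΛ.1
  have hKΛ : K ≤ Λ := le_core hK
  have hΛsc := IsNormal.stronglyClosed hΛ
  have hΛwc := StronglyClosed.weaklyClosed hΛsc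
  have hnΛ : S ≤ Subgroup.normalizer (Λ : Set Ω) := WeaklyClosed.le_normalizer hΛwc
  by_cases hc : F.IsConstrained p
  · exact fun X φ hφ => gen_local_control hW hS hc hK hKp E hN hC hφ
  have hΛtop : Λ ≠ S := fun hΛtop => hc ⟨hF, Λ, hΛ, hΛS, fun R hR => by
    obtain ⟨χ, hχ, rfl⟩ := hR
    rw [hΛwc.2 χ hχ]
    intro c hc
    exact hΛtop.ge hc.1⟩
  have hΛlt : Λ < S := lt_of_le_of_ne hΛS hΛtop
  -- the relative functor at the core
  let V := relFunctor W Λ S
  have hVS : V ≤ S := relFunctor_le W Λ S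
  have hΛV : Λ ≤ V := le_relFunctor hΛS hnΛ
  have hVn : ¬ F.IsNormal V := fun h => relFunctor_not_le hW.toIsPFunctor hS hΛlt hnΛ (le_core h)
  have hnV : S ≤ Subgroup.normalizer (V : Set Ω) := fun g hg =>
    normalizer_le_relFunctor hW.toIsPFunctor hS hnΛ ⟨Subgroup.le_normalizer hg, hnΛ hg⟩
  have hfn : ∀ U : Subgroup Ω, U ≤ S → S ≤ Subgroup.normalizer (U : Set Ω) →
      F.IsFullyNormalized U := fun U hU hn => ⟨hU, fun R _ => by
    rw [show normalizerIn S U = S from le_antisymm (normalizerIn_le S U) fun g hg => ⟨hg, hn hg⟩]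
    exact Subgroup.card_le_of_le (normalizerIn_le S R)⟩
  have hmapU : ∀ U : Subgroup Ω, K ≤ U → U ≤ S → S ≤ Subgroup.normalizer (U : Set Ω) →
      ¬ F.IsNormal U → ∀ (X : Subgroup Ω) (φ : X →* Ω), φ ∈ F.normalizerHom U X →
      φ ∈ E.Hom X := by
    intro U hKU hU hn hUn X φ hφ
    have e : normalizerIn S U = S :=
      le_antisymm (normalizerIn_le S U) fun g hg => ⟨hg, hn hg⟩
    refine gen_ctrl_normalizer hS hsm hpr hF hK hKp hKU (hfn U hU hn) hUn E hC ?_ hφ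
    intro Y χ hχ _ _
    rw [e] at hχ
    exact hN Y χ hχ
  have hV := hmapU V (hKΛ.trans hΛV) hVS hnV hVn
  by_cases hΛp : IsPGroup p (F.autGroup Λ)
  · exact gen_ctrl_of_core hW hS hsm hpr hF hΛ hΛp le_rfl E hV hC
  let T := centralizerIn S Λ
  have hTΛ : ¬ T ≤ Λ := fun hTΛ => hc ⟨hF, Λ, hΛ,
    isCentric_of_fullyCentralized (IsSaturated.fullyCentralized hS hF (hfn Λ hΛS hnΛ)) hTΛ⟩
  -- the decomposition
  let U := Λ ⊔ T
  have hTS : T ≤ S := centralizerIn_le S Λ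
  have hUS : U ≤ S := sup_le hΛS hTS
  have hUn : ¬ F.IsNormal U := fun h => hTΛ (le_sup_right.trans (le_core h))
  have hnT : ∀ g ∈ S, ∀ t ∈ T, g * t * g⁻¹ ∈ T := by
    intro g hg t ht
    refine mem_centralizerIn_iff_conj.2 ⟨S.mul_mem (S.mul_mem hg ht.1) (S.inv_mem hg),
      fun l hl => ?_⟩
    have hgl : g⁻¹ * l * g ∈ Λ := (mem_normalizer_iff'.1 (hnΛ hg)).2 l hl
    have h1 := (mem_centralizerIn_iff_conj.1 ht).2 _ hgl
    calc g * t * g⁻¹ * l * (g * t * g⁻¹)⁻¹ = g * (t * (g⁻¹ * l * g) * t⁻¹) * g⁻¹ := by group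
      _ = l := by rw [h1]; group
  have hnU : S ≤ Subgroup.normalizer (U : Set Ω) := by
    intro g hg
    have := finite_of_le hUS
    refine mem_normalizer_of_finite fun y hy => ?_
    have h1 : U ≤ U.comap (MulAut.conj g).toMonoidHom := by
      refine sup_le (fun l hl => Subgroup.mem_sup_left (conj_mem_of_mem_normalizer (hnΛ hg) hl))
        fun t ht => Subgroup.mem_sup_right (hnT g hg t ht)
    exact h1 hy
  have hF1 := hmapU U (hKΛ.trans le_sup_left) hUS hnU hUn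
  -- the maps acting on the core as elements of `S`
  let F₂ := actSystem F hΛS hnΛ (autInducedBy S Λ) le_rfl
  have hF₂le : F₂ ≤ F := fun Y χ hχ => hχ.1
  have haut : F₂.autGroup Λ ≤ autInducedBy S Λ := by
    intro α hα
    obtain ⟨-, ψ, hψ, hψe, l, hl, hle⟩ := autHom_mem F₂ hΛS hα
    rw [show α = l from MulEquiv.ext fun z => Subtype.ext
      ((hψe z).symm.trans (hle z z.2 (Subgroup.mem_sup_left z.2)))]
    exact hl
  have hF₂ne : F₂ ≠ F := fun h => hΛp ((isPGroup_autInducedBy hS Λ).to_le (h ▸ haut))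
  have hF₂n : F₂.IsNormal Λ := by
    refine ⟨hΛS, fun Y χ hχ => ?_⟩
    obtain ⟨hχF, ψ, hψ, hψe, hact⟩ := hχ
    have hle : Y ⊔ Λ ⊔ Λ ≤ Y ⊔ Λ := sup_le le_rfl le_sup_right
    refine ⟨ψ, ⟨hψ, restr hle ψ, restr_mem F hψ hle, fun z => rfl, ?_⟩, hψe,
      ActsIn.img_eq hact le_sup_right⟩
    obtain ⟨l, hl, hlx⟩ := hact
    exact ⟨l, hl, fun z hz hz' => hlx z hz (Subgroup.mem_sup_right hz)⟩
  have hF₂ctrl := hpr F₂ hF₂le hF₂ne (actSystem_isSaturated hS hF hΛ hnΛ) Λ hF₂n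
    ((isPGroup_autInducedBy hS Λ).to_le haut) E
    (fun Y χ ⟨hχ, hY, hv, ψ, hψ, hψe, hψV⟩ =>
      hV Y χ ⟨hχ.1, hY, hv, ψ, hψ.1, hψe, hψV⟩)
    (fun Y χ hχ => hC Y χ (centralizerHom_mono le_rfl (by exact fun Z ρ hρ => hρ.1) le_rfl hχ))
  intro X φ hφ
  obtain ⟨ψ, hψ, hψe, hψΛ⟩ := hΛ.2 X φ hφ
  have hψS := source_le hψ
  have hc := restr_mem F hψ (le_sup_right : Λ ≤ X ⊔ Λ)
  have hcr : (restr le_sup_right ψ).range = Λ := (range_restr _ ψ).trans hψΛ
  obtain ⟨χ, hχ, hχe, -⟩ := IsReceptive.extend (IsSaturated.receptive hS hF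
    (IsSaturated.fullyCentralized hS hF (hfn Λ hΛS hnΛ))) hc hcr
  have hXN : X ⊔ Λ ≤ extender S Λ (restr le_sup_right ψ) := by
    intro g hg
    refine mem_extender.2 ⟨hψS hg, hnΛ (hψS hg), ψ ⟨g, hg⟩, apply_mem hψ _, fun l hl => ?_⟩
    rw [restr_apply, restr_apply, ← map_inv, ← map_mul, ← map_mul]
    rfl
  have hΛN : Λ ≤ extender S Λ (restr le_sup_right ψ) := le_extender hΛS (apply_mem hc)
  have hUN : U ≤ extender S Λ (restr le_sup_right ψ) := sup_le hΛN (centralizerIn_le_extender _)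
  let Z := (X ⊔ Λ) ⊔ U
  have hZN : Z ≤ extender S Λ (restr le_sup_right ψ) := sup_le hXN hUN
  let χ₁ := restr hZN χ
  have hχ₁ : χ₁ ∈ F.Hom Z := restr_mem F hχ hZN
  have hTimg : img χ₁ T = T := by
    have := finite_of_le hTS
    refine Subgroup.eq_of_le_of_card_ge ?_
      (card_img (F.injective_of_mem hχ₁) (le_sup_right.trans le_sup_right)).ge
    intro w hw
    obtain ⟨t, htZ, ht, rfl⟩ := mem_img.1 hw
    exact apply_mem_centralizerIn hcr hχ hχe hΛN _ ht
  have hχU : img χ₁ U = U := by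
    rw [img_sup χ₁ (le_sup_left.trans le_sup_right) (le_sup_right.trans le_sup_right),
      WeaklyClosed.img_eq hΛwc hχ₁ (le_sup_left.trans le_sup_right), hTimg]
  have hχA : χ₁ ∈ E.Hom Z := by
    have hle : Z ⊔ U ≤ Z := sup_le le_rfl le_sup_right
    exact hF1 Z χ₁ ⟨hχ₁, fun w hw => ⟨source_le hχ₁ hw, hnU (source_le hχ₁ hw)⟩,
      fun w => ⟨apply_mem hχ₁ w, hnU (apply_mem hχ₁ w)⟩, restr hle χ₁, restr_mem F hχ₁ hle,
      fun w => rfl, (img_restr hle χ₁ le_sup_right).trans hχU⟩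
  -- `ψ` has values in the image of `χ₁`
  have hψv : ∀ y : ↥(X ⊔ Λ), ψ y ∈ χ₁.range := by
    intro y
    have hyZ : (y : Ω) ∈ Z := Subgroup.mem_sup_left y.2
    have ht : (χ₁ ⟨y, hyZ⟩)⁻¹ * ψ y ∈ T := by
      refine mem_centralizerIn_iff_conj.2
        ⟨S.mul_mem (S.inv_mem (apply_mem hχ₁ _)) (apply_mem hψ y), fun l hl => ?_⟩
      obtain ⟨l', hl'P, hl', rfl⟩ := mem_img.1 (hψΛ.ge hl)
      have h1 : χ₁ ⟨l', Subgroup.mem_sup_left hl'P⟩ = ψ ⟨l', hl'P⟩ :=
        hχe l' hl' (hΛN hl')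
      have hconj : (y : Ω) * l' * (y : Ω)⁻¹ ∈ Λ := conj_mem_of_mem_normalizer (hnΛ (hψS y.2)) hl'
      have h2 : χ₁ (⟨y, hyZ⟩ * ⟨l', Subgroup.mem_sup_left hl'P⟩ * ⟨y, hyZ⟩⁻¹) =
          ψ (y * ⟨l', hl'P⟩ * y⁻¹) := hχe _ hconj (hΛN hconj)
      rw [map_mul, map_mul, map_inv, map_mul, map_mul, map_inv, h1] at h2
      calc (χ₁ ⟨y, hyZ⟩)⁻¹ * ψ y * ψ ⟨l', hl'P⟩ * ((χ₁ ⟨y, hyZ⟩)⁻¹ * ψ y)⁻¹
          = (χ₁ ⟨y, hyZ⟩)⁻¹ * (ψ y * ψ ⟨l', hl'P⟩ * (ψ y)⁻¹) * χ₁ ⟨y, hyZ⟩ := by group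
        _ = ψ ⟨l', hl'P⟩ := by rw [← h2]; group
    have h3 := χ₁.range.mul_mem (⟨⟨y, hyZ⟩, rfl⟩ : χ₁ ⟨y, hyZ⟩ ∈ χ₁.range)
      (img_le_range χ₁ T (hTimg.ge ht))
    rwa [mul_inv_cancel_left] at h3
  obtain ⟨d, hd, hdr, hdl, hdl'⟩ := exists_inv F hχ₁ rfl
  let η := compose ψ d hψv
  have hη : η ∈ F.Hom (X ⊔ Λ) := compose_mem F hψ hd hψv
  have hηF₂ : η ∈ F₂.Hom (X ⊔ Λ) := by
    have hle : X ⊔ Λ ⊔ Λ ≤ X ⊔ Λ := sup_le le_rfl le_sup_right
    refine ⟨hη, restr hle η, restr_mem F hη hle, fun w => rfl, 1, Subgroup.one_mem _,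
      fun w hw hw' => ?_⟩
    show d ⟨ψ ⟨w, _⟩, _⟩ = w
    rw [show (⟨ψ ⟨w, hle hw'⟩, hψv _⟩ : χ₁.range) =
      ⟨χ₁ ⟨w, Subgroup.mem_sup_left (Subgroup.mem_sup_right hw)⟩, _, rfl⟩ from
      Subtype.ext (hχe w hw (hΛN hw)).symm]
    exact hdl _ _
  have hηZ : ∀ y, η y ∈ Z := fun y => hdr.le ⟨_, rfl⟩
  have h4 : η ∈ E.Hom (X ⊔ Λ) := hF₂ctrl (X ⊔ Λ) η hηF₂
  have h5 : compose η χ₁ hηZ ∈ E.Hom (X ⊔ Λ) := compose_mem E h4 hχA hηZ
  have e : φ = restr le_sup_left (compose η χ₁ hηZ) := MonoidHom.ext fun w =>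
    ((hdl' _ (hηZ _)).trans (hψe w)).symm
  rw [e]
  exact restr_mem E h5 _

/-- Characteristic functors with the local property generate. -/
theorem gen_ctrl_all (hW : IsFactorFunctor p W) {Ω : Type u} [Group Ω] {S : Subgroup Ω} [Finite S]
    (hS : IsPGroup p S) {F : FusionSystem S} (hF : F.IsSaturated p) {K : Subgroup Ω}
    (hK : F.IsNormal K) (hKp : IsPGroup p (F.autGroup K)) : GenCtrl p W F K := by
  suffices key : ∀ n, GenCtrlSmaller p W n by
    exact key (Nat.card S + 1) (Nat.lt_succ_self _) hS F hF K hK hKp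
  intro n
  induction n with
  | zero =>
    intro Ω _ S _ h
    exact absurd h (Nat.not_lt_zero _)
  | succ n ihn =>
    intro Ω _ S _ hn hS F hF K hK hKp
    have hsm : GenCtrlSmaller p W (Nat.card S) := fun {Ω'} _ {S'} _ hlt =>
      ihn (lt_of_lt_of_le hlt (Nat.lt_succ_iff.1 hn))
    -- induction on the maps
    have hfin : ∀ E : FusionSystem S,
        {x : Σ P : Subgroup Ω, (P →* Ω) | x.2 ∈ E.Hom x.1}.Finite := by
      intro E
      have hsub := finite_subgroups_le (S := S)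
      have : Finite {P : Subgroup Ω | P ≤ S} := hsub.to_subtype
      have : ∀ P : {P : Subgroup Ω | P ≤ S}, Finite (↥(P : Subgroup Ω) →* ↥S) := fun P => by
        have := finite_of_le P.2
        exact Finite.of_injective (fun f => (f : ↥(P : Subgroup Ω) → ↥S)) DFunLike.coe_injective
      let f : (Σ P : {P : Subgroup Ω | P ≤ S}, (↥(P : Subgroup Ω) →* ↥S)) →
          Σ P : Subgroup Ω, (P →* Ω) := fun x => ⟨x.1.1, S.subtype.comp x.2⟩
      refine (Set.finite_range f).subset ?_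
      rintro ⟨P, φ⟩ hφ
      exact ⟨⟨⟨P, source_le (F := E) hφ⟩, φ.codRestrict S (apply_mem (F := E) hφ)⟩, rfl⟩
    let count : FusionSystem S → ℕ := fun E =>
      Nat.card {x : Σ P : Subgroup Ω, (P →* Ω) | x.2 ∈ E.Hom x.1}
    suffices key : ∀ m, ∀ E : FusionSystem S, count E = m → E.IsSaturated p →
        ∀ K : Subgroup Ω, E.IsNormal K → IsPGroup p (E.autGroup K) → GenCtrl p W E K by
      exact key _ F rfl hF K hK hKp
    intro m
    induction m using Nat.strong_induction_on with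
    | _ m IH =>
      intro E hEm hE K hK hKp
      refine gen_ctrl_step hW hS hsm ?_ hE hK hKp
      intro E' hle hne hE' K' hK' hKp'
      refine IH (count E') ?_ E' rfl hE' K' hK' hKp'
      rw [← hEm]
      show Nat.card ↥{x : Σ P : Subgroup Ω, (P →* Ω) | x.2 ∈ E'.Hom x.1} <
        Nat.card ↥{x : Σ P : Subgroup Ω, (P →* Ω) | x.2 ∈ E.Hom x.1}
      rw [Nat.card_coe_set_eq, Nat.card_coe_set_eq]
      refine Set.ncard_lt_ncard ?_ (hfin E)
      refine ⟨fun x hx => hle x.1 hx, fun hsub => hne (le_antisymm_hom hle fun P φ hφ => ?_)⟩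
      exact hsub (a := ⟨P, φ⟩) hφ

/-- The Thompson subgroup is such a functor. -/
theorem isFactorFunctor_thompson (p : ℕ) [Fact p.Prime] :
    IsFactorFunctor.{u} p fun Q _ => thompsonSubgroupA Q :=
  ⟨isPFunctor_thompson p, fun G _ _ P V h1 h2 g => thompson_local_factor _ G rfl P V h1 h2 g⟩

/-- Every saturated system is generated by the normalizer of the Thompson subgroup and the
centralizer of the `p`-th powers of the centre. -/
theorem gen_thompson {p : ℕ} [Fact p.Prime] {Ω : Type u} [Group Ω] {S : Subgroup Ω} [Finite S]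
    (hS : IsPGroup p S) {F : FusionSystem S} (hF : F.IsSaturated p) (E : FusionSystem S)
    (hN : ∀ (X : Subgroup Ω) (φ : X →* Ω),
      φ ∈ F.normalizerHom (thompsonSubgroupAOf S) X → φ ∈ E.Hom X)
    (hC : ∀ (X : Subgroup Ω) (φ : X →* Ω),
      φ ∈ F.centralizerHom (powerClosure p 1 (S ⊓ Subgroup.centralizer (S : Set Ω))) X →
        φ ∈ E.Hom X) : F ≤ E := by
  have hbot : IsPGroup p (F.autGroup (⊥ : Subgroup Ω)) := by
    intro α
    refine ⟨0, Subtype.ext (MulEquiv.ext fun y => ?_)⟩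
    exact Subsingleton.elim _ _
  intro X φ hφ
  refine gen_ctrl_all (isFactorFunctor_thompson p) hS hF (isNormal_bot F) hbot E
    (fun Y χ hχ => hN Y χ ?_) hC X φ hφ
  rwa [relFunctor_bot (isPFunctor_thompson p) S hS] at hχ

end Cfsg.Agent.Lib.Fusion
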