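import Cfsg.Agent.Lib.Fusion.Quotient
import Cfsg.Agent.Lib.Fusion.Closed

/-!
Solvable fusion systems: the chain criterion, constrainedness, extensions.
-/

set_option autoImplicit false
set_option linter.unusedSectionVars false

namespace Cfsg.Agent.Lib.Fusion

open Cfsg Cfsg.FusionSystem
open scoped commutatorElement

variable {Ω : Type*} [Group Ω] {S : Subgroup Ω} [Finite S] {F : FusionSystem S}

theorem stronglyClosed_inf {A B : Subgroup Ω} (hA : F.StronglyClosed A) (hB : F.StronglyClosed B) :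
    F.StronglyClosed (A ⊓ B) :=
  ⟨inf_le_left.trans hA.1, fun R hR φ hφ x =>
    ⟨hA.2 R (hR.trans inf_le_left) φ hφ x, hB.2 R (hR.trans inf_le_right) φ hφ x⟩⟩

theorem stronglyClosed_bot (F : FusionSystem S) : F.StronglyClosed ⊥ :=
  IsNormal.stronglyClosed (isNormal_bot F)

theorem stronglyClosed_top (F : FusionSystem S) : F.StronglyClosed S :=
  ⟨le_rfl, fun _ _ _ hφ x => apply_mem hφ x⟩

theorem subgroupOf_normal {R : Subgroup Ω} (hR : F.StronglyClosed R) :
    (R.subgroupOf S).Normal := by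
  refine ⟨fun x hx g => ?_⟩
  exact StronglyClosed.conj_mem_self hR g.2 hx

section Images

variable {Ω' : Type*} [Group Ω'] {S' : Subgroup Ω'} {θ : S →* Ω'} {E : FusionSystem S'}
  {T : Subgroup Ω}

theorem stronglyClosed_preimage (hE : F.IsMorphism E θ) {U' : Subgroup Ω'}
    (hU : E.StronglyClosed U') : F.StronglyClosed (preimageAlong θ U') := by
  refine ⟨preimage_le θ U', fun A hA φ hφ x => ?_⟩
  obtain ⟨φ', hφ', hP, hφS, hm, h⟩ := hE.2 A φ hφ
  refine (mem_preimage_iff (θ := θ) ⟨φ x, hφS x⟩).2 ?_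
  rw [← h x]
  refine hU.2 _ ?_ φ' hφ' _
  rintro _ ⟨z, hz, rfl⟩
  exact (mem_preimage_iff z).1 (hA hz)

theorem stronglyClosed_image (hE : F.IsFactorSystem T θ E) {U : Subgroup Ω} (hTU : T ≤ U)
    (hU : F.StronglyClosed U) : E.StronglyClosed (imageAlong θ U) := by
  obtain ⟨hTS, hker, hr, hiff⟩ := hE
  have hle : imageAlong θ U ≤ S' := by
    rw [← hr]
    rintro _ ⟨x, -, rfl⟩
    exact ⟨x, rfl⟩
  refine ⟨hle, fun A' hA' φ' hφ' y => ?_⟩
  obtain ⟨hA'S, φ, hφ, hP, hφS, hm, h⟩ := (hiff A' φ').1 hφ'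
  obtain ⟨x, hx⟩ := hr.ge (hA'S y.2)
  have hxA : (x : Ω) ∈ preimageAlong θ A' := (mem_preimage_iff x).2 (hx ▸ y.2)
  have hxU : (x : Ω) ∈ U := by
    have h1 : (x : Ω) ∈ preimageAlong θ (imageAlong θ U) :=
      (mem_preimage_iff x).2 (hx ▸ hA' y.2)
    rw [preimage_imageAlong hker hTS hU.1, sup_eq_left.2 hTU] at h1
    exact h1
  rw [show y = ⟨θ ⟨x, hP hxA⟩, hm ⟨x, hxA⟩⟩ from Subtype.ext hx.symm, h ⟨x, hxA⟩]
  exact mem_image_iff.2 ⟨⟨φ ⟨x, hxA⟩, hφS _⟩, StronglyClosed.map_mem hU hφ _ hxU, rfl⟩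

theorem commute_image (hker : ∀ s : S, θ s = 1 ↔ (s : Ω) ∈ T) {U : Subgroup Ω} (hU : U ≤ S)
    (hab : ⁅U, U⁆ ≤ T) : ∀ a ∈ imageAlong θ U, ∀ b ∈ imageAlong θ U, a * b = b * a := by
  rintro _ ⟨x, hx, rfl⟩ _ ⟨y, hy, rfl⟩
  have h1 : (⁅(x : Ω), (y : Ω)⁆) ∈ T := hab (Subgroup.commutator_mem_commutator hx hy)
  have h2 : θ ⁅x, y⁆ = 1 := (hker _).2 (by
    rw [commutatorElement_def] at h1 ⊢
    simpa using h1)
  rw [map_commutatorElement] at h2
  exact commutatorElement_eq_one_iff_mul_comm.1 h2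

theorem commutator_preimage_le (hker : ∀ s : S, θ s = 1 ↔ (s : Ω) ∈ T) {U' : Subgroup Ω'}
    (hab : ∀ a ∈ U', ∀ b ∈ U', a * b = b * a) :
    ⁅preimageAlong θ U', preimageAlong θ U'⁆ ≤ T := by
  refine Subgroup.commutator_le.2 ?_
  rintro _ ⟨x, hx, rfl⟩ _ ⟨y, hy, rfl⟩
  have h2 : θ ⁅x, y⁆ = 1 := by
    rw [map_commutatorElement, commutatorElement_eq_one_iff_mul_comm]
    exact hab _ hx _ hy
  have h3 := (hker _).1 h2
  rw [commutatorElement_def] at h3 ⊢
  simpa using h3

end Images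

variable {p : ℕ} [Fact p.Prime]

/-- A chain of strongly closed subgroups with abelian factors from `R` to `S`. -/
def HasSolvChain (F : FusionSystem S) (R : Subgroup Ω) : Prop :=
  ∃ (n : ℕ) (T : ℕ → Subgroup Ω), T 0 = R ∧ T n = S ∧ Monotone T ∧
    (∀ i, F.StronglyClosed (T i)) ∧ ∀ i, i < n → ⁅T (i + 1), T (i + 1)⁆ ≤ T i

theorem isPGroup_top_quotient (hS : IsPGroup p S) (N : Subgroup S) [N.Normal] :
    IsPGroup p (⊤ : Subgroup (S ⧸ N)) :=
  (hS.of_surjective (QuotientGroup.mk' N) (QuotientGroup.mk'_surjective N)).to_subgroup ⊤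

theorem hasSolvChain_of_solvable (hS : IsPGroup p S) (hF : F.IsSaturated p)
    (h : F.IsSolvableSystem) {R : Subgroup Ω} (hR : F.StronglyClosed R) : HasSolvChain F R := by
  suffices key : ∀ n, ∀ R : Subgroup Ω, F.StronglyClosed R → Nat.card S ≤ Nat.card R + n →
      HasSolvChain F R from key (Nat.card S) R hR (Nat.le_add_left _ _)
  intro n
  induction n with
  | zero =>
    intro R hR hn
    have e : R = S := Subgroup.eq_of_le_of_card_ge hR.1 (by simpa using hn)
    exact ⟨0, fun _ => R, rfl, e, monotone_const, fun _ => hR, fun i hi => absurd hi i.not_lt_zero⟩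
  | succ n ih =>
    intro R hR hn
    rcases eq_or_ne R S with e | hne
    · exact ⟨0, fun _ => R, rfl, e, monotone_const, fun _ => hR,
        fun i hi => absurd hi i.not_lt_zero⟩
    have hnorm := subgroupOf_normal hR
    set θ := QuotientGroup.mk' (R.subgroupOf S)
    have hker : ∀ s : S, θ s = 1 ↔ (s : Ω) ∈ R := fun s => QuotientGroup.eq_one_iff s
    have hr : θ.range = ⊤ := MonoidHom.range_eq_top.2 (QuotientGroup.mk'_surjective _)
    let E := factorSystem F hR θ hker hr
    have hspec := factorSystem_spec hR hker hr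
    have hcore := h R hR hne E hspec
    obtain ⟨Q', hQne, hQab, hQsc⟩ := (core_ne_bot_iff (isPGroup_top_quotient hS _)
      (factor_isSaturated hS hF hR hspec)).1 hcore
    set U := preimageAlong θ Q'
    have hU : F.StronglyClosed U :=
      stronglyClosed_preimage (isSurjectiveMorphism_factor hS hF hR hspec).1 hQsc
    have hRU : R ≤ U := kernel_le_preimage hker hR.1 Q'
    have hab : ⁅U, U⁆ ≤ R := commutator_preimage_le hker fun a ha b hb =>
      congrArg Subtype.val (mul_comm' (⟨a, ha⟩ : Q') ⟨b, hb⟩)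
    have hlt : Nat.card R < Nat.card U := by
      have := finite_of_le hU.1
      by_contra hge
      have e : R = U := Subgroup.eq_of_le_of_card_ge hRU (not_lt.1 hge)
      apply hQne
      rw [eq_bot_iff]
      intro y hy
      obtain ⟨x, rfl⟩ := QuotientGroup.mk'_surjective _ y
      exact (hker x).2 (e.ge ((mem_preimage_iff x).2 hy))
    obtain ⟨m, T, h0, hm, hmono, hsc, hcomm⟩ := ih U hU (by omega)
    refine ⟨m + 1, fun k => match k with | 0 => R | k + 1 => T k, rfl, hm,
      monotone_nat_of_le_succ fun k => ?_, fun k => ?_, fun k hk => ?_⟩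
    · cases k with
      | zero => exact hRU.trans h0.ge
      | succ k => exact hmono k.le_succ
    · cases k with
      | zero => exact hR
      | succ k => exact hsc k
    · cases k with
      | zero => exact (Subgroup.commutator_mono h0.le h0.le).trans hab
      | succ k => exact hcomm k (by omega)

theorem solvable_of_chain (hS : IsPGroup p S) (hF : F.IsSaturated p)
    (h : HasSolvChain F ⊥) : F.IsSolvableSystem := by
  intro R hR hne _ E hE
  obtain ⟨n, T, h0, hn, -, hsc, hcomm⟩ := h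
  obtain ⟨i, hi, hi1, hi2⟩ : ∃ i, i < n ∧ T i ≤ R ∧ ¬ T (i + 1) ≤ R := by
    by_contra hcon
    push Not at hcon
    have : ∀ i, i ≤ n → T i ≤ R := by
      intro i
      induction i with
      | zero => exact fun _ => h0.le.trans bot_le
      | succ i ih => exact fun hi => hcon i hi (ih (by omega))
    exact hne (le_antisymm hR.1 (hn.ge.trans (this n le_rfl)))
  obtain ⟨hRS, hker, hr, hiff⟩ := id hE
  have hU := stronglyClosed_sup hS hF (hsc (i + 1)) hR
  refine (core_ne_bot_iff (isPGroup_top_quotient hS _) (factor_isSaturated hS hF hR hE)).2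
    ⟨imageAlong (QuotientGroup.mk' (R.subgroupOf S)) (T (i + 1)), fun hbot => hi2 fun x hx => ?_, ?_, ?_⟩
  · have hxS := (hsc (i + 1)).1 hx
    refine (hker ⟨x, hxS⟩).1 ?_
    rw [← Subgroup.mem_bot, ← hbot]
    exact ⟨⟨x, hxS⟩, hx, rfl⟩
  · exact ⟨⟨fun a b => Subtype.ext (commute_image hker (hsc (i + 1)).1
      ((hcomm i hi).trans hi1) a a.2 b b.2)⟩⟩
  · have h1 := stronglyClosed_image hE (le_sup_right : R ≤ T (i + 1) ⊔ R) hU
    rwa [← preimage_imageAlong hker hRS (hsc (i + 1)).1,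
      imageAlong_preimage hr le_top] at h1

theorem solvable_iff_chain (hS : IsPGroup p S) (hF : F.IsSaturated p) :
    F.IsSolvableSystem ↔ HasSolvChain F ⊥ :=
  ⟨fun h => hasSolvChain_of_solvable hS hF h (stronglyClosed_bot F), solvable_of_chain hS hF⟩

theorem hasSolvChain_iff_fin :
    HasSolvChain F ⊥ ↔ ∃ (n : ℕ) (T : Fin (n + 1) → Subgroup Ω), T 0 = ⊥ ∧ T (Fin.last n) = S ∧
      Monotone T ∧ (∀ i, F.StronglyClosed (T i)) ∧
      ∀ i : Fin n, ⁅T i.succ, T i.succ⁆ ≤ T (Fin.castSucc i) := by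
  constructor
  · rintro ⟨n, T, h0, hn, hmono, hsc, hcomm⟩
    exact ⟨n, fun i => T i, h0, by simpa using hn, fun a b hab => hmono hab, fun i => hsc i,
      fun i => by simpa using hcomm i i.2⟩
  · rintro ⟨n, T, h0, hn, hmono, hsc, hcomm⟩
    refine ⟨n, fun i => T ⟨min i n, by omega⟩, ?_, ?_, fun a b hab => hmono ?_, fun i => hsc _,
      fun i hi => ?_⟩
    · simpa using h0
    · simpa [Fin.last] using hn
    · exact min_le_min_right n hab
    · have := hcomm ⟨i, hi⟩
      simpa [Fin.succ, Fin.castSucc, Nat.min_eq_left (Nat.succ_le_of_lt hi),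
        Nat.min_eq_left hi.le] using this

/-- A solvable system is constrained. -/
theorem isConstrained_of_solvable (hS : IsPGroup p S) (hF : F.IsSaturated p)
    (h : F.IsSolvableSystem) : F.IsConstrained p := by
  have hQ := isNormal_core F
  set Q := F.core
  have hQsc := IsNormal.stronglyClosed hQ
  refine ⟨hF, Q, hQ, hQ.1, fun R hR => ?_⟩
  obtain ⟨φ, hφ, rfl⟩ := hR
  rw [(StronglyClosed.weaklyClosed hQsc).2 φ hφ]
  by_contra hne
  set C := Q ⊔ centralizerIn S Q with hCdef
  have hC : F.StronglyClosed C := stronglyClosed_mul_centralizer hS hF hQsc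
  obtain ⟨n, T, h0, hn, -, hsc, hcomm⟩ := (solvable_iff_chain hS hF).1 h
  obtain ⟨i, hi, hi1, hi2⟩ : ∃ i, i < n ∧ T i ⊓ C ≤ Q ∧ ¬ T (i + 1) ⊓ C ≤ Q := by
    by_contra hcon
    push Not at hcon
    have : ∀ i, i ≤ n → T i ⊓ C ≤ Q := by
      intro i
      induction i with
      | zero => exact fun _ => inf_le_left.trans (h0.le.trans bot_le)
      | succ i ih => exact fun hi => hcon i hi (ih (by omega))
    apply hne
    refine le_trans (le_inf ?_ le_sup_right) (this n le_rfl)
    exact (centralizerIn_le S Q).trans hn.ge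
  set V := T (i + 1) ⊓ C
  set W := Q ⊔ V with hWdef
  have hW : F.StronglyClosed W := stronglyClosed_sup hS hF hQsc (stronglyClosed_inf (hsc _) hC)
  have hVV : ⁅V, V⁆ ≤ Q := by
    refine le_trans (le_inf ((Subgroup.commutator_mono inf_le_left inf_le_left).trans
      (hcomm i hi)) (Subgroup.commutator_le.2 fun a ha b hb => ?_)) hi1
    exact C.mul_mem (C.mul_mem (C.mul_mem ha.2 hb.2) (C.inv_mem ha.2)) (C.inv_mem hb.2)
  have hWW : ⁅W, W⁆ ≤ Q := by
    have := subgroupOf_normal hQsc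
    set θ := QuotientGroup.mk' (Q.subgroupOf S)
    have hker : ∀ s : S, θ s = 1 ↔ (s : Ω) ∈ Q := fun s => QuotientGroup.eq_one_iff s
    have e : W = preimageAlong θ (imageAlong θ V) := by
      rw [preimage_imageAlong hker hQ.1 (inf_le_right.trans hC.1), hWdef, sup_comm]
    rw [e]
    exact commutator_preimage_le hker (commute_image hker (inf_le_right.trans hC.1) hVV)
  have hLC : ∀ k, ⁅Q.lowerCentralSeries k, W⁆ ≤ Q.lowerCentralSeries (k + 1) := by
    intro k
    refine Subgroup.commutator_le.2 fun a ha c hc => ?_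
    have hcC : c ∈ ((centralizerIn S Q ⊔ Q : Subgroup Ω) : Set Ω) := by
      rw [sup_comm]
      exact (sup_le le_sup_left inf_le_right : W ≤ C) hc
    rw [Subgroup.coe_mul_of_left_le_normalizer_right (centralizerIn S Q) Q
      ((centralizerIn_le S Q).trans
        (WeaklyClosed.le_normalizer (StronglyClosed.weaklyClosed hQsc)))] at hcC
    obtain ⟨z, hz, q, hq, rfl⟩ := hcC
    have haQ : a ∈ Q := Q.lowerCentralSeries_le_self k ha
    have hzc := (mem_centralizerIn.1 hz).2
    have hm : a * q * a⁻¹ * q⁻¹ ∈ Q :=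
      Q.mul_mem (Q.mul_mem (Q.mul_mem haQ hq) (Q.inv_mem haQ)) (Q.inv_mem hq)
    have e : ⁅a, z * q⁆ = ⁅a, q⁆ := by
      rw [commutatorElement_def, commutatorElement_def, mul_inv_rev]
      calc a * (z * q) * a⁻¹ * (q⁻¹ * z⁻¹) = (a * z) * q * a⁻¹ * q⁻¹ * z⁻¹ := by group
        _ = (z * a) * q * a⁻¹ * q⁻¹ * z⁻¹ := by rw [hzc a haQ]
        _ = z * (a * q * a⁻¹ * q⁻¹) * z⁻¹ := by group
        _ = a * q * a⁻¹ * q⁻¹ := by rw [← hzc _ hm, mul_inv_cancel_right]
    rw [e, Subgroup.lowerCentralSeries_succ]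
    exact Subgroup.commutator_mem_commutator ha hq
  have hnil : Group.IsNilpotent Q := by
    have := finite_of_le hQ.1
    exact (hS.to_le hQ.1).isNilpotent
  obtain ⟨m, hm⟩ := (Subgroup.isNilpotent_iff_lowerCentralSeries Q).1 hnil
  have hWn : F.IsNormal W := by
    refine normal_of_series hS hF hW (n := m + 1)
      (fun j => if j.1 ≤ m then Q.lowerCentralSeries (m - j.1) else W) ?_ ?_ ?_ ?_ ?_
    · simpa using hm
    · simp
    · intro a b hab
      have : a.1 ≤ b.1 := hab
      simp only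
      split_ifs with h1 h2 h2
      · exact Q.lowerCentralSeries_antitone (by omega)
      · exact (Q.lowerCentralSeries_le_self _).trans le_sup_left
      · omega
      · exact le_rfl
    · intro j
      simp only [Fin.val_succ, Fin.val_castSucc]
      rw [if_pos (show j.1 ≤ m by omega)]
      split_ifs with h1
      · rw [show m - j.1 = m - (j.1 + 1) + 1 by omega]
        exact hLC _
      · rw [show m - j.1 = 0 by omega, Subgroup.lowerCentralSeries_zero]
        exact hWW
    · intro j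
      simp only [Fin.val_castSucc]
      rw [if_pos (show j.1 ≤ m by omega)]
      exact StronglyClosed.weaklyClosed (IsNormal.stronglyClosed (IsNormal.lcs hQ _))
  exact hi2 (le_sup_right.trans (le_core hWn))

theorem stronglyClosed_of_subsystem {T : Subgroup Ω} {E : FusionSystem T}
    (hsub : E.IsSubsystemOf F) {U : Subgroup Ω} (hU : F.StronglyClosed U) :
    E.StronglyClosed (U ⊓ T) :=
  ⟨inf_le_right, fun R hR φ hφ x =>
    ⟨hU.2 R (hR.trans inf_le_left) φ (hsub R hφ) x, apply_mem hφ x⟩⟩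

/-- The intersection of the transports of `U` by the automorphisms of `T` in `F`. -/
def invariantPart (F : FusionSystem S) (T U : Subgroup Ω) : Subgroup Ω :=
  T ⊓ ⨅ α : F.autGroup T, (U.comap (autHom (α : MulAut T))).map T.subtype

theorem mem_invariantPart {T U : Subgroup Ω} {x : Ω} :
    x ∈ invariantPart F T U ↔
      ∃ hx : x ∈ T, ∀ α ∈ F.autGroup T, ((α ⟨x, hx⟩ : T) : Ω) ∈ U := by
  constructor
  · rintro ⟨hx, hα⟩
    refine ⟨hx, fun α hαm => ?_⟩
    obtain ⟨z, hz, hzx⟩ := (Subgroup.mem_iInf.1 hα) ⟨α, hαm⟩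
    obtain rfl : z = ⟨x, hx⟩ := Subtype.ext hzx
    exact hz
  · rintro ⟨hx, h⟩
    exact ⟨hx, Subgroup.mem_iInf.2 fun α => ⟨⟨x, hx⟩, h α α.2, rfl⟩⟩

theorem stronglyClosed_invariantPart {T : Subgroup Ω} {E : FusionSystem T}
    (hE : E.IsInvariantIn F) {U : Subgroup Ω} (hU : E.StronglyClosed U) :
    F.StronglyClosed (invariantPart F T U) := by
  obtain ⟨hsub, hsc, hconj, hfr⟩ := hE
  refine ⟨inf_le_left.trans hsc.1, fun A hA φ hφ x => ?_⟩
  have hAT : A ≤ T := hA.trans inf_le_left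
  obtain ⟨α, hα, φ₀, hφ₀, he⟩ := hfr A hAT φ hφ
  refine mem_invariantPart.2 ⟨StronglyClosed.map_mem hsc hφ x (hAT x.2), fun β hβ => ?_⟩
  obtain ⟨χ, hχ, heq⟩ := hconj A hAT φ₀ hφ₀ (β * α) (Subgroup.mul_mem _ hβ hα)
  have h1 := heq x (apply_mem hφ₀ x) ⟨⟨x, hAT x.2⟩, x.2, rfl⟩
  have h2 : χ ⟨((β * α) ⟨x, hAT x.2⟩ : T), ⟨⟨x, hAT x.2⟩, x.2, rfl⟩⟩ ∈ U := by
    refine hU.2 _ ?_ χ hχ _
    rintro _ ⟨z, hz, rfl⟩
    exact (mem_invariantPart.1 (hA hz)).choose_spec (β * α) (Subgroup.mul_mem _ hβ hα)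
  rw [h1] at h2
  have e : (⟨φ x, StronglyClosed.map_mem hsc hφ x (hAT x.2)⟩ : T) =
      α ⟨φ₀ x, apply_mem hφ₀ x⟩ := Subtype.ext (he x _)
  rw [e]
  exact h2

/-- Solvability of an extension. -/
theorem solvable_extension (hS : IsPGroup p S) (hF : F.IsSaturated p) {T : Subgroup Ω}
    {E : FusionSystem T} (hE : E.IsWeaklyNormalIn F p) {Ω' : Type*} [Group Ω']
    {S' : Subgroup Ω'} {θ : S →* Ω'} {D : FusionSystem S'} (hD : F.IsFactorSystem T θ D) :
    F.IsSolvableSystem ↔ (E.IsSolvableSystem ∧ D.IsSolvableSystem) := by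
  obtain ⟨hEs, -, hinv⟩ := hE
  have hsc := hinv.2.1
  obtain ⟨hTS, hker, hr, hiff⟩ := id hD
  have := finite_of_le hTS
  have : Finite S' := by
    rw [← hr]
    exact Finite.of_surjective θ.rangeRestrict θ.rangeRestrict_surjective
  have hT : IsPGroup p T := hS.to_le hTS
  have hS' : IsPGroup p S' := by
    rw [← hr]
    exact hS.of_surjective θ.rangeRestrict θ.rangeRestrict_surjective
  have hDs := factor_isSaturated hS hF hsc hD
  have hmor := isSurjectiveMorphism_factor hS hF hsc hD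
  rw [solvable_iff_chain hS hF, solvable_iff_chain hT hEs, solvable_iff_chain hS' hDs]
  constructor
  · rintro ⟨n, C, h0, hn, hmono, hcl, hcomm⟩
    constructor
    · refine ⟨n, fun i => C i ⊓ T, ?_, ?_, fun a b hab => inf_le_inf_right T (hmono hab),
        fun i => stronglyClosed_of_subsystem hinv.1 (hcl i), fun i hi => ?_⟩
      · simp [h0]
      · simp [hn, inf_eq_right.2 hTS]
      · exact le_inf ((Subgroup.commutator_mono inf_le_left inf_le_left).trans (hcomm i hi))
          ((Subgroup.commutator_mono inf_le_right inf_le_right).trans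
            (Subgroup.commutator_le.2 fun a ha b hb =>
              T.mul_mem (T.mul_mem (T.mul_mem ha hb) (T.inv_mem ha)) (T.inv_mem hb)))
    · refine ⟨n, fun i => imageAlong θ (C i), ?_, ?_, fun a b hab => ?_, fun i => ?_,
        fun i hi => ?_⟩
      · simp [h0, imageAlong]
      · simp [hn, imageAlong, Subgroup.subgroupOf_self, ← MonoidHom.range_eq_map, hr]
      · rintro _ ⟨x, hx, rfl⟩
        exact ⟨x, hmono hab hx, rfl⟩
      · have h1 := stronglyClosed_image hD (le_sup_right : T ≤ C i ⊔ T)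
          (stronglyClosed_sup hS hF (hcl i) hsc)
        rwa [← preimage_imageAlong hker hTS (hcl i).1, imageAlong_preimage hr
          (by rw [← hr]; rintro _ ⟨x, -, rfl⟩; exact ⟨x, rfl⟩)] at h1
      · refine Subgroup.commutator_le.2 ?_
        rintro _ ⟨x, hx, rfl⟩ _ ⟨y, hy, rfl⟩
        refine ⟨⁅x, y⁆, hcomm i hi ?_, map_commutatorElement θ x y⟩
        have e : S.subtype ⁅x, y⁆ = ⁅(x : Ω), (y : Ω)⁆ := map_commutatorElement S.subtype x y
        rw [e]
        exact Subgroup.commutator_mem_commutator hx hy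
  · rintro ⟨⟨a, A, ha0, han, hamono, hacl, hacomm⟩, ⟨b, B, hb0, hbn, hbmono, hbcl, hbcomm⟩⟩
    let A' : ℕ → Subgroup Ω := fun i => invariantPart F T (A i)
    have hA'a : A' a = T := le_antisymm inf_le_left fun x hx =>
      mem_invariantPart.2 ⟨hx, fun α _ => han.ge (α ⟨x, hx⟩).2⟩
    have hA'0 : A' 0 = ⊥ := by
      rw [eq_bot_iff]
      intro x hx
      obtain ⟨hxT, h⟩ := mem_invariantPart.1 hx
      have := h 1 (Subgroup.one_mem _)
      rwa [ha0] at this
    have hA'mono : Monotone A' := fun i j hij x hx => by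
      obtain ⟨hxT, h⟩ := mem_invariantPart.1 hx
      exact mem_invariantPart.2 ⟨hxT, fun α hα => hamono hij (h α hα)⟩
    let C : ℕ → Subgroup Ω := fun i => if i ≤ a then A' i else preimageAlong θ (B (i - a))
    have hB0 : preimageAlong θ (B 0) = T := by
      refine le_antisymm ?_ (kernel_le_preimage hker hTS _)
      rintro _ ⟨x, hx, rfl⟩
      rw [SetLike.mem_coe, Subgroup.mem_comap, hb0, Subgroup.mem_bot] at hx
      exact (hker x).1 hx
    have hCB : ∀ i, a ≤ i → C i = preimageAlong θ (B (i - a)) := by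
      intro i hi
      rcases hi.eq_or_lt with rfl | hlt
      · simp only [C, le_refl, if_true, Nat.sub_self, hB0, hA'a]
      · simp only [C, if_neg (not_le.2 hlt)]
    have hCA : ∀ i, i ≤ a → C i = A' i := fun i hi => if_pos hi
    refine ⟨a + b, C, (hCA 0 (Nat.zero_le _)).trans hA'0, ?_, monotone_nat_of_le_succ fun i => ?_,
      fun i => ?_, fun i hi => ?_⟩
    · rw [hCB _ (Nat.le_add_right _ _), Nat.add_sub_cancel_left, hbn]
      refine le_antisymm (preimage_le θ _) fun x hx => (mem_preimage_iff (θ := θ) ⟨x, hx⟩).2 ?_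
      exact hr.le ⟨_, rfl⟩
    · by_cases hi : i < a
      · rw [hCA i hi.le, hCA (i + 1) hi]
        exact hA'mono i.le_succ
      · rw [hCB i (not_lt.1 hi), hCB (i + 1) (by omega)]
        exact Subgroup.map_mono (Subgroup.comap_mono (hbmono (by omega)))
    · by_cases hi : i ≤ a
      · rw [hCA i hi]
        exact stronglyClosed_invariantPart hinv (hacl i)
      · rw [hCB i (by omega)]
        exact stronglyClosed_preimage hmor.1 (hbcl _)
    · by_cases hia : i < a
      · rw [hCA i hia.le, hCA (i + 1) hia]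
        refine Subgroup.commutator_le.2 fun x hx y hy => ?_
        obtain ⟨hxT, hx⟩ := mem_invariantPart.1 hx
        obtain ⟨hyT, hy⟩ := mem_invariantPart.1 hy
        have hxy : ⁅x, y⁆ ∈ T :=
          T.mul_mem (T.mul_mem (T.mul_mem hxT hyT) (T.inv_mem hxT)) (T.inv_mem hyT)
        refine mem_invariantPart.2 ⟨hxy, fun α hα => hacomm i hia ?_⟩
        have e : ((α ⟨⁅x, y⁆, hxy⟩ : T) : Ω) =
            ⁅((α ⟨x, hxT⟩ : T) : Ω), ((α ⟨y, hyT⟩ : T) : Ω)⁆ := by
          rw [show (⟨⁅x, y⁆, hxy⟩ : T) = ⁅(⟨x, hxT⟩ : T), (⟨y, hyT⟩ : T)⁆ from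
            Subtype.ext (map_commutatorElement T.subtype ⟨x, hxT⟩ ⟨y, hyT⟩).symm,
            map_commutatorElement]
          exact map_commutatorElement T.subtype _ _
        rw [e]
        exact Subgroup.commutator_mem_commutator (hx α hα) (hy α hα)
      · rw [hCB i (not_lt.1 hia), hCB (i + 1) (by omega)]
        refine Subgroup.commutator_le.2 ?_
        rintro _ ⟨x, hx, rfl⟩ _ ⟨y, hy, rfl⟩
        refine ⟨⁅x, y⁆, ?_, map_commutatorElement S.subtype x y⟩
        rw [SetLike.mem_coe, Subgroup.mem_comap]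
        rw [map_commutatorElement]
        exact hbcomm (i - a) (by omega) (Subgroup.commutator_mem_commutator
          (by rwa [show i + 1 - a = i - a + 1 by omega] at hx)
          (by rwa [show i + 1 - a = i - a + 1 by omega] at hy))

end Cfsg.Agent.Lib.Fusion
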