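import Cfsg.Agent.Lib.Fusion.FactorSectionFree
import Cfsg.Agent.Lib.Fusion.Closed
import Cfsg.Agent.Lib.Fusion.Solvable

/-!
A characteristic functor normal in the models of section free systems controls fusion.
-/

set_option autoImplicit false
set_option linter.unusedSectionVars false

namespace Cfsg.Agent.Lib.Fusion

open Cfsg Cfsg.FusionSystem
open scoped commutatorElement

universe u w

/-- A functor on `p`-groups normal in every section free group of characteristic `p`. -/
structure IsGlaubermanFunctor (p : ℕ) (H : Type w) [Group H]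
    (W : ∀ (Q : Type u) [Group Q], Subgroup Q) : Prop where
  ne_bot : ∀ (Q : Type u) [Group Q] [Finite Q], IsPGroup p Q → Nontrivial Q → W Q ≠ ⊥
  natural : ∀ (Q R : Type u) [Group Q] [Group R] [Finite Q], IsPGroup p Q → ∀ φ : Q ≃* R,
    (W Q).map φ.toMonoidHom = W R
  normal : ∀ (L : Type u) [Group L] [Finite L] (P : Sylow p L),
    Subgroup.centralizer ((pCore p L : Subgroup L) : Set L) ≤ pCore p L → ¬ Involves H L →
      (((W ↥(P : Subgroup L)).map (P : Subgroup L).subtype : Subgroup L)).Normal

/-- The functor evaluated on a subgroup, inside the ambient group. -/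
def functorAt (W : ∀ (Q : Type u) [Group Q], Subgroup Q) {Ω : Type u} [Group Ω]
    (T : Subgroup Ω) : Subgroup Ω :=
  (W ↥T).map T.subtype

theorem char_trans {Ω : Type u} [Group Ω] {A B C : Subgroup Ω} (hAB : A ≤ B) (hBC : B ≤ C)
    (hA : (A.subgroupOf B).Characteristic) (hB : (B.subgroupOf C).Characteristic) :
    (A.subgroupOf C).Characteristic := by
  refine Subgroup.characteristic_iff_map_le.2 fun α => ?_
  have hmap := Subgroup.characteristic_iff_map_eq.1 hB α
  let β : MulAut B := (Subgroup.subgroupOfEquivOfLe hBC).symm.trans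
    ((α.subgroupMap (B.subgroupOf C)).trans
      ((MulEquiv.subgroupCongr hmap).trans (Subgroup.subgroupOfEquivOfLe hBC)))
  rintro _ ⟨x, hx, rfl⟩
  have h1 := Subgroup.characteristic_iff_map_eq.1 hA β
  have h2 : β ⟨x, hAB hx⟩ ∈ A.subgroupOf B :=
    h1.le ⟨⟨x, hAB hx⟩, hx, rfl⟩
  exact h2

variable {p : ℕ} [Fact p.Prime] {H : Type w} [Group H]
  {W : ∀ (Q : Type u) [Group Q], Subgroup Q} (hW : IsGlaubermanFunctor p H W)

theorem functorAt_le (W : ∀ (Q : Type u) [Group Q], Subgroup Q) {Ω : Type u} [Group Ω]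
    (T : Subgroup Ω) : functorAt W T ≤ T :=
  Subgroup.map_subtype_le _

include hW

theorem functorAt_char {Ω : Type u} [Group Ω] {T : Subgroup Ω} [Finite T] (hT : IsPGroup p T) :
    ((functorAt W T).subgroupOf T).Characteristic := by
  rw [functorAt, Subgroup.subgroupOf,
    Subgroup.comap_map_eq_self_of_injective T.subtype_injective]
  exact Subgroup.characteristic_iff_map_eq.2 fun φ => hW.natural T T hT φ

theorem functorAt_ne_bot {Ω : Type u} [Group Ω] {T : Subgroup Ω} [Finite T] (hT : IsPGroup p T)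
    (h : T ≠ ⊥) : functorAt W T ≠ ⊥ := fun hbot =>
  hW.ne_bot T hT ((Subgroup.nontrivial_iff_ne_bot T).2 h)
    ((Subgroup.map_eq_bot_iff_of_injective _ T.subtype_injective).1 hbot)

theorem normalizer_le_functorAt {Ω : Type u} [Group Ω] {T : Subgroup Ω} [Finite T]
    (hT : IsPGroup p T) :
    Subgroup.normalizer (T : Set Ω) ≤ Subgroup.normalizer (functorAt W T : Set Ω) := by
  intro g hg
  have := finite_of_le (functorAt_le W T)
  refine mem_normalizer_of_finite fun x hx => ?_
  obtain ⟨y, hy, rfl⟩ := hx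
  exact ⟨conjAut hg y, (hW.natural T T hT (conjAut hg)).le ⟨y, hy, rfl⟩, rfl⟩

/-- In a constrained section free system the functor is normal. -/
theorem functorAt_normal_of_constrained {Ω : Type u} [Group Ω] {S : Subgroup Ω} [Finite S]
    (hS : IsPGroup p S) {F : FusionSystem S} (hF : F.IsConstrained p)
    (hfree : F.IsSectionFree p H) : F.IsNormal (functorAt W S) := by
  obtain ⟨L, _, ι, hL⟩ := exists_model hS hF
  have : Finite L := hL.1
  have hK := isNormal_core F
  have hKS : normalizerIn S F.core = S := le_antisymm (normalizerIn_le S _) fun x hx =>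
    ⟨hx, WeaklyClosed.le_normalizer (StronglyClosed.weaklyClosed (IsNormal.stronglyClosed hK)) hx⟩
  have hKn : F.IsFullyNormalized F.core := ⟨hK.1, fun R _ => by
    rw [hKS]
    exact Subgroup.card_le_of_le (normalizerIn_le S R)⟩
  have hN := normalizerSystem_spec F F.core hK.1
  let N := normalizerSystem F F.core hK.1
  have hHom : ∀ (P : Subgroup Ω) (φ : P →* Ω), φ ∈ N.Hom P ↔ φ ∈ F.Hom P := by
    intro P φ
    refine ⟨fun h => h.1, fun h => ?_⟩
    obtain ⟨ψ, hψ, hψe, hψK⟩ := hK.2 P φ h
    exact ⟨h, hKS.symm ▸ source_le h, fun x => hKS.symm ▸ apply_mem h x, ψ, hψ, hψe, hψK⟩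
  have hnot : ¬ Involves H L := by
    refine hfree F.core hKn (Model.core_centric hF) N hN L
      (ι.comp (Subgroup.inclusion hKS.le)) ?_
    refine ⟨hL.1, ⟨hL.2.1.1.comp (Subgroup.inclusion_injective _), fun P hP φ hφ => ?_⟩, ?_,
      hL.2.2.2⟩
    · rw [hHom]
      exact hL.2.1.2 P (hP.trans hKS.le) φ fun x => hKS.le (hφ x)
    · obtain ⟨T, hT⟩ := hL.2.2.1
      refine ⟨T, hT.trans ?_⟩
      ext y
      constructor
      · rintro ⟨s, rfl⟩
        exact ⟨⟨s, hKS.symm ▸ s.2⟩, rfl⟩
      · rintro ⟨s, rfl⟩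
        exact ⟨_, rfl⟩
  obtain ⟨T, hT⟩ := hL.2.2.1
  have hn := hW.normal L T hL.2.2.2 hnot
  have hi := hL.2.1.1
  let e : S ≃* ↥(T : Subgroup L) := (MonoidHom.ofInjective hi).trans (MulEquiv.subgroupCongr hT.symm)
  have he : (W ↥(T : Subgroup L)).map (T : Subgroup L).subtype = (W ↥S).map ι := by
    rw [← hW.natural S _ hS e, Subgroup.map_map]
    rfl
  have hpre : preimageAlong ι ((W ↥S).map ι) = functorAt W S := by
    rw [preimageAlong, Subgroup.comap_map_eq_self_of_injective hi]
    rfl
  rw [← hpre]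
  have : ((W ↥S).map ι).Normal := he ▸ hn
  exact IsRealizedBy.isNormal_preimage hL.2.1 _ (Subgroup.map_le_range _ _)

/-- The induction hypothesis of the main theorem. -/
def SmallNormal (p : ℕ) (H : Type w) [Group H] (W : ∀ (Q : Type u) [Group Q], Subgroup Q)
    (n : ℕ) : Prop :=
  ∀ {Ω : Type u} [Group Ω] {S : Subgroup Ω} [Finite S], Nat.card S < n → IsPGroup p S →
    ∀ F : FusionSystem S, F.IsSaturated p → F.IsSectionFree p H → F.IsNormal (functorAt W S)

/-- A section free system with nontrivial core is constrained. -/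
theorem isConstrained_of_core_ne_bot {Ω : Type u} [Group Ω] {S : Subgroup Ω} [Finite S]
    (hS : IsPGroup p S) (ih : SmallNormal p H W (Nat.card S)) {F : FusionSystem S}
    (hF : F.IsSaturated p) (hfree : F.IsSectionFree p H) (hne : F.core ≠ ⊥) :
    F.IsConstrained p := by
  let K := F.core
  have hK := isNormal_core F
  have hKS : K ≤ S := hK.1
  have hKsc := IsNormal.stronglyClosed hK
  have hKwc := StronglyClosed.weaklyClosed hKsc
  have := finite_of_le hKS
  have hKfn : F.IsFullyNormalized K := ⟨hKS, fun R hR => by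
    obtain ⟨φ, hφ, rfl⟩ := hR
    rw [hKwc.2 φ hφ]⟩
  have hKfc := IsSaturated.fullyCentralized hS hF hKfn
  by_contra hcon
  let T := centralizerIn S K
  have hTS : T ≤ S := centralizerIn_le S K
  have : Finite T := finite_of_le hTS
  have hTp : IsPGroup p T := hS.to_le hTS
  have hnle : ¬ T ≤ K := fun h =>
    hcon ⟨hF, K, hK, isCentric_of_fullyCentralized hKfc h⟩
  let C := centralizerSystem F K hKS
  have hC := centralizerSystem_spec F K hKS
  have hCs : C.IsSaturated p := centralizerSystem_isSaturated hS hF hKfc hC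
  have hCfree : C.IsSectionFree p H := centralizer_sectionFree hS hF hfree hKfc hC
  let Z := K ⊓ T
  have hZT : Z ≤ T := inf_le_right
  have hZcent : ∀ z ∈ Z, ∀ t ∈ T, z * t = t * z := fun z hz t ht => ht.2 z hz.1
  have hZsc : C.StronglyClosed Z := by
    refine ⟨hZT, fun R hR φ hφ x => ?_⟩
    obtain ⟨-, -, -, ψ, hψ, hψe, hψK⟩ := hφ
    have h1 : φ x = (x : Ω) :=
      (hψe x).symm.trans (hψK ⟨x, (hR x.2).1⟩)
    rw [h1]
    exact hR x.2
  have := subgroupOf_normal hZsc
  let θ : T →* ↥T ⧸ Z.subgroupOf T := QuotientGroup.mk' _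
  have hker : ∀ s : T, θ s = 1 ↔ (s : Ω) ∈ Z := fun s =>
    (QuotientGroup.eq_one_iff s).trans Subgroup.mem_subgroupOf
  have hr : θ.range = (⊤ : Subgroup (↥T ⧸ Z.subgroupOf T)) :=
    MonoidHom.range_eq_top.2 (QuotientGroup.mk'_surjective _)
  let E := factorSystem C hZsc θ hker hr
  have hE : C.IsFactorSystem Z θ E := factorSystem_spec hZsc hker hr
  let Ω' := ↥T ⧸ Z.subgroupOf T
  have hEp : IsPGroup p (⊤ : Subgroup Ω') :=
    (hTp.of_surjective θ (QuotientGroup.mk'_surjective _)).to_subgroup _
  have hEs : E.IsSaturated p := factor_isSaturated hTp hCs hZsc hE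
  have hEfree : E.IsSectionFree p H := factor_sectionFree hTp hCs hCfree hZsc hE
  -- `Z` is not trivial
  have hZne : Z ≠ ⊥ := by
    intro hbot
    have hKp : IsPGroup p K := hS.to_le hKS
    have : Nontrivial K := (Subgroup.nontrivial_iff_ne_bot K).2 hne
    have := hKp.center_nontrivial
    obtain ⟨⟨z, hz⟩, hz1⟩ := exists_ne (1 : Subgroup.center K)
    refine hz1 (Subtype.ext (Subtype.ext ?_))
    refine Subgroup.mem_bot.1 (hbot.le ⟨z.2, hKS z.2, fun y hy => ?_⟩)
    exact congrArg Subtype.val (Subgroup.mem_center_iff.1 hz ⟨y, hy⟩)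
  have hcard : Nat.card (⊤ : Subgroup Ω') < Nat.card S := by
    rw [Subgroup.card_top]
    have : Nat.card Ω' < Nat.card T := by
      rw [show Nat.card Ω' = (Z.subgroupOf T).index from rfl]
      have h1 := (Z.subgroupOf T).card_mul_index
      have h2 : 1 < Nat.card (Z.subgroupOf T) := by
        rw [Nat.card_congr (Subgroup.subgroupOfEquivOfLe hZT).toEquiv]
        have := finite_of_le (hZT.trans hTS)
        exact (Subgroup.one_lt_card_iff_ne_bot Z).2 hZne
      rw [← h1]
      exact lt_mul_of_one_lt_left (Nat.pos_of_ne_zero Subgroup.index_ne_zero_of_finite) h2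
    exact this.trans_le (Subgroup.card_le_of_le hTS)
  let W' := functorAt W (⊤ : Subgroup Ω')
  have hW'n : E.IsNormal W' := ih hcard hEp E hEs hEfree
  have hW'ne : W' ≠ ⊥ := by
    refine functorAt_ne_bot hW hEp ?_
    intro htop
    apply hnle
    intro t ht
    exact ((hker ⟨t, ht⟩).1 (Subgroup.mem_bot.1 (htop.le (Subgroup.mem_top _)))).1
  have hCE := (isSurjectiveMorphism_factor hTp hCs hZsc hE).1
  -- preimages of characteristic strongly closed subgroups are strongly closed in `F`
  have hclosed : ∀ Y : Subgroup Ω', E.StronglyClosed Y →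
      (Y.subgroupOf ⊤).Characteristic → F.StronglyClosed (preimageAlong θ Y) := by
    intro Y hY hYc
    let A := preimageAlong θ Y
    have hAC : C.StronglyClosed A := stronglyClosed_preimage hCE hY
    have hAT : A ≤ T := preimage_le θ Y
    refine ⟨hAT.trans hTS, fun R hR φ hφ x => ?_⟩
    have hRT : R ≤ T := hR.trans hAT
    obtain ⟨ψ, hψ, hψe, hψK⟩ := hK.2 R φ hφ
    have hc := restr_mem F hψ (le_sup_right : K ≤ R ⊔ K)
    have hcr : (restr le_sup_right ψ).range = K := (range_restr _ ψ).trans hψK
    obtain ⟨χ, hχ, hχe, -⟩ := IsReceptive.extend (IsSaturated.receptive hS hF hKfc) hc hcr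
    have hTN : T ≤ extender S K (restr le_sup_right ψ) := centralizerIn_le_extender _
    have hKN : K ≤ extender S K (restr le_sup_right ψ) := le_extender hKS (apply_mem hc)
    have hχT : ∀ t : T, restr hTN χ t ∈ T := fun t =>
      apply_mem_centralizerIn hcr hχ hχe hKN _ t.2
    have hχr : (restr hTN χ).range = T := by
      refine Subgroup.eq_of_le_of_card_ge ?_
        (card_range_eq (F.injective_of_mem (restr_mem F hχ hTN))).ge
      rintro _ ⟨t, rfl⟩
      exact hχT t
    let α : MulAut T := isoOf _ (F.injective_of_mem (restr_mem F hχ hTN)) hχr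
    have hαA : ∀ t : T, (t : Ω) ∈ A → ((α t : T) : Ω) ∈ A := by
      intro t ht
      have hZα : (Z.subgroupOf T).map α.toMonoidHom = Z.subgroupOf T := by
        have hle : (Z.subgroupOf T).map α.toMonoidHom ≤ Z.subgroupOf T := by
          rintro _ ⟨z, hz, rfl⟩
          exact ⟨StronglyClosed.map_mem hKsc (restr_mem F hχ hTN) z hz.1, SetLike.coe_mem _⟩
        exact Subgroup.eq_of_le_of_card_ge hle
          (Nat.card_congr (α.subgroupMap (Z.subgroupOf T)).toEquiv).le
      let ᾱ : Ω' ≃* Ω' := QuotientGroup.congr _ _ α hZα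
      have h1 := (Subgroup.characteristic_iff_map_eq.1 hYc
        ((Subgroup.topEquiv.trans ᾱ).trans Subgroup.topEquiv.symm)).le
      have h2 : θ t ∈ Y := (mem_preimage_iff t).1 ht
      refine (mem_preimage_iff (α t)).2 ?_
      exact h1 ⟨⟨θ t, Subgroup.mem_top _⟩, h2, rfl⟩
    have hψv : ∀ y, ψ y ∈ T ⊔ K := by
      intro y
      have h1 : img ψ (R ⊔ K) ≤ T ⊔ K := by
        rw [img_sup ψ le_sup_left le_sup_right, show img ψ K = K from hψK]
        refine sup_le ?_ le_sup_right
        rintro _ ⟨z, hz, rfl⟩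
        refine Subgroup.mem_sup_left (mem_centralizerIn_iff_conj.2 ⟨apply_mem hψ _, fun k hk => ?_⟩)
        obtain ⟨k', hk'P, hk', rfl⟩ := mem_img.1 (hψK.ge hk)
        rw [mul_inv_eq_iff_eq_mul, ← map_mul, ← map_mul]
        exact congrArg ψ (Subtype.ext ((hRT hz).2 k' hk').symm)
      exact h1 (apply_mem_img ψ y y.2)
    have hTK : T ⊔ K ≤ extender S K (restr le_sup_right ψ) := sup_le hTN hKN
    let χ₁ := restr hTK χ
    have hχ₁ : χ₁ ∈ F.Hom (T ⊔ K) := restr_mem F hχ hTK
    have hχ₁r : χ₁.range = T ⊔ K := by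
      rw [← img_self χ₁, img_sup χ₁ le_sup_left le_sup_right,
        WeaklyClosed.img_eq hKwc hχ₁ le_sup_right, img_restr hTK χ le_sup_left,
        ← range_restr hTN χ, hχr]
    obtain ⟨c, hcm, -, hl, -⟩ := exists_inv F hχ₁ hχ₁r
    let η := compose ψ c hψv
    have hη : η ∈ F.Hom (R ⊔ K) := compose_mem F hψ hcm hψv
    have hφT : ∀ y : R, φ y ∈ T := by
      intro y
      rw [← hψe y]
      refine mem_centralizerIn_iff_conj.2 ⟨apply_mem hψ _, fun k hk => ?_⟩
      obtain ⟨k', hk'P, hk', rfl⟩ := mem_img.1 (hψK.ge hk)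
      rw [mul_inv_eq_iff_eq_mul, ← map_mul, ← map_mul]
      exact congrArg ψ (Subtype.ext ((hRT y.2).2 k' hk').symm)
    have hηR : ∀ y : R,
        η (Subgroup.inclusion le_sup_left y) = ((α.symm ⟨φ y, hφT y⟩ : T) : Ω) := by
      intro y
      set t := α.symm ⟨φ y, hφT y⟩
      have h1 : χ₁ ⟨t, Subgroup.mem_sup_left t.2⟩ = φ y :=
        congrArg Subtype.val (α.apply_symm_apply ⟨φ y, hφT y⟩ : α t = ⟨φ y, hφT y⟩)
      show c ⟨ψ (Subgroup.inclusion le_sup_left y), _⟩ = _
      rw [show (⟨ψ (Subgroup.inclusion le_sup_left y), hψv _⟩ : ↥(T ⊔ K)) =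
        ⟨χ₁ ⟨t, Subgroup.mem_sup_left t.2⟩, hχ₁r.le ⟨_, rfl⟩⟩ from
        Subtype.ext ((hψe y).trans h1.symm)]
      exact hl _ _
    have hηC : restr le_sup_left η ∈ C.Hom R := by
      refine ⟨restr_mem F hη _, hRT, fun y => ?_, η, hη, fun y => rfl, fun k => ?_⟩
      · show η (Subgroup.inclusion le_sup_left y) ∈ T
        rw [hηR]
        exact SetLike.coe_mem _
      · show c ⟨ψ (Subgroup.inclusion le_sup_right k), _⟩ = k
        rw [show (⟨ψ (Subgroup.inclusion le_sup_right k), hψv _⟩ : ↥(T ⊔ K)) =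
          ⟨χ₁ ⟨k, Subgroup.mem_sup_right k.2⟩, hχ₁r.le ⟨_, rfl⟩⟩ from
          Subtype.ext (hχe k k.2 (hKN k.2)).symm]
        exact hl _ _
    have h3 := hAC.2 R hR _ hηC x
    rw [restr_apply, show η ⟨x, _⟩ = η (Subgroup.inclusion le_sup_left x) from rfl, hηR] at h3
    have h4 := hαA _ h3
    rw [MulEquiv.apply_symm_apply] at h4
    exact h4
  -- a central series of the preimage
  let V := preimageAlong θ W'
  obtain ⟨n, C', hC0, hCn, hCm, hCc, hCk⟩ := exists_lcs_series hEp hW'n.1
  have hY : ∀ j, E.StronglyClosed (C' j) ∧ ((C' j).subgroupOf ⊤).Characteristic := by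
    intro j
    obtain ⟨k, hk⟩ := hCk j
    rw [hk]
    exact ⟨IsNormal.stronglyClosed (IsNormal.lcs hW'n k),
      char_trans (Subgroup.lowerCentralSeries_le_self W' k) hW'n.1 (lcs_characteristic W' k)
        (functorAt_char hW hEp)⟩
  have hVsc : F.StronglyClosed V := by
    have := hclosed _ (hY (Fin.last n)).1 (hY _).2
    rwa [hCn] at this
  let D : Fin (n + 2) → Subgroup Ω := Fin.cons ⊥ fun j => preimageAlong θ (C' j)
  have hD0 : D 0 = ⊥ := rfl
  have hDn : D (Fin.last (n + 1)) = V := by
    show preimageAlong θ (C' (Fin.last n)) = V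
    rw [hCn]
  have hDm : Monotone D := by
    refine Fin.monotone_iff_le_succ.2 fun i => ?_
    refine Fin.cases ?_ (fun j => ?_) i
    · exact bot_le
    · show preimageAlong θ (C' j.castSucc) ≤ preimageAlong θ (C' j.succ)
      intro x hx
      obtain ⟨y, hy, rfl⟩ := hx
      exact ⟨y, hCm (Fin.castSucc_le_succ j) hy, rfl⟩
  have hDc : ∀ i : Fin (n + 1), ⁅D i.succ, V⁆ ≤ D i.castSucc := by
    intro i
    refine Fin.cases ?_ (fun j => ?_) i
    · refine Subgroup.commutator_le.2 fun a ha b hb => ?_
      obtain ⟨a', ha', rfl⟩ := ha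
      have haZ : (a' : Ω) ∈ Z := (hker a').1 (Subgroup.mem_bot.1 (hC0.le ha'))
      have hbT : b ∈ T := preimage_le θ W' hb
      show ⁅(a' : Ω), b⁆ ∈ (⊥ : Subgroup Ω)
      rw [Subgroup.mem_bot, commutatorElement_eq_one_iff_mul_comm]
      exact hZcent _ haZ b hbT
    · refine Subgroup.commutator_le.2 fun a ha b hb => ?_
      obtain ⟨a', ha', rfl⟩ := ha
      obtain ⟨b', hb', rfl⟩ := hb
      refine ⟨⁅a', b'⁆, ?_, rfl⟩
      show θ ⁅a', b'⁆ ∈ C' j.castSucc
      rw [map_commutatorElement]
      exact hCc j (Subgroup.commutator_mem_commutator ha' hb')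
  have hDw : ∀ i : Fin (n + 1), F.WeaklyClosed (D i.castSucc) := by
    intro i
    refine Fin.cases ?_ (fun j => ?_) i
    · exact StronglyClosed.weaklyClosed (stronglyClosed_bot F)
    · exact StronglyClosed.weaklyClosed (hclosed _ (hY _).1 (hY _).2)
  have hVn : F.IsNormal V := normal_of_series hS hF hVsc D hD0 hDn hDm hDc hDw
  apply hW'ne
  rw [eq_bot_iff]
  intro y hy
  obtain ⟨t, rfl⟩ := QuotientGroup.mk'_surjective _ y
  have htV : (t : Ω) ∈ V := (mem_preimage_iff (θ := θ) t).2 hy
  exact Subgroup.mem_bot.2 ((hker t).2 ⟨le_core hVn htV, t.2⟩)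

/-- Under the induction hypothesis, normalizers are contained in the normalizer of the functor. -/
theorem mem_normalizerSystem_of_small {Ω : Type u} [Group Ω] {S : Subgroup Ω} [Finite S]
    (hS : IsPGroup p S) (hne : S ≠ ⊥) (ih : SmallNormal p H W (Nat.card S)) {F : FusionSystem S}
    (hF : F.IsSaturated p) (hfree : F.IsSectionFree p H) {E : FusionSystem S}
    (hE : ∀ (X : Subgroup Ω) (φ : X →* Ω), φ ∈ E.Hom X ↔
      φ ∈ F.Hom X ∧ ∃ ψ ∈ F.Hom (X ⊔ functorAt W S),
        (∀ x : X, ψ (Subgroup.inclusion le_sup_left x) = φ x) ∧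
          img ψ (functorAt W S) = functorAt W S)
    {k : ℕ} (hbig : ∀ R : Subgroup Ω, k < Nat.card R → ∀ φ ∈ F.Hom R, φ ∈ E.Hom R)
    {U : Subgroup Ω} (hU : F.IsFullyNormalized U) (hUne : U ≠ ⊥)
    (hk : k < Nat.card (normalizerIn S U)) {X : Subgroup Ω} {φ : X →* Ω}
    (hφ : φ ∈ F.normalizerHom U X) : φ ∈ E.Hom X := by
  suffices key : ∀ m, ∀ U : Subgroup Ω, F.IsFullyNormalized U → U ≠ ⊥ →
      k < Nat.card (normalizerIn S U) → Nat.card S ≤ Nat.card (normalizerIn S U) + m →
      ∀ (X : Subgroup Ω) (φ : X →* Ω), φ ∈ F.normalizerHom U X → φ ∈ E.Hom X by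
    exact key (Nat.card S) U hU hUne hk (Nat.le_add_left _ _) X φ hφ
  intro m
  induction m using Nat.strong_induction_on with
  | _ m IH =>
    intro U hU hUne hk hm X φ hφ
    let N := normalizerSystem F U hU.1
    have hN := normalizerSystem_spec F U hU.1
    have hNs : N.IsSaturated p := normalizerSystem_isSaturated hS hF hU hN
    have hNfree : N.IsSectionFree p H := normalizer_sectionFree hS hF hfree hU hN
    let T := normalizerIn S U
    have hTS : T ≤ S := normalizerIn_le S U
    have : Finite T := finite_of_le hTS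
    have hTp : IsPGroup p T := hS.to_le hTS
    have hTne : T ≠ ⊥ := fun h => hUne (eq_bot_iff.2 (h ▸ le_normalizerIn hU.1))
    have hWn : N.IsNormal (functorAt W T) := by
      rcases hTS.eq_or_lt with e | hlt
      · refine functorAt_normal_of_constrained hW hTp ?_ hNfree
        refine isConstrained_of_core_ne_bot hW hTp ?_ hNs hNfree fun h => hUne ?_
        · rw [show Nat.card T = Nat.card S by rw [e]]
          exact ih
        · exact eq_bot_iff.2 (h ▸ le_core (IsNormalizerSystem.isNormal hN hU.1))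
      · refine ih ?_ hTp N hNs hNfree
        by_contra hge
        exact hlt.ne (Subgroup.eq_of_le_of_card_ge hTS (not_lt.1 hge))
    obtain ⟨ψ, hψ, hψe, hψW⟩ := hWn.2 X φ hφ
    have hψF : ψ ∈ F.Hom (X ⊔ functorAt W T) := hψ.1
    have hφF : φ ∈ F.Hom X := hφ.1
    rcases hTS.eq_or_lt with e | hlt
    · rw [hE]
      have e' : functorAt W T = functorAt W S := by rw [e]
      refine ⟨hφF, restr (sup_le_sup_left e'.ge X) ψ, restr_mem F hψF _, fun x => hψe x, ?_⟩
      rw [img_restr _ ψ le_sup_right, ← e']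
      exact hψW
    -- climb
    let V := functorAt W T
    have hVT : V ≤ T := functorAt_le W T
    have hVS : V ≤ S := hVT.trans hTS
    have hVne : V ≠ ⊥ := functorAt_ne_bot hW hTp hTne
    have hgrow : Nat.card T < Nat.card (normalizerIn S V) := by
      have h1 : normalizerIn S T ≤ normalizerIn S V :=
        fun g hg => ⟨hg.1, normalizer_le_functorAt hW hTp hg.2⟩
      have := finite_of_le (normalizerIn_le S V)
      have := finite_of_le (normalizerIn_le S T)
      refine lt_of_lt_of_le ?_ (Subgroup.card_le_of_le h1)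
      by_contra hge
      exact (lt_normalizerIn hS hlt).ne
        (Subgroup.eq_of_le_of_card_ge (le_normalizerIn hTS) (not_lt.1 hge))
    obtain ⟨V', hVV', hV'⟩ := exists_fullyNormalized F hVS
    obtain ⟨β, hβ, hβv, hβV⟩ := IsSaturated.exists_normalizer_map hS hF hV' hVV'
    have hβE : β ∈ E.Hom (normalizerIn S V) := hbig _ (hk.trans hgrow) β hβ
    have hV'ne : V' ≠ ⊥ := by
      intro h
      have h1 := isConj_card hVV'
      rw [h, Subgroup.card_bot] at h1
      have := finite_of_le hVS
      exact hVne (Subgroup.eq_bot_of_card_le V h1.le)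
    have hge : Nat.card (normalizerIn S V) ≤ Nat.card (normalizerIn S V') := by
      have := finite_of_le (normalizerIn_le S V')
      exact Nat.card_le_card_of_injective (fun x => (⟨β x, hβv x⟩ : normalizerIn S V'))
        fun a b h => F.injective_of_mem hβ (congrArg Subtype.val h)
    -- transport
    let Y := X ⊔ V
    have hYT : Y ≤ T := source_le hψ
    have hTV : T ≤ normalizerIn S V :=
      fun g hg => ⟨hTS hg, normalizer_le_functorAt hW hTp (Subgroup.le_normalizer hg)⟩
    let b := restr (hYT.trans hTV) β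
    have hb : b ∈ E.Hom Y := restr_mem E hβE _
    have hbF : b ∈ F.Hom Y := restr_mem F hβ _
    obtain ⟨c, hc, hcr, hl, -⟩ := exists_inv E hb rfl
    obtain ⟨cF, hcF, hcFr, hlF, -⟩ := exists_inv F hbF rfl
    have hcY : ∀ y, cF y ∈ Y := fun y => hcFr.le ⟨y, rfl⟩
    have hψV : ∀ y, ψ y ∈ normalizerIn S V := fun y => hTV (apply_mem hψ y)
    let ψ' := compose (compose cF ψ hcY) β fun y => hψV _
    have hψ' : ψ' ∈ F.Hom b.range :=
      compose_mem F (compose_mem F hcF hψF hcY) hβ fun y => hψV _
    have hψ'b : ∀ y : Y, ψ' ⟨b y, y, rfl⟩ = β ⟨ψ y, hψV y⟩ := fun y =>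
      congrArg β (Subtype.ext (congrArg ψ (Subtype.ext (hlF y _))))
    have hV'b : V' ≤ b.range := by
      rw [← hβV]
      rintro _ ⟨z, hz, rfl⟩
      exact ⟨⟨z, Subgroup.mem_sup_right hz⟩, rfl⟩
    have hψ'N : ψ' ∈ F.normalizerHom V' b.range := by
      have hle : b.range ⊔ V' ≤ b.range := sup_le le_rfl hV'b
      refine ⟨hψ', ?_, fun y => hβv _, restr hle ψ', restr_mem F hψ' hle, fun y => rfl, ?_⟩
      · rintro _ ⟨y, rfl⟩
        exact hβv _
      · show img (restr hle ψ') V' = V'
        rw [img_restr hle ψ' le_sup_right]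
        have := finite_of_le hV'.1
        refine Subgroup.eq_of_le_of_card_ge ?_ (card_img (F.injective_of_mem hψ') hV'b).ge
        intro y hy
        obtain ⟨z, hz, hzV, rfl⟩ := mem_img.1 hy
        obtain ⟨w, hw, hwV, hwz⟩ := mem_img.1 (hβV.ge hzV)
        subst hwz
        rw [show ψ' ⟨β ⟨w, hw⟩, hz⟩ = _ from hψ'b ⟨w, Subgroup.mem_sup_right hwV⟩]
        exact hβV.le (apply_mem_img β _ (hψW.le (apply_mem_img ψ _ hwV)))
    have h2 : Nat.card (normalizerIn S V') ≤ Nat.card S :=
      Subgroup.card_le_of_le (normalizerIn_le S V')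
    have hTc : Nat.card T = Nat.card (normalizerIn S U) := rfl
    have hψ'E : ψ' ∈ E.Hom b.range := by
      refine IH (m - 1) (by omega) V' hV' hV'ne (by omega) (by omega) _ ψ' hψ'N
    -- pull back
    obtain ⟨d, hd, hdr, hdl, -⟩ := exists_inv E hβE rfl
    have h3 : compose b ψ' (fun y => ⟨y, rfl⟩) ∈ E.Hom Y := compose_mem E hb hψ'E _
    have h4 : ∀ y : Y, compose b ψ' (fun y => ⟨y, rfl⟩) y ∈ β.range := fun y =>
      ⟨_, (hψ'b y).symm⟩
    have h5 : ψ ∈ E.Hom Y := by
      refine mem_of_comp E h3 hd h4 fun y => ?_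
      rw [show (⟨compose b ψ' (fun y => ⟨y, rfl⟩) y, h4 y⟩ : β.range) =
        ⟨β ⟨ψ y, hψV y⟩, _, rfl⟩ from Subtype.ext (hψ'b y)]
      exact (hdl ⟨ψ y, hψV y⟩ _).symm
    rw [show φ = restr le_sup_left ψ from MonoidHom.ext fun x => (hψe x).symm]
    exact restr_mem E h5 _

/-- The functor is normal in every saturated section free system. -/
theorem functorAt_normal {Ω : Type u} [Group Ω] {S : Subgroup Ω} [Finite S] (hS : IsPGroup p S)
    {F : FusionSystem S} (hF : F.IsSaturated p) (hfree : F.IsSectionFree p H) :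
    F.IsNormal (functorAt W S) := by
  suffices key : ∀ n, SmallNormal p H W n by
    exact key (Nat.card S + 1) (Nat.lt_succ_self _) hS F hF hfree
  intro n
  induction n with
  | zero =>
    intro Ω _ S _ h
    exact absurd h (Nat.not_lt_zero _)
  | succ n ihn =>
    intro Ω _ S _ hn hS F hF hfree
    have ih : SmallNormal p H W (Nat.card S) := fun {Ω'} _ {S'} _ hlt =>
      ihn (lt_of_lt_of_le hlt (Nat.lt_succ_iff.1 hn))
    by_cases hne : S = ⊥
    · have : functorAt W S = ⊥ := eq_bot_iff.2 (hne ▸ functorAt_le W S)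
      rw [this]
      exact isNormal_bot F
    let W₀ := functorAt W S
    have hW₀S : W₀ ≤ S := functorAt_le W S
    have hTeq : normalizerIn S W₀ = S := le_antisymm (normalizerIn_le S _) fun g hg =>
      ⟨hg, normalizer_le_functorAt hW hS (Subgroup.le_normalizer hg)⟩
    let E := recast (normalizerSystem F W₀ hW₀S) hTeq
    have hE : ∀ (X : Subgroup Ω) (φ : X →* Ω), φ ∈ E.Hom X ↔
        φ ∈ F.Hom X ∧ ∃ ψ ∈ F.Hom (X ⊔ W₀),
          (∀ x : X, ψ (Subgroup.inclusion le_sup_left x) = φ x) ∧ img ψ W₀ = W₀ := fun X φ =>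
      ⟨fun h => ⟨h.1, h.2.2.2⟩,
        fun h => ⟨h.1, hTeq.symm ▸ source_le h.1, fun x => hTeq.symm ▸ apply_mem h.1 x, h.2⟩⟩
    have hsuff : F ≤ E := by
      refine alperin_ind hS hF E ?_ fun P hP hbig => ?_
      · intro α hα
        refine mem_autGroup_of_hom E ((hE _ _).2 ⟨autHom_mem F le_rfl hα, ?_⟩)
        have hle : S ⊔ W₀ ≤ S := sup_le le_rfl hW₀S
        refine ⟨restr hle (autHom α), restr_mem F (autHom_mem F le_rfl hα) hle, fun x => rfl, ?_⟩
        rw [img_restr hle _ le_sup_right]
        refine le_antisymm ?_ ?_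
        · intro y hy
          obtain ⟨x, hxS, hx, rfl⟩ := mem_img.1 hy
          exact (Subgroup.characteristic_iff_map_eq.1 (functorAt_char hW hS) α).le
            ⟨⟨x, hxS⟩, hx, rfl⟩
        · intro y hy
          obtain ⟨x, hx, hxy⟩ := (Subgroup.characteristic_iff_map_eq.1 (functorAt_char hW hS) α).ge
            (show (⟨y, hW₀S hy⟩ : S) ∈ W₀.subgroupOf S from hy)
          exact mem_img.2 ⟨x, x.2, hx, congrArg Subtype.val hxy⟩
      · obtain ⟨hPc, hPn, -⟩ := id hP
        have hPS := hPc.1
        let R := normalizerIn S P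
        have hRS : R ≤ S := normalizerIn_le S P
        have : Finite R := finite_of_le hRS
        have hRp : IsPGroup p R := hS.to_le hRS
        have hN := normalizerSystem_spec F P hPS
        have hWR : (normalizerSystem F P hPS).IsNormal (functorAt W R) :=
          functorAt_normal_of_constrained hW hRp
            (IsNormalizerSystem.isConstrained hS hF hPn hPc hN)
            (normalizer_sectionFree hS hF hfree hPn hN)
        intro α hα
        have hαN : α ∈ (normalizerSystem F P hPS).autGroup P := by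
          rw [IsNormalizerSystem.autGroup_eq hN hPS]
          exact hα
        have hPR : P ≤ R := le_normalizerIn hPS
        obtain ⟨ψ, hψ, hψe, hψW⟩ :=
          hWR.2 P _ (autHom_mem (normalizerSystem F P hPS) hPR hαN)
        have hψF : ψ ∈ F.Hom (P ⊔ functorAt W R) := hψ.1
        have hPlt : Nat.card P < Nat.card R := by
          by_contra hge
          exact (lt_normalizerIn hS (IsEssential.lt hF hS hP)).ne
            (Subgroup.eq_of_le_of_card_ge hPR (not_lt.1 hge))
        have hψE : ψ ∈ E.Hom (P ⊔ functorAt W R) := by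
          rcases hRS.eq_or_lt with e | hlt
          · rw [hE]
            have e' : functorAt W R = W₀ := by rw [e]
            have hle : P ⊔ functorAt W R ⊔ W₀ ≤ P ⊔ functorAt W R :=
              sup_le le_rfl (e'.ge.trans le_sup_right)
            refine ⟨hψF, restr hle ψ, restr_mem F hψF hle, fun x => rfl, ?_⟩
            rw [img_restr hle ψ le_sup_right, ← e']
            exact hψW
          · let V := functorAt W R
            have hVR : V ≤ R := functorAt_le W R
            have hVne : V ≠ ⊥ := functorAt_ne_bot hW hRp fun h => by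
              rw [h, Subgroup.card_bot] at hPlt
              exact absurd hPlt (not_lt.2 (Nat.one_le_iff_ne_zero.2 (by
                have := finite_of_le hPS
                exact Nat.card_pos.ne')))
            have hgrow : Nat.card R < Nat.card (normalizerIn S V) := by
              have h1 : normalizerIn S R ≤ normalizerIn S V :=
                fun g hg => ⟨hg.1, normalizer_le_functorAt hW hRp hg.2⟩
              have := finite_of_le (normalizerIn_le S V)
              have := finite_of_le (normalizerIn_le S R)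
              refine lt_of_lt_of_le ?_ (Subgroup.card_le_of_le h1)
              by_contra hge
              exact (lt_normalizerIn hS hlt).ne
                (Subgroup.eq_of_le_of_card_ge (le_normalizerIn hRS) (not_lt.1 hge))
            have hVS : V ≤ S := hVR.trans hRS
            obtain ⟨V', hVV', hV'⟩ := exists_fullyNormalized F hVS
            obtain ⟨β, hβ, hβv, hβV⟩ := IsSaturated.exists_normalizer_map hS hF hV' hVV'
            have hβE : β ∈ E.Hom (normalizerIn S V) := hbig _ (hPlt.trans hgrow) β hβ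
            have hV'ne : V' ≠ ⊥ := by
              intro h
              have h1 := isConj_card hVV'
              rw [h, Subgroup.card_bot] at h1
              have := finite_of_le hVS
              exact hVne (Subgroup.eq_bot_of_card_le V h1.le)
            have hge : Nat.card (normalizerIn S V) ≤ Nat.card (normalizerIn S V') := by
              have := finite_of_le (normalizerIn_le S V')
              exact Nat.card_le_card_of_injective (fun x => (⟨β x, hβv x⟩ : normalizerIn S V'))
                fun a b h => F.injective_of_mem hβ (congrArg Subtype.val h)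
            let Y := P ⊔ V
            have hYR : Y ≤ R := source_le hψ
            have hRV : R ≤ normalizerIn S V :=
              fun g hg => ⟨hRS hg, normalizer_le_functorAt hW hRp (Subgroup.le_normalizer hg)⟩
            let b := restr (hYR.trans hRV) β
            have hb : b ∈ E.Hom Y := restr_mem E hβE _
            have hbF : b ∈ F.Hom Y := restr_mem F hβ _
            obtain ⟨cF, hcF, hcFr, hlF, -⟩ := exists_inv F hbF rfl
            have hcY : ∀ y, cF y ∈ Y := fun y => hcFr.le ⟨y, rfl⟩
            have hψV : ∀ y, ψ y ∈ normalizerIn S V := fun y => hRV (apply_mem hψ y)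
            let ψ' := compose (compose cF ψ hcY) β fun y => hψV _
            have hψ' : ψ' ∈ F.Hom b.range :=
              compose_mem F (compose_mem F hcF hψF hcY) hβ fun y => hψV _
            have hψ'b : ∀ y : Y, ψ' ⟨b y, y, rfl⟩ = β ⟨ψ y, hψV y⟩ := fun y =>
              congrArg β (Subtype.ext (congrArg ψ (Subtype.ext (hlF y _))))
            have hV'b : V' ≤ b.range := by
              rw [← hβV]
              rintro _ ⟨z, hz, rfl⟩
              exact ⟨⟨z, Subgroup.mem_sup_right hz⟩, rfl⟩
            have hψ'N : ψ' ∈ F.normalizerHom V' b.range := by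
              have hle : b.range ⊔ V' ≤ b.range := sup_le le_rfl hV'b
              refine ⟨hψ', ?_, fun y => hβv _, restr hle ψ', restr_mem F hψ' hle, fun y => rfl,
                ?_⟩
              · rintro _ ⟨y, rfl⟩
                exact hβv _
              · show img (restr hle ψ') V' = V'
                rw [img_restr hle ψ' le_sup_right]
                have := finite_of_le hV'.1
                refine Subgroup.eq_of_le_of_card_ge ?_
                  (card_img (F.injective_of_mem hψ') hV'b).ge
                intro y hy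
                obtain ⟨z, hz, hzV, rfl⟩ := mem_img.1 hy
                obtain ⟨w, hw, hwV, hwz⟩ := mem_img.1 (hβV.ge hzV)
                subst hwz
                rw [show ψ' ⟨β ⟨w, hw⟩, hz⟩ = _ from hψ'b ⟨w, Subgroup.mem_sup_right hwV⟩]
                exact hβV.le (apply_mem_img β _ (hψW.le (apply_mem_img ψ _ hwV)))
            have hψ'E : ψ' ∈ E.Hom b.range :=
              mem_normalizerSystem_of_small hW hS hne ih hF hfree hE (k := Nat.card P)
                hbig hV' hV'ne (by omega) hψ'N
            obtain ⟨d, hd, hdr, hdl, -⟩ := exists_inv E hβE rfl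
            have h3 : compose b ψ' (fun y => ⟨y, rfl⟩) ∈ E.Hom Y := compose_mem E hb hψ'E _
            have h4 : ∀ y : Y, compose b ψ' (fun y => ⟨y, rfl⟩) y ∈ β.range := fun y =>
              ⟨_, (hψ'b y).symm⟩
            refine mem_of_comp E h3 hd h4 fun y => ?_
            rw [show (⟨compose b ψ' (fun y => ⟨y, rfl⟩) y, h4 y⟩ : β.range) =
              ⟨β ⟨ψ y, hψV y⟩, _, rfl⟩ from Subtype.ext (hψ'b y)]
            exact (hdl ⟨ψ y, hψV y⟩ _).symm
        apply mem_autGroup_of_hom E
        rw [show autHom α = restr le_sup_left ψ from MonoidHom.ext fun x => (hψe x).symm]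
        exact restr_mem E hψE _
    refine ⟨hW₀S, fun P φ hφ => ?_⟩
    obtain ⟨-, ψ, hψ, hψe, hψW⟩ := (hE P φ).1 (hsuff P hφ)
    exact ⟨ψ, hψ, hψe, hψW⟩

end Cfsg.Agent.Lib.Fusion
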