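import Cfsg.Prelude.Def_LocalEven

/-!
Sections of a group as images of homomorphisms defined on subgroups.
-/

set_option autoImplicit false

namespace Cfsg.Agent.Lib.Fusion

open Cfsg

theorem involves_of_surjective {G H : Type*} [Group G] [Group H] (K : Subgroup G) (f : K →* H)
    (hf : Function.Surjective f) : Cfsg.Involves H G := by
  have e : (f.ker.map K.subtype).subgroupOf K = f.ker :=
    Subgroup.comap_map_eq_self_of_injective K.subtype_injective f.ker
  have hn : ((f.ker.map K.subtype).subgroupOf K).Normal := by rw [e]; infer_instance
  exact ⟨K, f.ker.map K.subtype, hn,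
    ⟨(QuotientGroup.quotientMulEquivOfEq e).trans
      (QuotientGroup.quotientKerEquivOfSurjective f hf)⟩⟩

theorem exists_surjective_of_involves {G H : Type*} [Group G] [Group H]
    (h : Cfsg.Involves H G) : ∃ (K : Subgroup G) (f : K →* H), Function.Surjective f := by
  obtain ⟨K, R, hn, ⟨e⟩⟩ := h
  exact ⟨K, e.toMonoidHom.comp (QuotientGroup.mk' (R.subgroupOf K)),
    e.surjective.comp (QuotientGroup.mk'_surjective _)⟩

/-- A group with an embedding into `S` has its images involved in `S`. -/
theorem involves_of_injective {P S Q : Type*} [Group P] [Group S] [Group Q] (e : P →* S)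
    (he : Function.Injective e) (f : P →* Q) (hf : Function.Surjective f) :
    Cfsg.Involves Q S :=
  involves_of_surjective e.range (f.comp (MonoidHom.ofInjective he).symm.toMonoidHom)
    (hf.comp (MonoidHom.ofInjective he).symm.surjective)

end Cfsg.Agent.Lib.Fusion
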