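import Cfsg.Agent.Lib.Fusion.Quotient
import Cfsg.Agent.Lib.Fusion.Normal

/-!
Saturation of normalizer and centralizer systems, uniformly: the system of the maps extending to
`Q` by an element of a group `L` of automorphisms of `Q`.
-/

set_option autoImplicit false
set_option linter.unusedSectionVars false

namespace Cfsg.Agent.Lib.Fusion

open Cfsg Cfsg.FusionSystem

variable {Ω : Type*} [Group Ω] {S : Subgroup Ω}

/-- On `Q`, the map `χ` is an element of `L`. -/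
def ActsIn {Q : Subgroup Ω} (L : Subgroup (MulAut Q)) {X : Subgroup Ω} (χ : X →* Ω) : Prop :=
  ∃ l ∈ L, ∀ (x : Ω) (hQ : x ∈ Q) (hX : x ∈ X), χ ⟨x, hX⟩ = ((l ⟨x, hQ⟩ : Q) : Ω)

theorem ActsIn.img_eq {Q : Subgroup Ω} {L : Subgroup (MulAut Q)} {X : Subgroup Ω} {χ : X →* Ω}
    (h : ActsIn L χ) (hQ : Q ≤ X) : img χ Q = Q := by
  obtain ⟨l, -, hl⟩ := h
  ext y
  rw [mem_img]
  constructor
  · rintro ⟨x, hxX, hxQ, rfl⟩
    rw [hl x hxQ hxX]
    exact SetLike.coe_mem _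
  · intro hy
    refine ⟨(l.symm ⟨y, hy⟩ : Q), hQ (l.symm ⟨y, hy⟩).2, (l.symm ⟨y, hy⟩).2, ?_⟩
    rw [hl _ (l.symm ⟨y, hy⟩).2 _]
    simp

/-- The automorphisms of `X` in `F` preserving `P` and acting on `Q` in `L`. -/
def kAut (F : FusionSystem S) {Q : Subgroup Ω} (L : Subgroup (MulAut Q)) (X P : Subgroup Ω)
    (hQX : Q ≤ X) :
    Subgroup (MulAut X) where
  carrier := {α | α ∈ F.autGroup X ∧ (∀ x : X, ((α x : X) : Ω) ∈ P ↔ (x : Ω) ∈ P) ∧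
    ∃ l ∈ L, ∀ (x : Ω) (hQ : x ∈ Q) (hX : x ∈ X), ((α ⟨x, hX⟩ : X) : Ω) = ((l ⟨x, hQ⟩ : Q) : Ω)}
  one_mem' := ⟨Subgroup.one_mem _, fun _ => Iff.rfl, 1, L.one_mem, fun _ _ _ => rfl⟩
  mul_mem' := by
    rintro a b ⟨ha, ha', l, hl, hla⟩ ⟨hb, hb', m, hm, hmb⟩
    refine ⟨Subgroup.mul_mem _ ha hb, fun x => (ha' (b x)).trans (hb' x), l * m, L.mul_mem hl hm,
      fun x hQ hX => ?_⟩
    have h1 : ((b ⟨x, hX⟩ : X) : Ω) ∈ Q := by rw [hmb x hQ hX]; exact SetLike.coe_mem _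
    show ((a (b ⟨x, hX⟩) : X) : Ω) = ((l (m ⟨x, hQ⟩) : Q) : Ω)
    rw [show b ⟨x, hX⟩ = ⟨((b ⟨x, hX⟩ : X) : Ω), (b ⟨x, hX⟩).2⟩ from rfl, hla _ h1 _]
    exact congrArg (fun z => ((l z : Q) : Ω)) (Subtype.ext (hmb x hQ hX))
  inv_mem' := by
    rintro a ⟨ha, ha', l, hl, hla⟩
    refine ⟨Subgroup.inv_mem _ ha, fun x => ?_, l⁻¹, L.inv_mem hl, fun x hQ hX => ?_⟩
    · rw [← ha' (a⁻¹ x), MulAut.inv_apply, MulEquiv.apply_symm_apply]
    · have h1 : ((l⁻¹ ⟨x, hQ⟩ : Q) : Ω) ∈ X := hQX (l⁻¹ ⟨x, hQ⟩).2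
      have h2 := hla _ (l⁻¹ ⟨x, hQ⟩).2 h1
      rw [show l ⟨((l⁻¹ ⟨x, hQ⟩ : Q) : Ω), (l⁻¹ ⟨x, hQ⟩).2⟩ = ⟨x, hQ⟩ from
        l.apply_symm_apply _] at h2
      rw [show (⟨x, hX⟩ : X) = a ⟨_, h1⟩ from Subtype.ext h2.symm, MulAut.inv_apply,
        MulEquiv.symm_apply_apply]

variable {F : FusionSystem S} {Q : Subgroup Ω} {L : Subgroup (MulAut Q)}

theorem kAut_le {X P : Subgroup Ω} (hQX : Q ≤ X) : kAut F L X P hQX ≤ F.autGroup X :=
  fun _ h => h.1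

theorem congr_isoOf_apply {X Y : Subgroup Ω} {ρ : X →* Ω} (hi : Function.Injective ρ)
    (hr : ρ.range = Y) (α : MulAut X) (x : X) (hx : ρ x ∈ Y) :
    ((MulAut.congr (isoOf ρ hi hr) α ⟨ρ x, hx⟩ : Y) : Ω) = ρ (α x) := by
  show ((isoOf ρ hi hr (α ((isoOf ρ hi hr).symm ⟨ρ x, hx⟩)) : Y) : Ω) = _
  rw [show (⟨ρ x, hx⟩ : Y) = isoOf ρ hi hr x from Subtype.ext rfl, MulEquiv.symm_apply_apply,
    isoOf_coe]

variable {T : Subgroup Ω}
  (hT : ∀ g, g ∈ T ↔ g ∈ S ∧ ∃ l ∈ L, ∀ x : Q, ((l x : Q) : Ω) = g * (x : Ω) * g⁻¹)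

include hT in
theorem mem_normalizer_of_mem_T [Finite S] (hQ : Q ≤ S) {g : Ω} (hg : g ∈ T) :
    g ∈ Subgroup.normalizer (Q : Set Ω) := by
  obtain ⟨-, l, -, hl⟩ := (hT g).1 hg
  have := finite_of_le hQ
  refine mem_normalizer_of_finite fun x hx => ?_
  rw [← hl ⟨x, hx⟩]
  exact SetLike.coe_mem _

include hT in
theorem conjAut_mem_kAut [Finite S] {X P : Subgroup Ω} (hQX : Q ≤ X) (hX : X ≤ S)
    {g : Ω} (hg : g ∈ T) (hgX : g ∈ Subgroup.normalizer (X : Set Ω))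
    (hgP : g ∈ Subgroup.normalizer (P : Set Ω)) : conjAut hgX ∈ kAut F L X P hQX := by
  obtain ⟨hgS, l, hl, hlg⟩ := (hT g).1 hg
  refine ⟨conjAut_mem_autGroup F hX hgS hgX, fun x => ?_, l, hl, fun x hQ hx => ?_⟩
  · exact (hgP (x : Ω)).symm
  · exact (hlg ⟨x, hQ⟩).symm

include hT in
theorem mem_normalizer_sup [Finite S] (hQ : Q ≤ S) {P : Subgroup Ω} (hP : P ≤ S) {g : Ω}
    (hg : g ∈ T) (hgP : g ∈ Subgroup.normalizer (P : Set Ω)) :
    g ∈ Subgroup.normalizer ((P ⊔ Q : Subgroup Ω) : Set Ω) := by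
  have := finite_of_le (sup_le hP hQ)
  refine mem_normalizer_of_finite fun x hx => ?_
  have h : (P ⊔ Q) ≤ (P ⊔ Q).comap (MulAut.conj g).toMonoidHom :=
    sup_le (fun z hz => Subgroup.mem_sup_left (conj_mem_of_mem_normalizer hgP hz))
      (fun z hz => Subgroup.mem_sup_right
        (conj_mem_of_mem_normalizer (mem_normalizer_of_mem_T hT hQ hg) hz))
  exact h hx

variable {p : ℕ} [Fact p.Prime] [Finite S]

include hT in
/-- Saturation of the system of maps acting on `Q` in `L`. -/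
theorem kSystem_isSaturated (hS : IsPGroup p S) (hF : F.IsSaturated p) (hQS : Q ≤ S)
    (hfull : ∀ (Q₁ : Subgroup Ω) (f : Q₁ →* Ω), f ∈ F.Hom Q₁ → f.range = Q →
      ∀ V : Subgroup Ω, V ≤ S →
        (∀ g ∈ V, ∃ l ∈ L, ∀ (x : Q₁) (hx : g * (x : Ω) * g⁻¹ ∈ Q₁) (hfx : f x ∈ Q),
          f ⟨_, hx⟩ = ((l ⟨f x, hfx⟩ : Q) : Ω)) →
        (∀ g ∈ V, g ∈ Subgroup.normalizer (Q₁ : Set Ω)) →
        ∃ χ ∈ F.Hom (V ⊔ Q₁), ∃ a ∈ L, ∀ (x : Q₁) (hfx : f x ∈ Q),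
          χ (Subgroup.inclusion le_sup_right x) = ((a ⟨f x, hfx⟩ : Q) : Ω))
    (E : FusionSystem T)
    (hE : ∀ (P : Subgroup Ω) (φ : P →* Ω), φ ∈ E.Hom P ↔ φ ∈ F.Hom P ∧ P ≤ T ∧ (∀ x, φ x ∈ T) ∧
      ∃ ψ ∈ F.Hom (P ⊔ Q), (∀ x : P, ψ (Subgroup.inclusion le_sup_left x) = φ x) ∧ ActsIn L ψ) :
    E.IsSaturated p := by
  have hTS : T ≤ S := fun g hg => ((hT g).1 hg).1
  intro P hP
  have hPS : P ≤ S := hP.trans hTS
  set X := P ⊔ Q with hX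
  have hXS : X ≤ S := sup_le hPS hQS
  have hQX : Q ≤ X := le_sup_right
  obtain ⟨Y, ⟨φ₀, hφ₀, hr₀⟩, hYn⟩ := exists_fullyNormalized F hXS
  obtain ⟨hYa, -⟩ := IsSaturated.automized_receptive hS hF hYn
  have hYS := hYn.1
  have := finite_mulAut hXS
  have := finite_mulAut hYS
  set K := kAut F L X P hQX with hK
  obtain ⟨U⟩ := (inferInstance : Nonempty (Sylow p K))
  let e₀ := MulAut.congr (isoOf φ₀ (F.injective_of_mem hφ₀) hr₀)
  obtain ⟨a, ha, haU⟩ := IsFullyAutomized.exists_conj hYa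
    (X := ((U : Subgroup K).map K.subtype).map e₀.toMonoidHom)
    ((Subgroup.map_mono ((Subgroup.map_subtype_le _).trans (kAut_le hQX))).trans
      (map_congr_autGroup F hφ₀ hr₀).le)
    ((U.2.map _).map _)
  have hm₀ : ∀ x, φ₀ x ∈ Y := fun x => hr₀ ▸ ⟨x, rfl⟩
  let ψ := compose φ₀ (autHom a) hm₀
  have hψ : ψ ∈ F.Hom X := compose_mem F hφ₀ (autHom_mem F hYS ha) hm₀
  have hrψ : ψ.range = Y := by rw [range_compose, hr₀, img_self, range_autHom]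
  have hiψ := F.injective_of_mem hψ
  let eψ := MulAut.congr (isoOf ψ hiψ hrψ)
  have heψ : ∀ α, eψ α = a * e₀ α * a⁻¹ := fun α => by
    have e : isoOf ψ hiψ hrψ = (isoOf φ₀ (F.injective_of_mem hφ₀) hr₀).trans a :=
      MulEquiv.ext fun x => Subtype.ext rfl
    show MulAut.congr (isoOf ψ hiψ hrψ) α = _
    rw [e]
    rfl
  have hU : ∀ k ∈ (U : Subgroup K), eψ (k : MulAut X) ∈ autInducedBy S Y := fun k hk => by
    rw [heψ]
    exact haU _ ⟨_, ⟨k, hk, rfl⟩, rfl⟩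
  -- the elements of `S` inducing elements of the transported group on `Y`
  let W : Subgroup Ω := ((K.map eψ.toMonoidHom).comap Y.normalizerMonoidHom).map
      (Subgroup.normalizer (Y : Set Ω)).subtype ⊓ S
  have hW : ∀ g, g ∈ W ↔ g ∈ S ∧
      ∃ hg : g ∈ Subgroup.normalizer (Y : Set Ω), conjAut hg ∈ K.map eψ.toMonoidHom := by
    intro g
    constructor
    · rintro ⟨⟨⟨g, hg⟩, hmem, rfl⟩, hgS⟩
      exact ⟨hgS, hg, hmem⟩
    · rintro ⟨hgS, hg, hmem⟩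
      exact ⟨⟨⟨g, hg⟩, hmem, rfl⟩, hgS⟩
  set Q₁ := img ψ Q with hQ₁
  have hψQ : restr hQX ψ ∈ F.Hom Q := restr_mem F hψ hQX
  obtain ⟨f, hf, hfr, hfl, -⟩ := exists_inv F hψQ (range_restr hQX ψ)
  have hQ₁Y : Q₁ ≤ Y := (img_le_range ψ Q).trans hrψ.le
  -- how an element of `W` acts on the image of a point
  have hWact : ∀ g ∈ W, ∃ k ∈ K, ∀ x : X, ψ (k x) = g * ψ x * g⁻¹ := by
    intro g hg
    obtain ⟨-, hgN, k, hk, hkg⟩ := (hW g).1 hg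
    refine ⟨k, hk, fun x => ?_⟩
    have hx : ψ x ∈ Y := hrψ ▸ ⟨x, rfl⟩
    rw [← congr_isoOf_apply hiψ hrψ k x hx]
    exact congrArg (fun β : MulAut Y => ((β ⟨ψ x, hx⟩ : Y) : Ω)) hkg
  have hWQ : ∀ g ∈ W, g ∈ Subgroup.normalizer (Q₁ : Set Ω) := by
    intro g hg
    obtain ⟨k, ⟨-, -, l, -, hkl⟩, hkx⟩ := hWact g hg
    have := finite_of_le (hQ₁Y.trans hYS)
    refine mem_normalizer_of_finite fun y hy => ?_
    obtain ⟨x, hxX, hxQ, rfl⟩ := mem_img.1 hy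
    rw [← hkx]
    refine apply_mem_img ψ _ ?_
    rw [hkl x hxQ hxX]
    exact SetLike.coe_mem _
  obtain ⟨χ, hχ, a', ha', hχQ⟩ := hfull Q₁ f hf hfr W inf_le_right
    (fun g hg => by
      obtain ⟨k, ⟨-, -, l, hl, hkl⟩, hkx⟩ := hWact g hg
      refine ⟨l, hl, fun y hy hfy => ?_⟩
      obtain ⟨x, hxX, hxQ, hxy⟩ := mem_img.1 (show (y : Ω) ∈ img ψ Q from y.2)
      have h1 : f y = x := by
        refine Eq.trans ?_ (hfl ⟨x, hxQ⟩ (by rw [restr_apply, hxy]; exact y.2))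
        exact congrArg f (Subtype.ext hxy.symm)
      have h3 : g * (y : Ω) * g⁻¹ = ψ (k ⟨x, hxX⟩) := by
        rw [← hxy]
        exact (hkx ⟨x, hxX⟩).symm
      have hkQ : ((k ⟨x, hxX⟩ : X) : Ω) ∈ Q := by rw [hkl x hxQ hxX]; exact SetLike.coe_mem _
      have h2 : f ⟨g * y * g⁻¹, hy⟩ = ((k ⟨x, hxX⟩ : X) : Ω) := by
        refine Eq.trans ?_ (hfl ⟨_, hkQ⟩ (by rw [restr_apply]; exact h3 ▸ hy))
        exact congrArg f (Subtype.ext h3)
      rw [h2, hkl x hxQ hxX]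
      exact congrArg (fun z => ((l z : Q) : Ω)) (Subtype.ext h1.symm))
    hWQ
  -- every element of `P` maps into `W`
  have hPW : ∀ (x : X), (x : Ω) ∈ P → ψ x ∈ W := by
    intro x hx
    have hxY : ψ x ∈ Y := hrψ ▸ ⟨x, rfl⟩
    refine (hW _).2 ⟨apply_mem hψ x, Subgroup.le_normalizer hxY,
      conjAut (Subgroup.le_normalizer x.2), ?_, ?_⟩
    · exact conjAut_mem_kAut hT hQX hXS (hP hx) _ (Subgroup.le_normalizer hx)
    · ext y
      obtain ⟨z, rfl⟩ := (isoOf ψ hiψ hrψ).surjective y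
      show ((MulAut.congr (isoOf ψ hiψ hrψ) _ ⟨ψ z, hrψ ▸ ⟨z, rfl⟩⟩ : Y) : Ω) = _
      rw [congr_isoOf_apply]
      show ψ (x * z * x⁻¹) = _
      rw [map_mul, map_mul, map_inv]
      rfl
  have hψW : ∀ x, ψ x ∈ W ⊔ Q₁ := by
    intro x
    have h1 : img ψ X ≤ W ⊔ Q₁ := by
      refine le_trans (img_sup ψ (le_sup_left : P ≤ P ⊔ Q) le_sup_right).le ?_
      refine sup_le_sup ?_ le_rfl
      rintro _ ⟨z, hz, rfl⟩
      exact hPW z hz
    exact h1 (apply_mem_img ψ x x.2)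
  let ρ := compose ψ χ hψW
  have hρ : ρ ∈ F.Hom X := compose_mem F hψ hχ hψW
  have hρQ : ∀ (x : Ω) (hQ' : x ∈ Q) (hx : x ∈ X), ρ ⟨x, hx⟩ = ((a' ⟨x, hQ'⟩ : Q) : Ω) := by
    intro x hQ' hx
    have hy : ψ ⟨x, hx⟩ ∈ Q₁ := apply_mem_img ψ ⟨x, hx⟩ hQ'
    have h1 : f ⟨ψ ⟨x, hx⟩, hy⟩ = x := hfl ⟨x, hQ'⟩ hy
    have h2 := hχQ ⟨ψ ⟨x, hx⟩, hy⟩ (by rw [h1]; exact hQ')
    exact h2.trans (congrArg (fun z => ((a' z : Q) : Ω)) (Subtype.ext h1))
  have hρact : ActsIn L ρ := ⟨a', ha', hρQ⟩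
  set R := img ρ P with hR
  set X' := R ⊔ Q with hX'
  have hQX' : Q ≤ X' := le_sup_right
  have hrρ : ρ.range = X' := by
    rw [← img_self ρ]
    show img ρ X = X'
    refine (img_sup ρ (le_sup_left : P ≤ P ⊔ Q) le_sup_right).trans ?_
    rw [ActsIn.img_eq hρact le_sup_right]
  have hX'S : X' ≤ S := hrρ ▸ range_le hρ
  have hiρ := F.injective_of_mem hρ
  let i := isoOf ρ hiρ hrρ
  have hRT : R ≤ T := by
    intro y hy
    obtain ⟨x, hxX, hxP, rfl⟩ := mem_img.1 hy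
    obtain ⟨-, l, hl, hlx⟩ := (hT x).1 (hP hxP)
    refine (hT _).2 ⟨apply_mem hρ _, a' * l * a'⁻¹,
      L.mul_mem (L.mul_mem ha' hl) (L.inv_mem ha'), fun z => ?_⟩
    set w := a'⁻¹ z
    have hz : ρ ⟨w, hQX w.2⟩ = (z : Ω) := by
      rw [hρQ _ w.2, show (⟨(w : Ω), w.2⟩ : Q) = w from rfl,
        show a' w = z from a'.apply_symm_apply z]
    show ((a' (l w) : Q) : Ω) = _
    rw [← hρQ _ (l w).2 (hQX (l w).2), ← hz, ← map_inv, ← map_mul, ← map_mul]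
    exact congrArg ρ (Subtype.ext (hlx w))
  have hρP : restr (le_sup_left : P ≤ X) ρ ∈ E.Hom P :=
    (hE _ _).2 ⟨restr_mem F hρ _, hP, fun x => hRT (apply_mem_img ρ _ x.2), ρ, hρ,
      fun x => rfl, hρact⟩
  refine ⟨R, ⟨_, hρP, range_restr _ ρ⟩, ?_⟩
  -- the transported group and its Sylow subgroup
  set K' := kAut F L X' R hQX' with hK'
  have hKK' : K.map (MulAut.congr i).toMonoidHom = K' := by
    have hQiff : ∀ x : X, ρ x ∈ R ↔ (x : Ω) ∈ P := fun x => by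
      refine ⟨fun h => ?_, fun h => apply_mem_img ρ x h⟩
      obtain ⟨z, hzX, hz, hzx⟩ := mem_img.1 h
      rwa [← hiρ hzx]
    apply le_antisymm
    · rintro _ ⟨k, ⟨hkA, hkP, l, hl, hkl⟩, rfl⟩
      refine ⟨exists_mulAut_congr F hρ hrρ hkA, fun y => ?_, a' * l * a'⁻¹,
        L.mul_mem (L.mul_mem ha' hl) (L.inv_mem ha'), fun y hyQ hy => ?_⟩
      · obtain ⟨x, rfl⟩ := i.surjective y
        show ((MulAut.congr (isoOf ρ hiρ hrρ) k ⟨ρ x, hrρ ▸ ⟨x, rfl⟩⟩ : X') : Ω) ∈ R ↔ ρ x ∈ R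
        rw [congr_isoOf_apply, hQiff, hQiff]
        exact hkP x
      · set w := a'⁻¹ ⟨y, hyQ⟩
        have hz : ρ ⟨w, hQX w.2⟩ = y := by
          rw [hρQ _ w.2, show (⟨(w : Ω), w.2⟩ : Q) = w from rfl,
            show a' w = ⟨y, hyQ⟩ from a'.apply_symm_apply _]
        show ((MulAut.congr (isoOf ρ hiρ hrρ) k ⟨y, hy⟩ : X') : Ω) = ((a' (l w) : Q) : Ω)
        rw [show (⟨y, hy⟩ : X') = ⟨ρ ⟨w, hQX w.2⟩, hz.symm ▸ hy⟩ from Subtype.ext hz.symm,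
          congr_isoOf_apply, ← hρQ _ (l w).2 (hQX (l w).2)]
        exact congrArg ρ (Subtype.ext (hkl _ w.2 _))
    · rintro β ⟨hβA, hβR, l, hl, hβl⟩
      refine ⟨(MulAut.congr i).symm β, ⟨?_, fun x => ?_, a'⁻¹ * l * a',
        L.mul_mem (L.mul_mem (L.inv_mem ha') hl) ha', fun x hxQ hx => ?_⟩,
        MulEquiv.apply_symm_apply _ _⟩
      · obtain ⟨γ, hγ, hγe⟩ := (map_congr_autGroup F hρ hrρ).ge hβA
        rw [← hγe]
        exact (congrArg (· ∈ F.autGroup X)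
          (MulEquiv.symm_apply_apply (MulAut.congr i) γ)).mpr hγ
      · show ((i.symm (β (i x)) : X) : Ω) ∈ P ↔ _
        rw [← hQiff, ← hQiff, show ρ (i.symm (β (i x))) = ((β (i x) : X') : Ω) from
          congrArg Subtype.val (i.apply_symm_apply (β (i x)))]
        exact hβR (i x)
      · show ((i.symm (β (i ⟨x, hx⟩)) : X) : Ω) = _
        have hm : ((a'⁻¹ (l (a' ⟨x, hxQ⟩)) : Q) : Ω) ∈ X := hQX (a'⁻¹ (l (a' ⟨x, hxQ⟩))).2
        refine congrArg Subtype.val (i.symm_apply_eq.2 (Subtype.ext ?_) :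
          i.symm (β (i ⟨x, hx⟩)) = ⟨_, hm⟩)
        show ((β (i ⟨x, hx⟩) : X') : Ω) = ρ ⟨_, hm⟩
        have e1 : i ⟨x, hx⟩ = ⟨((a' ⟨x, hxQ⟩ : Q) : Ω), hQX' (a' ⟨x, hxQ⟩).2⟩ :=
          Subtype.ext (hρQ x hxQ hx)
        rw [e1, hβl _ (a' ⟨x, hxQ⟩).2 _, hρQ _ (a'⁻¹ (l (a' ⟨x, hxQ⟩))).2 hm]
        exact congrArg Subtype.val (a'.apply_symm_apply (l (a' ⟨x, hxQ⟩))).symm
  have := finite_mulAut hX'S
  let j : K →* K' := ((MulAut.congr i).toMonoidHom.comp K.subtype).codRestrict K'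
    fun k => hKK' ▸ ⟨k, k.2, rfl⟩
  have hj : Function.Surjective j := by
    rintro ⟨β, hβ⟩
    obtain ⟨k, hk, rfl⟩ := hKK'.ge hβ
    exact ⟨⟨k, hk⟩, rfl⟩
  let U' := U.mapSurjective hj
  -- the elements of `T` normalizing `R` induce the Sylow subgroup
  let D : Subgroup (MulAut X') := autInducedBy (normalizerIn T R) X'
  have hDK : D ≤ K' := by
    intro β hβ
    obtain ⟨g, hgN, hg, rfl⟩ := mem_autInducedBy_iff_conjAut.1 hβ
    exact conjAut_mem_kAut hT hQX' hX'S hg.1 hgN hg.2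
  have hUD : ∀ u ∈ (U' : Subgroup K'), (u : MulAut X') ∈ D := by
    rw [Sylow.coe_mapSurjective]
    rintro _ ⟨k, hk, rfl⟩
    obtain ⟨g, hgN, hgS, hg⟩ := mem_autInducedBy_iff_conjAut.1 (hU k hk)
    have hgW : g ∈ W := (hW g).2 ⟨hgS, hgN, hg ▸ ⟨k, k.2, rfl⟩⟩
    have hact : ∀ x : X, ψ ((k : MulAut X) x) = g * ψ x * g⁻¹ := by
      intro x
      have hx : ψ x ∈ Y := hrψ ▸ ⟨x, rfl⟩
      rw [← congr_isoOf_apply hiψ hrψ (k : MulAut X) x hx]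
      exact congrArg (fun β : MulAut Y => ((β ⟨ψ x, hx⟩ : Y) : Ω)) hg.symm
    set h := χ ⟨g, Subgroup.mem_sup_left hgW⟩
    have hconj : ∀ x : X, ρ ((k : MulAut X) x) = h * ρ x * h⁻¹ := by
      intro x
      show χ ⟨ψ _, _⟩ = h * χ ⟨ψ x, _⟩ * h⁻¹
      rw [← map_inv, ← map_mul, ← map_mul]
      exact congrArg χ (Subtype.ext (hact x))
    obtain ⟨-, hkP, l, hl, hkl⟩ := k.2
    have hhR : h ∈ Subgroup.normalizer (R : Set Ω) := by
      have := finite_of_le (hRT.trans hTS)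
      refine mem_normalizer_of_finite fun y hy => ?_
      obtain ⟨x, hxX, hxP, rfl⟩ := mem_img.1 hy
      rw [← hconj]
      exact apply_mem_img ρ _ ((hkP ⟨x, hxX⟩).2 hxP)
    have hhT : h ∈ T := by
      refine (hT h).2 ⟨apply_mem hχ _, a' * l * a'⁻¹,
        L.mul_mem (L.mul_mem ha' hl) (L.inv_mem ha'), fun z => ?_⟩
      set w := a'⁻¹ z
      have hz : ρ ⟨w, hQX w.2⟩ = (z : Ω) := by
        rw [hρQ _ w.2, show (⟨(w : Ω), w.2⟩ : Q) = w from rfl,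
          show a' w = z from a'.apply_symm_apply z]
      show ((a' (l w) : Q) : Ω) = _
      rw [← hρQ _ (l w).2 (hQX (l w).2), ← hz, ← hconj]
      exact congrArg ρ (Subtype.ext (hkl _ w.2 _).symm)
    refine mem_autInducedBy.2 ⟨h, ⟨hhT, hhR⟩, fun y => ?_⟩
    obtain ⟨x, rfl⟩ := i.surjective y
    show ((MulAut.congr (isoOf ρ hiρ hrρ) (k : MulAut X) ⟨ρ x, hrρ ▸ ⟨x, rfl⟩⟩ : X') : Ω) = _
    rw [congr_isoOf_apply]
    exact hconj x
  have hDU : ∀ β : K', (β : MulAut X') ∈ D → β ∈ (U' : Subgroup K') := by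
    have hDp : IsPGroup p (D.subgroupOf K') :=
      ((isPGroup_autInducedBy (hS.to_le ((normalizerIn_le T R).trans hTS)) X')).of_equiv
        (Subgroup.subgroupOfEquivOfLe hDK).symm
    intro β hβ
    exact (U'.3 hDp fun u hu => hUD u hu).le hβ
  -- `X'` is fully centralized
  have hX'c : F.IsFullyCentralized X' := by
    have hYc := IsSaturated.fullyCentralized hS hF hYn
    refine ⟨hX'S, fun Z hZ => (hYc.2 Z (isConj_trans (isConj_symm ⟨ψ, hψ, hrψ⟩)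
      (isConj_trans ⟨ρ, hρ, hrρ⟩ hZ))).trans ?_⟩
    have := finite_of_le (centralizerIn_le S X')
    have hcW : ∀ c ∈ centralizerIn S Y, c ∈ W := by
      intro c hc
      refine (hW c).2 ⟨hc.1, (centralizerIn_le_normalizerIn S Y hc).2, ?_⟩
      have e : conjAut (centralizerIn_le_normalizerIn S Y hc).2 = 1 :=
        MulEquiv.ext fun y => Subtype.ext ((mem_centralizerIn_iff_conj.1 hc).2 y y.2)
      rw [e]
      exact Subgroup.one_mem _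
    refine Nat.card_le_card_of_injective (fun c : centralizerIn S Y =>
      (⟨χ ⟨c, Subgroup.mem_sup_left (hcW c c.2)⟩, mem_centralizerIn_iff_conj.2
        ⟨apply_mem hχ _, fun y hy => ?_⟩⟩ : centralizerIn S X')) fun c d hcd =>
      Subtype.ext (congrArg (fun z : ↥(W ⊔ Q₁) => (z : Ω))
        (F.injective_of_mem hχ (congrArg Subtype.val hcd)))
    obtain ⟨x, rfl⟩ := hrρ.ge hy
    show χ _ * χ ⟨ψ x, hψW x⟩ * (χ _)⁻¹ = χ ⟨ψ x, hψW x⟩
    rw [← map_inv, ← map_mul, ← map_mul]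
    exact congrArg χ (Subtype.ext ((mem_centralizerIn_iff_conj.1 c.2).2 _ (hrψ ▸ ⟨x, rfl⟩)))
  -- restriction to `R`
  have hRX' : R ≤ X' := le_sup_left
  have := finite_of_le (hRT.trans hTS)
  have hres : ∀ β : K', ∃ γ ∈ E.autGroup R,
      ∀ x : R, ((γ x : R) : Ω) = ((β : MulAut X') (Subgroup.inclusion hRX' x) : X') := by
    intro β
    obtain ⟨hβA, hβR, l, hl, hβl⟩ := β.2
    have hb : restr hRX' (autHom (β : MulAut X')) ∈ E.Hom R :=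
      (hE _ _).2 ⟨restr_mem F (autHom_mem F hX'S hβA) hRX', hRT, fun x => hRT ((hβR _).2 x.2),
        autHom (β : MulAut X'), autHom_mem F hX'S hβA, fun x => rfl,
        l, hl, fun x hQ hX => hβl x hQ hX⟩
    have hrb : (restr hRX' (autHom (β : MulAut X'))).range = R := by
      refine Subgroup.eq_of_le_of_card_ge ?_ (card_range_eq (E.injective_of_mem hb)).ge
      rintro _ ⟨x, rfl⟩
      exact (hβR _).2 x.2
    exact ⟨isoOf _ (E.injective_of_mem hb) hrb, mem_autGroup_of_hom E hb, fun x => rfl⟩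
  choose r₀ hr₀E hr₀ using hres
  let r : K' →* E.autGroup R := MonoidHom.mk' (fun β => ⟨r₀ β, hr₀E β⟩) fun b c =>
    Subtype.ext (MulEquiv.ext fun x => Subtype.ext (by
      show ((r₀ (b * c) x : R) : Ω) = ((r₀ b (r₀ c x) : R) : Ω)
      rw [hr₀, hr₀ b]
      exact congrArg (fun z => (((b : MulAut X') z : X') : Ω)) (Subtype.ext (hr₀ c x).symm)))
  have hrsurj : Function.Surjective r := by
    rintro ⟨γ, hγ⟩
    obtain ⟨-, -, -, ψR, hψR, hext, hact⟩ := (hE _ _).1 (autHom_mem E hRT hγ)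
    have hrR : ψR.range = X' := by
      rw [← img_self ψR]
      refine (img_sup ψR hRX' hQX').trans ?_
      rw [ActsIn.img_eq hact hQX']
      congr 1
      rw [← range_restr hRX' ψR, show restr hRX' ψR = autHom γ from MonoidHom.ext hext,
        range_autHom]
    have hiR := F.injective_of_mem hψR
    have hmem : isoOf ψR hiR hrR ∈ K' := by
      obtain ⟨l, hl, hψl⟩ := hact
      refine ⟨mem_autGroup_of_hom F hψR, fun x => ⟨fun h => ?_, fun h => ?_⟩, l, hl,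
        fun x hQ hX => hψl x hQ hX⟩
      · obtain ⟨z, hz⟩ := (range_autHom γ).ge (show ψR x ∈ R from h)
        have e : x = Subgroup.inclusion hRX' z := hiR ((hext z).trans hz).symm
        rw [e]
        exact z.2
      · show ψR x ∈ R
        rw [show x = Subgroup.inclusion hRX' ⟨x, h⟩ from rfl, hext]
        exact (γ ⟨x, h⟩).2
    refine ⟨⟨_, hmem⟩, Subtype.ext (MulEquiv.ext fun x => Subtype.ext ?_)⟩
    show ((r₀ ⟨_, hmem⟩ x : R) : Ω) = _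
    rw [hr₀]
    exact hext x
  refine ⟨⟨hRT, ?_⟩, hRT, ?_⟩
  · have : Finite (E.autGroup R) := Finite.of_surjective r hrsurj
    refine ⟨U'.mapSurjective hrsurj, ?_⟩
    rw [Sylow.coe_mapSurjective]
    ext γ
    constructor
    · rintro ⟨u, hu, rfl⟩
      obtain ⟨g, hg, hgu⟩ := mem_autInducedBy.1 (hUD u hu)
      refine mem_autInducedBy.2 ⟨g, hg.1, fun x => ?_⟩
      show ((r₀ u x : R) : Ω) = _
      rw [hr₀, hgu]
      rfl
    · intro hγ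
      obtain ⟨g, hgN, hgT, hgγ⟩ := mem_autInducedBy_iff_conjAut.1 (Subgroup.mem_subgroupOf.1 hγ)
      have hgX := mem_normalizer_sup hT hQS (hRT.trans hTS) hgT hgN
      have hgK : conjAut hgX ∈ K' := conjAut_mem_kAut hT hQX' hX'S hgT hgX hgN
      refine ⟨⟨_, hgK⟩, hDU _ (conjAut_mem_autInducedBy (K := normalizerIn T R) ⟨hgT, hgN⟩ hgX),
        Subtype.ext (MulEquiv.ext fun x => Subtype.ext ?_)⟩
      show ((r₀ ⟨_, hgK⟩ x : R) : Ω) = _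
      rw [hr₀, ← hgγ]
      rfl
  intro R₂ φ hφ hφr
  set X₂ := R₂ ⊔ Q with hX₂
  obtain ⟨hφF, hR₂T, hφT, ψ₂, hψ₂, hext₂, hact₂⟩ := (hE _ _).1 hφ
  have hX₂S : X₂ ≤ S := source_le hψ₂
  have hrange₂ : ψ₂.range = X' := by
    rw [← img_self ψ₂]
    refine (img_sup ψ₂ (le_sup_left : R₂ ≤ R₂ ⊔ Q) le_sup_right).trans ?_
    rw [ActsIn.img_eq hact₂ le_sup_right]
    congr 1
    rw [← range_restr (le_sup_left : R₂ ≤ R₂ ⊔ Q) ψ₂,
      show restr (le_sup_left : R₂ ≤ R₂ ⊔ Q) ψ₂ = φ from MonoidHom.ext hext₂, hφr]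
  set NE := extender T R₂ φ with hNE
  have hNET : NE ≤ T := extender_le T R₂ φ
  have hNES : NE ≤ S := hNET.trans hTS
  have hNX : ∀ g ∈ NE, g ∈ Subgroup.normalizer (X₂ : Set Ω) := fun g hg =>
    mem_normalizer_sup hT hQS (hR₂T.trans hTS) (hNET hg) (mem_extender.1 hg).2.1
  have hi₂ := F.injective_of_mem hψ₂
  let i₂ := isoOf ψ₂ hi₂ hrange₂
  obtain ⟨l₂, hl₂, hψl₂⟩ := hact₂
  have hQX₂ : Q ≤ X₂ := le_sup_right
  have hξK : ∀ g (hg : g ∈ NE), MulAut.congr i₂ (conjAut (hNX g hg)) ∈ K' := by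
    intro g hg
    obtain ⟨-, hgN, h, hh, H⟩ := mem_extender.1 hg
    obtain ⟨-, lg, hlg, hlgx⟩ := (hT g).1 (hNET hg)
    refine ⟨(map_congr_autGroup F hψ₂ hrange₂).le ⟨_, conjAut_mem_autGroup F hX₂S
      (hNES hg) (hNX g hg), rfl⟩, fun y => ?_, l₂ * lg * l₂⁻¹,
      L.mul_mem (L.mul_mem hl₂ hlg) (L.inv_mem hl₂), fun y hyQ hy => ?_⟩
    · obtain ⟨x, rfl⟩ := i₂.surjective y
      show ((MulAut.congr (isoOf ψ₂ hi₂ hrange₂) _ ⟨ψ₂ x, hrange₂ ▸ ⟨x, rfl⟩⟩ : X') : Ω) ∈ R ↔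
        ψ₂ x ∈ R
      rw [congr_isoOf_apply]
      have key : ∀ z : X₂, ψ₂ z ∈ R ↔ (z : Ω) ∈ R₂ := fun z => by
        refine ⟨fun hz => ?_, fun hz => ?_⟩
        · obtain ⟨w, hw⟩ := hφr.ge hz
          rw [← hext₂ w] at hw
          rw [← hi₂ hw]
          exact w.2
        · rw [show z = Subgroup.inclusion le_sup_left (⟨z, hz⟩ : R₂) from rfl, hext₂, ← hφr]
          exact ⟨_, rfl⟩
      rw [key, key]
      exact (hgN (x : Ω)).symm
    · set w := l₂⁻¹ ⟨y, hyQ⟩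
      have hz : ψ₂ ⟨w, hQX₂ w.2⟩ = y := by
        rw [hψl₂ _ w.2, show (⟨(w : Ω), w.2⟩ : Q) = w from rfl,
          show l₂ w = ⟨y, hyQ⟩ from l₂.apply_symm_apply _]
      show ((MulAut.congr (isoOf ψ₂ hi₂ hrange₂) _ ⟨y, hy⟩ : X') : Ω) = ((l₂ (lg w) : Q) : Ω)
      rw [show (⟨y, hy⟩ : X') = ⟨ψ₂ ⟨w, hQX₂ w.2⟩, hz.symm ▸ hy⟩ from Subtype.ext hz.symm,
        congr_isoOf_apply, ← hψl₂ _ (lg w).2 (hQX₂ (lg w).2)]
      exact congrArg ψ₂ (Subtype.ext (hlgx w).symm)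
  let M := (autInducedBy NE X₂).map (MulAut.congr i₂).toMonoidHom
  have hMK : M ≤ K' := by
    rintro _ ⟨c, hc, rfl⟩
    obtain ⟨g, hgN, hg, rfl⟩ := mem_autInducedBy_iff_conjAut.1 hc
    exact hξK g hg
  have hMsup : M.subgroupOf K' ≤ (U' : Subgroup K') ⊔ r.ker := by
    rintro ⟨_, hξ⟩ ⟨c, hc, rfl⟩
    obtain ⟨g, hgX, hg, rfl⟩ := mem_autInducedBy_iff_conjAut.1 hc
    obtain ⟨-, hgN, h, hh, H⟩ := mem_extender.1 hg
    have hhR : h ∈ Subgroup.normalizer (R : Set Ω) := by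
      refine mem_normalizer_of_finite fun y hy => ?_
      obtain ⟨x, rfl⟩ := hφr.ge hy
      rw [← H x (conj_mem_of_mem_normalizer hgN x.2), ← hφr]
      exact ⟨_, rfl⟩
    have hhX := mem_normalizer_sup hT hQS (hRT.trans hTS) hh hhR
    have hηK : conjAut hhX ∈ K' := conjAut_mem_kAut hT hQX' hX'S hh hhX hhR
    let η : K' := ⟨_, hηK⟩
    have hη : η ∈ (U' : Subgroup K') := hDU η (conjAut_mem_autInducedBy (K := normalizerIn T R) ⟨hh, hhR⟩ hhX)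
    have hk : η⁻¹ * ⟨_, hξ⟩ ∈ r.ker := by
      rw [MonoidHom.mem_ker, map_mul, map_inv, inv_mul_eq_one]
      refine Subtype.ext (MulEquiv.ext fun y => Subtype.ext ?_)
      show ((r₀ η y : R) : Ω) = ((r₀ ⟨_, hξ⟩ y : R) : Ω)
      rw [hr₀, hr₀]
      obtain ⟨x, hx⟩ := hφr.ge y.2
      have hy : (Subgroup.inclusion hRX' y) = ⟨ψ₂ (Subgroup.inclusion le_sup_left x),
          hrange₂ ▸ ⟨_, rfl⟩⟩ := Subtype.ext (hx.symm.trans (hext₂ x).symm)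
      show h * (y : Ω) * h⁻¹ = _
      refine Eq.trans ?_ (congrArg (fun z : X' =>
        ((MulAut.congr (isoOf ψ₂ hi₂ hrange₂) (conjAut hgX) z : X') : Ω)) hy).symm
      rw [congr_isoOf_apply, ← hx, ← H x (conj_mem_of_mem_normalizer hgN x.2), ← hext₂]
      rfl
    have h5 := Subgroup.mul_mem ((U' : Subgroup K') ⊔ r.ker)
      (Subgroup.mem_sup_left hη) (Subgroup.mem_sup_right hk)
    rwa [mul_inv_cancel_left] at h5
  have hMp : IsPGroup p M := by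
    have := finite_of_le hNES
    exact (isPGroup_autInducedBy (hS.to_le hNES) X₂).map _
  obtain ⟨k, hkr, hkM⟩ := exists_conj_mem_of_sup U' r.ker
    (hMp.of_equiv (Subgroup.subgroupOfEquivOfLe hMK).symm) hMsup
  have hm₂ : ∀ x, ψ₂ x ∈ X' := fun x => hrange₂ ▸ ⟨x, rfl⟩
  let ψ₁ := compose ψ₂ (autHom (k : MulAut X')) hm₂
  have hψ₁ : ψ₁ ∈ F.Hom X₂ :=
    compose_mem F hψ₂ (autHom_mem F hX'S (kAut_le hQX' k.2)) hm₂
  have hr₁ : ψ₁.range = X' := by rw [range_compose, hrange₂, img_self, range_autHom]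
  have hN : NE ≤ extender S X₂ ψ₁ := by
    intro g hg
    rw [mem_extender_iff_congr (F.injective_of_mem hψ₁) hr₁ ⟨hNES hg, hNX g hg⟩]
    have e : isoOf ψ₁ (F.injective_of_mem hψ₁) hr₁ = i₂.trans (k : MulAut X') :=
      MulEquiv.ext fun x => Subtype.ext rfl
    rw [e]
    have hmemM : MulAut.congr i₂ (conjAut (hNX g hg)) ∈ M :=
      ⟨_, conjAut_mem_autInducedBy hg (hNX g hg), rfl⟩
    have h1 := hkM ⟨_, hMK hmemM⟩ hmemM
    exact autInducedBy_mono ((normalizerIn_le T R).trans hTS) (hUD _ h1)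
  have hX₂N : X₂ ≤ extender S X₂ ψ₁ := le_extender hX₂S (apply_mem hψ₁)
  obtain ⟨Ψ, hΨ, hΨext, -⟩ :=
    IsReceptive.extend (IsSaturated.receptive hS hF hX'c) hψ₁ hr₁
  have hsup : NE ⊔ Q ≤ extender S X₂ ψ₁ := sup_le hN (hQX₂.trans hX₂N)
  obtain ⟨-, -, lk, hlk, hkl⟩ := k.2
  have hΨQ : ∀ (x : Ω) (hQ : x ∈ Q) (hX : x ∈ extender S X₂ ψ₁),
      Ψ ⟨x, hX⟩ = ((lk (l₂ ⟨x, hQ⟩) : Q) : Ω) := by
    intro x hQ hX
    rw [hΨext x (hQX₂ hQ) hX]
    show (((k : MulAut X') ⟨ψ₂ ⟨x, hQX₂ hQ⟩, _⟩ : X') : Ω) = _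
    rw [← hkl _ (l₂ ⟨x, hQ⟩).2 (hQX' (l₂ ⟨x, hQ⟩).2)]
    exact congrArg (fun z => (((k : MulAut X') z : X') : Ω)) (Subtype.ext (hψl₂ x hQ _))
  refine ⟨restr hN Ψ, (hE _ _).2 ⟨restr_mem F hΨ hN, hNET, fun g => ?_, restr hsup Ψ,
    restr_mem F hΨ hsup, fun x => rfl, lk * l₂, L.mul_mem hlk hl₂, fun x hQ hX => hΨQ x hQ _⟩,
    fun x hxP hxN => ?_⟩
  · obtain ⟨-, lg, hlg, hlgx⟩ := (hT g).1 (hNET g.2)
    refine (hT _).2 ⟨apply_mem hΨ _, lk * l₂ * lg * (lk * l₂)⁻¹,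
      L.mul_mem (L.mul_mem (L.mul_mem hlk hl₂) hlg) (L.inv_mem (L.mul_mem hlk hl₂)), fun z => ?_⟩
    set w := (lk * l₂)⁻¹ z
    have hwX : (w : Ω) ∈ extender S X₂ ψ₁ := hX₂N (hQX₂ w.2)
    have hz : Ψ ⟨w, hwX⟩ = (z : Ω) := by
      rw [hΨQ _ w.2]
      exact congrArg Subtype.val ((lk * l₂).apply_symm_apply z)
    show ((lk (l₂ (lg w)) : Q) : Ω) = Ψ ⟨g, _⟩ * z * (Ψ ⟨g, _⟩)⁻¹
    rw [← hΨQ _ (lg w).2 (hX₂N (hQX₂ (lg w).2)), ← hz, ← map_inv, ← map_mul, ← map_mul]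
    exact congrArg Ψ (Subtype.ext (hlgx w))
  · show Ψ ⟨x, hN hxN⟩ = _
    rw [hΨext x (Subgroup.mem_sup_left hxP) (hN hxN)]
    show (((k : MulAut X') ⟨ψ₂ (Subgroup.inclusion le_sup_left ⟨x, hxP⟩), _⟩ : X') : Ω) = _
    have hxR : φ ⟨x, hxP⟩ ∈ R := hφr.le ⟨_, rfl⟩
    have h1 : r₀ k ⟨φ ⟨x, hxP⟩, hxR⟩ = ⟨φ ⟨x, hxP⟩, hxR⟩ :=
      congrArg (fun β : E.autGroup R => (β : MulAut R) ⟨φ ⟨x, hxP⟩, hxR⟩) hkr
    have h2 := congrArg Subtype.val h1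
    rw [hr₀] at h2
    refine Eq.trans ?_ h2
    exact congrArg (fun z => (((k : MulAut X') z : X') : Ω)) (Subtype.ext (hext₂ ⟨x, hxP⟩))

end Cfsg.Agent.Lib.Fusion

namespace Cfsg.Agent.Lib.Fusion

open Cfsg Cfsg.FusionSystem

variable {Ω : Type*} [Group Ω] {S : Subgroup Ω} [Finite S] {p : ℕ} [Fact p.Prime]
  {F : FusionSystem S} {Q : Subgroup Ω}

theorem actsIn_top_of_img {X : Subgroup Ω} {χ : X →* Ω} (hi : Function.Injective χ) (hQ : Q ≤ X)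
    (h : img χ Q = Q) : ActsIn (⊤ : Subgroup (MulAut Q)) χ := by
  refine ⟨isoOf (restr hQ χ) (hi.comp (Subgroup.inclusion_injective hQ))
    ((range_restr hQ χ).trans h), Subgroup.mem_top _, fun x hxQ hxX => rfl⟩

/-- The normalizer system of a fully normalized subgroup is saturated. -/
theorem normalizerSystem_isSaturated (hS : IsPGroup p S) (hF : F.IsSaturated p)
    (hQ : F.IsFullyNormalized Q) {E : FusionSystem (normalizerIn S Q)}
    (hE : F.IsNormalizerSystem Q E) : E.IsSaturated p := by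
  have hT : ∀ g, g ∈ normalizerIn S Q ↔
      g ∈ S ∧ ∃ l ∈ (⊤ : Subgroup (MulAut Q)), ∀ x : Q, ((l x : Q) : Ω) = g * (x : Ω) * g⁻¹ := by
    intro g
    constructor
    · intro hg
      exact ⟨hg.1, conjAut hg.2, Subgroup.mem_top _, fun x => rfl⟩
    · rintro ⟨hgS, l, -, hl⟩
      have := finite_of_le hQ.1
      refine ⟨hgS, mem_normalizer_of_finite fun x hx => ?_⟩
      rw [← hl ⟨x, hx⟩]
      exact SetLike.coe_mem _
  refine kSystem_isSaturated hT hS hF hQ.1 (fun Q₁ f hf hfr V hV _ hVN => ?_) E fun P φ => ?_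
  · obtain ⟨ψ, hψ, -, himg⟩ := IsSaturated.exists_normalizer_map hS hF hQ ⟨f, hf, hfr⟩
    have hle : V ⊔ Q₁ ≤ normalizerIn S Q₁ :=
      sup_le (fun g hg => ⟨hV hg, hVN g hg⟩) (le_normalizerIn (source_le hf))
    obtain ⟨c, hc, hcr, hl, -⟩ := exists_inv F hf hfr
    have hm : ∀ y, c y ∈ normalizerIn S Q₁ :=
      fun y => le_normalizerIn (source_le hf) (hcr.le ⟨y, rfl⟩)
    have hd : compose c ψ hm ∈ F.Hom Q := compose_mem F hc hψ hm
    have hdr : (compose c ψ hm).range = Q := by rw [range_compose, hcr, himg]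
    refine ⟨restr hle ψ, restr_mem F hψ hle, isoOf _ (F.injective_of_mem hd) hdr,
      Subgroup.mem_top _, fun x hfx => ?_⟩
    show ψ ⟨x, _⟩ = ψ ⟨c ⟨f x, hfx⟩, _⟩
    exact congrArg ψ (Subtype.ext (hl x hfx).symm)
  · rw [hE P]
    refine and_congr_right fun _ => and_congr_right fun _ => and_congr_right fun _ =>
      exists_congr fun ψ => and_congr_right fun hψ => and_congr_right fun _ =>
        ⟨actsIn_top_of_img (F.injective_of_mem hψ) le_sup_right, fun h => ?_⟩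
    exact ActsIn.img_eq h le_sup_right

/-- The centralizer system of a fully centralized subgroup is saturated. -/
theorem centralizerSystem_isSaturated (hS : IsPGroup p S) (hF : F.IsSaturated p)
    (hQ : F.IsFullyCentralized Q) {E : FusionSystem (centralizerIn S Q)}
    (hE : F.IsCentralizerSystem Q E) : E.IsSaturated p := by
  have hT : ∀ g, g ∈ centralizerIn S Q ↔
      g ∈ S ∧ ∃ l ∈ (⊥ : Subgroup (MulAut Q)), ∀ x : Q, ((l x : Q) : Ω) = g * (x : Ω) * g⁻¹ := by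
    intro g
    constructor
    · intro hg
      exact ⟨hg.1, 1, Subgroup.one_mem _, fun x =>
        ((mem_centralizerIn_iff_conj.1 hg).2 x x.2).symm⟩
    · rintro ⟨hgS, l, hl, hlx⟩
      rw [Subgroup.mem_bot] at hl
      subst hl
      exact mem_centralizerIn_iff_conj.2 ⟨hgS, fun x hx => (hlx ⟨x, hx⟩).symm⟩
  refine kSystem_isSaturated hT hS hF hQ.1 (fun Q₁ f hf hfr V hV hVl hVN => ?_) E fun P φ => ?_
  · obtain ⟨ψ, hψ, hext, -⟩ :=
      IsReceptive.extend (IsSaturated.receptive hS hF hQ) hf hfr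
    have hle : V ⊔ Q₁ ≤ extender S Q₁ f := by
      refine sup_le (fun g hg => mem_extender.2 ⟨hV hg, hVN g hg, 1, S.one_mem, fun x hx => ?_⟩)
        (le_extender (source_le hf) (apply_mem hf))
      obtain ⟨l, hl, hlx⟩ := hVl g hg
      rw [Subgroup.mem_bot] at hl
      rw [hlx x hx (hfr ▸ ⟨x, rfl⟩), hl]
      simp
    refine ⟨restr hle ψ, restr_mem F hψ hle, 1, Subgroup.one_mem _, fun x hfx => ?_⟩
    exact hext x x.2 _
  · rw [hE P]
    refine and_congr_right fun _ => and_congr_right fun _ => and_congr_right fun _ =>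
      exists_congr fun ψ => and_congr_right fun _ => and_congr_right fun _ => ?_
    constructor
    · exact fun h => ⟨1, Subgroup.one_mem _, fun x hQ hX => h ⟨x, hQ⟩⟩
    · rintro ⟨l, hl, h⟩ x
      rw [Subgroup.mem_bot] at hl
      subst hl
      exact h x x.2 _

end Cfsg.Agent.Lib.Fusion
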