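import Cfsg.Agent.Lib.Fusion.KNormalizer

/-!
Elementary facts on normalizer systems.
-/

set_option autoImplicit false
set_option linter.unusedSectionVars false

namespace Cfsg.Agent.Lib.Fusion

open Cfsg Cfsg.FusionSystem

variable {Ω : Type*} [Group Ω] {S : Subgroup Ω} [Finite S] {p : ℕ} [Fact p.Prime]
  {F : FusionSystem S} {Q : Subgroup Ω} {E : FusionSystem (normalizerIn S Q)}

/-- The image of `P ⊔ Q` under an extension lies in the normalizer. -/
theorem IsNormalizerSystem.ext_mem (hQS : Q ≤ S) {P : Subgroup Ω}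
    {φ : P →* Ω} {ψ : ↥(P ⊔ Q) →* Ω} (hφ : ∀ x : P, φ x ∈ normalizerIn S Q)
    (hext : ∀ x : P, ψ (Subgroup.inclusion le_sup_left x) = φ x)
    (himg : (Q.subgroupOf (P ⊔ Q)).map ψ = Q) (x : ↥(P ⊔ Q)) : ψ x ∈ normalizerIn S Q := by
  have h1 : P ⊔ Q ≤ Subgroup.map (P ⊔ Q).subtype ((normalizerIn S Q).comap ψ) := by
    refine sup_le (fun z hz => ⟨⟨z, Subgroup.mem_sup_left hz⟩, ?_, rfl⟩)
      (fun z hz => ⟨⟨z, Subgroup.mem_sup_right hz⟩, ?_, rfl⟩)
    · show ψ _ ∈ normalizerIn S Q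
      rw [show ψ ⟨z, Subgroup.mem_sup_left hz⟩ = φ ⟨z, hz⟩ from hext ⟨z, hz⟩]
      exact hφ _
    · exact le_normalizerIn hQS (himg.le ⟨⟨z, Subgroup.mem_sup_right hz⟩, hz, rfl⟩)
  obtain ⟨y, hy, hyx⟩ := h1 x.2
  exact (Subtype.ext hyx : y = x) ▸ hy

theorem IsNormalizerSystem.isNormal (hE : F.IsNormalizerSystem Q E) (hQS : Q ≤ S) :
    E.IsNormal Q := by
  refine ⟨le_normalizerIn hQS, fun P φ hφ => ?_⟩
  rw [hE P] at hφ
  obtain ⟨hφF, hP, hφN, ψ, hψ, hext, himg⟩ := hφ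
  refine ⟨ψ, ?_, hext, himg⟩
  rw [hE (P ⊔ Q)]
  have hle : P ⊔ Q ⊔ Q ≤ P ⊔ Q := sup_le le_rfl le_sup_right
  refine ⟨hψ, sup_le hP (le_normalizerIn hQS),
    IsNormalizerSystem.ext_mem hQS hφN hext himg,
    restr hle ψ, restr_mem F hψ hle, fun x => rfl, ?_⟩
  show img (restr hle ψ) Q = Q
  rw [img_restr hle ψ le_sup_right]
  exact himg

theorem IsNormalizerSystem.le_system (hE : F.IsNormalizerSystem Q E) {P : Subgroup Ω}
    {φ : P →* Ω} (hφ : φ ∈ E.Hom P) : φ ∈ F.Hom P := by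
  rw [hE P] at hφ
  exact hφ.1

theorem IsNormalizerSystem.isCentric (hE : F.IsNormalizerSystem Q E) {P : Subgroup Ω}
    (hP : P ≤ normalizerIn S Q) (hc : F.IsCentric P) : E.IsCentric P :=
  ⟨hP, fun R ⟨f, hf, hr⟩ _ hx =>
    hc.2 R ⟨f, IsNormalizerSystem.le_system hE hf, hr⟩ ⟨hx.1.1, hx.2⟩⟩

theorem IsNormalizerSystem.autGroup_eq (hE : F.IsNormalizerSystem Q E) (hQS : Q ≤ S) :
    E.autGroup Q = F.autGroup Q := by
  ext α
  rw [mem_autGroup_iff E (le_normalizerIn hQS), mem_autGroup_iff F hQS]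
  refine ⟨fun h => IsNormalizerSystem.le_system hE h, fun h => ?_⟩
  rw [hE Q]
  have hle : Q ⊔ Q ≤ Q := (sup_idem Q).le
  refine ⟨h, le_normalizerIn hQS, fun x => le_normalizerIn hQS (α x).2,
    restr hle (autHom α), restr_mem F h hle, fun x => rfl, ?_⟩
  show img (restr hle (autHom α)) Q = Q
  rw [img_restr hle _ le_sup_right, img_self, range_autHom]

theorem IsNormalizerSystem.isConstrained (hS : IsPGroup p S) (hF : F.IsSaturated p)
    (hQn : F.IsFullyNormalized Q) (hQc : F.IsCentric Q) (hE : F.IsNormalizerSystem Q E) :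
    E.IsConstrained p :=
  ⟨normalizerSystem_isSaturated hS hF hQn hE, Q, IsNormalizerSystem.isNormal hE hQn.1,
    IsNormalizerSystem.isCentric hE (le_normalizerIn hQn.1) hQc⟩

theorem IsNormalizerSystem.core_eq (hS : IsPGroup p S) (hE : F.IsNormalizerSystem Q E)
    (hQc : F.IsCentric Q) (hQr : F.IsRadical p Q) : E.core = Q := by
  have := finite_of_le (normalizerIn_le S Q)
  refine le_antisymm ?_ (le_core (IsNormalizerSystem.isNormal hE hQc.1))
  exact IsNormal.le_centricRadical (hS.to_le (normalizerIn_le S Q)) (isNormal_core E)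
    (IsNormalizerSystem.isCentric hE (le_normalizerIn hQc.1) hQc)
    ⟨le_normalizerIn hQc.1, by
      rw [IsNormalizerSystem.autGroup_eq hE hQc.1]
      exact hQr.2⟩

end Cfsg.Agent.Lib.Fusion
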