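import Cfsg.Agent.Lib.Fusion.ModelUnique
import Cfsg.Agent.Lib.Fusion.NormalizerFacts

/-!
Models of local subsystems inside the models of normalizers of fully normalized centric subgroups.
-/

set_option autoImplicit false
set_option linter.unusedSectionVars false

namespace Cfsg.Agent.Lib.Fusion

open Cfsg Cfsg.FusionSystem

universe u v w

variable {Ω : Type u} [Group Ω] {S : Subgroup Ω} [Finite S] {p : ℕ} [Fact p.Prime]

/-- A centric normal subgroup of a system gives a self-centralizing normal subgroup of a model. -/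
theorem IsModel.image_normal {F : FusionSystem S} {G : Type v} [Group G] {ι : S →* G}
    (hG : F.IsModel p G ι) {P : Subgroup Ω} (hP : F.IsNormal P) :
    (imageAlong ι P).Normal := by
  have hPc := le_core hP
  refine ⟨fun y hy g => ?_⟩
  obtain ⟨x, hxS, hxP, rfl⟩ := mem_imageAlong.1 hy
  have h1 := Model.modelAct_spec hG g ⟨x, hPc hxP⟩
  rw [← h1]
  refine mem_imageAlong.2 ⟨_, _, ?_, rfl⟩
  exact (IsNormal.stronglyClosed hP).2 P le_rfl _
    (restr_mem F (autHom_mem F (isNormal_core F).1 (Model.modelAct hG g).2) hPc) ⟨x, hxP⟩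

theorem IsModel.centralizer_image_le (hS : IsPGroup p S) {F : FusionSystem S}
    {G : Type v} [Group G] {ι : S →* G}
    (hG : F.IsModel p G ι) {P : Subgroup Ω} (hP : F.IsNormal P) (hc : F.IsCentric P) :
    Subgroup.centralizer (imageAlong ι P : Set G) ≤ imageAlong ι P := by
  have hF := IsModel.isConstrained hG
  let D := Model.data_core hS hF
  have hcore := (isNormal_core F).1
  have hPc := le_core hP
  intro g hg
  have hfix : ∀ x : F.core, (x : Ω) ∈ P → ((Model.modelAct hG g).1 x : F.core) = x := by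
    intro x hx
    have h1 := Model.modelAct_spec hG g x
    have h2 := Subgroup.mem_centralizer_iff.1 hg _ (apply_mem_imageAlong ι ⟨x, hcore x.2⟩ hx)
    rw [← h2, mul_inv_cancel_right] at h1
    exact Subgroup.inclusion_injective hcore (hG.2.1.1 h1)
  obtain ⟨z, hz, hzx⟩ := exists_eq_conj_of_trivial_on_centric hS hF.1 hPc hcore
    (hcore.trans (WeaklyClosed.le_normalizer
      (StronglyClosed.weaklyClosed (IsNormal.stronglyClosed hP)))) hc
    (Model.modelAct hG g).2 hfix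
  have hzP : z ∈ P := hc.2 P (isConj_refl F hP.1) hz
  have h3 : Model.modelAct hG g = D.act ⟨z, hz.1⟩ :=
    Subtype.ext (MulEquiv.ext fun x => Subtype.ext (hzx x))
  obtain ⟨c, hc'⟩ := Model.exists_of_modelAct_eq_one hG D (g := (ι ⟨z, hz.1⟩)⁻¹ * g) (by
    rw [map_mul, map_inv, Model.modelAct_iota hG D, h3, inv_mul_cancel])
  have hcP : ((c : F.core) : Ω) ∈ P :=
    hc.2 P (isConj_refl F hP.1) ⟨hcore (c : F.core).2, fun y hy =>
      congrArg Subtype.val (Subgroup.mem_center_iff.1 c.2 ⟨y, hPc hy⟩)⟩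
  rw [show g = ι ⟨z, hz.1⟩ * ι (D.incl c) by rw [hc', mul_inv_cancel_left]]
  exact (imageAlong ι P).mul_mem (apply_mem_imageAlong ι ⟨z, hz.1⟩ hzP)
    (apply_mem_imageAlong ι (D.incl c) hcP)

variable {F : FusionSystem S}

/-- The system of the maps normalizing `Q ≤ P` and fixing `K ≤ P` (with `P` centric), if its domain
is as large as possible, has its model embedded in the model of the normalizer of a fully
normalized conjugate of `P`. -/
theorem exists_embedding_fix (hS : IsPGroup p S) (hF : F.IsSaturated p)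
    {P Q K T₀ T : Subgroup Ω} (hPc : F.IsCentric P) (hQP : Q ≤ P) (hKP : K ≤ P) (hPT : P ≤ T₀)
    (hT₀ : ∀ x, x ∈ T₀ ↔ x ∈ normalizerIn S P ∧ x ∈ normalizerIn S Q)
    (hT : ∀ x, x ∈ T ↔ x ∈ T₀ ∧ ∀ k ∈ K, k * x = x * k)
    (hgen : P ≤ P ⊓ T ⊔ K)
    {E : FusionSystem T}
    (hE : ∀ (X : Subgroup Ω) (φ : X →* Ω), φ ∈ E.Hom X ↔ (φ ∈ F.Hom X ∧ X ≤ T ∧
      (∀ x : X, φ x ∈ T) ∧ ∃ ψ ∈ F.Hom (X ⊔ P),
        (∀ x : X, ψ (Subgroup.inclusion le_sup_left x) = φ x) ∧ img ψ P = P ∧ img ψ Q = Q ∧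
        ∀ (k : Ω) (hk : k ∈ X ⊔ P), k ∈ K → ψ ⟨k, hk⟩ = k))
    (hmax : ∀ f ∈ F.Hom P,
      Nat.card ↥(normalizerIn S f.range ⊓ normalizerIn S (img f Q) ⊓
        centralizerIn S (img f K)) ≤ Nat.card T)
    {L : Type v} [Group L] {ιL : T →* L} (hL : E.IsModel p L ιL) :
    ∃ P' : Subgroup Ω, F.IsFullyNormalized P' ∧ F.IsCentric P' ∧ F.IsConj P P' ∧
      ∀ (N : FusionSystem (normalizerIn S P')), F.IsNormalizerSystem P' N →
        ∀ (L' : Type w) [Group L'] (ι' : ↥(normalizerIn S P') →* L'), N.IsModel p L' ι' →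
          ∃ e : L →* L', Function.Injective e := by
  obtain ⟨P', hPP', hP'⟩ := exists_fullyNormalized F hPc.1
  obtain ⟨α, hα, hαval, hαP⟩ := IsSaturated.exists_normalizer_map hS hF hP' hPP'
  have hP'c := isCentric_of_isConj hPc hPP'
  refine ⟨P', hP', hP'c, hPP', fun N hN L' _ ι' hL' => ?_⟩
  have hfin : Finite L' := hL'.1
  have hS' : IsPGroup p ↥(normalizerIn S P') := hS.to_le (normalizerIn_le S P')
  have : Finite ↥(normalizerIn S P') := finite_of_le (normalizerIn_le S P')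
  have hTS₀ : T₀ ≤ S := fun x hx => ((hT₀ x).1 hx).1.1
  have hTT : T ≤ T₀ := fun x hx => ((hT x).1 hx).1
  have hTS : T ≤ S := hTT.trans hTS₀
  have hTP : T₀ ≤ normalizerIn S P := fun x hx => ((hT₀ x).1 hx).1
  have hTQ : T₀ ≤ normalizerIn S Q := fun x hx => ((hT₀ x).1 hx).2
  have hTK : ∀ t ∈ T, ∀ k ∈ K, k * t = t * k := fun t ht => ((hT t).1 ht).2
  have : Finite T₀ := finite_of_le hTS₀
  have : Finite T := finite_of_le hTS
  let a : T₀ →* ↥(normalizerIn S P') := (restr hTP α).codRestrict _ fun x => hαval _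
  have ha : Function.Injective a := fun x y h =>
    Subgroup.inclusion_injective hTP (F.injective_of_mem hα (congrArg Subtype.val h))
  let j : T₀ →* L' := ι'.comp a
  have hj : Function.Injective j := hL'.2.1.1.comp ha
  have hP'N : P' ≤ normalizerIn S P' := le_normalizerIn hP'.1
  have hNn : N.IsNormal P' := IsNormalizerSystem.isNormal hN hP'.1
  let Pj : Subgroup L' := imageAlong ι' P'
  have hPjn : Pj.Normal := IsModel.image_normal hL' hNn
  have hPjC : Subgroup.centralizer (Pj : Set L') ≤ Pj :=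
    IsModel.centralizer_image_le hS' hL' hNn (IsNormalizerSystem.isCentric hN hP'N hP'c)
  have haP : ∀ x : T₀, (x : Ω) ∈ P → (a x : Ω) ∈ P' := fun x hx =>
    hαP.le (apply_mem_img α _ hx)
  have hPj' : ∀ y ∈ Pj, ∃ x : T₀, (x : Ω) ∈ P ∧ j x = y := by
    intro y hy
    obtain ⟨z, hzN, hz, rfl⟩ := mem_imageAlong.1 hy
    obtain ⟨x, hxN, hx, hxz⟩ := mem_img.1 (hαP.ge hz)
    exact ⟨⟨x, hPT hx⟩, hx, congrArg ι' (Subtype.ext hxz)⟩
  have hPj : ∀ x : T₀, (x : Ω) ∈ P → j x ∈ Pj := fun x hx =>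
    apply_mem_imageAlong ι' (a x) (haP x hx)
  let Qj : Subgroup L' := (Q.subgroupOf T₀).map j
  let Kj : Subgroup L' := (K.subgroupOf T₀).map j
  let M : Subgroup L' := Subgroup.normalizer (Qj : Set L') ⊓ Subgroup.centralizer (Kj : Set L')
  have hjM : ∀ t : T, j (Subgroup.inclusion hTT t) ∈ M := by
    intro t
    refine ⟨mem_normalizer_of_finite fun y hy => ?_, Subgroup.mem_centralizer_iff.2 fun y hy => ?_⟩
    · obtain ⟨x, hx, rfl⟩ := hy
      exact ⟨Subgroup.inclusion hTT t * x * (Subgroup.inclusion hTT t)⁻¹,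
        conj_mem_of_mem_normalizer (hTQ (hTT t.2)).2 hx, by rw [map_mul, map_mul, map_inv]⟩
    · obtain ⟨x, hx, rfl⟩ := hy
      rw [← map_mul, ← map_mul]
      exact congrArg j (Subtype.ext (hTK t t.2 x hx))
  let jM : T →* M := (j.comp (Subgroup.inclusion hTT)).codRestrict M hjM
  have hjMi : Function.Injective jM := fun x y h =>
    Subgroup.inclusion_injective hTT (hj (congrArg Subtype.val h))
  -- the subgroup `M` realizes `E`
  have hreal : E.IsRealizedBy jM := by
    refine ⟨hjMi, fun X hX φ hφ => ⟨fun h => ?_, ?_⟩⟩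
    · obtain ⟨-, -, -, ψ, hψ, hψe, hψP, hψQ, hψK⟩ := (hE X φ).1 h
      let U := X ⊔ P
      have hUT : U ≤ T₀ := sup_le (hX.trans hTT) hPT
      have hUN : U ≤ normalizerIn S P := hUT.trans hTP
      let b := restr hUN α
      have hb : b ∈ F.Hom U := restr_mem F hα hUN
      obtain ⟨c, hc, hcr, hl, -⟩ := exists_inv F hb rfl
      have hcU : ∀ y, c y ∈ U := fun y => hcr.le ⟨y, rfl⟩
      have hψN : ∀ y, ψ y ∈ normalizerIn S P := by
        intro y
        exact IsNormalizerSystem.ext_mem hPc.1 (fun x => hTP (hTT (hφ x))) hψe hψP y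
      let φ₁ := compose (compose c ψ hcU) α fun y => hψN _
      have hφ₁ : φ₁ ∈ F.Hom b.range :=
        compose_mem F (compose_mem F hc hψ hcU) hα fun y => hψN _
      have happly : ∀ z : U, φ₁ ⟨b z, z, rfl⟩ = α ⟨ψ z, hψN z⟩ := fun z =>
        congrArg α (Subtype.ext (congrArg ψ (Subtype.ext (hl z _))))
      have hP'b : P' ≤ b.range := fun y hy => by
        obtain ⟨x, hxN, hx, rfl⟩ := mem_img.1 (hαP.ge hy)
        exact ⟨⟨x, Subgroup.mem_sup_right hx⟩, rfl⟩
      have himg : img φ₁ P' = P' := by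
        have := finite_of_le hP'.1
        refine Subgroup.eq_of_le_of_card_ge ?_ (card_img (F.injective_of_mem hφ₁) hP'b).ge
        intro y hy
        obtain ⟨w, hw, hwP, rfl⟩ := mem_img.1 hy
        obtain ⟨x, hxN, hx, rfl⟩ := mem_img.1 (hαP.ge hwP)
        rw [show φ₁ ⟨α ⟨x, hxN⟩, hw⟩ = _ from happly ⟨x, Subgroup.mem_sup_right hx⟩]
        exact hαP.le (apply_mem_img α _ (hψP.le (apply_mem_img ψ _ hx)))
      have hle : b.range ⊔ P' ≤ b.range := sup_le le_rfl hP'b
      have hφ₁N : φ₁ ∈ N.Hom b.range := by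
        rw [hN b.range]
        refine ⟨hφ₁, fun y hy => ?_, fun y => hαval _, restr hle φ₁, restr_mem F hφ₁ hle,
          fun y => rfl, ?_⟩
        · obtain ⟨z, rfl⟩ := hy
          exact hαval _
        · show img (restr hle φ₁) P' = P'
          rw [img_restr hle φ₁ le_sup_right]
          exact himg
      obtain ⟨g, hg⟩ := IsRealizedBy.exists_conj hL'.2.1 hφ₁N
      have hψT : ∀ z : U, ψ z ∈ T₀ := fun z => (hT₀ _).2 ⟨hψN z,
        IsNormalizerSystem.ext_mem (S := S) (Q := Q) (hQP.trans hPc.1) (P := U)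
          (φ := ψ) (ψ := restr (sup_le le_rfl (hQP.trans le_sup_right)) ψ)
          (fun y => by
            have h1 : U ≤ Subgroup.map U.subtype ((normalizerIn S Q).comap ψ) := by
              refine sup_le (fun w hw => ?_) fun w hw => ?_
              · refine ⟨⟨w, Subgroup.mem_sup_left hw⟩, ?_, rfl⟩
                show ψ _ ∈ normalizerIn S Q
                rw [show ψ ⟨w, Subgroup.mem_sup_left hw⟩ = φ ⟨w, hw⟩ from hψe ⟨w, hw⟩]
                exact hTQ (hTT (hφ _))
              · exact ⟨⟨w, Subgroup.mem_sup_right hw⟩,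
                  hTQ (hPT (hψP.le (apply_mem_img ψ _ hw))), rfl⟩
            obtain ⟨w, hw, hwy⟩ := h1 y.2
            exact (Subtype.ext hwy : w = y) ▸ hw)
          (fun y => rfl)
          (by
            show img (restr _ ψ) Q = Q
            rw [img_restr _ ψ le_sup_right]
            exact hψQ) ⟨z, Subgroup.mem_sup_left z.2⟩⟩
      have key : ∀ z : U, j ⟨ψ z, hψT z⟩ = g * j ⟨z, hUT z.2⟩ * g⁻¹ := by
        intro z
        have h1 := hg ⟨b z, z, rfl⟩
        simp only [happly z] at h1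
        exact h1
      have hgM : g ∈ M := by
        refine ⟨mem_normalizer_of_finite fun y hy => ?_,
          Subgroup.mem_centralizer_iff.2 fun y hy => ?_⟩
        · obtain ⟨x, hx, rfl⟩ := hy
          have hxU : (x : Ω) ∈ U := Subgroup.mem_sup_right (hQP hx)
          rw [← key ⟨x, hxU⟩]
          exact ⟨_, hψQ.le (apply_mem_img ψ _ hx), rfl⟩
        · obtain ⟨x, hx, rfl⟩ := hy
          have hxU : (x : Ω) ∈ U := Subgroup.mem_sup_right (hKP hx)
          have h1 := key ⟨x, hxU⟩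
          simp only [hψK x hxU hx] at h1
          exact eq_mul_inv_iff_mul_eq.1 h1
      refine ⟨⟨g, hgM⟩, fun x => Subtype.ext ?_⟩
      have h1 := key (Subgroup.inclusion le_sup_left x)
      simp only [hψe x] at h1
      exact h1
    · rintro ⟨g, hg⟩
      let U := X ⊔ P
      have hUT : U ≤ T₀ := sup_le (hX.trans hTT) hPT
      have hgx : ∀ x : X, j ⟨φ x, hTT (hφ x)⟩ = (g : L') * j ⟨x, hTT (hX x.2)⟩ * (g : L')⁻¹ :=
        fun x =>
        congrArg Subtype.val (hg x)
      have hex : ∀ z : U, ∃ w : T₀, j w = (g : L') * j ⟨z, hUT z.2⟩ * (g : L')⁻¹ := by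
        intro z
        have h1 : U ≤ ((j.range.comap ((MulAut.conj (g : L')).toMonoidHom.comp j)).map T₀.subtype) :=
          by
            refine sup_le (fun x hx => ⟨⟨x, hTT (hX hx)⟩, ⟨_, hgx ⟨x, hx⟩⟩, rfl⟩) fun x hx => ?_
            obtain ⟨w, -, hw⟩ := hPj' _ (hPjn.conj_mem _ (hPj ⟨x, hPT hx⟩ hx) g)
            exact ⟨⟨x, hPT hx⟩, ⟨w, hw⟩, rfl⟩
        obtain ⟨y, ⟨w, hw⟩, hy⟩ := h1 z.2
        exact ⟨w, by rw [hw, show y = ⟨z, hUT z.2⟩ from Subtype.ext hy]; rfl⟩
      choose w hw using hex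
      let b := restr (hUT.trans hTP) α
      have hb : b ∈ F.Hom U := restr_mem F hα _
      have hbN : b.range ≤ normalizerIn S P' := by
        rintro _ ⟨z, rfl⟩
        exact hαval _
      obtain ⟨χ, hχ, hχe⟩ := IsRealizedBy.exists_hom hL'.2.1 hbN (g : L') fun y => by
        obtain ⟨z, hz⟩ := y.2
        refine ⟨a (w z), ?_⟩
        show j (w z) = _
        rw [hw z, show (⟨(y : Ω), hbN y.2⟩ : ↥(normalizerIn S P')) = a ⟨z, hUT z.2⟩ from
          Subtype.ext hz.symm]
        rfl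
      have hχF : χ ∈ F.Hom b.range := IsNormalizerSystem.le_system hN hχ
      have hbχ : ∀ z : U, compose b χ (fun z => ⟨z, rfl⟩) z = α ⟨w z, hTP (w z).2⟩ := fun z =>
        congrArg Subtype.val (hL'.2.1.1 ((hχe _).trans (hw z).symm) :
          (⟨_, apply_mem hχ _⟩ : ↥(normalizerIn S P')) = a (w z))
      obtain ⟨c, hc, -, hl, -⟩ := exists_inv F hα rfl
      have hm : ∀ z, compose b χ (fun z => ⟨z, rfl⟩) z ∈ α.range := fun z => ⟨_, (hbχ z).symm⟩
      let ψ := compose (compose b χ fun z => ⟨z, rfl⟩) c hm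
      have hψ : ψ ∈ F.Hom U := compose_mem F (compose_mem F hb hχF _) hc hm
      have hψw : ∀ z : U, ψ z = w z := fun z => by
        show c ⟨_, hm z⟩ = _
        rw [show (⟨_, hm z⟩ : α.range) = ⟨α ⟨w z, hTP (w z).2⟩, _, rfl⟩ from Subtype.ext (hbχ z)]
        exact hl _ _
      have hψφ : ∀ x : X, ψ (Subgroup.inclusion le_sup_left x) = φ x := by
        intro x
        rw [hψw]
        refine congrArg Subtype.val (hj ?_ : w _ = ⟨φ x, hTT (hφ x)⟩)
        rw [hw, hgx x]
        rfl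
      refine (hE X φ).2 ⟨?_, hX, hφ, ψ, hψ, hψφ, ?_, ?_, ?_⟩
      · rw [show φ = restr le_sup_left ψ from MonoidHom.ext fun x => (hψφ x).symm]
        exact restr_mem F hψ _
      · have := finite_of_le hPc.1
        refine Subgroup.eq_of_le_of_card_ge ?_
          (card_img (F.injective_of_mem hψ) le_sup_right).ge
        intro y hy
        obtain ⟨x, hxU, hx, rfl⟩ := mem_img.1 hy
        rw [hψw]
        obtain ⟨w', hw'P, hw'⟩ := hPj' _ (hPjn.conj_mem _ (hPj ⟨x, hPT hx⟩ hx) g)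
        rw [show w ⟨x, hxU⟩ = w' from hj ((hw _).trans hw'.symm)]
        exact hw'P
      · have := finite_of_le (hQP.trans hPc.1)
        refine Subgroup.eq_of_le_of_card_ge ?_
          (card_img (F.injective_of_mem hψ) (hQP.trans le_sup_right)).ge
        intro y hy
        obtain ⟨x, hxU, hx, rfl⟩ := mem_img.1 hy
        rw [hψw]
        obtain ⟨w', hw'Q, hw'⟩ := ((g.2.1 (j ⟨x, hPT (hQP hx)⟩)).1 ⟨⟨x, hPT (hQP hx)⟩, hx, rfl⟩)
        rw [show w ⟨x, hxU⟩ = w' from hj ((hw _).trans hw'.symm)]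
        exact hw'Q
      · intro k hk hkK
        rw [hψw]
        have h1 := Subgroup.mem_centralizer_iff.1 g.2.2 _
          (⟨⟨k, hUT hk⟩, hkK, rfl⟩ : j ⟨k, hUT hk⟩ ∈ Kj)
        refine congrArg Subtype.val (hj ?_ : w ⟨k, hk⟩ = ⟨k, hUT hk⟩)
        rw [hw, ← h1, mul_inv_cancel_right]
  -- Sylow
  have hsyl : ∃ R : Sylow p M, (R : Subgroup M) = jM.range := by
    have hp : IsPGroup p jM.range :=
      (hS.to_le hTS).of_surjective _ jM.rangeRestrict_surjective
    obtain ⟨R, hR⟩ := hp.exists_le_sylow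
    refine ⟨R, (Subgroup.eq_of_le_of_card_ge hR ?_).symm⟩
    rw [← Nat.card_congr (MonoidHom.ofInjective hjMi).toEquiv]
    obtain ⟨T', hT'⟩ := hL'.2.2.1
    obtain ⟨V, hV⟩ := (R.2.map M.subtype).exists_le_sylow
    obtain ⟨g, hg⟩ := MulAction.exists_smul_eq L' V T'
    have hgi : ∀ r : (R : Subgroup M), ∃ s : ↥(normalizerIn S P'),
        ι' s = g * ((r : M) : L') * g⁻¹ := by
      intro r
      have h1 : g * ((r : M) : L') * g⁻¹ ∈ ((g • V : Sylow p L') : Subgroup L') := by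
        rw [Sylow.coe_subgroup_smul]
        exact ⟨((r : M) : L'), hV ⟨r, r.2, rfl⟩, rfl⟩
      rw [hg, hT'] at h1
      exact h1
    choose s hs using hgi
    have hP'b : P' ≤ normalizerIn S P' := hP'N
    obtain ⟨χ, hχ, hχe⟩ := IsRealizedBy.exists_hom hL'.2.1 hP'b g fun y => by
      obtain ⟨z, hzN, -, hz⟩ := mem_imageAlong.1
        (hPjn.conj_mem _ (apply_mem_imageAlong ι' (⟨y, hP'b y.2⟩ : ↥(normalizerIn S P')) y.2) g)
      exact ⟨_, hz⟩
    let α₀ := restr (hPT.trans hTP) α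
    have hα₀ : ∀ x, α₀ x ∈ P' := fun x => haP ⟨x, hPT x.2⟩ x.2
    let f := compose α₀ χ hα₀
    have hf : f ∈ F.Hom P :=
      compose_mem F (restr_mem F hα _) (IsNormalizerSystem.le_system hN hχ) hα₀
    have hfe : ∀ (x : P) (hx : f x ∈ normalizerIn S P'),
        ι' ⟨f x, hx⟩ = g * j ⟨x, hPT x.2⟩ * g⁻¹ := fun x _ => hχe _
    have hfr : f.range = P' := by
      have := finite_of_le hP'.1
      refine Subgroup.eq_of_le_of_card_ge ?_ ?_
      · rintro _ ⟨x, rfl⟩
        have h1 : ι' (⟨f x, apply_mem hχ _⟩ : ↥(normalizerIn S P')) ∈ Pj :=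
          (hfe x (apply_mem hχ _)).symm ▸ hPjn.conj_mem _ (hPj _ x.2) g
        exact (apply_mem_imageAlong_iff hL'.2.1.1).1 h1
      · rw [card_range_eq (F.injective_of_mem hf), isConj_card hPP']
    have hsmem : ∀ r, (s r : Ω) ∈ normalizerIn S f.range ⊓ normalizerIn S (img f Q) ⊓
        centralizerIn S (img f K) := by
      intro r
      refine ⟨⟨hfr.symm ▸ (s r).2, (s r).2.1, ?_⟩, (s r).2.1, fun y hy => ?_⟩
      swap
      · obtain ⟨x, hxP, hx, rfl⟩ := mem_img.1 hy
        have hc := Subgroup.mem_centralizer_iff.1 r.1.2.2 _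
          (⟨⟨x, hPT hxP⟩, hx, rfl⟩ : j ⟨x, hPT hxP⟩ ∈ Kj)
        refine congrArg Subtype.val (hL'.2.1.1 ?_ :
          (⟨f ⟨x, hxP⟩, apply_mem hχ _⟩ : ↥(normalizerIn S P')) * s r =
            s r * ⟨f ⟨x, hxP⟩, apply_mem hχ _⟩)
        rw [map_mul, map_mul, hs]
        refine (congrArg (fun z => z * (g * ((r : M) : L') * g⁻¹))
          (hfe ⟨x, hxP⟩ (apply_mem hχ _))).trans ?_
        refine Eq.trans ?_ (congrArg (fun z => g * ((r : M) : L') * g⁻¹ * z)
          (hfe ⟨x, hxP⟩ (apply_mem hχ _))).symm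
        calc g * j ⟨x, hPT hxP⟩ * g⁻¹ * (g * ((r : M) : L') * g⁻¹)
            = g * (j ⟨x, hPT hxP⟩ * ((r : M) : L')) * g⁻¹ := by group
          _ = _ := by rw [hc]; group
      have := finite_of_le ((img_le_range f Q).trans (range_le hf))
      refine mem_normalizer_of_finite fun y hy => ?_
      obtain ⟨x, hxP, hx, rfl⟩ := mem_img.1 hy
      obtain ⟨x', hx', hxx⟩ := ((r.1.2.1 (j ⟨x, hPT (hQP hx)⟩)).1
        ⟨⟨x, hPT (hQP hx)⟩, hx, rfl⟩)
      refine mem_img.2 ⟨x', hQP hx', hx', ?_⟩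
      refine congrArg Subtype.val (hL'.2.1.1 ?_ :
        (⟨_, apply_mem hχ _⟩ : ↥(normalizerIn S P')) = s r * ⟨_, apply_mem hχ _⟩ * (s r)⁻¹)
      rw [map_mul, map_mul, map_inv, hs]
      refine (hfe ⟨x', hQP hx'⟩ (apply_mem hχ _)).trans ?_
      refine Eq.trans ?_ (congrArg (fun z => g * ((r : M) : L') * g⁻¹ * z *
        (g * ((r : M) : L') * g⁻¹)⁻¹) (hfe ⟨x, hxP⟩ (apply_mem hχ _))).symm
      beta_reduce
      rw [show j ⟨(x' : Ω), hPT (hQP hx')⟩ = j x' from rfl, hxx]
      group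
    have hsi : Function.Injective fun r => (⟨(s r : Ω), hsmem r⟩ :
        ↥(normalizerIn S f.range ⊓ normalizerIn S (img f Q) ⊓ centralizerIn S (img f K))) := by
      intro r r' h
      have h1 : ι' (s r) = ι' (s r') := congrArg ι' (Subtype.ext (congrArg Subtype.val h :))
      rw [hs, hs] at h1
      exact Subtype.ext (Subtype.ext (mul_left_cancel (mul_right_cancel h1)))
    have := finite_of_le (inf_le_right.trans (centralizerIn_le S _) :
      normalizerIn S f.range ⊓ normalizerIn S (img f Q) ⊓ centralizerIn S (img f K) ≤ S)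
    exact (Nat.card_le_card_of_injective _ hsi).trans (hmax f hf)
  -- centralizer
  have hC : Subgroup.centralizer ((pCore p M : Subgroup M) : Set M) ≤ pCore p M := by
    have hn : (Pj.subgroupOf M).Normal := Subgroup.Normal.subgroupOf hPjn M
    have hp : IsPGroup p (Pj.subgroupOf M) :=
      ((hS.to_le hP'.1).of_equiv (Subgroup.subgroupOfEquivOfLe hP'N).symm
        |>.map ι').comap_of_injective M.subtype M.subtype_injective
    have hle : Pj.subgroupOf M ≤ pCore p M := le_sSup ⟨hn, hp⟩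
    intro g hg
    refine hle (hPjC (Subgroup.mem_centralizer_iff.2 fun y hy => ?_))
    obtain ⟨x, hx, rfl⟩ := hPj' y hy
    -- the elements of `P` whose image commutes with `g` contain `P ⊓ T` and `K`
    have h1 : P ⊓ T ⊔ K ≤ ((Subgroup.centralizer {((g : M) : L')}).comap j).map T₀.subtype := by
      refine sup_le (fun z hz => ⟨⟨z, hPT hz.1⟩, ?_, rfl⟩) fun z hz => ⟨⟨z, hPT (hKP hz)⟩, ?_, rfl⟩
      · refine Subgroup.mem_centralizer_iff.2 fun w hw => ?_
        rw [Set.mem_singleton_iff.1 hw]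
        exact (congrArg Subtype.val
          (Subgroup.mem_centralizer_iff.1 hg (jM ⟨z, hz.2⟩) (hle (hPj _ hz.1)))).symm
      · refine Subgroup.mem_centralizer_iff.2 fun w hw => ?_
        rw [Set.mem_singleton_iff.1 hw]
        exact (Subgroup.mem_centralizer_iff.1 (g : M).2.2 _ ⟨⟨z, hPT (hKP hz)⟩, hz, rfl⟩).symm
    obtain ⟨z, hz, hzx⟩ := h1 (hgen hx)
    rw [show x = z from Subtype.ext hzx.symm]
    exact (Subgroup.mem_centralizer_iff.1 hz _ rfl).symm
  have hM : E.IsModel p M jM := ⟨inferInstance, hreal, hsyl, hC⟩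
  obtain ⟨φ, -⟩ := model_unique (hS.to_le hTS) (IsModel.isConstrained hL) hL hM
  exact ⟨M.subtype.comp φ.toMonoidHom, M.subtype_injective.comp φ.injective⟩

/-- The case `K = ⊥` of `exists_embedding_fix`. -/
theorem exists_embedding (hS : IsPGroup p S) (hF : F.IsSaturated p) {P Q T : Subgroup Ω}
    (hPc : F.IsCentric P) (hQP : Q ≤ P) (hPT : P ≤ T)
    (hT : ∀ x, x ∈ T ↔ x ∈ normalizerIn S P ∧ x ∈ normalizerIn S Q)
    {E : FusionSystem T}
    (hE : ∀ (X : Subgroup Ω) (φ : X →* Ω), φ ∈ E.Hom X ↔ (φ ∈ F.Hom X ∧ X ≤ T ∧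
      (∀ x : X, φ x ∈ T) ∧ ∃ ψ ∈ F.Hom (X ⊔ P),
        (∀ x : X, ψ (Subgroup.inclusion le_sup_left x) = φ x) ∧ img ψ P = P ∧ img ψ Q = Q))
    (hmax : ∀ f ∈ F.Hom P,
      Nat.card ↥(normalizerIn S f.range ⊓ normalizerIn S (img f Q)) ≤ Nat.card T)
    {L : Type v} [Group L] {ιL : T →* L} (hL : E.IsModel p L ιL) :
    ∃ P' : Subgroup Ω, F.IsFullyNormalized P' ∧ F.IsCentric P' ∧ F.IsConj P P' ∧
      ∀ (N : FusionSystem (normalizerIn S P')), F.IsNormalizerSystem P' N →
        ∀ (L' : Type w) [Group L'] (ι' : ↥(normalizerIn S P') →* L'), N.IsModel p L' ι' →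
          ∃ e : L →* L', Function.Injective e :=
  exists_embedding_fix hS hF hPc hQP bot_le hPT hT
    (fun x => ⟨fun hx => ⟨hx, fun k hk => by rw [Subgroup.mem_bot.1 hk, one_mul, mul_one]⟩,
      fun hx => hx.1⟩)
    ((le_inf le_rfl hPT).trans le_sup_left)
    (fun X φ => (hE X φ).trans (and_congr_right fun _ => and_congr_right fun _ =>
      and_congr_right fun _ => exists_congr fun ψ => and_congr_right fun _ =>
      and_congr_right fun _ => and_congr_right fun _ => iff_self_and.2 fun _ k hk hk' => by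
        rw [show (⟨k, hk⟩ : ↥(X ⊔ P)) = 1 from Subtype.ext (Subgroup.mem_bot.1 hk'), map_one]
        exact (Subgroup.mem_bot.1 hk').symm))
    (fun f hf => by
      have := finite_of_le (inf_le_left.trans (normalizerIn_le S f.range) :
        normalizerIn S f.range ⊓ normalizerIn S (img f Q) ≤ S)
      exact (Subgroup.card_le_of_le inf_le_left).trans (hmax f hf)) hL

end Cfsg.Agent.Lib.Fusion
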