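import Cfsg.Agent.Lib.Fusion.ModelExtension

/-!
Existence of a model of a constrained fusion system.
-/

set_option autoImplicit false
set_option linter.unusedSectionVars false

namespace Cfsg.Agent.Lib.Fusion.Model

open Cfsg Cfsg.FusionSystem

universe u

variable {Ω : Type u} [Group Ω] {S : Subgroup Ω} [Finite S] {p : ℕ} [Fact p.Prime]
variable {F : FusionSystem S} {Q : Subgroup Ω} (D : Data F p Q)

include D

theorem Data.agree_map {U : Subgroup Ω} (hU : U ≤ S) {ψ : U →* Ω} (hψ : ψ ∈ F.Hom U)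
    {h : F.autGroup Q} (hQU : Q ≤ U)
    (hext : ∀ q : Q, ψ ⟨q, hQU q.2⟩ = ((h : MulAut Q) q : Q)) (u : U) :
    D.act ⟨ψ u, apply_mem hψ u⟩ * h = h * D.act ⟨u, hU u.2⟩ := by
  refine Subtype.ext (MulEquiv.ext fun q => Subtype.ext ?_)
  have hq : (u : Ω) * q * (u : Ω)⁻¹ ∈ Q :=
    conj_mem_of_mem_normalizer (D.normalizes (hU u.2)) q.2
  have h1 := map_conj (φ := autHom (h : MulAut Q)) (ψ := ψ)
    (fun x hP _ => hext ⟨x, hP⟩) hQU u.2 q.2 hq
  exact h1.symm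

theorem Data.coord_congr {s t : S} (h : s = t) (x : D.X) : D.coord s x = D.coord t x := h ▸ rfl

/-- The coordinate at a point fixed by a subgroup, as a map of the system. -/
theorem Data.coord_hom {V : Subgroup Ω} (hV : V ≤ S) {χ : V →* Ω} (hχ : χ ∈ F.Hom V) (x : D.X)
    (hx : ∀ v : V, D.act ⟨χ v, apply_mem hχ v⟩ • x = x) :
    ∃ a ∈ F.Hom V, ∀ v : V, a v = D.coord ⟨χ v, apply_mem hχ v⟩ x := by
  let r : F.autGroup Q := (D.base x).out
  let l : S := (D.lift x)⁻¹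
  let χ₁ := compose χ (conjHom S (l : Ω)) fun v => apply_mem hχ v
  have hχ₁ : χ₁ ∈ F.Hom V := compose_mem F hχ (F.conj_mem le_rfl l.2) _
  have key : ∀ v : V, (⟨χ₁ v, apply_mem hχ₁ v⟩ : S) =
      (D.lift x)⁻¹ * ⟨χ v, apply_mem hχ v⟩ * D.lift ((D.act ⟨χ v, apply_mem hχ v⟩)⁻¹ • x) := by
    intro v
    have e : (D.act ⟨χ v, apply_mem hχ v⟩)⁻¹ • x = x := by rw [inv_smul_eq_iff, hx]
    rw [e]
    apply Subtype.ext
    show ((D.lift x : S) : Ω)⁻¹ * χ v * ((D.lift x : S) : Ω)⁻¹⁻¹ = _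
    rw [inv_inv]
    rfl
  have hfix : ∀ v : V, D.act ⟨χ₁ v, apply_mem hχ₁ v⟩ • D.base x = D.base x := fun v => by
    rw [key]
    exact D.coord_fix _ x
  have hmem : ∀ v : V, χ₁ v ∈ extender S Q (autHom (r : MulAut Q)⁻¹) := fun v =>
    D.mem_extender_of_fix (hfix v)
  refine ⟨compose χ₁ (D.ext r) hmem, compose_mem F hχ₁ (D.ext_mem r) hmem, fun v => ?_⟩
  rw [Data.coord, ← key v]
  exact (D.extS_eq (s := ⟨χ₁ v, apply_mem hχ₁ v⟩) (hmem v)).symm

/-- The elements of `U` fixing a point. -/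
noncomputable def Data.stab (U : Subgroup Ω) (c : D.X) : Subgroup Ω :=
  U ⊓ ((MulAction.stabilizer (F.autGroup Q) c).comap D.act).map S.subtype

theorem Data.mem_stab {U : Subgroup Ω} {c : D.X} {v : Ω} (hv : v ∈ D.stab U c) (hvS : v ∈ S) :
    D.act ⟨v, hvS⟩ • c = c := by
  obtain ⟨-, s, hs, rfl⟩ := hv
  exact hs

theorem Data.inv_smul_of_agree {U : Subgroup Ω} (hU : U ≤ S) {ψ : U →* Ω} (hψ : ψ ∈ F.Hom U)
    {h : F.autGroup Q} (hQU : Q ≤ U)
    (hext : ∀ q : Q, ψ ⟨q, hQU q.2⟩ = ((h : MulAut Q) q : Q)) (u : U) (y : D.X) :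
    (D.act ⟨ψ u, apply_mem hψ u⟩)⁻¹ • h • y = h • (D.act ⟨u, hU u.2⟩)⁻¹ • y := by
  rw [inv_smul_eq_iff, smul_smul _ h, D.agree_map hU hψ hQU hext u, mul_smul, smul_inv_smul]

/-- At a base point, the two coordinate maps are conjugate. -/
theorem Data.exists_base_elt {U : Subgroup Ω} (hU : U ≤ S) {ψ : U →* Ω} (hψ : ψ ∈ F.Hom U)
    {h : F.autGroup Q} (hQU : Q ≤ U)
    (hext : ∀ q : Q, ψ ⟨q, hQU q.2⟩ = ((h : MulAut Q) q : Q)) (c : D.X) :
    ∃ m : S, D.act m = (D.tr (h • c))⁻¹ * h * D.tr c ∧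
      ∀ u : U, D.act ⟨u, hU u.2⟩ • c = c →
        D.coord ⟨ψ u, apply_mem hψ u⟩ (h • c) = m * D.coord ⟨u, hU u.2⟩ c * m⁻¹ := by
  let V := D.stab U c
  have hVU : V ≤ U := inf_le_left
  have hQV : Q ≤ V := fun q hq =>
    ⟨hQU hq, ⟨D.incl ⟨q, hq⟩, D.inn_fix ⟨q, hq⟩ c, rfl⟩⟩
  have hVS := hVU.trans hU
  have hfix : ∀ v : V, D.act ⟨v, hVS v.2⟩ • c = c := fun v => D.mem_stab v.2 _
  obtain ⟨a, ha, hae⟩ := D.coord_hom hVS (χ := V.subtype) (subtype_mem F hVS) c hfix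
  have hfix' : ∀ v : V, D.act ⟨restr hVU ψ v, apply_mem (restr_mem F hψ hVU) v⟩ • h • c = h • c := by
    intro v
    show D.act ⟨ψ ⟨v, hVU v.2⟩, _⟩ • h • c = h • c
    rw [smul_smul, D.agree_map hU hψ hQU hext, mul_smul, hfix v]
  obtain ⟨a', ha', hae'⟩ := D.coord_hom hVS (χ := restr hVU ψ) (restr_mem F hψ hVU) (h • c) hfix'
  have hδ : (D.tr (h • c))⁻¹ * h * D.tr c ∈ D.act.range := by
    have := D.cocycle_mem h (h • c)
    rwa [inv_smul_smul] at this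
  obtain ⟨m₀, hm₀⟩ := hδ
  let a'' := compose a (conjHom S (m₀ : Ω)) fun v => apply_mem ha v
  have ha'' : a'' ∈ F.Hom V := compose_mem F ha (F.conj_mem le_rfl m₀.2) _
  have haQ : ∀ (x : V) (q : Q), (x : Ω) = q →
      a x = (((D.tr c)⁻¹ : F.autGroup Q).1 q : Q) := by
    intro x q e
    rw [hae x, D.coord_congr (t := D.incl q) (Subtype.ext e), D.coord_incl]
    rfl
  have hagree : ∀ x : V, (x : Ω) ∈ Q → a'' x = a' x := by
    intro x hx
    show (m₀ : Ω) * a x * (m₀ : Ω)⁻¹ = a' x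
    rw [haQ x ⟨x, hx⟩ rfl, hae' x,
      D.coord_congr (t := D.incl ((h : MulAut Q) ⟨x, hx⟩)) (Subtype.ext (hext ⟨x, hx⟩)),
      D.coord_incl, ← D.act_apply, hm₀]
    simp [D.incl_coe]
  obtain ⟨z, hz, hzQ, hy⟩ :=
    exists_conj_of_agree D.isPGroup D.saturated hQV D.centric ha'' ha' hagree
  let w : S := ⟨a'' z, apply_mem ha'' z⟩
  have hzc : (⟨z, hzQ⟩ : Q) ∈ Subgroup.center Q :=
    Subgroup.mem_center_iff.2 fun q => Subtype.ext (hz.2 q q.2)
  have hw : D.act w = 1 := by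
    have e : w = D.incl (((D.tr (h • c))⁻¹ * h * D.tr c : F.autGroup Q).1
        (((D.tr c)⁻¹ : F.autGroup Q).1 ⟨z, hzQ⟩)) := by
      apply Subtype.ext
      show (m₀ : Ω) * a z * (m₀ : Ω)⁻¹ = _
      rw [haQ z ⟨z, hzQ⟩ rfl, ← D.act_apply, hm₀]
      rfl
    rw [e, D.act_conj, D.act_conj, D.act_eq_one_of_center hzc]
    simp
  refine ⟨w * m₀, by rw [map_mul, hw, one_mul, hm₀], fun u hu => ?_⟩
  have huV : (u : Ω) ∈ V := ⟨u.2, ⟨⟨u, hU u.2⟩, hu, rfl⟩⟩
  apply Subtype.ext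
  have h1 := hy ⟨u, huV⟩
  rw [hae' ⟨u, huV⟩] at h1
  rw [show D.coord ⟨ψ u, apply_mem hψ u⟩ (h • c) =
    D.coord ⟨restr hVU ψ ⟨u, huV⟩, apply_mem (restr_mem F hψ hVU) _⟩ (h • c) from rfl, h1]
  rw [map_mul, map_mul, map_inv, Subgroup.coe_mul, Subgroup.coe_mul, Subgroup.coe_inv,
    Subgroup.coe_mul, mul_inv_rev]
  show a'' z * ((m₀ : Ω) * a ⟨u, huV⟩ * (m₀ : Ω)⁻¹) * (a'' z)⁻¹ = _
  rw [hae ⟨u, huV⟩]
  simp [w, mul_assoc]

/-- The choice of coordinates of an element inducing a given map of the system. -/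
theorem Data.exists_coords {U : Subgroup Ω} (hU : U ≤ S) {ψ : U →* Ω} (hψ : ψ ∈ F.Hom U)
    {h : F.autGroup Q} (hQU : Q ≤ U)
    (hext : ∀ q : Q, ψ ⟨q, hQU q.2⟩ = ((h : MulAut Q) q : Q)) :
    ∃ m : D.X → S, (∀ y, D.act (m y) = (D.tr (h • y))⁻¹ * h * D.tr y) ∧
      ∀ (u : U) (y : D.X), m y * D.coord ⟨u, hU u.2⟩ y =
        D.coord ⟨ψ u, apply_mem hψ u⟩ (h • y) * m ((D.act ⟨u, hU u.2⟩)⁻¹ • y) := by
  let f : U →* S := Subgroup.inclusion hU
  let g : U →* S := ψ.codRestrict S (apply_mem hψ)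
  have hinv : ∀ (u : U) (y : D.X), (D.act (g u))⁻¹ • h • y = h • (D.act (f u))⁻¹ • y :=
    fun u y => D.inv_smul_of_agree hU hψ hQU hext u y
  have heq : Equivalence fun x y : D.X => ∃ u : U, D.act (f u) • x = y :=
    ⟨fun x => ⟨1, by rw [map_one, map_one, one_smul]⟩,
      fun {x y} ⟨s, hs⟩ => ⟨s⁻¹, by rw [map_inv, map_inv, ← hs, inv_smul_smul]⟩,
      fun {x y z} ⟨s, hs⟩ ⟨s', hs'⟩ => ⟨s' * s, by rw [map_mul, map_mul, mul_smul, hs, hs']⟩⟩
  let b : D.X → D.X := fun y => (Quotient.mk (⟨_, heq⟩ : Setoid D.X) y).out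
  have hb : ∀ (u : U) (y : D.X), b ((D.act (f u))⁻¹ • y) = b y := fun u y =>
    congrArg Quotient.out (Quotient.sound ⟨u, smul_inv_smul _ _⟩)
  have hv : ∀ y, ∃ v : U, D.act (f v) • b y = y :=
    Quotient.mk_out (s := (⟨_, heq⟩ : Setoid D.X))
  choose v hv using hv
  choose m₁ hm₁ hm₂ using D.exists_base_elt hU hψ hQU hext
  have hc : ∀ y, (D.act (f (v y)))⁻¹ • y = b y := fun y => by
    rw [inv_smul_eq_iff, hv]
  let m : D.X → S := fun y =>
    D.coord (g (v y)) (h • y) * m₁ (b y) * (D.coord (f (v y)) y)⁻¹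
  refine ⟨m, fun y => ?_, fun u y => ?_⟩
  · have h1 : D.act (g (v y)) * h = h * D.act (f (v y)) := D.agree_map hU hψ hQU hext (v y)
    have h2 : (D.act (g (v y)))⁻¹ • h • y = h • b y := by rw [hinv, hc]
    rw [map_mul, map_mul, map_inv, D.coord_mem, D.coord_mem, hm₁, h2, hc]
    calc _ = (D.tr (h • y))⁻¹ * (D.act (g (v y)) * h) * (D.act (f (v y)))⁻¹ * D.tr y := by group
      _ = _ := by rw [h1]; group
  · show m y * D.coord (f u) y = D.coord (g u) (h • y) * m ((D.act (f u))⁻¹ • y)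
    generalize hy' : (D.act (f u))⁻¹ • y = y'
    have hby : b y' = b y := hy' ▸ hb u y
    let e : U := (v y)⁻¹ * u * v y'
    have huv : u * v y' = v y * e := by simp [e, mul_assoc]
    have he : D.act (f e) • b y = b y := by
      have hvy := hv y'
      rw [hby] at hvy
      simp only [e, map_mul, map_inv, mul_smul]
      rw [hvy, ← hy', smul_inv_smul, hc]
    have h1 : D.coord (f u) y * D.coord (f (v y')) y' =
        D.coord (f (v y)) y * D.coord (f e) (b y) := by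
      rw [← hy', ← D.coord_mul, ← map_mul, hy', huv, map_mul, D.coord_mul, hc]
    have h2 : D.coord (g u) (h • y) * D.coord (g (v y')) (h • y') =
        D.coord (g (v y)) (h • y) * D.coord (g e) (h • b y) := by
      rw [← hy', ← hinv, ← D.coord_mul, ← map_mul, hy', huv, map_mul, D.coord_mul, hinv, hc]
    have h3 : D.coord (g e) (h • b y) * m₁ (b y) = m₁ (b y) * D.coord (f e) (b y) := by
      rw [show D.coord (g e) (h • b y) = _ from hm₂ (b y) e he]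
      exact inv_mul_cancel_right _ _
    simp only [m, hby]
    calc D.coord (g (v y)) (h • y) * m₁ (b y) * (D.coord (f (v y)) y)⁻¹ * D.coord (f u) y
        = D.coord (g (v y)) (h • y) * m₁ (b y) * (D.coord (f (v y)) y)⁻¹ *
            (D.coord (f u) y * D.coord (f (v y')) y') * (D.coord (f (v y')) y')⁻¹ := by group
      _ = D.coord (g (v y)) (h • y) * (m₁ (b y) * D.coord (f e) (b y)) *
            (D.coord (f (v y')) y')⁻¹ := by rw [h1]; group
      _ = D.coord (g (v y)) (h • y) * D.coord (g e) (h • b y) * m₁ (b y) *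
            (D.coord (f (v y')) y')⁻¹ := by rw [← h3]; group
      _ = _ := by rw [← h2]; group

/-- An element of the big group inducing a given map of the system. -/
theorem Data.exists_elt {U : Subgroup Ω} (hU : U ≤ S) {ψ : U →* Ω} (hψ : ψ ∈ F.Hom U)
    {h : F.autGroup Q} (hQU : Q ≤ U)
    (hext : ∀ q : Q, ψ ⟨q, hQU q.2⟩ = ((h : MulAut Q) q : Q)) :
    ∃ w : D.Wgt, D.proj w = h ∧
      ∀ u : U, w * D.sHom ⟨u, hU u.2⟩ = D.sHom ⟨ψ u, apply_mem hψ u⟩ * w := by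
  obtain ⟨m, hm, hm'⟩ := D.exists_coords hU hψ hQU hext
  refine ⟨⟨⟨fun x => m (h⁻¹ • x), h⟩, fun x => ?_⟩, rfl, fun u => ?_⟩
  · show D.act (m (h⁻¹ • x)) = _
    rw [hm, smul_inv_smul]
  refine Subtype.ext (SemidirectProduct.ext (funext fun x => ?_) ?_)
  · show m (h⁻¹ • x) * D.coord ⟨u, hU u.2⟩ (h⁻¹ • x) =
      D.coord ⟨ψ u, apply_mem hψ u⟩ x *
        m (h⁻¹ • (D.act ⟨ψ u, apply_mem hψ u⟩)⁻¹ • x)
    rw [hm']
    obtain ⟨y, rfl⟩ : ∃ y, h • y = x := ⟨h⁻¹ • x, smul_inv_smul _ _⟩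
    rw [inv_smul_smul, D.inv_smul_of_agree hU hψ hQU hext, inv_smul_smul]
  · exact (D.agree_map hU hψ hQU hext u).symm

/-! ### The group -/

/-- The model. -/
abbrev Data.Grp : Type u := D.Wgt ⧸ D.null

/-- The projection of the model onto `Aut_F(Q)`. -/
noncomputable def Data.rho : D.Grp →* F.autGroup Q :=
  QuotientGroup.lift D.null D.proj fun _ hw => hw.1

/-- The embedding of `S`. -/
noncomputable def Data.emb : S →* D.Grp := (QuotientGroup.mk' D.null).comp D.sHom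

theorem Data.rho_emb (s : S) : D.rho (D.emb s) = D.act s := rfl

theorem Data.rho_surjective : Function.Surjective D.rho := fun h =>
  let ⟨w, hw⟩ := D.proj_surjective h
  ⟨QuotientGroup.mk' D.null w, hw⟩

theorem Data.emb_incl (q : Q) : D.emb (D.incl q) = QuotientGroup.mk' D.null (D.qHom q) :=
  congrArg (QuotientGroup.mk' D.null) (D.sHom_incl q)

theorem Data.exists_of_rho_eq_one {g : D.Grp} (hg : D.rho g = 1) :
    ∃ c : Subgroup.center Q, g = D.emb (D.incl c) := by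
  obtain ⟨w, rfl⟩ := QuotientGroup.mk'_surjective D.null g
  obtain ⟨c, hc⟩ := D.exists_center_of_proj (show D.proj w = 1 from hg)
  refine ⟨c, ?_⟩
  rw [D.emb_incl]
  exact (QuotientGroup.eq.2 hc).symm

theorem Data.emb_injective : Function.Injective D.emb := by
  rw [← MonoidHom.ker_eq_bot_iff, eq_bot_iff]
  intro s hs
  have hs' : D.emb s = 1 := hs
  have h1 : D.act s = 1 := by rw [← D.rho_emb, hs', map_one]
  obtain ⟨c, rfl⟩ := D.exists_center_of_act_eq_one h1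
  rw [D.emb_incl] at hs'
  rw [D.center_eq_one_of_null ((QuotientGroup.eq_one_iff _).1 hs'), Subgroup.coe_one, map_one]
  exact Subgroup.one_mem _

theorem Data.finite_grp : Finite D.Grp := by
  have := finite_mulAut D.le
  have : Finite ((D.X → S) ⋊[D.shift] F.autGroup Q) :=
    Finite.of_equiv _ (SemidirectProduct.equivProd (φ := D.shift)).symm
  infer_instance

theorem Data.conj_emb_incl (g : D.Grp) (q : Q) :
    g * D.emb (D.incl q) * g⁻¹ = D.emb (D.incl ((D.rho g).1 q)) := by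
  obtain ⟨w, rfl⟩ := QuotientGroup.mk'_surjective D.null g
  rw [D.emb_incl, D.emb_incl, mul_inv_eq_iff_eq_mul, ← map_mul, ← map_mul, D.qHom_conj]
  rfl

theorem Data.exists_elt' {U : Subgroup Ω} (hU : U ≤ S) {ψ : U →* Ω} (hψ : ψ ∈ F.Hom U)
    {h : F.autGroup Q} (hQU : Q ≤ U)
    (hext : ∀ q : Q, ψ ⟨q, hQU q.2⟩ = ((h : MulAut Q) q : Q)) :
    ∃ g : D.Grp, D.rho g = h ∧
      ∀ u : U, D.emb ⟨ψ u, apply_mem hψ u⟩ = g * D.emb ⟨u, hU u.2⟩ * g⁻¹ := by
  obtain ⟨w, hw, hwu⟩ := D.exists_elt hU hψ hQU hext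
  refine ⟨QuotientGroup.mk' D.null w, hw, fun u => ?_⟩
  rw [eq_mul_inv_iff_mul_eq]
  exact (congrArg (QuotientGroup.mk' D.null) (hwu u)).symm

theorem Data.realized : F.IsRealizedBy D.emb := by
  refine ⟨D.emb_injective, fun P hP φ hφ => ⟨fun h => ?_, ?_⟩⟩
  · obtain ⟨ψ, hψ, hψe, hψQ⟩ := D.normal.2 P φ h
    have hQU : Q ≤ P ⊔ Q := le_sup_right
    have hr : (restr hQU ψ).range = Q := (range_restr hQU ψ).trans hψQ
    let α : MulAut Q := isoOf _ (F.injective_of_mem (restr_mem F hψ hQU)) hr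
    have hα : α ∈ F.autGroup Q := mem_autGroup_of_hom F (restr_mem F hψ hQU)
    obtain ⟨g, -, hg⟩ := D.exists_elt' (sup_le hP D.le) hψ (h := ⟨α, hα⟩) hQU fun q => rfl
    refine ⟨g, fun x => ?_⟩
    have h1 := hg (Subgroup.inclusion le_sup_left x)
    simp only [hψe x] at h1
    exact h1
  · rintro ⟨g, hg⟩
    let φ₀ := autHom (D.rho g).1
    have hφ₀ : φ₀ ∈ F.Hom Q := autHom_mem F D.le (D.rho g).2
    obtain ⟨χ, hχ, hχe⟩ := (IsSaturated.receptive D.isPGroup D.saturated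
      (isFullyCentralized_of_isCentric D.centric)).2 Q φ₀ hφ₀ (range_autHom _)
    have hPN : P ≤ extender S Q φ₀ := by
      intro x hx
      refine mem_extender.2 ⟨hP hx, D.normalizes (hP hx), φ ⟨x, hx⟩, hφ _, fun q hq => ?_⟩
      have h1 := congrArg D.rho (hg ⟨x, hx⟩)
      rw [map_mul, map_mul, map_inv, D.rho_emb, D.rho_emb, eq_mul_inv_iff_mul_eq] at h1
      exact (congrArg (fun a : F.autGroup Q => (((a : MulAut Q) q : Q) : Ω)) h1).symm
    have hQN : Q ≤ extender S Q φ₀ := le_extender D.le (apply_mem hφ₀)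
    have hU : P ⊔ Q ≤ extender S Q φ₀ := sup_le hPN hQN
    obtain ⟨g', hg', hgu⟩ := D.exists_elt' (hU.trans (extender_le S Q φ₀))
      (restr_mem F hχ hU) (h := D.rho g) le_sup_right fun q => hχe q q.2 (hQN q.2)
    obtain ⟨c, hc⟩ := D.exists_of_rho_eq_one (g := g'⁻¹ * g) (by
      rw [map_mul, map_inv, hg', inv_mul_cancel])
    have hcU : ((c : Q) : Ω) ∈ P ⊔ Q := Subgroup.mem_sup_right (c : Q).2
    have hmem : ∀ x : P, conjHom P ((c : Q) : Ω) x ∈ P ⊔ Q := fun x =>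
      (P ⊔ Q).mul_mem ((P ⊔ Q).mul_mem hcU (Subgroup.mem_sup_left x.2)) ((P ⊔ Q).inv_mem hcU)
    refine mem_of_comp F (F.conj_mem hP (D.le (c : Q).2)) (restr_mem F hχ hU) hmem fun x => ?_
    have h1 := hgu ⟨_, hmem x⟩
    rw [show (⟨conjHom P ((c : Q) : Ω) x, (hU.trans (extender_le S Q φ₀)) (hmem x)⟩ : S) =
        D.incl c * ⟨x, hP x.2⟩ * (D.incl c)⁻¹ from rfl, map_mul, map_mul, map_inv, ← hc] at h1
    refine congrArg Subtype.val (D.emb_injective ((hg x).trans ?_) :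
      (⟨φ x, hφ x⟩ : S) = ⟨_, apply_mem (restr_mem F hχ hU) _⟩)
    rw [h1]
    group

theorem Data.comap_rho : (D.act.range).comap D.rho = D.emb.range := by
  ext g
  constructor
  · rintro ⟨s, hs⟩
    obtain ⟨c, hc⟩ := D.exists_of_rho_eq_one (g := (D.emb s)⁻¹ * g) (by
      rw [map_mul, map_inv, D.rho_emb, hs, inv_mul_cancel])
    exact ⟨s * D.incl c, by rw [map_mul, ← hc, mul_inv_cancel_left]⟩
  · rintro ⟨s, rfl⟩
    exact ⟨s, rfl⟩

theorem Data.isModel : F.IsModel p D.Grp D.emb := by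
  have := D.finite_grp
  have hSy : IsPGroup p D.emb.range := D.isPGroup.of_surjective _ D.emb.rangeRestrict_surjective
  have hidx : ¬ p ∣ D.emb.range.index := by
    rw [← D.comap_rho, Subgroup.index_comap_of_surjective _ D.rho_surjective]
    exact D.index_coprime
  let R := (Q.subgroupOf S).map D.emb
  have hR : R.Normal := by
    refine ⟨?_⟩
    rintro _ ⟨s, hs, rfl⟩ g
    rw [show s = D.incl ⟨s, hs⟩ from rfl, D.conj_emb_incl]
    exact ⟨_, (D.rho g).1 ⟨s, hs⟩ |>.2, rfl⟩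
  have hRp : R ≤ pCore p D.Grp := le_sSup ⟨hR,
    hSy.to_le (Subgroup.map_le_range _ _)⟩
  refine ⟨D.finite_grp, D.realized, ⟨hSy.toSylow hidx, rfl⟩, ?_⟩
  intro g hg
  have h1 : D.rho g = 1 := by
    refine Subtype.ext (MulEquiv.ext fun q => ?_)
    have h2 : D.emb (D.incl q) ∈ pCore p D.Grp := hRp ⟨D.incl q, q.2, rfl⟩
    have h3 := Subgroup.mem_centralizer_iff.1 hg _ h2
    have h4 := D.conj_emb_incl g q
    rw [← h3, mul_inv_cancel_right] at h4
    exact (Subgroup.inclusion_injective D.le (D.emb_injective h4)).symm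
  obtain ⟨c, rfl⟩ := D.exists_of_rho_eq_one h1
  exact hRp ⟨D.incl c, (c : Q).2, rfl⟩

end Cfsg.Agent.Lib.Fusion.Model

namespace Cfsg.Agent.Lib.Fusion

open Cfsg Cfsg.FusionSystem

universe u

/-- A constrained fusion system has a model. -/
theorem exists_model {Ω : Type u} [Group Ω] {S : Subgroup Ω} [Finite S] {p : ℕ} [Fact p.Prime]
    (hS : IsPGroup p S) {F : FusionSystem S} (hF : F.IsConstrained p) :
    ∃ (G : Type u) (_ : Group G) (ι : S →* G), F.IsModel p G ι := by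
  obtain ⟨hsat, Q, hQn, hQc⟩ := hF
  let D : Model.Data F p Q := ⟨hS, hsat, hQn, hQc⟩
  exact ⟨D.Grp, inferInstance, D.emb, D.isModel⟩

end Cfsg.Agent.Lib.Fusion
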