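import Cfsg.Agent.Lib.Fusion.Centric
import Cfsg.Agent.Lib.Fusion.ModelBasic
import Cfsg.Agent.Lib.Fusion.Factor
import Mathlib.GroupTheory.SemidirectProduct

/-!
The model of a constrained fusion system.

For `Q` normal and centric with `H = Aut_F(Q)` and `X = H / Aut_S(Q)`, let `Wgt` be the subgroup of
`(X → S) ⋊ H` of pairs compatible with a transversal, and divide it by the kernel of the twisted sum
`(X → Z(Q)) → Z(Q)`.  The extension maps of `F` supply an exact homomorphism `S → Wgt`.
-/

set_option autoImplicit false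
set_option linter.unusedSectionVars false

namespace Cfsg.Agent.Lib.Fusion.Model

open Cfsg Cfsg.FusionSystem

universe u

variable {Ω : Type u} [Group Ω] {S : Subgroup Ω} [Finite S] {p : ℕ} [Fact p.Prime]

/-- The data of the construction. -/
structure Data (F : FusionSystem S) (p : ℕ) (Q : Subgroup Ω) : Prop where
  isPGroup : IsPGroup p S
  saturated : F.IsSaturated p
  normal : F.IsNormal Q
  centric : F.IsCentric Q

variable {F : FusionSystem S} {Q : Subgroup Ω} (D : Data F p Q)

include D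

theorem Data.le : Q ≤ S := D.normal.1

theorem Data.normalizes {g : Ω} (hg : g ∈ S) : g ∈ Subgroup.normalizer (Q : Set Ω) :=
  WeaklyClosed.le_normalizer (StronglyClosed.weaklyClosed (IsNormal.stronglyClosed D.normal)) hg

/-- The action of `S` on `Q`. -/
def Data.act : S →* F.autGroup Q :=
  (Q.normalizerMonoidHom.comp (Subgroup.inclusion fun _ hg => D.normalizes hg)).codRestrict _
    fun s => conjAut_mem_autGroup F D.le s.2 (D.normalizes s.2)

theorem Data.act_apply (s : S) (q : Q) :
    (((D.act s : MulAut Q) q : Q) : Ω) = (s : Ω) * q * (s : Ω)⁻¹ := rfl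

/-- The inclusion of `Q` in `S`. -/
def Data.incl : Q →* S := Subgroup.inclusion D.le

theorem Data.incl_coe (q : Q) : (D.incl q : Ω) = q := rfl

theorem Data.act_conj (h : F.autGroup Q) (q : Q) :
    D.act (D.incl ((h : MulAut Q) q)) = h * D.act (D.incl q) * h⁻¹ := by
  refine Subtype.ext (MulEquiv.ext fun y => ?_)
  apply Subtype.ext
  show ((h : MulAut Q) q : Ω) * y * ((h : MulAut Q) q : Ω)⁻¹ =
    (((h : MulAut Q) ((D.act (D.incl q) : MulAut Q) ((h : MulAut Q)⁻¹ y)) : Q) : Ω)
  rw [show (D.act (D.incl q) : MulAut Q) ((h : MulAut Q)⁻¹ y) = q * (h : MulAut Q)⁻¹ y * q⁻¹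
    from rfl, map_mul, map_mul, map_inv, MulAut.apply_inv_self]
  rfl

/-- If two elements of `S` act alike and the first is conjugated, the images agree. -/
theorem Data.conj_eq (s : S) (q : Q) :
    s * D.incl q * s⁻¹ = D.incl ((D.act s : MulAut Q) q) := rfl

/-- The centre of `Q`. -/
abbrev Data.Z (_D : Data F p Q) : Type u := Subgroup.center Q

omit D in
noncomputable instance (G : Type u) [Group G] : CommGroup (Subgroup.center G) :=
  { (inferInstance : Group (Subgroup.center G)) with
    mul_comm := fun a b => Subtype.ext (Subgroup.mem_center_iff.1 b.2 a) }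

theorem Data.act_eq_one_of_center {q : Q} (hq : q ∈ Subgroup.center Q) :
    D.act (D.incl q) = 1 := by
  refine Subtype.ext (MulEquiv.ext fun y => Subtype.ext ?_)
  show (q : Ω) * y * (q : Ω)⁻¹ = y
  have := congrArg Subtype.val (Subgroup.mem_center_iff.1 hq y)
  simp only [Subgroup.coe_mul] at this
  rw [← this, mul_inv_cancel_right]

/-- The kernel of the action of `S` on `Q` is the centre of `Q`. -/
theorem Data.exists_center_of_act_eq_one {s : S} (hs : D.act s = 1) :
    ∃ c : Subgroup.center Q, D.incl c = s := by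
  have h1 : ∀ x ∈ Q, (s : Ω) * x * (s : Ω)⁻¹ = x := fun x hx =>
    congrArg (fun a : F.autGroup Q => (((a : MulAut Q) ⟨x, hx⟩ : Q) : Ω)) hs
  have h2 : (s : Ω) ∈ Q :=
    D.centric.2 Q (isConj_refl F D.le) (mem_centralizerIn_iff_conj.2 ⟨s.2, h1⟩)
  refine ⟨⟨⟨s, h2⟩, Subgroup.mem_center_iff.2 fun y => Subtype.ext ?_⟩, rfl⟩
  show (y : Ω) * s = s * y
  have := h1 y y.2
  rw [mul_inv_eq_iff_eq_mul] at this
  exact this.symm

open scoped Classical in
/-- The element of `Z(Q)` equal to a given element of the kernel (and `1` elsewhere). -/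
noncomputable def Data.toCenter (s : S) : Subgroup.center Q :=
  if h : D.act s = 1 then (D.exists_center_of_act_eq_one h).choose else 1

theorem Data.incl_toCenter {s : S} (hs : D.act s = 1) : D.incl (D.toCenter s) = s := by
  rw [Data.toCenter, dif_pos hs]
  exact (D.exists_center_of_act_eq_one hs).choose_spec

theorem Data.toCenter_incl (c : Subgroup.center Q) : D.toCenter (D.incl c) = c :=
  Subtype.ext (Subgroup.inclusion_injective D.le (D.incl_toCenter (D.act_eq_one_of_center c.2)))

theorem Data.toCenter_mul {a b : S} (ha : D.act a = 1) (hb : D.act b = 1) :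
    D.toCenter (a * b) = D.toCenter a * D.toCenter b := by
  conv_lhs => rw [← D.incl_toCenter ha, ← D.incl_toCenter hb, ← map_mul, ← Subgroup.coe_mul]
  exact D.toCenter_incl _

theorem Data.toCenter_one : D.toCenter 1 = 1 := by
  have := D.toCenter_incl 1
  rwa [Subgroup.coe_one, map_one] at this

/-- The action of `Aut_F(Q)` on the centre of `Q`. -/
def Data.onCenter (_D : Data F p Q) (h : F.autGroup Q) : Subgroup.center Q →* Subgroup.center Q :=
  (((h : MulAut Q).toMonoidHom).comp (Subgroup.center Q).subtype).codRestrict _ fun c => by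
    refine Subgroup.mem_center_iff.2 fun y => ?_
    obtain ⟨y, rfl⟩ := (h : MulAut Q).surjective y
    show (h : MulAut Q) y * (h : MulAut Q) c = (h : MulAut Q) c * (h : MulAut Q) y
    rw [← map_mul, ← map_mul, Subgroup.mem_center_iff.1 c.2 y]

theorem Data.onCenter_coe (h : F.autGroup Q) (c : Subgroup.center Q) :
    ((D.onCenter h c : Subgroup.center Q) : Q) = (h : MulAut Q) c := rfl

theorem Data.onCenter_mul (h k : F.autGroup Q) (c : Subgroup.center Q) :
    D.onCenter (h * k) c = D.onCenter h (D.onCenter k c) := rfl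

theorem Data.toCenter_conj {s a : S} (ha : D.act a = 1) :
    D.toCenter (s * a * s⁻¹) = D.onCenter (D.act s) (D.toCenter a) := by
  conv_lhs => rw [← D.incl_toCenter ha, D.conj_eq, ← D.onCenter_coe]
  exact D.toCenter_incl _

/-! ### The coset space and the transversal -/

/-- The cosets of `Aut_S(Q)`. -/
abbrev Data.X : Type u := F.autGroup Q ⧸ D.act.range

theorem Data.inn_fix (q : Q) (x : D.X) : D.act (D.incl q) • x = x := by
  induction x using QuotientGroup.induction_on with
  | _ g =>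
    rw [MulAction.Quotient.smul_mk]
    refine QuotientGroup.eq.2 ⟨D.incl ((g⁻¹ : F.autGroup Q).1 q⁻¹), ?_⟩
    rw [D.act_conj, inv_inv, map_inv, map_inv, smul_eq_mul, mul_inv_rev]

theorem Data.orbit_equiv : Equivalence fun x y : D.X => ∃ s : S, D.act s • x = y :=
  ⟨fun x => ⟨1, by rw [map_one, one_smul]⟩,
    fun {x y} ⟨s, hs⟩ => ⟨s⁻¹, by rw [map_inv, ← hs, inv_smul_smul]⟩,
    fun {x y z} ⟨s, hs⟩ ⟨s', hs'⟩ => ⟨s' * s, by rw [map_mul, mul_smul, hs, hs']⟩⟩

/-- The base point of the orbit of a coset. -/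
noncomputable def Data.base (x : D.X) : D.X :=
  (Quotient.mk (⟨_, D.orbit_equiv⟩ : Setoid D.X) x).out

theorem Data.base_smul (s : S) (x : D.X) : D.base (D.act s • x) = D.base x := by
  refine congrArg Quotient.out (Quotient.sound ?_)
  exact ⟨s⁻¹, by rw [map_inv, inv_smul_smul]⟩

theorem Data.exists_lift (x : D.X) : ∃ s : S, D.act s • D.base x = x :=
  Quotient.mk_out (s := (⟨_, D.orbit_equiv⟩ : Setoid D.X)) x

/-- An element carrying the base point to `x`. -/
noncomputable def Data.lift (x : D.X) : S := (D.exists_lift x).choose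

theorem Data.lift_spec (x : D.X) : D.act (D.lift x) • D.base x = x :=
  (D.exists_lift x).choose_spec

/-- The transversal. -/
noncomputable def Data.tr (x : D.X) : F.autGroup Q := D.act (D.lift x) * (D.base x).out

theorem Data.mk_tr (x : D.X) : QuotientGroup.mk (D.tr x) = x := by
  conv_rhs => rw [← D.lift_spec x, ← QuotientGroup.out_eq' (D.base x)]
  rw [MulAction.Quotient.smul_mk]
  rfl

theorem Data.cocycle_mem (h : F.autGroup Q) (x : D.X) :
    (D.tr x)⁻¹ * h * D.tr (h⁻¹ • x) ∈ D.act.range := by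
  have h1 : h⁻¹ • x = QuotientGroup.mk (h⁻¹ * D.tr x) := by
    conv_lhs => rw [← D.mk_tr x, MulAction.Quotient.smul_mk]
    rfl
  have h2 := QuotientGroup.eq.1 ((h1.symm).trans (D.mk_tr (h⁻¹ • x)).symm)
  rwa [mul_inv_rev, inv_inv] at h2

/-! ### The big group -/

/-- Permuting the coordinates. -/
noncomputable def Data.shift : F.autGroup Q →* MulAut (D.X → S) where
  toFun h :=
    { toFun := fun f x => f (h⁻¹ • x)
      invFun := fun f x => f (h • x)
      left_inv := fun f => funext fun x => by simp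
      right_inv := fun f => funext fun x => by simp
      map_mul' := fun _ _ => rfl }
  map_one' := by
    ext f x
    simp
  map_mul' h k := by
    ext f x
    simp [mul_smul]

theorem Data.shift_apply (h : F.autGroup Q) (f : D.X → S) (x : D.X) :
    D.shift h f x = f (h⁻¹ • x) := rfl

/-- Pairs compatible with the transversal. -/
noncomputable def Data.Wgt : Subgroup ((D.X → S) ⋊[D.shift] F.autGroup Q) where
  carrier := {w | ∀ x, D.act (w.left x) = (D.tr x)⁻¹ * w.right * D.tr (w.right⁻¹ • x)}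
  one_mem' := by
    intro x
    simp
  mul_mem' := by
    intro a b ha hb x
    show D.act (a.left x * b.left (a.right⁻¹ • x)) = _
    rw [map_mul, ha, hb, SemidirectProduct.mul_right, mul_inv_rev, mul_smul]
    group
  inv_mem' := by
    intro a ha x
    show D.act ((a.left ((a.right⁻¹)⁻¹ • x))⁻¹) = (D.tr x)⁻¹ * a.right⁻¹ * D.tr ((a.right⁻¹)⁻¹ • x)
    rw [inv_inv, map_inv, ha, inv_smul_smul]
    group

theorem Data.mem_Wgt {w : (D.X → S) ⋊[D.shift] F.autGroup Q} :
    w ∈ D.Wgt ↔ ∀ x, D.act (w.left x) = (D.tr x)⁻¹ * w.right * D.tr (w.right⁻¹ • x) := Iff.rfl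

/-- The projection. -/
noncomputable def Data.proj : D.Wgt →* F.autGroup Q :=
  SemidirectProduct.rightHom.comp D.Wgt.subtype

theorem Data.proj_surjective : Function.Surjective D.proj := fun h =>
  ⟨⟨⟨fun x => (D.cocycle_mem h x).choose, h⟩, fun x => (D.cocycle_mem h x).choose_spec⟩, rfl⟩

theorem Data.act_left_of_proj {w : D.Wgt} (hw : D.proj w = 1) (x : D.X) :
    D.act (w.1.left x) = 1 := by
  have h1 : w.1.right = 1 := hw
  rw [w.2 x, h1, inv_one, one_smul, mul_one, inv_mul_cancel]

instance Data.finite_X : Finite D.X :=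
  haveI := finite_mulAut D.le
  inferInstance

noncomputable instance Data.fintype_X : Fintype D.X := Fintype.ofFinite _

/-- The twisted sum. -/
noncomputable def Data.mu (w : D.Wgt) : Subgroup.center Q :=
  ∏ x, D.onCenter (D.tr x) (D.toCenter (w.1.left x))


theorem Data.left_mul_of_proj {a : D.Wgt} (ha : D.proj a = 1) (b : D.Wgt) (x : D.X) :
    (a * b).1.left x = a.1.left x * b.1.left x := by
  show a.1.left x * b.1.left (a.1.right⁻¹ • x) = _
  rw [show a.1.right = 1 from ha, inv_one, one_smul]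

theorem Data.mu_mul {a b : D.Wgt} (ha : D.proj a = 1) (hb : D.proj b = 1) :
    D.mu (a * b) = D.mu a * D.mu b := by
  rw [Data.mu, Data.mu, Data.mu, ← Finset.prod_mul_distrib]
  refine Finset.prod_congr rfl fun x _ => ?_
  rw [D.left_mul_of_proj ha, D.toCenter_mul (D.act_left_of_proj ha x) (D.act_left_of_proj hb x),
    map_mul]

theorem Data.mu_one : D.mu 1 = 1 := by
  refine Finset.prod_eq_one fun x _ => ?_
  show D.onCenter (D.tr x) (D.toCenter 1) = 1
  rw [D.toCenter_one, map_one]

theorem Data.mu_conj (w : D.Wgt) {z : D.Wgt} (hz : D.proj z = 1) :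
    D.mu (w * z * w⁻¹) = D.onCenter (D.proj w) (D.mu z) := by
  have hzr : z.1.right = 1 := hz
  rw [Data.mu, Data.mu, map_prod]
  refine Fintype.prod_equiv (MulAction.toPerm (w.1.right)⁻¹) _ _ fun x => ?_
  have e : (w * z * w⁻¹).1.left x =
      w.1.left x * z.1.left (w.1.right⁻¹ • x) * (w.1.left x)⁻¹ := by
    show w.1.left x * z.1.left (w.1.right⁻¹ • x) *
      (w.1.left ((w.1.right⁻¹)⁻¹ • (w.1.right * z.1.right)⁻¹ • x))⁻¹ = _
    rw [hzr, mul_one, inv_inv, smul_inv_smul]
  rw [e, D.toCenter_conj (D.act_left_of_proj hz _), w.2 x, ← D.onCenter_mul, ← D.onCenter_mul,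
    MulAction.toPerm_apply]
  congr 1
  congr 1
  show _ = w.1.right * _
  group

/-- The subgroup divided out. -/
noncomputable def Data.null : Subgroup D.Wgt where
  carrier := {w | D.proj w = 1 ∧ D.mu w = 1}
  one_mem' := ⟨map_one _, D.mu_one⟩
  mul_mem' := by
    rintro a b ⟨ha, ha'⟩ ⟨hb, hb'⟩
    exact ⟨by rw [map_mul, ha, hb, one_mul], by rw [D.mu_mul ha hb, ha', hb', one_mul]⟩
  inv_mem' := by
    rintro a ⟨ha, ha'⟩
    have h1 : D.proj a⁻¹ = 1 := by rw [map_inv, ha, inv_one]
    refine ⟨h1, ?_⟩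
    have := D.mu_mul ha h1
    rwa [mul_inv_cancel, D.mu_one, ha', one_mul, eq_comm] at this

instance Data.null_normal : D.null.Normal :=
  ⟨fun z ⟨hz, hz'⟩ w =>
    ⟨by rw [map_mul, map_mul, map_inv, hz, mul_one, mul_inv_cancel],
      by rw [D.mu_conj w hz, hz', map_one]⟩⟩

/-! ### The subgroup `Q` -/

theorem Data.qElt_mem (q : Q) :
    (⟨fun x => D.incl (((D.tr x)⁻¹ : F.autGroup Q).1 q), D.act (D.incl q)⟩ :
      (D.X → S) ⋊[D.shift] F.autGroup Q) ∈ D.Wgt := by
  intro x
  show D.act (D.incl _) = _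
  rw [D.act_conj, inv_inv]
  simp only
  rw [← map_inv, ← map_inv, D.inn_fix]

/-- `Q` inside the big group. -/
noncomputable def Data.qHom : Q →* D.Wgt where
  toFun q := ⟨_, D.qElt_mem q⟩
  map_one' := by
    refine Subtype.ext (SemidirectProduct.ext (funext fun x => ?_) ?_)
    · show D.incl _ = 1
      rw [map_one, map_one]
    · show D.act (D.incl 1) = 1
      rw [map_one, map_one]
  map_mul' a b := by
    refine Subtype.ext (SemidirectProduct.ext (funext fun x => ?_) ?_)
    · show D.incl _ = D.incl _ * D.incl (((D.tr ((D.act (D.incl a))⁻¹ • x))⁻¹ : F.autGroup Q).1 b)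
      rw [← map_inv (D.act) (D.incl a), ← map_inv D.incl a, D.inn_fix, map_mul, map_mul]
    · show D.act (D.incl (a * b)) = _
      rw [map_mul, map_mul]
      rfl

theorem Data.qHom_left (q : Q) (x : D.X) :
    (D.qHom q).1.left x = D.incl (((D.tr x)⁻¹ : F.autGroup Q).1 q) := rfl

theorem Data.proj_qHom (q : Q) : D.proj (D.qHom q) = D.act (D.incl q) := rfl

theorem Data.qHom_conj (w : D.Wgt) (q : Q) :
    w * D.qHom q = D.qHom ((D.proj w).1 q) * w := by
  refine Subtype.ext (SemidirectProduct.ext (funext fun x => ?_) ?_)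
  · show w.1.left x * D.incl (((D.tr (w.1.right⁻¹ • x))⁻¹ : F.autGroup Q).1 q) =
      D.incl (((D.tr x)⁻¹ : F.autGroup Q).1 ((w.1.right).1 q)) *
        w.1.left ((D.act (D.incl ((D.proj w).1 q)))⁻¹ • x)
    rw [← map_inv (D.act), ← map_inv D.incl, D.inn_fix, ← eq_mul_inv_iff_mul_eq.trans eq_comm]
    rw [D.conj_eq, w.2 x]
    congr 1
    simp
  · show w.1.right * D.act (D.incl q) = D.act (D.incl ((w.1.right).1 q)) * w.1.right
    rw [D.act_conj, inv_mul_cancel_right]

theorem Data.proj_qHom_center (c : Subgroup.center Q) : D.proj (D.qHom c) = 1 :=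
  D.act_eq_one_of_center c.2

theorem Data.mu_qHom (c : Subgroup.center Q) :
    D.mu (D.qHom c) = c ^ Nat.card D.X := by
  rw [Data.mu, Nat.card_eq_fintype_card, ← Finset.card_univ, ← Finset.prod_const]
  refine Finset.prod_congr rfl fun x _ => ?_
  rw [D.qHom_left, ← D.onCenter_coe, D.toCenter_incl, ← D.onCenter_mul, mul_inv_cancel]
  rfl

theorem Data.index_coprime : ¬ p ∣ D.act.range.index := by
  have hfn : F.IsFullyNormalized Q := by
    refine ⟨D.le, fun R hR => ?_⟩
    have h1 : normalizerIn S Q = S :=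
      le_antisymm inf_le_left fun g hg => ⟨hg, D.normalizes hg⟩
    rw [h1]
    exact Nat.le_of_dvd Nat.card_pos (Subgroup.card_dvd_of_le (normalizerIn_le S R))
  obtain ⟨-, R, hR⟩ := (IsSaturated.automized_receptive D.isPGroup D.saturated hfn).1
  have e : D.act.range = (autInducedBy S Q).subgroupOf (F.autGroup Q) := by
    ext a
    rw [Subgroup.mem_subgroupOf, mem_autInducedBy_iff_conjAut]
    constructor
    · rintro ⟨s, rfl⟩
      exact ⟨s, D.normalizes s.2, s.2, rfl⟩
    · rintro ⟨g, hg, hgS, h⟩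
      exact ⟨⟨g, hgS⟩, Subtype.ext h⟩
  rw [e, ← hR]
  have := finite_mulAut D.le
  exact Sylow.not_dvd_index R

theorem Data.card_X_coprime : (Nat.card (Subgroup.center Q)).Coprime (Nat.card D.X) := by
  have := finite_of_le D.le
  obtain ⟨k, hk⟩ := IsPGroup.iff_card.1
    (((D.isPGroup.to_le D.le)).to_subgroup (Subgroup.center Q))
  rw [hk]
  refine Nat.Coprime.pow_left k ((Fact.out : p.Prime).coprime_iff_not_dvd.2 ?_)
  exact D.index_coprime

/-- The kernel of the projection is the centre of `Q`, modulo the part divided out. -/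
theorem Data.exists_center_of_proj {w : D.Wgt} (hw : D.proj w = 1) :
    ∃ c : Subgroup.center Q, (D.qHom c)⁻¹ * w ∈ D.null := by
  obtain ⟨c, hc⟩ := (powCoprime D.card_X_coprime).surjective (D.mu w)
  have hc' : c ^ Nat.card D.X = D.mu w := hc
  have h1 : D.proj (D.qHom c)⁻¹ = 1 := by rw [map_inv, D.proj_qHom_center, inv_one]
  refine ⟨c, by rw [map_mul, h1, hw, one_mul], ?_⟩
  have h2 := D.mu_mul (D.proj_qHom_center c) h1
  rw [mul_inv_cancel, D.mu_one, D.mu_qHom, hc'] at h2
  rw [D.mu_mul h1 hw, mul_comm]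
  exact h2.symm

theorem Data.center_eq_one_of_null {c : Subgroup.center Q} (hc : D.qHom c ∈ D.null) : c = 1 := by
  have h1 : c ^ Nat.card D.X = 1 := (D.mu_qHom c).symm.trans hc.2
  exact (powCoprime D.card_X_coprime).injective (h1.trans (one_pow _).symm)

/-! ### The homomorphism from `S` -/

theorem Data.exists_extension (r : F.autGroup Q) :
    ∃ ψ ∈ F.Hom (extender S Q (autHom (r : MulAut Q)⁻¹)),
      ∀ (x : Ω) (hP : x ∈ Q) (hN : x ∈ extender S Q (autHom (r : MulAut Q)⁻¹)),
        ψ ⟨x, hN⟩ = autHom (r : MulAut Q)⁻¹ ⟨x, hP⟩ :=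
  (IsSaturated.receptive D.isPGroup D.saturated (isFullyCentralized_of_isCentric D.centric)).2 Q _
    (autHom_mem F D.le ((F.autGroup Q).inv_mem r.2)) (range_autHom _)

/-- The extension of the inverse of an element of `Aut_F(Q)`. -/
noncomputable def Data.ext (r : F.autGroup Q) :
    extender S Q (autHom (r : MulAut Q)⁻¹) →* Ω :=
  (D.exists_extension r).choose

theorem Data.ext_mem (r : F.autGroup Q) :
    D.ext r ∈ F.Hom (extender S Q (autHom (r : MulAut Q)⁻¹)) :=
  (D.exists_extension r).choose_spec.1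

theorem Data.ext_eq (r : F.autGroup Q) (q : Q)
    (hN : (q : Ω) ∈ extender S Q (autHom (r : MulAut Q)⁻¹)) :
    D.ext r ⟨q, hN⟩ = ((r : MulAut Q)⁻¹ q : Q) :=
  (D.exists_extension r).choose_spec.2 q q.2 hN

open scoped Classical in
/-- The extension, made total. -/
noncomputable def Data.extS (r : F.autGroup Q) (s : S) : S :=
  if h : (s : Ω) ∈ extender S Q (autHom (r : MulAut Q)⁻¹) then
    ⟨D.ext r ⟨s, h⟩, apply_mem (D.ext_mem r) _⟩ else 1

theorem Data.extS_eq {r : F.autGroup Q} {s : S}
    (h : (s : Ω) ∈ extender S Q (autHom (r : MulAut Q)⁻¹)) :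
    (D.extS r s : Ω) = D.ext r ⟨s, h⟩ := by
  rw [Data.extS, dif_pos h]

theorem Data.mem_extender_of_fix {b : D.X} {s : S} (hs : D.act s • b = b) :
    (s : Ω) ∈ extender S Q (autHom ((b.out : F.autGroup Q) : MulAut Q)⁻¹) := by
  have h0 : QuotientGroup.mk (D.act s * b.out) =
      (QuotientGroup.mk b.out : F.autGroup Q ⧸ D.act.range) := by
    have h1 := hs
    rw [← QuotientGroup.out_eq' b, MulAction.Quotient.smul_mk] at h1
    exact h1
  obtain ⟨k, hk⟩ := QuotientGroup.eq.1 h0.symm
  refine mem_extender.2 ⟨s.2, D.normalizes s.2, k, k.2, fun q hq => ?_⟩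
  have h1 := congrArg (fun a : F.autGroup Q =>
    (((a : MulAut Q) ((b.out : MulAut Q)⁻¹ q) : Q) : Ω)) hk
  simp only [Subgroup.coe_mul, Subgroup.coe_inv, MulAut.mul_apply,
    MulAut.apply_inv_self] at h1
  exact h1.symm

theorem Data.extS_mul (b : D.X) {s s' : S} (hs : D.act s • b = b) (hs' : D.act s' • b = b) :
    D.extS b.out (s * s') = D.extS b.out s * D.extS b.out s' := by
  have h1 := D.mem_extender_of_fix hs
  have h2 := D.mem_extender_of_fix hs'
  have h3 : ((s * s' : S) : Ω) ∈ extender S Q (autHom ((b.out : F.autGroup Q) : MulAut Q)⁻¹) :=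
    Subgroup.mul_mem _ h1 h2
  apply Subtype.ext
  rw [Subgroup.coe_mul, D.extS_eq h1, D.extS_eq h2, D.extS_eq h3, ← map_mul]
  rfl

theorem Data.extS_incl (r : F.autGroup Q) (q : Q) :
    D.extS r (D.incl q) = D.incl ((r : MulAut Q)⁻¹ q) := by
  have h : (q : Ω) ∈ extender S Q (autHom (r : MulAut Q)⁻¹) :=
    le_extender D.le (apply_mem (autHom_mem F D.le ((F.autGroup Q).inv_mem r.2))) q.2
  exact Subtype.ext ((D.extS_eq (s := D.incl q) h).trans (D.ext_eq r q h))

theorem Data.act_extS {b : D.X} {s : S} (hs : D.act s • b = b) :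
    D.act (D.extS b.out s) = b.out⁻¹ * D.act s * b.out := by
  have h := D.mem_extender_of_fix hs
  refine Subtype.ext (MulEquiv.ext fun y => Subtype.ext ?_)
  rw [D.act_apply, D.extS_eq h]
  obtain ⟨q, rfl⟩ := ((b.out : MulAut Q)⁻¹).surjective y
  have hq : (s : Ω) * q * (s : Ω)⁻¹ ∈ Q := conj_mem_of_mem_normalizer (D.normalizes s.2) q.2
  have h1 := map_conj (φ := autHom (b.out : MulAut Q)⁻¹) (ψ := D.ext b.out)
    (fun x hP hN => D.ext_eq b.out ⟨x, hP⟩ hN)
    (le_extender D.le (apply_mem (autHom_mem F D.le ((F.autGroup Q).inv_mem b.out.2)))) h q.2 hq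
  refine h1.symm.trans ?_
  simp only [Subgroup.coe_mul, Subgroup.coe_inv, MulAut.mul_apply, MulAut.apply_inv_self]
  rfl

/-- The coordinate at `x` of the image of `s`. -/
noncomputable def Data.coord (s : S) (x : D.X) : S :=
  D.extS (D.base x).out ((D.lift x)⁻¹ * s * D.lift ((D.act s)⁻¹ • x))

theorem Data.coord_fix (s : S) (x : D.X) :
    D.act ((D.lift x)⁻¹ * s * D.lift ((D.act s)⁻¹ • x)) • D.base x = D.base x := by
  have h1 := D.lift_spec ((D.act s)⁻¹ • x)
  rw [← map_inv, D.base_smul, map_inv] at h1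
  rw [map_mul, map_mul, mul_smul, mul_smul, h1, smul_inv_smul, map_inv, inv_smul_eq_iff,
    D.lift_spec]

theorem Data.coord_mem (s : S) (x : D.X) :
    D.act (D.coord s x) = (D.tr x)⁻¹ * D.act s * D.tr ((D.act s)⁻¹ • x) := by
  rw [Data.coord, D.act_extS (D.coord_fix s x), Data.tr, Data.tr]
  rw [show D.base ((D.act s)⁻¹ • x) = D.base x by rw [← map_inv, D.base_smul]]
  simp only [map_mul, map_inv]
  group

theorem Data.coord_mul (s s' : S) (x : D.X) :
    D.coord (s * s') x = D.coord s x * D.coord s' ((D.act s)⁻¹ • x) := by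
  have hb : D.base ((D.act s)⁻¹ • x) = D.base x := by rw [← map_inv, D.base_smul]
  have h2 := D.coord_fix s' ((D.act s)⁻¹ • x)
  rw [hb] at h2
  rw [Data.coord, Data.coord, Data.coord, hb, ← D.extS_mul _ (D.coord_fix s x) h2]
  congr 1
  rw [map_mul, mul_inv_rev, mul_smul]
  group

theorem Data.coord_incl (q : Q) (x : D.X) :
    D.coord (D.incl q) x = D.incl (((D.tr x)⁻¹ : F.autGroup Q).1 q) := by
  rw [Data.coord, ← map_inv, ← map_inv, D.inn_fix]
  have e := D.conj_eq (D.lift x)⁻¹ q
  rw [inv_inv] at e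
  rw [e, D.extS_incl]
  congr 1

/-- `S` inside the big group. -/
noncomputable def Data.sHom : S →* D.Wgt :=
  MonoidHom.mk' (fun s => ⟨⟨D.coord s, D.act s⟩, D.coord_mem s⟩) fun s s' =>
    Subtype.ext (SemidirectProduct.ext (funext fun x => D.coord_mul s s' x) (map_mul _ s s'))

theorem Data.sHom_incl (q : Q) : D.sHom (D.incl q) = D.qHom q :=
  Subtype.ext (SemidirectProduct.ext (funext fun x => D.coord_incl q x) rfl)

theorem Data.coord_one (x : D.X) : D.coord 1 x = 1 :=
  congrArg (fun w : D.Wgt => w.1.left x) (map_one D.sHom)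

end Cfsg.Agent.Lib.Fusion.Model
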