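import Mathlib.GroupTheory.Transfer
import Mathlib.GroupTheory.Sylow

/-!
Splitting a normal `p`-subgroup that is central modulo a strongly closed complement, by transfer.
-/

set_option autoImplicit false

namespace Cfsg.Agent.Lib.Fusion

open MulAction

variable {K A : Type*} [Group K] [Finite K] [CommGroup A]

/-- The transfer kills the subgroup killed with its fusion in `P`. -/
theorem transfer_eq_one_of_closed {P : Subgroup K} (π : P →* A) {x : K}
    (h : ∀ (m : ℕ) (g : K) (hm : g⁻¹ * x ^ m * g ∈ P), π ⟨_, hm⟩ = 1) :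
    MonoidHom.transfer π x = 1 := by
  classical
  have := Fintype.ofFinite (Quotient (orbitRel (Subgroup.zpowers x) (K ⧸ P)))
  rw [MonoidHom.transfer_eq_prod_quotient_orbitRel_zpowers_quot]
  exact Finset.prod_eq_one fun q _ => h _ _ _

/-- The transfer is the index power on the elements with constant fusion. -/
theorem transfer_eq_pow_of_const {P : Subgroup K} (π : P →* A) {y : K} (hy : y ∈ P)
    (h : ∀ (m : ℕ) (g : K) (hm : g⁻¹ * y ^ m * g ∈ P), π ⟨_, hm⟩ = π ⟨y, hy⟩ ^ m) :
    MonoidHom.transfer π y = π ⟨y, hy⟩ ^ P.index := by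
  classical
  have := Fintype.ofFinite (K ⧸ P)
  have := Fintype.ofFinite (Quotient (orbitRel (Subgroup.zpowers y) (K ⧸ P)))
  rw [MonoidHom.transfer_eq_prod_quotient_orbitRel_zpowers_quot,
    Subgroup.index_eq_sum_minimalPeriod P y, ← Finset.prod_pow_eq_pow_sum]
  exact Finset.prod_congr rfl fun q _ => h _ _ _

end Cfsg.Agent.Lib.Fusion
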