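import Cfsg.Agent.Lib.Fusion.SubsystemCompare
import Cfsg.Agent.Lib.Fusion.TransferSplit
import Cfsg.Agent.Lib.Fusion.Realized
import Cfsg.Agent.Lib.Fusion.ModelBasic

/-!
The normal subgroup attached to a normal subsystem of the system of a group with a
self-centralizing `p`-core.
-/

set_option autoImplicit false
set_option linter.unusedSectionVars false

namespace Cfsg.Agent.Lib.Fusion

open Cfsg Cfsg.FusionSystem

variable {G : Type*} [Group G] [Finite G] {p : ℕ} [Fact p.Prime]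

/-- The data of the theorem. -/
structure NormalSubData (p : ℕ) (S : Sylow p G) (T : Subgroup G) (E : FusionSystem T) : Prop where
  constrained : Subgroup.centralizer ((pCore p G : Subgroup G) : Set G) ≤ pCore p G
  le : T ≤ S
  normal : E.IsNormalIn (groupFusionSystem (S : Subgroup G)) p

namespace NormalSubData

variable {S : Sylow p G} {T : Subgroup G} {E : FusionSystem T}

/-- The part of the `p`-core in `T`. -/
def U (_ : NormalSubData p S T E) : Subgroup G := T ⊓ pCore p G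

theorem closed (d : NormalSubData p S T E) {t g : G} (ht : t ∈ T)
    (hg : g * t * g⁻¹ ∈ (S : Subgroup G)) : g * t * g⁻¹ ∈ T := by
  obtain ⟨⟨-, -, -, hsc, -, -⟩, -⟩ := d.normal
  have hle : Subgroup.zpowers t ≤ T := Subgroup.zpowers_le.2 ht
  refine hsc.2 _ hle _ (conjHom_mem_group (g := g) (hle.trans d.le) ?_)
    ⟨t, Subgroup.mem_zpowers t⟩
  rw [MonoidHom.map_zpowers, Subgroup.zpowers_le]
  exact hg

theorem core_le (d : NormalSubData p S T E) : pCore p G ≤ (S : Subgroup G) := pCore_le_sylow S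

theorem core_conj (d : NormalSubData p S T E) (g : G) {q : G} (hq : q ∈ pCore p G) :
    g * q * g⁻¹ ∈ pCore p G :=
  (pCore_normal p G).conj_mem q hq g

theorem sylow_normalizes (d : NormalSubData p S T E) {s t : G} (hs : s ∈ (S : Subgroup G))
    (ht : t ∈ T) : s * t * s⁻¹ ∈ T :=
  d.closed ht ((S : Subgroup G).mul_mem ((S : Subgroup G).mul_mem hs (d.le ht))
    ((S : Subgroup G).inv_mem hs))

theorem U_le (d : NormalSubData p S T E) : d.U ≤ T := inf_le_left

theorem U_le_core (d : NormalSubData p S T E) : d.U ≤ pCore p G := inf_le_right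

theorem U_conj (d : NormalSubData p S T E) (g : G) {u : G} (hu : u ∈ d.U) :
    g * u * g⁻¹ ∈ d.U :=
  ⟨d.closed hu.1 (d.core_le (d.core_conj g hu.2)), d.core_conj g hu.2⟩

instance U_normal (d : NormalSubData p S T E) : d.U.Normal := ⟨fun _ hu g => d.U_conj g hu⟩

theorem comm_core_mem (d : NormalSubData p S T E) {t q : G} (ht : t ∈ T) (hq : q ∈ pCore p G) :
    t * q * t⁻¹ * q⁻¹ ∈ d.U := by
  refine ⟨?_, (pCore p G).mul_mem (d.core_conj t hq) ((pCore p G).inv_mem hq)⟩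
  have h := T.mul_mem ht (d.sylow_normalizes (d.core_le hq) (T.inv_mem ht))
  simpa [mul_assoc] using h

/-- The elements acting trivially on the `p`-core modulo `U`. -/
def L (d : NormalSubData p S T E) : Subgroup G where
  carrier := {g | ∀ q ∈ pCore p G, g * q * g⁻¹ * q⁻¹ ∈ d.U}
  one_mem' q _ := by simp
  mul_mem' {a b} ha hb q hq := by
    have h1 := d.U.mul_mem (ha _ (d.core_conj b hq)) (hb q hq)
    have e : a * (b * q * b⁻¹) * a⁻¹ * (b * q * b⁻¹)⁻¹ * (b * q * b⁻¹ * q⁻¹) =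
        a * b * q * (a * b)⁻¹ * q⁻¹ := by group
    rwa [e] at h1
  inv_mem' {a} ha q hq := by
    have h1 := d.U.inv_mem (ha _ (d.core_conj a⁻¹ hq))
    have e : (a * (a⁻¹ * q * a⁻¹⁻¹) * a⁻¹ * (a⁻¹ * q * a⁻¹⁻¹)⁻¹)⁻¹ = a⁻¹ * q * a⁻¹⁻¹ * q⁻¹ := by
      group
    rwa [e] at h1

theorem L_conj (d : NormalSubData p S T E) (g : G) {a : G} (ha : a ∈ d.L) :
    g * a * g⁻¹ ∈ d.L := by
  intro q hq
  have h1 := d.U_conj g (ha _ (d.core_conj g⁻¹ hq))
  have e : g * (a * (g⁻¹ * q * g⁻¹⁻¹) * a⁻¹ * (g⁻¹ * q * g⁻¹⁻¹)⁻¹) * g⁻¹ =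
      g * a * g⁻¹ * q * (g * a * g⁻¹)⁻¹ * q⁻¹ := by group
  rwa [e] at h1

theorem T_le_L (d : NormalSubData p S T E) : T ≤ d.L := fun _ ht _ hq => d.comm_core_mem ht hq

/-- The elements of `L` centralizing `U`. -/
def Y (d : NormalSubData p S T E) : Subgroup G := d.L ⊓ Subgroup.centralizer (d.U : Set G)

theorem Y_conj (d : NormalSubData p S T E) (g : G) {y : G} (hy : y ∈ d.Y) :
    g * y * g⁻¹ ∈ d.Y := by
  refine ⟨d.L_conj g hy.1, fun u hu => ?_⟩
  have h1 := hy.2 _ (d.U_conj g⁻¹ hu)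
  calc u * (g * y * g⁻¹) = g * (g⁻¹ * u * g⁻¹⁻¹ * y) * g⁻¹ := by group
    _ = g * (y * (g⁻¹ * u * g⁻¹⁻¹)) * g⁻¹ := by rw [h1]
    _ = g * y * g⁻¹ * u := by group

/-- The stabilizer of the chain lies in the `p`-core. -/
theorem Y_le_core (d : NormalSubData p S T E) : d.Y ≤ pCore p G := by
  have hn : d.Y.Normal := ⟨fun y hy g => d.Y_conj g hy⟩
  refine le_pCore_of_normal ?_
  rintro ⟨a, ha⟩
  have hpU : IsPGroup p d.U := S.2.to_le (d.U_le.trans d.le)
  obtain ⟨k, hk⟩ := IsPGroup.iff_card.1 hpU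
  have hcen : a ^ p ^ k ∈ Subgroup.centralizer ((pCore p G : Subgroup G) : Set G) := by
    intro q hq
    set u := a * q * a⁻¹ * q⁻¹ with hu
    have huU : u ∈ d.U := ha.1 q hq
    have haq : a * q * a⁻¹ = u * q := by rw [hu]; group
    have hau : a * u = u * a := (ha.2 u huU).symm
    have key : ∀ n : ℕ, a ^ n * q * (a ^ n)⁻¹ = u ^ n * q := by
      intro n
      induction n with
      | zero => simp
      | succ n ih =>
        calc a ^ (n + 1) * q * (a ^ (n + 1))⁻¹ = a * (a ^ n * q * (a ^ n)⁻¹) * a⁻¹ := by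
              rw [pow_succ']; group
          _ = a * (u ^ n * q) * a⁻¹ := by rw [ih]
          _ = u ^ n * (a * q * a⁻¹) := by
              rw [← mul_assoc, (Commute.pow_right hau n).eq]; group
          _ = u ^ (n + 1) * q := by rw [haq, ← mul_assoc, ← pow_succ]
    have h1 := key (p ^ k)
    have hu1 : u ^ p ^ k = 1 := by
      have := pow_card_eq_one' (G := d.U) (x := ⟨u, huU⟩)
      rw [hk] at this
      exact congrArg Subtype.val this
    rw [hu1, one_mul, mul_inv_eq_iff_eq_mul] at h1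
    exact h1.symm
  obtain ⟨l, hl⟩ := S.2 ⟨_, d.core_le (d.constrained hcen)⟩
  refine ⟨k + l, Subtype.ext ?_⟩
  show a ^ p ^ (k + l) = 1
  have hl' := congrArg Subtype.val hl
  rw [pow_add, pow_mul]
  exact hl'

theorem T_centralizer_le (d : NormalSubData p S T E) :
    T ⊓ Subgroup.centralizer (d.U : Set G) ≤ d.U :=
  fun _ hx => ⟨hx.1, d.Y_le_core ⟨d.T_le_L hx.1, hx.2⟩⟩

theorem autU_conj (d : NormalSubData p S T E) (g : G) {β : MulAut d.U}
    (hβ : β ∈ E.autGroup d.U) :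
    (MulAut.conjNormal g : MulAut d.U) * β * (MulAut.conjNormal g : MulAut d.U)⁻¹ ∈
      E.autGroup d.U := by
  refine conj_mem_autGroup_of_invariant d.normal.1.2.2 d.le d.U_le ?_ hβ
  rw [autGroup_group (d.U_le.trans d.le)]
  exact mem_autInducedBy.2 ⟨g, trivial, fun x => MulAut.conjNormal_apply g x⟩

/-- The elements of `L` acting on `U` as maps of `E`. -/
def K (d : NormalSubData p S T E) : Subgroup G :=
  d.L ⊓ (E.autGroup d.U).comap (MulAut.conjNormal : G →* MulAut d.U)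

theorem K_conj (d : NormalSubData p S T E) (g : G) {k : G} (hk : k ∈ d.K) :
    g * k * g⁻¹ ∈ d.K := by
  refine ⟨d.L_conj g hk.1, ?_⟩
  show MulAut.conjNormal (g * k * g⁻¹) ∈ E.autGroup d.U
  rw [map_mul, map_mul, map_inv]
  exact d.autU_conj g hk.2

theorem conjNormal_T (d : NormalSubData p S T E) {t : G} (ht : t ∈ T) :
    (MulAut.conjNormal t : MulAut d.U) ∈ autInducedBy T d.U :=
  mem_autInducedBy.2 ⟨t, ht, fun x => MulAut.conjNormal_apply t x⟩

theorem T_le_K (d : NormalSubData p S T E) : T ≤ d.K := fun _ ht =>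
  ⟨d.T_le_L ht, autInducedBy_le_autGroup E d.U_le (d.conjNormal_T ht)⟩

theorem conjNormal_eq_one (d : NormalSubData p S T E) {g : G} :
    (MulAut.conjNormal g : MulAut d.U) = 1 ↔ g ∈ Subgroup.centralizer (d.U : Set G) := by
  constructor
  · intro h u hu
    have h1 := congrArg (fun e : MulAut d.U => ((e ⟨u, hu⟩ : d.U) : G)) h
    simp only [MulAut.conjNormal_apply, MulAut.one_apply] at h1
    rw [mul_inv_eq_iff_eq_mul] at h1
    exact h1.symm
  · intro h
    refine MulEquiv.ext fun u => Subtype.ext ?_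
    rw [MulAut.conjNormal_apply, MulAut.one_apply, ← h _ u.2, mul_inv_cancel_right]

theorem Y_le_K (d : NormalSubData p S T E) : d.Y ≤ d.K := by
  refine fun y hy => ⟨hy.1, ?_⟩
  show MulAut.conjNormal y ∈ E.autGroup d.U
  rw [d.conjNormal_eq_one.2 hy.2]
  exact one_mem _

theorem U_fullyNormalized (d : NormalSubData p S T E) : E.IsFullyNormalized d.U := by
  refine ⟨d.U_le, fun Q hQ => ?_⟩
  obtain ⟨φ, hφ, rfl⟩ := hQ
  obtain ⟨-, -, g, hg⟩ := d.normal.1.2.2.1 _ hφ
  have : φ.range = d.U := by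
    ext y
    constructor
    · rintro ⟨x, rfl⟩
      rw [hg x]
      exact d.U_conj g x.2
    · intro hy
      refine ⟨⟨_, d.U_conj g⁻¹ hy⟩, ?_⟩
      rw [hg]
      group
  rw [this]

theorem Tp (d : NormalSubData p S T E) : IsPGroup p T := S.2.to_le d.le

/-- `T` and `Y` together make a Sylow subgroup of `K`. -/
theorem not_dvd_index (d : NormalSubData p S T E) :
    ¬ p ∣ ((T ⊔ d.Y).subgroupOf d.K).index := by
  set AU := E.autGroup d.U
  let f : d.K →* AU :=
    ((MulAut.conjNormal : G →* MulAut d.U).comp d.K.subtype).codRestrict AU fun k => k.2.2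
  obtain ⟨⟨-, R, hR⟩, -⟩ :=
    IsSaturated.automized_receptive d.Tp d.normal.1.1 d.U_fullyNormalized
  have hP : (T ⊔ d.Y).subgroupOf d.K = (R : Subgroup AU).comap f := by
    ext ⟨k, hk⟩
    rw [Subgroup.mem_subgroupOf, Subgroup.mem_comap, hR, Subgroup.mem_subgroupOf]
    constructor
    · intro h
      have hle : T ⊔ d.Y ≤ (autInducedBy T d.U).comap (MulAut.conjNormal : G →* MulAut d.U) :=
        sup_le (fun t ht => d.conjNormal_T ht) fun y hy => by
          show (MulAut.conjNormal y : MulAut d.U) ∈ autInducedBy T d.U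
          rw [d.conjNormal_eq_one.2 hy.2]
          exact one_mem _
      exact hle h
    · intro h
      obtain ⟨t, ht, he⟩ := mem_autInducedBy.1 h
      have h1 : (MulAut.conjNormal (t⁻¹ * k) : MulAut d.U) = 1 := by
        have e : (MulAut.conjNormal k : MulAut d.U) = MulAut.conjNormal t :=
          MulEquiv.ext fun x => Subtype.ext ((he x).trans (MulAut.conjNormal_apply t x).symm)
        rw [map_mul, map_inv, e, inv_mul_cancel]
      have hy : t⁻¹ * k ∈ d.Y :=
        ⟨d.L.mul_mem (d.L.inv_mem (d.T_le_L ht)) hk.1, d.conjNormal_eq_one.1 h1⟩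
      show k ∈ T ⊔ d.Y
      rw [show k = t * (t⁻¹ * k) by group]
      exact Subgroup.mul_mem_sup ht hy
  rw [hP, Subgroup.index_comap]
  exact fun h => R.not_dvd_index (h.trans (Subgroup.relIndex_dvd_index_of_le (by
    rw [hR]
    intro a ha
    obtain ⟨t, ht, he⟩ := mem_autInducedBy.1 (Subgroup.mem_subgroupOf.1 ha)
    exact ⟨⟨t, d.T_le_K ht⟩, Subtype.ext (MulEquiv.ext fun x => Subtype.ext
      ((MulAut.conjNormal_apply t x).trans (he x).symm))⟩)))

theorem sup_le_sylow (d : NormalSubData p S T E) : T ⊔ d.Y ≤ (S : Subgroup G) :=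
  sup_le d.le (d.Y_le_core.trans d.core_le)

/-- The transfer homomorphism with kernel the wanted subgroup. -/
theorem exists_kernel (d : NormalSubData p S T E) :
    ∃ H : Subgroup G, H.Normal ∧ T ≤ H ∧ H ≤ d.K ∧ ¬ p ∣ (T.subgroupOf H).index ∧
      H ⊓ d.Y ≤ T ∧ (∀ g ∈ d.K, (orderOf g).Coprime p → g ∈ H) ∧
      ∀ H' : Subgroup G, T ≤ H' → H' ≤ d.K → ¬ p ∣ (T.subgroupOf H').index → H' ≤ H := by
  classical
  set P := (T ⊔ d.Y).subgroupOf d.K with hP
  set T₀ := (T.subgroupOf d.K).subgroupOf P with hT₀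
  have hPS : ∀ x : P, (((x : d.K)) : G) ∈ (S : Subgroup G) := fun x => d.sup_le_sylow x.2
  have : T₀.Normal := ⟨fun t ht x => d.sylow_normalizes (hPS x) ht⟩
  have hPdec : ∀ x : P, ∃ t ∈ T, ∃ y ∈ d.Y, (((x : d.K)) : G) = t * y := by
    intro x
    have hYn : d.Y.Normal := ⟨fun y hy g => d.Y_conj g hy⟩
    have hx : (((x : d.K)) : G) ∈ ((T ⊔ d.Y : Subgroup G) : Set G) := x.2
    rw [Subgroup.mul_normal] at hx
    obtain ⟨t, ht, y, hy, e⟩ := hx
    exact ⟨t, ht, y, hy, e.symm⟩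
  have hcomm : ∀ a b : P ⧸ T₀, a * b = b * a := by
    intro a b
    induction a using QuotientGroup.induction_on with | H a => ?_
    induction b using QuotientGroup.induction_on with | H b => ?_
    obtain ⟨t, ht, y, hy, ha⟩ := hPdec a
    obtain ⟨s, hs, z, hz, hb⟩ := hPdec b
    have hyz : y * z * y⁻¹ * z⁻¹ ∈ T := d.U_le (hy.1 z (d.Y_le_core hz))
    have hyK : (⟨y, d.Y_le_K hy⟩ : d.K) ∈ P := Subgroup.mem_sup_right hy
    have hzK : (⟨z, d.Y_le_K hz⟩ : d.K) ∈ P := Subgroup.mem_sup_right hz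
    have ea : (a : P ⧸ T₀) = QuotientGroup.mk (⟨_, hyK⟩ : P) := by
      refine QuotientGroup.eq.2 ?_
      show ((((a : d.K)) : G))⁻¹ * y ∈ T
      rw [ha, show (t * y)⁻¹ * y = y⁻¹ * t⁻¹ * y⁻¹⁻¹ by group]
      exact d.sylow_normalizes ((S : Subgroup G).inv_mem (d.core_le (d.Y_le_core hy))) (T.inv_mem ht)
    have eb : (b : P ⧸ T₀) = QuotientGroup.mk (⟨_, hzK⟩ : P) := by
      refine QuotientGroup.eq.2 ?_
      show ((((b : d.K)) : G))⁻¹ * z ∈ T
      rw [hb, show (s * z)⁻¹ * z = z⁻¹ * s⁻¹ * z⁻¹⁻¹ by group]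
      exact d.sylow_normalizes ((S : Subgroup G).inv_mem (d.core_le (d.Y_le_core hz))) (T.inv_mem hs)
    rw [ea, eb, ← QuotientGroup.mk_mul, ← QuotientGroup.mk_mul]
    refine QuotientGroup.eq.2 ?_
    show (y * z)⁻¹ * (z * y) ∈ T
    rw [show (y * z)⁻¹ * (z * y) =
      (z⁻¹ * y⁻¹) * (y * z * y⁻¹ * z⁻¹)⁻¹ * (z⁻¹ * y⁻¹)⁻¹ by group]
    exact d.sylow_normalizes ((S : Subgroup G).mul_mem
      ((S : Subgroup G).inv_mem (d.core_le (d.Y_le_core hz)))
      ((S : Subgroup G).inv_mem (d.core_le (d.Y_le_core hy)))) (T.inv_mem hyz)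
  letI : CommGroup (P ⧸ T₀) := { (inferInstance : Group (P ⧸ T₀)) with mul_comm := hcomm }
  let π : P →* P ⧸ T₀ := QuotientGroup.mk' T₀
  let τ : d.K →* P ⧸ T₀ := MonoidHom.transfer π
  have hτT : ∀ t : d.K, (t : G) ∈ T → τ t = 1 := fun t ht =>
    transfer_eq_one_of_closed π fun m g hm => by
      refine (QuotientGroup.eq_one_iff _).2 ?_
      show (g : G)⁻¹ * (t : G) ^ m * (g : G) ∈ T
      have := d.closed (g := (g : G)⁻¹) (T.pow_mem ht m) (by
        have h1 := hPS ⟨_, hm⟩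
        simpa using h1)
      simpa using this
  have hτY : ∀ (y : d.K) (hy : (y : G) ∈ d.Y),
      τ y = π ⟨y, Subgroup.mem_sup_right hy⟩ ^ P.index := fun y hy =>
    transfer_eq_pow_of_const π _ fun m g hm => by
      rw [← map_pow]
      refine QuotientGroup.eq.2 ?_
      show ((g : G)⁻¹ * (y : G) ^ m * (g : G))⁻¹ * (y : G) ^ m ∈ T
      refine d.U_le ?_
      have hq : (y : G) ^ m ∈ pCore p G := d.Y_le_core (d.Y.pow_mem hy m)
      have h1 := d.U.inv_mem ((d.L.inv_mem g.2.1) _ hq)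
      have h3 := d.U_conj ((y : G) ^ m)⁻¹ h1
      convert h3 using 1
      group
  have hPp : IsPGroup p P := fun x => by
    obtain ⟨k, hk⟩ := S.2 ⟨_, hPS x⟩
    exact ⟨k, Subtype.ext (Subtype.ext (by simpa using congrArg Subtype.val hk))⟩
  have hPA : IsPGroup p (P ⧸ T₀) := hPp.to_quotient T₀
  have hPi : P.index.Coprime p :=
    ((Fact.out : p.Prime).coprime_iff_not_dvd.2 d.not_dvd_index).symm
  have hcardA : ∀ a : P ⧸ T₀, a ^ P.index = 1 → a = 1 := by
    intro a ha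
    obtain ⟨k, hk⟩ := hPA a
    have := pow_gcd_eq_one.2 ⟨ha, hk⟩
    rwa [(hPi.pow_right k).gcd_eq_one, pow_one] at this
  have hτsurj : Function.Surjective τ := by
    intro a
    obtain ⟨k, hk⟩ := IsPGroup.iff_card.1 hPA
    have hb : Function.Surjective (fun a : P ⧸ T₀ => a ^ P.index) :=
      (powCoprime (by rw [hk]; exact Nat.Coprime.pow_left k hPi.symm)).surjective
    obtain ⟨b, rfl⟩ := hb a
    induction b using QuotientGroup.induction_on with | H b => ?_
    obtain ⟨t, ht, y, hy, hb'⟩ := hPdec b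
    refine ⟨⟨y, d.Y_le_K hy⟩, (hτY _ hy).trans ?_⟩
    congr 1
    refine QuotientGroup.eq.2 ?_
    show y⁻¹ * (((b : d.K)) : G) ∈ T
    rw [hb', show y⁻¹ * (t * y) = y⁻¹ * t * y⁻¹⁻¹ by group]
    exact d.sylow_normalizes ((S : Subgroup G).inv_mem (d.core_le (d.Y_le_core hy))) ht
  set H := τ.ker.map d.K.subtype with hH
  have hHK : H ≤ d.K := Subgroup.map_subtype_le _
  have hTH : T ≤ H := fun t ht => ⟨⟨t, d.T_le_K ht⟩, hτT _ ht, rfl⟩
  have hcard : Nat.card H = Nat.card T * P.index := by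
    have h1 := τ.ker.card_mul_index
    rw [Subgroup.index_ker, MonoidHom.range_eq_top.2 hτsurj, Subgroup.card_top] at h1
    have h2 := P.card_mul_index
    have h3 := T₀.card_eq_card_quotient_mul_card_subgroup
    have h4 : Nat.card T₀ = Nat.card T := by
      have hle : T.subgroupOf d.K ≤ P := fun x hx => Subgroup.mem_sup_left hx
      rw [hT₀, Nat.card_congr (Subgroup.subgroupOfEquivOfLe hle).toEquiv,
        Nat.card_congr (Subgroup.subgroupOfEquivOfLe d.T_le_K).toEquiv]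
    have h5 : Nat.card H = Nat.card τ.ker :=
      (Nat.card_congr (Subgroup.equivMapOfInjective _ _ d.K.subtype_injective).toEquiv).symm
    rw [h3, h4] at h2
    rw [h5]
    refine Nat.eq_of_mul_eq_mul_right (Nat.card_pos (α := P ⧸ T₀)) ?_
    rw [h1, ← h2]
    ring
  have hTi : ¬ p ∣ (T.subgroupOf H).index := by
    have h1 := (T.subgroupOf H).card_mul_index
    rw [Nat.card_congr (Subgroup.subgroupOfEquivOfLe hTH).toEquiv, hcard] at h1
    rw [Nat.eq_of_mul_eq_mul_left Nat.card_pos h1]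
    exact d.not_dvd_index
  -- a homomorphism to `P ⧸ T₀` killing a Sylow subgroup is trivial
  have hkill : ∀ (N : Subgroup G), T ≤ N → ¬ p ∣ (T.subgroupOf N).index →
      ∀ σ : N →* P ⧸ T₀, (∀ t : N, (t : G) ∈ T → σ t = 1) → ∀ x, σ x = 1 := by
    intro N hTN hi σ hσ x
    have hle : T.subgroupOf N ≤ σ.ker := fun t ht => hσ t ht
    have h1 : Nat.card σ.range ∣ (T.subgroupOf N).index := by
      rw [← Subgroup.index_ker]
      exact Subgroup.index_dvd_of_le hle
    obtain ⟨k, hk⟩ := IsPGroup.iff_card.1 (hPA.to_subgroup σ.range)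
    have hk0 : k = 0 := by
      by_contra hk0
      exact hi ((dvd_pow_self p hk0).trans (hk ▸ h1))
    have hsub : Nat.card σ.range = 1 := by rw [hk, hk0, pow_zero]
    exact Subgroup.mem_bot.1 (Subgroup.eq_bot_of_card_eq _ hsub ▸ ⟨x, rfl⟩)
  refine ⟨H, ⟨fun h hh g => ?_⟩, hTH, hHK, hTi, ?_, ?_, ?_⟩
  · refine ⟨⟨g * h * g⁻¹, d.K_conj g (hHK hh)⟩, ?_, rfl⟩
    let σ : H →* P ⧸ T₀ :=
      τ.comp (((MulAut.conj g).toMonoidHom.comp H.subtype).codRestrict d.K
        fun x => d.K_conj g (hHK x.2))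
    refine hkill H hTH hTi σ (fun t ht => ?_) ⟨h, hh⟩
    set z : d.K := ⟨g * t * g⁻¹, d.K_conj g (d.T_le_K ht)⟩
    show τ z = 1
    obtain ⟨k, hk⟩ : ∃ k : d.K, (k : G) * (g * t * g⁻¹) * (k : G)⁻¹ ∈ (S : Subgroup G) := by
      have hzp : IsPGroup p (Subgroup.zpowers z) := by
        rintro ⟨x, hx⟩
        obtain ⟨n, rfl⟩ := Subgroup.mem_zpowers_iff.1 hx
        obtain ⟨l, hl⟩ := S.2 ⟨(t : G), d.le ht⟩
        refine ⟨l, Subtype.ext (Subtype.ext ?_)⟩
        have hl' : (t : G) ^ p ^ l = 1 := congrArg Subtype.val hl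
        show ((g * t * g⁻¹) ^ n) ^ p ^ l = 1
        rw [← zpow_natCast, ← zpow_mul, mul_comm, zpow_mul, zpow_natCast, conj_pow, hl', mul_one,
          mul_inv_cancel, one_zpow]
      let PS : Sylow p d.K := hPp.toSylow d.not_dvd_index
      obtain ⟨P', hP'⟩ := hzp.exists_le_sylow
      obtain ⟨k, hk⟩ := MulAction.exists_smul_eq d.K P' PS
      refine ⟨k, ?_⟩
      have h1 : k * z * k⁻¹ ∈ (PS : Subgroup d.K) := by
        rw [← hk, Sylow.coe_subgroup_smul]
        exact ⟨z, hP' (Subgroup.mem_zpowers z), rfl⟩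
      exact hPS ⟨_, h1⟩
    have hT1 : ((k * z * k⁻¹ : d.K) : G) ∈ T := by
      show (k : G) * (g * t * g⁻¹) * (k : G)⁻¹ ∈ T
      have e : (k : G) * (g * t * g⁻¹) * (k : G)⁻¹ = (k : G) * g * t * ((k : G) * g)⁻¹ := by group
      rw [e] at hk ⊢
      exact d.closed ht hk
    have := hτT _ hT1
    rwa [map_mul, map_mul, map_inv, mul_comm (τ k), mul_inv_cancel_right] at this
  · rintro y ⟨⟨x, hx, rfl⟩, hy⟩
    have h1 := hτY x hy
    rw [show τ x = 1 from hx] at h1
    exact (QuotientGroup.eq_one_iff (⟨x, Subgroup.mem_sup_right hy⟩ : P)).1 (hcardA _ h1.symm)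
  · intro g hg hco
    refine ⟨⟨g, hg⟩, ?_, rfl⟩
    obtain ⟨k, hk⟩ := hPA (τ ⟨g, hg⟩)
    have h1 : τ ⟨g, hg⟩ ^ orderOf g = 1 := by
      rw [← map_pow, ← map_one τ]
      exact congrArg τ (Subtype.ext (pow_orderOf_eq_one g))
    have := pow_gcd_eq_one.2 ⟨h1, hk⟩
    rwa [(hco.pow_right k).gcd_eq_one, pow_one] at this
  · intro H' hT' hK' hi x hx
    exact ⟨⟨x, hK' hx⟩, hkill H' hT' hi (τ.comp (Subgroup.inclusion hK'))
      (fun t ht => hτT _ ht) ⟨x, hx⟩, rfl⟩

/-- An automorphism in `E` of order prime to `p` is induced by such an element of `K`. -/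
theorem exists_lift_coprime (d : NormalSubData p S T E) {α : MulAut T} (hα : α ∈ E.autGroup T)
    (hco : (orderOf α).Coprime p) :
    ∃ g ∈ d.K, (orderOf g).Coprime p ∧ ∀ x : T, ((α x : T) : G) = g * (x : G) * g⁻¹ := by
  classical
  obtain ⟨⟨hEsat, -, hinv⟩, hext⟩ := d.normal
  set C := centralizerIn (S : Subgroup G) T
  obtain ⟨β, hβ, hβT, hβC⟩ := hext α hα
  rw [autGroup_group (sup_le d.le (centralizerIn_le _ _))] at hβ
  obtain ⟨g₀, -, hg₀⟩ := mem_autInducedBy.1 hβ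
  -- the powers of `g₀`
  let W : Submonoid G :=
    { carrier := {g | (∀ t ∈ T, g * t * g⁻¹ ∈ T) ∧
        ∀ c ∈ C, c⁻¹ * (g * c * g⁻¹) ∈ T}
      one_mem' := ⟨fun t ht => by simpa using ht, fun c _ => by simp⟩
      mul_mem' := by
        rintro a b ⟨ha, ha'⟩ ⟨hb, hb'⟩
        refine ⟨fun t ht => ?_, fun c hc => ?_⟩
        · rw [show a * b * t * (a * b)⁻¹ = a * (b * t * b⁻¹) * a⁻¹ by group]
          exact ha _ (hb t ht)
        · have e : c⁻¹ * (a * b * c * (a * b)⁻¹) =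
              c⁻¹ * (a * c * a⁻¹) * (a * (c⁻¹ * (b * c * b⁻¹)) * a⁻¹) := by group
          rw [e]
          exact T.mul_mem (ha' c hc) (ha _ (hb' c hc)) }
  have hg₀W : g₀ ∈ W := ⟨fun t ht => by
      rw [← show _ = g₀ * t * g₀⁻¹ from hg₀ ⟨t, Subgroup.mem_sup_left ht⟩,
        show ((β ⟨t, Subgroup.mem_sup_left ht⟩ : ↥(T ⊔ C)) : G) = _ from hβT ⟨t, ht⟩]
      exact SetLike.coe_mem _,
    fun c hc => by
      rw [← show _ = g₀ * c * g₀⁻¹ from hg₀ ⟨c, Subgroup.mem_sup_right hc⟩]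
      exact (hβC ⟨c, Subgroup.mem_sup_right hc⟩ hc).1⟩
  have hg₀T : ∀ x : T, ((α x : T) : G) = g₀ * (x : G) * g₀⁻¹ := fun x =>
    (hβT x).symm.trans (hg₀ _)
  have hpow : ∀ (n : ℕ) (x : T), (((α ^ n) x : T) : G) = g₀ ^ n * (x : G) * (g₀ ^ n)⁻¹ := by
    intro n
    induction n with
    | zero => intro x; simp
    | succ n ih =>
      intro x
      rw [pow_succ', MulAut.mul_apply, hg₀T, ih, pow_succ']
      group
  obtain ⟨a, m, hm, hgm⟩ :=
    Nat.exists_eq_pow_mul_and_not_dvd (orderOf_pos g₀).ne' p (Fact.out : p.Prime).ne_one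
  obtain ⟨N, hN1, hN0⟩ := Nat.chineseRemainder (hco.pow_right a) 1 0
  set g := g₀ ^ N
  have hgW : g ∈ W := W.pow_mem hg₀W N
  have hαN : α ^ N = α := by
    rw [← pow_one α, ← pow_mul, one_mul]
    exact pow_eq_pow_iff_modEq.2 hN1
  have hgT : ∀ x : T, ((α x : T) : G) = g * (x : G) * g⁻¹ := fun x => by
    have := hpow N x
    rwa [hαN] at this
  have hgo : (orderOf g).Coprime p := by
    refine Nat.Coprime.coprime_dvd_left (orderOf_dvd_of_pow_eq_one (n := m) ?_)
      ((Fact.out : p.Prime).coprime_iff_not_dvd.2 hm).symm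
    rw [← pow_mul]
    exact orderOf_dvd_iff_pow_eq_one.1 (hgm ▸ mul_dvd_mul_right (Nat.modEq_zero_iff_dvd.1 hN0) m)
  refine ⟨g, ⟨?_, ?_⟩, hgo, hgT⟩
  swap
  · -- the action on `U`
    show MulAut.conjNormal g ∈ E.autGroup d.U
    refine mem_autGroup_of_hom E ?_
    have e : autHom (MulAut.conjNormal g : MulAut d.U) = restr d.U_le (autHom α) :=
      MonoidHom.ext fun x => (MulAut.conjNormal_apply g x).trans (hgT ⟨x, d.U_le x.2⟩).symm
    rw [e]
    exact restr_mem E (autHom_mem E le_rfl hα) _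
  intro q hq
  set A := E.autGroup T
  obtain ⟨⟨-, R, hR⟩, -⟩ :=
    IsSaturated.automized_receptive d.Tp hEsat (isFullyNormalized_top E)
  have : Finite (MulAut T) := finite_mulAut (S := T) le_rfl
  rw [autInducedBy_self] at hR
  haveI : (R : Subgroup A).Normal := by
    rw [hR, inn_eq_autInducedBy]
    refine ⟨fun b hb c => ?_⟩
    obtain ⟨t, ht, he⟩ := mem_autInducedBy.1 (Subgroup.mem_subgroupOf.1 hb)
    refine Subgroup.mem_subgroupOf.2 (mem_autInducedBy.2
      ⟨((c : MulAut T) ⟨t, ht⟩ : T), SetLike.coe_mem _, fun x => ?_⟩)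
    obtain ⟨y, rfl⟩ := (c : MulAut T).surjective x
    show (((c : MulAut T) ((b : MulAut T) ((c : MulAut T)⁻¹ ((c : MulAut T) y))) : T) : G) = _
    rw [MulAut.inv_apply, MulEquiv.symm_apply_apply,
      show (b : MulAut T) y = ⟨t, ht⟩ * y * (⟨t, ht⟩ : T)⁻¹ from Subtype.ext (he y), map_mul,
      map_mul, map_inv]
    rfl
  -- the commutator `f` induces an element of `Inn T`
  set f := g * q * g⁻¹ * q⁻¹ with hf
  have hfQ : f ∈ pCore p G := (pCore p G).mul_mem (d.core_conj g hq) ((pCore p G).inv_mem hq)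
  have hfn : f ∈ Subgroup.normalizer (T : Set G) :=
    mem_normalizer_of_finite fun t ht => d.sylow_normalizes (d.core_le hfQ) ht
  have hqn : q ∈ Subgroup.normalizer (T : Set G) :=
    mem_normalizer_of_finite fun t ht => d.sylow_normalizes (d.core_le hq) ht
  have hfA : conjAut hfn ∈ A := by
    have hqF : conjAut hqn ∈ (groupFusionSystem (S : Subgroup G)).autGroup T :=
      conjAut_mem_autGroup _ d.le (d.core_le hq) hqn
    have h1 := conj_mem_autGroup_of_invariant hinv d.le le_rfl hqF (A.inv_mem hα)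
    have e : conjAut hfn = α * (conjAut hqn * α⁻¹ * (conjAut hqn)⁻¹) := by
      refine MulEquiv.ext fun x => Subtype.ext ?_
      rw [MulAut.mul_apply, MulAut.mul_apply, MulAut.mul_apply, hgT, conjAut_coe, conjAut_coe]
      have h2 : ∀ z : T, ((α⁻¹ z : T) : G) = g⁻¹ * (z : G) * g := fun z => by
        have := hgT (α⁻¹ z)
        rw [show α (α⁻¹ z) = z from α.apply_symm_apply z] at this
        rw [this]; group
      have h3 : ∀ z : T, (((conjAut hqn)⁻¹ z : T) : G) = q⁻¹ * (z : G) * q := fun z => by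
        have := conjAut_coe hqn ((conjAut hqn)⁻¹ z)
        rw [show conjAut hqn ((conjAut hqn)⁻¹ z) = z from (conjAut hqn).apply_symm_apply z] at this
        rw [this]; group
      rw [h2, h3, hf]
      group
    rw [e]
    exact A.mul_mem hα h1
  obtain ⟨k, hk⟩ := S.2 ⟨f, d.core_le hfQ⟩
  have hfR := mem_normal_of_sylow (R : Subgroup A) R le_rfl (a := (⟨_, hfA⟩ : A)) (k := k) (by
    refine Subtype.ext ?_
    show (T.normalizerMonoidHom ⟨f, hfn⟩) ^ p ^ k = 1
    rw [← map_pow]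
    convert map_one T.normalizerMonoidHom
    exact Subtype.ext (by simpa using congrArg Subtype.val hk))
  rw [hR, inn_eq_autInducedBy] at hfR
  obtain ⟨t, ht, he⟩ := mem_autInducedBy.1 (Subgroup.mem_subgroupOf.1 hfR)
  have hcC : t⁻¹ * f ∈ C := by
    refine ⟨(S : Subgroup G).mul_mem ((S : Subgroup G).inv_mem (d.le ht)) (d.core_le hfQ),
      fun x hx => ?_⟩
    have h1 : f * x * f⁻¹ = t * x * t⁻¹ := he ⟨x, hx⟩
    calc x * (t⁻¹ * f) = t⁻¹ * (t * x * t⁻¹) * f := by group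
      _ = t⁻¹ * f * x := by rw [← h1]; group
  -- `g` fixes `f` modulo `U`
  have hgf : g * f * g⁻¹ * f⁻¹ ∈ d.U := by
    refine ⟨?_, (pCore p G).mul_mem (d.core_conj g hfQ) ((pCore p G).inv_mem hfQ)⟩
    set c := t⁻¹ * f with hc
    have e : g * f * g⁻¹ * f⁻¹ =
        (g * t * g⁻¹) * (c * (c⁻¹ * (g * c * g⁻¹)) * c⁻¹) * t⁻¹ := by rw [hc]; group
    rw [e]
    exact T.mul_mem (T.mul_mem (hgW.1 t ht) (d.sylow_normalizes hcC.1 (hgW.2 c hcC)))
      (T.inv_mem ht)
  -- conclude modulo `U`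
  let π := QuotientGroup.mk' d.U
  have hc1 : π g * π f = π f * π g := by
    have h0 : π (g * f * g⁻¹ * f⁻¹) = 1 := (QuotientGroup.eq_one_iff _).2 hgf
    rw [map_mul, map_mul, map_mul, map_inv, map_inv, mul_inv_eq_one, mul_inv_eq_iff_eq_mul] at h0
    exact h0
  have key : ∀ n : ℕ, π g ^ n * π q * (π g ^ n)⁻¹ = π f ^ n * π q := by
    intro n
    induction n with
    | zero => simp
    | succ n ih =>
      calc π g ^ (n + 1) * π q * (π g ^ (n + 1))⁻¹
          = π g * (π g ^ n * π q * (π g ^ n)⁻¹) * (π g)⁻¹ := by rw [pow_succ']; group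
        _ = π g * (π f ^ n * π q) * (π g)⁻¹ := by rw [ih]
        _ = π f ^ n * (π g * π q * (π g)⁻¹) := by
            rw [← mul_assoc, (Commute.pow_right hc1 n).eq]; group
        _ = π f ^ n * (π f * π q) := by rw [hf]; simp [mul_assoc]
        _ = π f ^ (n + 1) * π q := by rw [pow_succ, mul_assoc]
  have h1 := key (orderOf g)
  rw [← map_pow, pow_orderOf_eq_one, map_one, one_mul, inv_one, mul_one] at h1
  have h2 : π f ^ orderOf g = 1 := by
    rw [eq_comm, mul_eq_right] at h1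
    exact h1
  have h3 : π f ^ p ^ k = 1 := by
    rw [← map_pow, show f ^ p ^ k = 1 from congrArg Subtype.val hk, map_one]
  have := pow_gcd_eq_one.2 ⟨h2, h3⟩
  rw [(hgo.pow_right k).gcd_eq_one, pow_one] at this
  exact (QuotientGroup.eq_one_iff _).1 this

/-- Every element of `Aut_E(T)` is induced by a given normal subgroup containing `T` and the
`p'`-elements of `K`. -/
theorem autTop_le (d : NormalSubData p S T E) {H : Subgroup G} (hTH : T ≤ H)
    (hco : ∀ g ∈ d.K, (orderOf g).Coprime p → g ∈ H) :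
    E.autGroup T ≤ autInducedBy H T := by
  classical
  intro α hα
  obtain ⟨⟨hEsat, -⟩, -⟩ := d.normal
  have : Finite (MulAut T) := finite_mulAut (S := T) le_rfl
  set A := E.autGroup T
  obtain ⟨⟨-, R, hR⟩, -⟩ :=
    IsSaturated.automized_receptive d.Tp hEsat (isFullyNormalized_top E)
  let X : Subgroup A := (autInducedBy H T).subgroupOf A
  have hRX : (R : Subgroup A) ≤ X := by
    rw [hR]
    intro a ha
    exact autInducedBy_mono hTH ha
  obtain ⟨a, m, hm, hgm⟩ := Nat.exists_eq_pow_mul_and_not_dvd (orderOf_pos (⟨α, hα⟩ : A)).ne' p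
    (Fact.out : p.Prime).ne_one
  set x : A := ⟨α, hα⟩
  have hco' : Nat.Coprime m (p ^ a) :=
    (((Fact.out : p.Prime).coprime_iff_not_dvd.2 hm).pow_left a).symm
  obtain ⟨N, hN1, hN0⟩ := Nat.chineseRemainder hco' 1 0
  have hxN : x ^ N ∈ X := by
    have ho : (orderOf ((x ^ N : A) : MulAut T)).Coprime p := by
      rw [Subgroup.orderOf_coe]
      refine Nat.Coprime.coprime_dvd_left (orderOf_dvd_of_pow_eq_one (n := m) ?_)
        ((Fact.out : p.Prime).coprime_iff_not_dvd.2 hm).symm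
      rw [← pow_mul]
      exact orderOf_dvd_iff_pow_eq_one.1
        (hgm ▸ mul_dvd_mul_right (Nat.modEq_zero_iff_dvd.1 hN0) m)
    obtain ⟨g, hgK, hgo, hg⟩ := d.exists_lift_coprime (x ^ N : A).2 ho
    exact Subgroup.mem_subgroupOf.2 (mem_autInducedBy.2 ⟨g, hco g hgK hgo, hg⟩)
  have hRn : (R : Subgroup A).Normal := by
    rw [hR, autInducedBy_self, inn_eq_autInducedBy]
    refine ⟨fun b hb c => ?_⟩
    obtain ⟨t, ht, he⟩ := mem_autInducedBy.1 (Subgroup.mem_subgroupOf.1 hb)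
    refine Subgroup.mem_subgroupOf.2 (mem_autInducedBy.2
      ⟨((c : MulAut T) ⟨t, ht⟩ : T), SetLike.coe_mem _, fun x => ?_⟩)
    obtain ⟨y, rfl⟩ := (c : MulAut T).surjective x
    show (((c : MulAut T) ((b : MulAut T) ((c : MulAut T)⁻¹ ((c : MulAut T) y))) : T) : G) = _
    rw [MulAut.inv_apply, MulEquiv.symm_apply_apply,
      show (b : MulAut T) y = ⟨t, ht⟩ * y * (⟨t, ht⟩ : T)⁻¹ from Subtype.ext (he y), map_mul,
      map_mul, map_inv]
    rfl
  obtain ⟨y, hy⟩ : ∃ y ∈ X, x = x ^ N * y := by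
    refine ⟨(x ^ N)⁻¹ * x, hRX ?_, by group⟩
    refine mem_normal_of_sylow (R : Subgroup A) R le_rfl (k := a) ?_
    have hc : Commute (x ^ N)⁻¹ x := ((Commute.refl x).pow_left N).inv_left
    rw [hc.mul_pow, inv_pow, ← pow_mul, inv_mul_eq_one]
    refine pow_eq_pow_iff_modEq.2 ?_
    rw [hgm]
    have : N * p ^ a ≡ p ^ a [MOD p ^ a * m] := by
      have := Nat.ModEq.mul_left' (p ^ a) hN1
      rwa [mul_comm (p ^ a) N, mul_one] at this
    exact this
  have : x ∈ X := by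
    rw [hy.2]
    exact X.mul_mem hxN hy.1
  exact this

end NormalSubData

end Cfsg.Agent.Lib.Fusion
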