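import Cfsg.Agent.Lib.Fusion.ModelExists

/-!
Uniqueness and rigidity of models of constrained fusion systems.

Every model embeds exactly in the big group of `ModelExtension` (coordinates
`τ_x⁻¹ g τ_{g⁻¹ x}`), compatibly with the two copies of `S`.
-/

set_option autoImplicit false
set_option linter.unusedSectionVars false

namespace Cfsg.Agent.Lib.Fusion.Model

open Cfsg Cfsg.FusionSystem

universe u v

variable {Ω : Type u} [Group Ω] {S : Subgroup Ω} [Finite S] {p : ℕ} [Fact p.Prime]
variable {F : FusionSystem S} {G : Type v} [Group G] {ι : S →* G}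

theorem core_centric (hF : F.IsConstrained p) : F.IsCentric F.core := by
  obtain ⟨-, Q, hQn, hQc⟩ := hF
  exact isCentric_of_le hQc (le_core hQn) (isNormal_core F).1

theorem data_core (hS : IsPGroup p S) (hF : F.IsConstrained p) : Data F p F.core :=
  ⟨hS, hF.1, isNormal_core F, core_centric hF⟩

/-- In a model the largest normal `p`-subgroup is the image of the core. -/
theorem pCore_eq (hG : F.IsModel p G ι) : pCore p G = imageAlong ι F.core := by
  obtain ⟨hfin, hreal, ⟨T, hT⟩, hC⟩ := hG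
  have := pCore_normal p G
  have hle : pCore p G ≤ ι.range := hT ▸ pCore_le_sylow T
  have hR := IsRealizedBy.isNormal_preimage hreal (pCore p G) hle
  have hN := isNormal_core F
  refine le_antisymm ?_ ?_
  · rw [← imageAlong_preimageAlong hle]
    exact Subgroup.map_mono fun x hx => le_core hR hx
  have hn : (imageAlong ι F.core).Normal := by
    refine ⟨fun y hy g => ?_⟩
    obtain ⟨x, hxS, hxQ, rfl⟩ := mem_imageAlong.1 hy
    obtain ⟨φ, hφ, hφe⟩ := IsRealizedBy.exists_hom hreal (P := preimageAlong ι (pCore p G)) hR.1 g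
      fun z => by
        obtain ⟨hzS, hz⟩ := mem_preimageAlong.1 z.2
        exact hle (this.conj_mem _ hz g)
    obtain ⟨ψ, hψ, hψe, hψQ⟩ := hN.2 _ φ hφ
    obtain ⟨g', hg'⟩ := IsRealizedBy.exists_conj hreal hψ
    have hc : g'⁻¹ * g ∈ Subgroup.centralizer ((pCore p G : Subgroup G) : Set G) := by
      refine Subgroup.mem_centralizer_iff.2 fun z hz => ?_
      obtain ⟨s, rfl⟩ := hle hz
      have hs : (s : Ω) ∈ preimageAlong ι (pCore p G) := mem_preimageAlong.2 ⟨s.2, hz⟩
      have h1 := hg' (Subgroup.inclusion le_sup_left ⟨s, hs⟩)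
      simp only [hψe ⟨s, hs⟩] at h1
      have h2 := (hφe ⟨s, hs⟩).symm.trans h1
      calc ι s * (g'⁻¹ * g) = g'⁻¹ * (g' * ι s * g'⁻¹) * g := by group
        _ = g'⁻¹ * (g * ι s * g⁻¹) * g := by
              rw [show g' * ι s * g'⁻¹ = g * ι s * g⁻¹ from h2.symm]
        _ = g'⁻¹ * g * ι s := by group
    obtain ⟨z, hz⟩ := hle (hC hc)
    have hzx : (z : Ω) * x * (z : Ω)⁻¹ ∈ F.core :=
      StronglyClosed.conj_mem_self (IsNormal.stronglyClosed hN) z.2 hxQ
    have h3 := hg' ⟨_, Subgroup.mem_sup_right hzx⟩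
    have e : (⟨(z : Ω) * x * (z : Ω)⁻¹, hN.1 hzx⟩ : S) = z * ⟨x, hxS⟩ * z⁻¹ := rfl
    simp only [e, map_mul, map_inv, hz] at h3
    refine mem_imageAlong.2 ⟨_, apply_mem hψ ⟨_, Subgroup.mem_sup_right hzx⟩, ?_, h3.trans ?_⟩
    · exact hψQ.le ⟨⟨_, Subgroup.mem_sup_right hzx⟩, hzx, rfl⟩
    · group
  have hp : IsPGroup p (imageAlong ι F.core) :=
    (T.2.to_le (hT ▸ imageAlong_le_range ι F.core))
  exact le_sSup ⟨hn, hp⟩

/-- The action of a model on the core. -/
noncomputable def modelAct (hG : F.IsModel p G ι) : G →* F.autGroup F.core :=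
  MonoidHom.codRestrict
    (((MulAut.congr (pushEquiv hG.2.1.1 (isNormal_core F).1)).symm.toMonoidHom).comp
      ((imageAlong ι F.core).normalizerMonoidHom.comp
        ((MonoidHom.id G).codRestrict (Subgroup.normalizer (imageAlong ι F.core : Set G)) fun g => by
          have := pCore_normal p G
          rw [← pCore_eq hG, Subgroup.normalizer_eq_top]
          exact Subgroup.mem_top _)))
    _ fun g => by
      have hQS : F.core ≤ S := (isNormal_core F).1
      have := pCore_normal p G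
      obtain ⟨φ, hφ, hφe⟩ := IsRealizedBy.exists_hom hG.2.1 hQS g fun z => by
        refine imageAlong_le_range ι F.core ?_
        rw [← pCore_eq hG]
        exact this.conj_mem _ (pCore_eq hG ▸ apply_mem_imageAlong ι (⟨z, hQS z.2⟩ : S) z.2) g
      apply mem_autGroup_of_hom F
      convert hφ using 1
      ext q
      refine congrArg Subtype.val (hG.2.1.1 ?_ :
        (⟨_, hQS (SetLike.coe_mem _)⟩ : S) = ⟨φ q, apply_mem hφ q⟩)
      rw [hφe]
      exact congrArg Subtype.val ((pushEquiv hG.2.1.1 hQS).apply_symm_apply _)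

theorem modelAct_spec (hG : F.IsModel p G ι) (g : G) (q : F.core) :
    ι ⟨((modelAct hG g).1 q : F.core), (isNormal_core F).1 (SetLike.coe_mem _)⟩ =
      g * ι ⟨q, (isNormal_core F).1 q.2⟩ * g⁻¹ :=
  congrArg Subtype.val ((pushEquiv hG.2.1.1 (isNormal_core F).1).apply_symm_apply _)

theorem modelAct_eq (hG : F.IsModel p G ι) {g : G} {a : F.autGroup F.core}
    (h : ∀ q : F.core, ι ⟨(a.1 q : F.core), (isNormal_core F).1 (SetLike.coe_mem _)⟩ =
      g * ι ⟨q, (isNormal_core F).1 q.2⟩ * g⁻¹) : modelAct hG g = a := by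
  refine Subtype.ext (MulEquiv.ext fun q => Subtype.ext ?_)
  exact (congrArg Subtype.val (hG.2.1.1 ((modelAct_spec hG g q).trans (h q).symm)) :)

theorem modelAct_iota (hG : F.IsModel p G ι) (D : Data F p F.core) (s : S) :
    modelAct hG (ι s) = D.act s := by
  refine modelAct_eq hG fun q => ?_
  rw [← map_inv, ← map_mul, ← map_mul]
  rfl

theorem modelAct_surjective (hG : F.IsModel p G ι) : Function.Surjective (modelAct hG) := by
  intro a
  obtain ⟨g, hg⟩ := IsRealizedBy.exists_conj hG.2.1 (autHom_mem F (isNormal_core F).1 a.2)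
  exact ⟨g, modelAct_eq hG hg⟩

theorem exists_of_modelAct_eq_one (hG : F.IsModel p G ι) (D : Data F p F.core) {g : G}
    (hg : modelAct hG g = 1) :
    ∃ c : Subgroup.center F.core, ι (D.incl c) = g := by
  have hc : g ∈ Subgroup.centralizer ((pCore p G : Subgroup G) : Set G) := by
    refine Subgroup.mem_centralizer_iff.2 fun y hy => ?_
    rw [pCore_eq hG] at hy
    obtain ⟨x, hxS, hxQ, rfl⟩ := mem_imageAlong.1 hy
    have h1 := modelAct_spec hG g ⟨x, hxQ⟩
    simp only [hg, OneMemClass.coe_one, MulAut.one_apply] at h1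
    exact eq_mul_inv_iff_mul_eq.1 h1
  obtain ⟨s, hs, hsQ, rfl⟩ := mem_imageAlong.1 (pCore_eq hG ▸ hG.2.2.2 hc)
  rw [modelAct_iota hG D] at hg
  obtain ⟨c, hc⟩ := D.exists_center_of_act_eq_one hg
  exact ⟨c, by rw [hc]⟩

/-- Every model is isomorphic to the constructed one. -/
theorem exists_equiv (hG : F.IsModel p G ι) (D : Data F p F.core) :
    ∃ φ : G ≃* D.Grp, ∀ x, φ (ι x) = D.emb x := by
  have hi := hG.2.1.1
  have hQS : F.core ≤ S := D.le
  have hex : ∀ r : F.autGroup F.core,
      ∃ g : G, modelAct hG g = r⁻¹ ∧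
        ∀ (s : S), (s : Ω) ∈ extender S F.core (autHom (r : MulAut F.core)⁻¹) →
          ι (D.extS r s) = g * ι s * g⁻¹ := by
    intro r
    obtain ⟨g, hg⟩ := IsRealizedBy.exists_conj hG.2.1 (D.ext_mem r)
    refine ⟨g, modelAct_eq hG fun q => ?_, fun s hs => ?_⟩
    · have hN : (q : Ω) ∈ extender S F.core (autHom (r : MulAut F.core)⁻¹) :=
        le_extender D.le (apply_mem (autHom_mem F D.le ((F.autGroup F.core).inv_mem r.2))) q.2
      have h1 := hg ⟨q, hN⟩
      simp only [D.ext_eq r q hN] at h1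
      exact h1
    · rw [show D.extS r s = ⟨_, apply_mem (D.ext_mem r) ⟨s, hs⟩⟩ from Subtype.ext (D.extS_eq hs)]
      exact hg ⟨s, hs⟩
  choose g₀ hg₀ hg₀' using hex
  let τ : D.X → G := fun x => ι (D.lift x) * (g₀ (D.base x).out)⁻¹
  have hτ : ∀ x, modelAct hG (τ x) = D.tr x := fun x => by
    simp only [τ, map_mul, map_inv, modelAct_iota hG D, hg₀, inv_inv]
    rfl
  have hrange : ∀ (g : G) (x : D.X),
      (τ x)⁻¹ * g * τ ((modelAct hG g)⁻¹ • x) ∈ ι.range := by
    intro g x
    obtain ⟨k, hk⟩ := D.cocycle_mem (modelAct hG g) x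
    obtain ⟨c, hc⟩ := exists_of_modelAct_eq_one hG D
      (g := (ι k)⁻¹ * ((τ x)⁻¹ * g * τ ((modelAct hG g)⁻¹ • x))) (by
        rw [map_mul, map_inv, modelAct_iota hG D, hk, map_mul, map_mul, map_inv, hτ, hτ,
          inv_mul_cancel])
    exact ⟨k * D.incl c, by rw [map_mul, hc, mul_inv_cancel_left]⟩
  choose n hn using hrange
  have hact : ∀ (g : G) (x : D.X),
      D.act (n g x) = (D.tr x)⁻¹ * modelAct hG g * D.tr ((modelAct hG g)⁻¹ • x) := by
    intro g x
    rw [← modelAct_iota hG D, hn, map_mul, map_mul, map_inv, hτ, hτ]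
  let Λ₀ : G →* D.Wgt := MonoidHom.mk' (fun g => ⟨⟨n g, modelAct hG g⟩, hact g⟩) (by
    intro a b
    refine Subtype.ext (SemidirectProduct.ext (funext fun x => hi ?_) (map_mul _ a b))
    show ι (n (a * b) x) = ι (n a x * n b ((modelAct hG a)⁻¹ • x))
    rw [map_mul ι, hn, hn, hn, map_mul, mul_inv_rev (modelAct hG a), mul_smul]
    group)
  have hΛ : ∀ s, Λ₀ (ι s) = D.sHom s := by
    intro s
    refine Subtype.ext (SemidirectProduct.ext (funext fun x => hi ?_) (modelAct_iota hG D s))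
    show ι (n (ι s) x) = ι (D.coord s x)
    rw [hn, modelAct_iota hG D, Data.coord,
      hg₀' _ _ (D.mem_extender_of_fix (D.coord_fix s x))]
    simp only [τ]
    rw [show D.base ((D.act s)⁻¹ • x) = D.base x by rw [← map_inv, D.base_smul]]
    simp only [map_mul, map_inv]
    group
  let Λ : G →* D.Grp := (QuotientGroup.mk' D.null).comp Λ₀
  have hΛι : ∀ s, Λ (ι s) = D.emb s := fun s => congrArg (QuotientGroup.mk' D.null) (hΛ s)
  have hrho : ∀ g, D.rho (Λ g) = modelAct hG g := fun g => rfl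
  have hinj : Function.Injective Λ := by
    rw [← MonoidHom.ker_eq_bot_iff, eq_bot_iff]
    intro g hg
    have hg' : Λ g = 1 := hg
    obtain ⟨c, rfl⟩ := exists_of_modelAct_eq_one hG D (g := g) (by rw [← hrho, hg', map_one])
    rw [hΛι] at hg'
    rw [show D.incl (c : F.core) = 1 from D.emb_injective (hg'.trans (map_one _).symm), map_one]
    exact Subgroup.one_mem _
  have hsurj : Function.Surjective Λ := by
    intro y
    obtain ⟨g, hg⟩ := modelAct_surjective hG (D.rho y)
    obtain ⟨c, hc⟩ := D.exists_of_rho_eq_one (g := (Λ g)⁻¹ * y) (by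
      rw [map_mul, map_inv, hrho, hg, inv_mul_cancel])
    exact ⟨g * ι (D.incl c), by rw [map_mul, hΛι, ← hc, mul_inv_cancel_left]⟩
  exact ⟨MulEquiv.ofBijective Λ ⟨hinj, hsurj⟩, hΛι⟩

/-- An automorphism of a model fixing the Sylow subgroup is conjugation by an element of its
centre. -/
theorem rigid (hG : F.IsModel p G ι) (D : Data F p F.core) (ψ : G ≃* G)
    (hψ : ∀ x : S, ψ (ι x) = ι x) :
    ∃ z : S, z ∈ Subgroup.center S ∧ ∀ g : G, ψ g = ι z * g * (ι z)⁻¹ := by
  have hfin : Finite G := hG.1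
  have hi := hG.2.1.1
  obtain ⟨T, hT⟩ := hG.2.2.1
  have hd : ∀ g : G, ∃ c : Subgroup.center F.core, ι (D.incl c) = ψ g * g⁻¹ := by
    intro g
    refine exists_of_modelAct_eq_one hG D (modelAct_eq hG fun q => ?_)
    show ι _ = ψ g * g⁻¹ * ι ⟨(q : Ω), _⟩ * (ψ g * g⁻¹)⁻¹
    have h1 := modelAct_spec hG g⁻¹ q
    have h2 : ψ (g⁻¹ * ι ⟨q, D.le q.2⟩ * g) =
        g⁻¹ * ι ⟨q, D.le q.2⟩ * g := by
      rw [inv_inv] at h1
      rw [← h1]
      exact hψ _
    rw [map_mul, map_mul, map_inv, hψ] at h2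
    calc ι ⟨q, D.le q.2⟩ = ψ g * ((ψ g)⁻¹ * ι ⟨q, D.le q.2⟩ * ψ g) * (ψ g)⁻¹ := by group
      _ = _ := by rw [h2]; group
  choose d hd using hd
  have hd' : ∀ g, ψ g = ι (D.incl (d g)) * g := fun g => by rw [hd, inv_mul_cancel_right]
  have hdmul : ∀ a b, d (a * b) = d a * D.onCenter (modelAct hG a) (d b) := by
    intro a b
    apply Subtype.ext
    apply Subgroup.inclusion_injective D.le
    apply hi
    rw [Subgroup.coe_mul, map_mul]
    show ι (D.incl (d (a * b))) = ι (D.incl (d a) * D.incl ((modelAct hG a).1 (d b)))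
    have h1 : ι (D.incl ((modelAct hG a).1 (d b))) = a * ι (D.incl (d b)) * a⁻¹ :=
      modelAct_spec hG a _
    rw [map_mul ι, h1, hd, hd, hd, map_mul]
    group
  have hdι : ∀ s, d (ι s) = 1 := by
    intro s
    apply Subtype.ext
    apply Subgroup.inclusion_injective D.le
    apply hi
    show ι (D.incl (d (ι s))) = ι (D.incl 1)
    rw [hd, hψ, mul_inv_cancel, map_one, map_one]
  let Y := G ⧸ ι.range
  have := Fintype.ofFinite Y
  let f : Y → Subgroup.center F.core := fun y => d y.out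
  have hf : ∀ (g : G) (y : Y), f (g • y) = d g * D.onCenter (modelAct hG g) (f y) := by
    intro g y
    have h1 : QuotientGroup.mk (g * y.out) = g • y := by
      conv_rhs => rw [← QuotientGroup.out_eq' y, MulAction.Quotient.smul_mk]
      rfl
    obtain ⟨k, hk⟩ := QuotientGroup.eq.1 (h1.trans (QuotientGroup.out_eq' (g • y)).symm)
    show d (g • y).out = _
    rw [← hdmul, show (g • y).out = g * y.out * ι k by rw [hk, mul_inv_cancel_left], hdmul,
      hdι, map_one, mul_one]
  let Pr : Subgroup.center F.core := ∏ y, f y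
  have hPr : ∀ g, Pr = d g ^ Nat.card Y * D.onCenter (modelAct hG g) Pr := by
    intro g
    rw [map_prod, Nat.card_eq_fintype_card, ← Finset.card_univ, ← Finset.prod_const,
      ← Finset.prod_mul_distrib]
    refine (Fintype.prod_equiv (MulAction.toPerm g) _ _ fun y => ?_).symm
    rw [MulAction.toPerm_apply, hf]
  have hcop : (Nat.card (Subgroup.center F.core)).Coprime (Nat.card Y) := by
    have := finite_of_le D.le
    obtain ⟨k, hk⟩ := IsPGroup.iff_card.1
      (((D.isPGroup.to_le D.le)).to_subgroup (Subgroup.center F.core))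
    rw [hk]
    refine Nat.Coprime.pow_left k ((Fact.out : p.Prime).coprime_iff_not_dvd.2 ?_)
    show ¬ p ∣ ι.range.index
    rw [← hT]
    exact Sylow.not_dvd_index T
  obtain ⟨z, hz⟩ := (powCoprime hcop).surjective Pr
  have hz' : z ^ Nat.card Y = Pr := hz
  have hdz : ∀ g, z = d g * D.onCenter (modelAct hG g) z := by
    intro g
    apply (powCoprime hcop).injective
    show z ^ _ = (_ * _) ^ _
    rw [mul_pow, ← map_pow, hz']
    exact hPr g
  refine ⟨D.incl z, Subgroup.mem_center_iff.2 fun s => ?_, fun g => ?_⟩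
  · have h1 := hdz (ι s)
    rw [hdι, one_mul, modelAct_iota hG D] at h1
    have h2 : s * D.incl (z : F.core) * s⁻¹ = D.incl (z : F.core) := by
      rw [D.conj_eq]
      exact congrArg (fun c : Subgroup.center F.core => D.incl c) h1.symm
    exact mul_inv_eq_iff_eq_mul.1 h2
  · have h1 := congrArg (fun c : Subgroup.center F.core => ι (D.incl c)) (hdz g)
    simp only [Subgroup.coe_mul, map_mul] at h1
    have h2 : ι (D.incl ((modelAct hG g).1 z)) = g * ι (D.incl z) * g⁻¹ := modelAct_spec hG g _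
    rw [hd'] 
    rw [show ((D.onCenter (modelAct hG g) z : Subgroup.center F.core) : F.core) =
      (modelAct hG g).1 z from rfl, h2] at h1
    conv_rhs => arg 1; rw [h1]
    group

end Cfsg.Agent.Lib.Fusion.Model

namespace Cfsg.Agent.Lib.Fusion

open Cfsg Cfsg.FusionSystem

universe u v w

/-- A model of a constrained system is unique up to a unique-up-to-`Z(S)` isomorphism. -/
theorem model_unique {Ω : Type u} [Group Ω] {S : Subgroup Ω} [Finite S] {p : ℕ} [Fact p.Prime]
    (hS : IsPGroup p S) {F : FusionSystem S} (hF : F.IsConstrained p)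
    {G₁ : Type v} [Group G₁] {G₂ : Type w} [Group G₂] {ι₁ : S →* G₁} {ι₂ : S →* G₂}
    (h₁ : F.IsModel p G₁ ι₁) (h₂ : F.IsModel p G₂ ι₂) :
    ∃ φ : G₁ ≃* G₂, ∀ x : S, φ (ι₁ x) = ι₂ x := by
  obtain ⟨a, ha⟩ := Model.exists_equiv h₁ (Model.data_core hS hF)
  obtain ⟨b, hb⟩ := Model.exists_equiv h₂ (Model.data_core hS hF)
  exact ⟨a.trans b.symm, fun x => by
    rw [MulEquiv.trans_apply, ha, ← hb, MulEquiv.symm_apply_apply]⟩

end Cfsg.Agent.Lib.Fusion
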