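import Cfsg.Agent.Lib.Fusion.Essential
import Cfsg.Agent.Lib.Cores.Residual
import Cfsg.Prelude.Def_FusionReduction

/-!
Subsystems of `p`-power index: comparison through the automorphisms of order prime to `p`, and
uniqueness of the residual limit.
-/

set_option autoImplicit false

namespace Cfsg.Agent.Lib.Fusion

open Cfsg Cfsg.FusionSystem

universe u

variable {Ω : Type u} [Group Ω] {p : ℕ} [Fact p.Prime]

theorem autGroup_le_of_isSubsystemOf {T S : Subgroup Ω} {E : FusionSystem T} {F : FusionSystem S}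
    (h : E.IsSubsystemOf F) (P : Subgroup Ω) : E.autGroup P ≤ F.autGroup P :=
  Subgroup.closure_mono fun _ hα => h P hα

theorem mem_map_pResidual_of_coprime {G : Type*} [Group G] (A : Subgroup G) {a : G} (ha : a ∈ A)
    (hc : (orderOf a).Coprime p) : a ∈ (pResidual p A).map A.subtype :=
  ⟨⟨a, ha⟩, Cfsg.Agent.Lib.Cores.mem_pResidual_of_coprime (by rwa [Subgroup.orderOf_mk]), rfl⟩

/-- At a fully normalized subgroup the automorphisms induced by `S` and those of order prime to
`p` generate. -/
theorem autGroup_le_of_generators {U : Subgroup Ω} [Finite U] (hU : IsPGroup p U)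
    {D : FusionSystem U} (hD : D.IsSaturated p) {P : Subgroup Ω} (hP : D.IsFullyNormalized P)
    (H : Subgroup (MulAut P)) (h1 : autInducedBy U P ≤ H)
    (h2 : ∀ α ∈ D.autGroup P, (orderOf α).Coprime p → α ∈ H) : D.autGroup P ≤ H := by
  obtain ⟨⟨hPU, R, hR⟩, -⟩ := IsSaturated.automized_receptive hU hD hP
  have := finite_mulAut hPU
  intro α hα
  have htop := Cfsg.Agent.Lib.Cores.sylow_sup_pResidual R
  refine ((sup_le ?_ ?_ : (R : Subgroup (D.autGroup P)) ⊔ pResidual p (D.autGroup P) ≤
    H.subgroupOf (D.autGroup P))) (htop.ge (Subgroup.mem_top (⟨α, hα⟩ : D.autGroup P)))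
  · rw [hR]
    exact fun β hβ => h1 (Subgroup.mem_subgroupOf.1 hβ)
  · unfold pResidual
    refine (Subgroup.closure_le _).2 fun β hβ => ?_
    replace hβ : (orderOf β).Coprime p := hβ
    refine Subgroup.mem_subgroupOf.2 (h2 _ β.2 ?_)
    rwa [Subgroup.orderOf_coe]

/-- A saturated system over `U` lies in a system over `V ≥ U` containing its automorphisms of
order prime to `p`. -/
theorem isSubsystemOf_of_coprime {U V : Subgroup Ω} [Finite U] (hU : IsPGroup p U)
    {D : FusionSystem U} (hD : D.IsSaturated p) {D' : FusionSystem V} (hUV : U ≤ V)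
    (h : ∀ P : Subgroup Ω, P ≤ U → ∀ α ∈ D.autGroup P, (orderOf α).Coprime p →
      α ∈ D'.autGroup P) : D.IsSubsystemOf D' := by
  let E : FusionSystem U :=
    { Hom := fun P => D.Hom P ∩ D'.Hom P
      le_of_mem := fun hφ => D.le_of_mem hφ.1
      injective_of_mem := fun hφ => D.injective_of_mem hφ.1
      conj_mem := fun hP hg => ⟨D.conj_mem hP hg, D'.conj_mem (hP.trans hUV) (hUV hg)⟩
      comp_mem := fun {_ _ _ _} hφ hψ hc =>
        ⟨D.comp_mem hφ.1 hψ.1 hc, D'.comp_mem hφ.2 hψ.2 hc⟩
      inv_mem := fun {P φ} hφ => by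
        obtain ⟨χ, hχ, hl⟩ := D.inv_mem hφ.1
        obtain ⟨χ', hχ', hl'⟩ := D'.inv_mem hφ.2
        refine ⟨χ, ⟨hχ, ?_⟩, hl⟩
        have e : χ' = χ := MonoidHom.ext fun y => by
          obtain ⟨_, x, rfl⟩ := y
          exact (hl' x).trans (hl x).symm
        rwa [← e] }
  suffices hDE : D ≤ E from fun P φ hφ => (hDE P hφ).2
  refine alperin hU hD E fun P hP => ?_
  have hPn : D.IsFullyNormalized P := by
    rcases hP with rfl | hP
    · exact isFullyNormalized_top D
    · exact hP.2.1
  obtain ⟨⟨hPU, R, hR⟩, -⟩ := IsSaturated.automized_receptive hU hD hPn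
  have := finite_mulAut hPU
  intro α hα
  have hmem : (⟨α, hα⟩ : D.autGroup P) ∈ (E.autGroup P).subgroupOf (D.autGroup P) := by
    have htop := Cfsg.Agent.Lib.Cores.sylow_sup_pResidual R
    refine ((sup_le ?_ ?_ : (R : Subgroup (D.autGroup P)) ⊔ pResidual p (D.autGroup P) ≤ _))
      (htop.ge (Subgroup.mem_top _))
    · rw [hR]
      exact fun β hβ => autInducedBy_le_autGroup E hPU (Subgroup.mem_subgroupOf.1 hβ)
    · unfold pResidual
      refine (Subgroup.closure_le _).2 fun β hβ => ?_
      replace hβ : (orderOf β).Coprime p := hβ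
      show (β : MulAut P) ∈ E.autGroup P
      refine mem_autGroup_of_hom E ⟨autHom_mem D hPU β.2, ?_⟩
      exact autHom_mem D' (hPU.trans hUV) (h P hPU _ β.2 (by rwa [Subgroup.orderOf_coe]))
  exact hmem

/-- Two saturated systems over the same group containing each other's automorphisms of order
prime to `p` coincide. -/
theorem hom_eq_of_coprime {U V : Subgroup Ω} [Finite U] [Finite V] (hU : IsPGroup p U)
    (hUV : U = V) {D : FusionSystem U} (hD : D.IsSaturated p) {D' : FusionSystem V}
    (hD' : D'.IsSaturated p)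
    (h : ∀ P : Subgroup Ω, P ≤ U → ∀ α ∈ D.autGroup P, (orderOf α).Coprime p →
      α ∈ D'.autGroup P)
    (h' : ∀ P : Subgroup Ω, P ≤ U → ∀ α ∈ D'.autGroup P, (orderOf α).Coprime p →
      α ∈ D.autGroup P) : ∀ P, D.Hom P = D'.Hom P := by
  subst hUV
  intro P
  exact Set.Subset.antisymm (isSubsystemOf_of_coprime hU hD le_rfl h P)
    (isSubsystemOf_of_coprime hU hD' le_rfl h' P)

theorem eq_of_hom_eq {S T : Subgroup Ω} {F : FusionSystem S} {E : FusionSystem T}
    (h : ∀ P, F.Hom P = E.Hom P) : S = T :=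
  le_antisymm (source_le (h S ▸ subtype_mem F le_rfl : S.subtype ∈ E.Hom S))
    (source_le ((h T).symm ▸ subtype_mem E le_rfl : T.subtype ∈ F.Hom T))

/-- Uniqueness of the `p`-residual subsystem. -/
theorem isPResidual_unique {S : Subgroup Ω} [Finite S] (hS : IsPGroup p S) {F : FusionSystem S}
    {D₁ D₂ : FusionSystem (F.hyperfocalSubgroup p)} (h₁ : F.IsPResidual p D₁)
    (h₂ : F.IsPResidual p D₂) : D₁ = D₂ := by
  have hle : F.hyperfocalSubgroup p ≤ S := by
    refine (Subgroup.closure_le _).2 ?_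
    rintro _ ⟨P, α, x, hP, -, rfl⟩
    exact S.mul_mem (S.inv_mem (hP x.2)) (hP (SetLike.coe_mem _))
  have := finite_of_le hle
  refine ext_hom (hom_eq_of_coprime (hS.to_le hle) rfl h₁.1 h₂.1 ?_ ?_)
  · exact fun P hP α hα hc => h₂.2.2.2 P hP
      (mem_map_pResidual_of_coprime _ (autGroup_le_of_isSubsystemOf h₁.2.1 P hα) hc)
  · exact fun P hP α hα hc => h₁.2.2.2 P hP
      (mem_map_pResidual_of_coprime _ (autGroup_le_of_isSubsystemOf h₂.2.1 P hα) hc)

/-- Uniqueness of the `p'`-residual subsystem. -/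
theorem isPPrimeResidual_unique {S : Subgroup Ω} {F D₁ D₂ : FusionSystem S}
    (h₁ : F.IsPPrimeResidual p D₁) (h₂ : F.IsPPrimeResidual p D₂) : D₁ = D₂ :=
  ext_hom fun P => Set.Subset.antisymm (h₁.2.2 D₂ h₂.1 h₂.2.1 P) (h₂.2.2 D₁ h₁.1 h₁.2.1 P)

theorem hyperfocalSubgroup_le {S : Subgroup Ω} (F : FusionSystem S) :
    F.hyperfocalSubgroup p ≤ S := by
  refine (Subgroup.closure_le _).2 ?_
  rintro _ ⟨P, α, x, hP, -, rfl⟩
  exact S.mul_mem (S.inv_mem (hP x.2)) (hP (SetLike.coe_mem _))

/-- A system that is its own `p`-residual. -/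
theorem isPResidual_self_heq {S : Subgroup Ω} [Finite S] (hS : IsPGroup p S) {F : FusionSystem S}
    (hF : F.IsSaturated p) (hh : F.hyperfocalSubgroup p = S)
    {D : FusionSystem (F.hyperfocalSubgroup p)} (hD : F.IsPResidual p D) :
    ∀ P, D.Hom P = F.Hom P := by
  have : Finite (F.hyperfocalSubgroup p) := finite_of_le hh.le
  refine hom_eq_of_coprime (hS.to_le hh.le) hh hD.1 hF ?_ ?_
  · exact fun P _ α hα _ => autGroup_le_of_isSubsystemOf hD.2.1 P hα
  · exact fun P hP α hα hc => hD.2.2.2 P hP (mem_map_pResidual_of_coprime _ hα hc)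

theorem residualLimit_stable_aux {T S : Subgroup Ω} {E : FusionSystem T} {G : FusionSystem S}
    {q : ℕ} (h : IsResidualLimitOf E G q) : Fact q.Prime → Finite S → IsPGroup q S →
      G.IsPPrimeResidual q G → G.hyperfocalSubgroup q = S → ∀ P, E.Hom P = G.Hom P := by
  induction h with
  | stable F => exact fun _ _ _ _ _ _ => rfl
  | @step S₁ E₁ F q D D' hD hD' hlim ih =>
    intro hq hfin hS hG hh
    have hDF := isPResidual_self_heq hS hG.1 hh hD
    clear hlim hD
    revert D D'
    generalize hU : F.hyperfocalSubgroup q = U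
    intro D D' hD' ih hDF
    obtain rfl : U = S₁ := hU ▸ hh
    obtain rfl : D = F := ext_hom hDF
    obtain rfl : D' = D := isPPrimeResidual_unique hD' hG
    exact ih hq hfin hS hG hh

theorem residualLimit_stable {T S : Subgroup Ω} {E : FusionSystem T} {G : FusionSystem S}
    (h : IsResidualLimitOf E G p) [Finite S] (hS : IsPGroup p S)
    (hG : G.IsPPrimeResidual p G) (hh : G.hyperfocalSubgroup p = S) :
    ∀ P, E.Hom P = G.Hom P :=
  residualLimit_stable_aux h inferInstance inferInstance hS hG hh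

theorem residualLimit_unique_aux {T S : Subgroup Ω} {E : FusionSystem T} {F : FusionSystem S}
    {q : ℕ} (h : IsResidualLimitOf E F q) : Fact q.Prime → Finite S → IsPGroup q S →
      ∀ {T' : Subgroup Ω} {E' : FusionSystem T'}, IsResidualLimitOf E' F q →
        ∀ P, E.Hom P = E'.Hom P := by
  induction h with
  | stable F q hh hres =>
    intro hq hfin hS T' E' h' P
    exact (residualLimit_stable h' hS hres hh P).symm
  | @step S₁ E₁ F q D D' hD hD' hlim ih =>
    intro hq hfin hS T' E' h'
    cases h' with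
    | stable _ _ hh hres =>
      exact residualLimit_stable (IsResidualLimitOf.step F q D D' hD hD' hlim) hS hres hh
    | step _ _ D₂ D₂' hD₂ hD₂' hlim₂ =>
      have hle := hyperfocalSubgroup_le (p := q) F
      have : Finite (F.hyperfocalSubgroup q) := finite_of_le hle
      obtain rfl := isPResidual_unique hS hD hD₂
      obtain rfl := isPPrimeResidual_unique hD' hD₂'
      exact ih hq this (hS.to_le hle) hlim₂

/-- The residual limit is unique. -/
theorem residualLimit_unique {T S : Subgroup Ω} {E : FusionSystem T} {F : FusionSystem S}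
    (h : IsResidualLimitOf E F p) [Finite S] (hS : IsPGroup p S) {T' : Subgroup Ω}
    {E' : FusionSystem T'} (h' : IsResidualLimitOf E' F p) : ∀ P, E.Hom P = E'.Hom P :=
  residualLimit_unique_aux h inferInstance inferInstance hS h'

end Cfsg.Agent.Lib.Fusion
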