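import Cfsg.Agent.Lib.Classical.AutPSL.Sylow

/-!
The upper unitriangular subgroup of `SL_n` and its relatives: generation, normalizer, torus and
the unipotent radicals of the two end parabolics.
-/

set_option autoImplicit false

namespace Cfsg.Agent.Lib.Fusion.PSLBorel

open Matrix Cfsg.Agent.Lib.Classical Cfsg.Agent.Lib.Classical.AutPSL

variable {n : ℕ} {F : Type*} [Field F] [Fintype F]

local notation "SLn" => Matrix.SpecialLinearGroup (Fin n) F
local notation "PSLn" => Matrix.ProjectiveSpecialLinearGroup (Fin n) F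
local notation "Mat" => Matrix (Fin n) (Fin n) F

variable (p : ℕ) [Fact p.Prime] [CharP F p]

omit [Fintype F] in
/-- A central element of `p`-power order is trivial. -/
theorem center_eq_one {z : SLn} (hz : z ∈ Subgroup.center SLn) {k : ℕ} (h : z ^ p ^ k = 1) :
    z = 1 := by
  rcases isEmpty_or_nonempty (Fin n) with hn | ⟨⟨i⟩⟩
  · exact sl_ext (Matrix.ext fun i => hn.elim i)
  obtain ⟨r, -, hr⟩ := Matrix.SpecialLinearGroup.mem_center_iff.mp hz
  have h1 := congrArg (fun M : SLn => (M : Mat) i i) h
  simp only [Matrix.SpecialLinearGroup.coe_pow, ← hr, Matrix.SpecialLinearGroup.coe_one,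
    Matrix.scalar_apply, Matrix.diagonal_pow, Matrix.diagonal_apply_eq, Matrix.one_apply_eq,
    Pi.pow_apply] at h1
  have h0 : (r - 1) ^ p ^ k = 0 := by rw [sub_pow_char_pow, h1, one_pow, sub_self]
  exact sl_ext (by rw [← hr, sub_eq_zero.mp (eq_zero_of_pow_eq_zero h0), map_one]; rfl)

/-- The image of the unitriangular group. -/
abbrev U' (n : ℕ) (F : Type*) [Field F] [Fintype F] :
    Subgroup (Matrix.ProjectiveSpecialLinearGroup (Fin n) F) :=
  (upperUni n F).map proj

include p in
/-- Conjugates of unipotent elements landing in `U'` land in `U`. -/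
theorem mem_upperUni_of_proj {s u : SLn} (hu : u ∈ upperUni n F) (h : proj (s * u * s⁻¹) ∈ U' n F) :
    s * u * s⁻¹ ∈ upperUni n F := by
  obtain ⟨v, hv, e⟩ := h
  have hz : v⁻¹ * (s * u * s⁻¹) ∈ Subgroup.center SLn := QuotientGroup.eq.mp e
  obtain ⟨k, hk⟩ := IsPGroup.iff_card.mp (isPGroup_upperUni (n := n) (F := F) p)
  have hpow : ∀ w ∈ upperUni n F, w ^ p ^ k = 1 := fun w hw => by
    have := congrArg Subtype.val (pow_card_eq_one' (x := (⟨w, hw⟩ : upperUni n F)))
    rwa [hk, Subgroup.coe_pow] at this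
  have hc : Commute v⁻¹ (s * u * s⁻¹) := by
    have h1 : Commute v⁻¹ (v⁻¹ * (s * u * s⁻¹)) := Subgroup.mem_center_iff.mp hz v⁻¹
    have h2 := (Commute.refl v⁻¹).inv_right.mul_right h1
    simpa using h2
  have h1 : (v⁻¹ * (s * u * s⁻¹)) ^ p ^ k = 1 := by
    rw [hc.mul_pow, inv_pow, hpow v hv, conj_pow, hpow u hu]
    simp
  rw [← inv_mul_eq_one.mp (center_eq_one p hz h1)]
  exact hv

/-! ### Generation -/

omit [Fintype F] in
theorem tvs_add_left {v w a : Fin n → F} (hv : a ⬝ᵥ v = 0) (hw : a ⬝ᵥ w = 0)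
    (hvw : a ⬝ᵥ (v + w) = 0) : tvs (v + w) a hvw 1 = tvs v a hv 1 * tvs w a hw 1 := by
  refine sl_ext ?_
  rw [Matrix.SpecialLinearGroup.coe_mul, tvs_coe, tvs_coe, tvs_coe, one_smul, one_smul, one_smul,
    add_mul, one_mul, mul_add, mul_one, vecMulVec_mul_vecMulVec, hw, zero_smul, vecMulVec_zero,
    add_zero, add_vecMulVec]
  abel

/-- A subgroup containing the upper transvections contains the upper unitriangular group. -/
theorem upperUni_le {H : Subgroup SLn} (h : ∀ i j (hij : i < j) (c : F), et i j hij.ne c ∈ H) :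
    upperUni n F ≤ H := by
  classical
  have hcol : ∀ (m : Fin n) (t : Finset (Fin n)), (∀ i ∈ t, i < m) → ∀ v : Fin n → F,
      (∀ i, i ∉ t → v i = 0) → ∀ hv : (Pi.single m (1 : F) : Fin n → F) ⬝ᵥ v = 0,
        tvs v (Pi.single m 1) hv 1 ∈ H := by
    intro m t
    induction t using Finset.induction_on with
    | empty =>
      intro _ v hv0 hv
      have e : v = 0 := funext fun i => hv0 i (by simp)
      subst e
      convert H.one_mem
      exact sl_ext (by simp [tvs_coe])
    | @insert a t hat ih =>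
      intro ht v hv0 hv
      have ham : a < m := ht a (Finset.mem_insert_self a t)
      have hva : (Pi.single m (1 : F) : Fin n → F) ⬝ᵥ Pi.single a (v a) = 0 := by
        rw [single_dotProduct, one_mul, Pi.single_eq_of_ne ham.ne']
      have hvw : (Pi.single m (1 : F) : Fin n → F) ⬝ᵥ (v - Pi.single a (v a)) = 0 := by
        rw [dotProduct_sub, hv, hva, sub_zero]
      have e : v = Pi.single a (v a) + (v - Pi.single a (v a)) := by abel
      have h1 : tvs v (Pi.single m 1) hv 1 = tvs (Pi.single a (v a)) (Pi.single m 1) hva 1 *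
          tvs (v - Pi.single a (v a)) (Pi.single m 1) hvw 1 := by
        rw [← tvs_add_left hva hvw (by rw [← e]; exact hv)]
        exact tvs_congr (by rw [← e])
      rw [h1]
      refine H.mul_mem ?_ (ih (fun i hi => ht i (Finset.mem_insert_of_mem hi)) _ (fun i hi => ?_) _)
      · have e2 : tvs (Pi.single a (v a)) (Pi.single m 1) hva 1 = et a m ham.ne (v a) := by
          rw [et]
          refine tvs_congr ?_
          rw [one_smul, ← smul_vecMulVec]
          congr 1
          ext k
          simp [Pi.single_apply]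
        rw [e2]
        exact h a m ham _
      · rcases eq_or_ne i a with rfl | hia
        · simp
        · simp [Pi.single_eq_of_ne hia, hv0 i (by simp [hia, hi])]
  have main : ∀ d k, k + d = n → ∀ s ∈ upperUni n F,
      (∀ i j : Fin n, (j : ℕ) < k → i < j → (s : Mat) i j = 0) → s ∈ H := by
    intro d
    induction d with
    | zero =>
      intro k hk s hs h0
      convert H.one_mem
      refine sl_ext (Matrix.ext fun i j => ?_)
      rw [Matrix.SpecialLinearGroup.coe_one, Matrix.one_apply]
      rcases le_or_gt j i with hji | hij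
      · exact hs i j hji
      · rw [h0 i j (by have := j.2; omega) hij, if_neg hij.ne]
    | succ d ih =>
      intro k hk s hs h0
      let m : Fin n := ⟨k, by omega⟩
      let v : Fin n → F := fun i => if i < m then -((s : Mat) i m) else 0
      have hv : (Pi.single m (1 : F) : Fin n → F) ⬝ᵥ v = 0 := by simp [v]
      have htH : tvs v (Pi.single m 1) hv 1 ∈ H :=
        hcol m (Finset.univ.filter (· < m)) (by simp) v (fun i hi => if_neg (by simpa using hi)) hv
      set t := tvs v (Pi.single m 1) hv 1 with ht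
      have hts : ∀ i j, ((t * s : SLn) : Mat) i j = (s : Mat) i j + v i * (s : Mat) m j := by
        intro i j
        rw [Matrix.SpecialLinearGroup.coe_mul, ht, tvs_coe, one_smul, add_mul, one_mul,
          vecMulVec_mul, Matrix.add_apply, vecMulVec_apply, Matrix.single_one_vecMul]
        rfl
      have hmem : t * s ∈ upperUni n F := by
        intro i j hji
        rw [hts]
        rcases lt_or_ge i m with him | him
        · rw [hs m j (hji.trans him.le), if_neg (lt_of_le_of_lt hji him).ne', mul_zero, add_zero]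
          exact hs i j hji
        · rw [show v i = 0 from if_neg (not_lt.2 him), zero_mul, add_zero]
          exact hs i j hji
      have h2 := ih (k + 1) (by omega) (t * s) hmem (fun i j hjk hij => by
        rw [hts]
        rcases Nat.lt_or_ge (j : ℕ) k with hlt | hge
        · rw [h0 i j hlt hij, hs m j (Fin.le_def.2 hlt.le),
            if_neg (fun e : m = j => absurd hlt (by rw [← e]; exact lt_irrefl k)), mul_zero,
            add_zero]
        · have hjm : j = m := Fin.ext (show (j : ℕ) = k by omega)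
          subst hjm
          rw [hs m m le_rfl, if_pos rfl, mul_one]
          simp [v, hij])
      have := H.mul_mem (H.inv_mem htH) h2
      rwa [inv_mul_cancel_left] at this
  intro s hs
  exact main n 0 (by omega) s hs fun i j hj => absurd hj (Nat.not_lt_zero _)

/-! ### The normalizer -/

include p in
/-- Elements normalizing the image of `U` are upper triangular. -/
theorem upper_of_normalizes {s : SLn}
    (hs : proj s ∈ Subgroup.normalizer ((U' n F : Subgroup PSLn) : Set PSLn)) :
    ∀ i r : Fin n, i < r → (s : Mat) r i = 0 := by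
  have main : ∀ d, ∀ i r : Fin n, (i : ℕ) + d + 1 ≥ n → i < r → (s : Mat) r i = 0 := by
    intro d
    induction d with
    | zero =>
      intro i r hi hir
      have := r.2
      rw [Fin.lt_def] at hir
      omega
    | succ d ih =>
      intro i r hi hir
      have hi1 : (i : ℕ) + 1 < n := lt_of_le_of_lt (Fin.lt_def.1 hir) r.2
      let j : Fin n := ⟨i + 1, hi1⟩
      have hij : i < j := Fin.lt_def.2 (Nat.lt_succ_self _)
      have hu := et_mem_upperUni hij (1 : F)
      have hconj : s * et i j hij.ne 1 * s⁻¹ ∈ upperUni n F := by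
        refine mem_upperUni_of_proj p hu ?_
        rw [map_mul, map_mul, map_inv]
        exact (hs (proj (et i j hij.ne 1))).1 (Subgroup.mem_map_of_mem proj hu)
      obtain ⟨v, hv⟩ : ∃ v, v = s * et i j hij.ne 1 * s⁻¹ := ⟨_, rfl⟩
      rw [← hv] at hconj
      have e : ((v * s : SLn) : Mat) r j = ((s * et i j hij.ne 1 : SLn) : Mat) r j := by
        have e0 : v * s = s * et i j hij.ne 1 := by rw [hv, inv_mul_cancel_right]
        rw [e0]
      rw [Matrix.SpecialLinearGroup.coe_mul, Matrix.SpecialLinearGroup.coe_mul, et_coe, mul_add,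
        mul_one, Matrix.add_apply, Matrix.mul_single_apply_same, mul_one, Matrix.mul_apply,
        Finset.sum_eq_single r] at e
      · rw [hconj r r le_rfl, if_pos rfl, one_mul] at e
        linear_combination -e
      · intro k _ hk
        rcases lt_or_gt_of_ne hk with hkr | hkr
        · rw [hconj r k hkr.le, if_neg hkr.ne', zero_mul]
        · rw [ih j k (show (i : ℕ) + 1 + d + 1 ≥ n by omega)
            (lt_of_le_of_lt (Fin.le_def.2 (Fin.lt_def.1 hir)) hkr), mul_zero]
      · simp
  exact fun i r => main n i r (by omega)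

/-! ### The torus -/

/-- A diagonal element. -/
def dgSL (d : Fin n → Fˣ) (h : ∏ k, d k = 1) : SLn :=
  ⟨Matrix.diagonal fun k => (d k : F), by
    rw [Matrix.det_diagonal, ← Units.coe_prod, h, Units.val_one]⟩

omit [Fintype F] in
theorem dgSL_coe (d : Fin n → Fˣ) (h : ∏ k, d k = 1) :
    (dgSL d h : Mat) = Matrix.diagonal fun k => (d k : F) := rfl

omit [Fintype F] in
theorem conj_dgSL (d : Fin n → Fˣ) (h : ∏ k, d k = 1) {i j : Fin n} (hij : i ≠ j) (c : F) :
    dgSL d h * et i j hij c * (dgSL d h)⁻¹ = et i j hij ((d i : F) / d j * c) := by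
  rw [mul_inv_eq_iff_eq_mul]
  refine sl_ext ?_
  rw [Matrix.SpecialLinearGroup.coe_mul, Matrix.SpecialLinearGroup.coe_mul, et_coe, et_coe,
    dgSL_coe]
  ext k l
  rw [Matrix.diagonal_mul, Matrix.mul_diagonal, Matrix.add_apply, Matrix.add_apply,
    Matrix.one_apply, Matrix.single_apply, Matrix.single_apply]
  have hd := Units.ne_zero (d j)
  by_cases h1 : i = k ∧ j = l
  · obtain ⟨rfl, rfl⟩ := h1
    simp [hij]
    field_simp
  · rw [if_neg h1, if_neg h1]
    by_cases h2 : k = l
    · subst h2; simp
    · simp [h2]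

omit [Fintype F] in
/-- A subgroup with the basic torus elements contains the supported diagonal elements. -/
theorem dgSL_mem {H : Subgroup SLn} {m : Fin n} :
    ∀ t : Finset (Fin n), m ∉ t →
      (∀ i ∈ t, ∀ (him : i ≠ m) (a : F) (ha : a ≠ 0), SpecialLinearGroup.diag2n him a ha ∈ H) →
      ∀ (d : Fin n → Fˣ) (h : ∏ k, d k = 1), (∀ i, i ∉ t → i ≠ m → d i = 1) → dgSL d h ∈ H := by
  classical
  intro t
  induction t using Finset.induction_on with
  | empty =>
    intro _ _ d h hd
    convert H.one_mem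
    have hm : d m = 1 := by
      rw [← h, Finset.prod_eq_single m (fun i _ hi => hd i (by simp) hi) (by simp)]
    refine sl_ext ?_
    rw [dgSL_coe, Matrix.SpecialLinearGroup.coe_one, ← Matrix.diagonal_one]
    congr 1
    funext i
    rcases eq_or_ne i m with rfl | hi
    · simp [hm]
    · simp [hd i (by simp) hi]
  | @insert a t hat ih =>
    intro hmt hH d h hd
    have ham : a ≠ m := fun e => hmt (e ▸ Finset.mem_insert_self a t)
    let d' : Fin n → Fˣ := d * Pi.mulSingle a (d a)⁻¹ * Pi.mulSingle m (d a)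
    have h' : ∏ k, d' k = 1 := by
      simp only [d', Pi.mul_apply, Finset.prod_mul_distrib, h, Finset.prod_pi_mulSingle',
        Finset.mem_univ, if_true, one_mul, inv_mul_cancel]
    have e : dgSL d h =
        SpecialLinearGroup.diag2n ham (d a : F) (Units.ne_zero _) * dgSL d' h' := by
      refine sl_ext ?_
      rw [Matrix.SpecialLinearGroup.coe_mul, SpecialLinearGroup.diag2n_coe, dgSL_coe, dgSL_coe,
        Matrix.diagonal_mul_diagonal]
      congr 1
      funext i
      have hd0 := Units.ne_zero (d a)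
      rcases eq_or_ne i a with rfl | hia
      · simp [d', ham]
      · rcases eq_or_ne i m with rfl | him
        · simp [d', ham.symm]
          field_simp
        · simp [d', hia, him]
    rw [e]
    refine H.mul_mem (hH a (Finset.mem_insert_self a t) ham _ _)
      (ih (fun hm => hmt (Finset.mem_insert_of_mem hm))
        (fun i hi => hH i (Finset.mem_insert_of_mem hi)) d' h' fun i hi him => ?_)
    rcases eq_or_ne i a with rfl | hia
    · simp [d', ham]
    · simp [d', hia, him, hd i (by simp [hia, hi]) him]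

/-! ### The radicals of the end parabolics -/

/-- Transvections with centre `e`. -/
def rowSub (e : Fin n → F) : Subgroup SLn where
  carrier := {s | ∃ (a : Fin n → F) (ha : a ⬝ᵥ e = 0), s = tvs e a ha 1}
  one_mem' := ⟨0, by simp, sl_ext (by simp [tvs_coe])⟩
  mul_mem' := by
    rintro _ _ ⟨a, ha, rfl⟩ ⟨b, hb, rfl⟩
    refine ⟨a + b, by rw [add_dotProduct, ha, hb, add_zero], sl_ext ?_⟩
    rw [Matrix.SpecialLinearGroup.coe_mul, tvs_coe, tvs_coe, tvs_coe, one_smul, one_smul, one_smul,
      add_mul, one_mul, mul_add, mul_one, vecMulVec_mul_vecMulVec, ha, zero_smul, vecMulVec_zero,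
      add_zero, vecMulVec_add]
    abel
  inv_mem' := by
    rintro _ ⟨a, ha, rfl⟩
    refine ⟨-a, by rw [neg_dotProduct, ha, neg_zero],
      inv_eq_of_mul_eq_one_right (sl_ext ?_)⟩
    rw [Matrix.SpecialLinearGroup.coe_mul, tvs_coe, tvs_coe, Matrix.SpecialLinearGroup.coe_one,
      one_smul, one_smul, add_mul, one_mul, mul_add, mul_one, vecMulVec_mul_vecMulVec, ha,
      zero_smul, vecMulVec_zero, add_zero, vecMulVec_neg]
    abel

/-- Transvections with axis `e`. -/
def colSub (e : Fin n → F) : Subgroup SLn where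
  carrier := {s | ∃ (v : Fin n → F) (hv : e ⬝ᵥ v = 0), s = tvs v e hv 1}
  one_mem' := ⟨0, by simp, sl_ext (by simp [tvs_coe])⟩
  mul_mem' := by
    rintro _ _ ⟨v, hv, rfl⟩ ⟨w, hw, rfl⟩
    exact ⟨v + w, by rw [dotProduct_add, hv, hw, add_zero], (tvs_add_left hv hw _).symm⟩
  inv_mem' := by
    rintro _ ⟨v, hv, rfl⟩
    refine ⟨-v, by rw [dotProduct_neg, hv, neg_zero],
      inv_eq_of_mul_eq_one_right (sl_ext ?_)⟩
    rw [Matrix.SpecialLinearGroup.coe_mul, tvs_coe, tvs_coe, Matrix.SpecialLinearGroup.coe_one,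
      one_smul, one_smul, add_mul, one_mul, mul_add, mul_one, vecMulVec_mul_vecMulVec,
      dotProduct_neg, hv, neg_zero, zero_smul, vecMulVec_zero, add_zero, neg_vecMulVec]
    abel

omit [Fintype F] in
theorem coe_mul_inv (s : SLn) : (s : Mat) * ((s⁻¹ : SLn) : Mat) = 1 := by
  rw [← Matrix.SpecialLinearGroup.coe_mul, mul_inv_cancel, Matrix.SpecialLinearGroup.coe_one]

omit [Fintype F] in
theorem coe_inv_mul (s : SLn) : ((s⁻¹ : SLn) : Mat) * (s : Mat) = 1 := by
  rw [← Matrix.SpecialLinearGroup.coe_mul, inv_mul_cancel, Matrix.SpecialLinearGroup.coe_one]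

omit [Fintype F] in
theorem conj_rowSub {s : SLn} {e : Fin n → F} {r : F} (hs : (s : Mat) *ᵥ e = r • e) {q : SLn}
    (hq : q ∈ rowSub e) : s * q * s⁻¹ ∈ rowSub e := by
  obtain ⟨a, ha, rfl⟩ := hq
  refine ⟨r • (a ᵥ* ((s⁻¹ : SLn) : Mat)), ?_, sl_ext ?_⟩
  · rw [smul_dotProduct, ← dotProduct_smul, ← hs, ← Matrix.dotProduct_mulVec,
      Matrix.mulVec_mulVec, coe_inv_mul, Matrix.one_mulVec, ha]
  · rw [Matrix.SpecialLinearGroup.coe_mul, Matrix.SpecialLinearGroup.coe_mul, tvs_coe, tvs_coe,
      one_smul, one_smul, mul_add, mul_one, add_mul, coe_mul_inv, mul_vecMulVec, vecMulVec_mul, hs,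
      smul_vecMulVec, vecMulVec_smul]

omit [Fintype F] in
theorem conj_colSub {s : SLn} {e : Fin n → F} {r : F}
    (hs : e ᵥ* ((s⁻¹ : SLn) : Mat) = r • e) {q : SLn} (hq : q ∈ colSub e) :
    s * q * s⁻¹ ∈ colSub e := by
  obtain ⟨v, hv, rfl⟩ := hq
  refine ⟨r • ((s : Mat) *ᵥ v), ?_, sl_ext ?_⟩
  · rw [dotProduct_smul, ← smul_dotProduct, ← hs, ← Matrix.dotProduct_mulVec,
      Matrix.mulVec_mulVec, coe_inv_mul, Matrix.one_mulVec, hv]
  · rw [Matrix.SpecialLinearGroup.coe_mul, Matrix.SpecialLinearGroup.coe_mul, tvs_coe, tvs_coe,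
      one_smul, one_smul, mul_add, mul_one, add_mul, coe_mul_inv, mul_vecMulVec, vecMulVec_mul, hs,
      smul_vecMulVec, vecMulVec_smul]

include p in
/-- An element centralizing the image of a group of exponent `p` commutes with it in `SL`. -/
theorem commute_of_proj {s q : SLn} (hq : q ^ p = 1) (h : proj s * proj q = proj q * proj s) :
    s * q = q * s := by
  have h1 : s * q * s⁻¹ = q := by
    refine eq_of_proj_eq p ?_ hq ?_
    · rw [conj_pow, hq]; group
    · rw [map_mul, map_mul, map_inv, h, mul_inv_cancel_right]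
  exact mul_inv_eq_iff_eq_mul.1 h1

/-- An upper element with constant diagonal and only one line above it lies in `U'`. -/
theorem proj_mem_of_const_diag {s : SLn} {r : F} (hlow : ∀ i j : Fin n, j < i → (s : Mat) i j = 0)
    (hdiag : ∀ i, (s : Mat) i i = r) : proj s ∈ U' n F := by
  have hdet : r ^ n = 1 := by
    have := s.2
    rw [Matrix.det_of_upperTriangular (fun i j (h : j < i) => hlow i j h)] at this
    simpa [hdiag] using this
  rcases Nat.eq_zero_or_pos n with hn | hn
  · subst hn
    exact ⟨1, one_mem _, congrArg proj (sl_ext (Matrix.ext fun i => i.elim0))⟩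
  have hr : r ≠ 0 := fun e => by simp [e, hn.ne'] at hdet
  let u : SLn := ⟨r⁻¹ • (s : Mat), by rw [Matrix.det_smul, Fintype.card_fin, inv_pow, hdet, s.2]; simp⟩
  refine ⟨u, fun i j hji => ?_, ?_⟩
  · show r⁻¹ * (s : Mat) i j = _
    rcases eq_or_lt_of_le hji with rfl | hlt
    · rw [if_pos rfl, hdiag, inv_mul_cancel₀ hr]
    · rw [if_neg hlt.ne', hlow i j hlt, mul_zero]
  · refine QuotientGroup.eq.mpr (Matrix.SpecialLinearGroup.mem_center_iff.mpr
      ⟨r, by rwa [Fintype.card_fin], ?_⟩)
    have e : (u : Mat) * (Matrix.scalar (Fin n) r) = (s : Mat) := by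
      show (r⁻¹ • (s : Mat)) * _ = _
      rw [Matrix.scalar_apply, Matrix.smul_mul, ← Matrix.smul_one_eq_diagonal, Matrix.mul_smul,
        mul_one, smul_smul, inv_mul_cancel₀ hr, one_smul]
    rw [Matrix.SpecialLinearGroup.coe_mul, ← e, ← mul_assoc, coe_inv_mul, one_mul]

end Cfsg.Agent.Lib.Fusion.PSLBorel
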