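import Cfsg.Agent.Lib.Fusion.GroupSystem
import Cfsg.Agent.Lib.Fusion.Essential
import Cfsg.Agent.Lib.Fusion.Axioms

/-!
A criterion for the simplicity of the fusion system of a finite group: no proper non-trivial
closed subgroup, and a normalizer of the Sylow subgroup generated by elements that are products of
`p`-elements normalizing a suitable subgroup.
-/

set_option autoImplicit false

namespace Cfsg.Agent.Lib.Fusion

open Cfsg Cfsg.FusionSystem

variable {G : Type*} [Group G]

/-- Every non-trivial subgroup of `S` closed under the fusion of `G` is `S`. -/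
def ClosedTrivial (S : Subgroup G) : Prop :=
  ∀ T : Subgroup G, T ≤ S → T ≠ ⊥ → (∀ x ∈ T, ∀ g : G, g * x * g⁻¹ ∈ S → g * x * g⁻¹ ∈ T) → T = S

/-- The `p`-elements of `N(Q)`. -/
def pElts (p : ℕ) (Q : Subgroup G) : Set G :=
  {x | x ∈ Subgroup.normalizer (Q : Set G) ∧ ∃ k : ℕ, x ^ p ^ k = 1}

/-- The generators of the normalizer of `S` allowed by the criterion. -/
def GoodElts (p : ℕ) (S : Subgroup G) : Set G :=
  {h | h ∈ Subgroup.normalizer (S : Set G) ∧ ∃ Q ≤ S, S ≤ Subgroup.normalizer (Q : Set G) ∧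
    Subgroup.centralizer (Q : Set G) ≤ S ∧ h ∈ Subgroup.closure (pElts p Q)}

variable {p : ℕ} [Fact p.Prime]

/-- A normal subgroup containing a Sylow subgroup contains all `p`-elements. -/
theorem mem_normal_of_sylow {A : Type*} [Group A] [Finite A] (N : Subgroup A) [N.Normal]
    (R : Sylow p A) (hR : (R : Subgroup A) ≤ N) {a : A} {k : ℕ} (ha : a ^ p ^ k = 1) : a ∈ N := by
  have hp : IsPGroup p (Subgroup.zpowers a) := by
    rintro ⟨b, hb⟩
    obtain ⟨i, rfl⟩ := Subgroup.mem_zpowers_iff.1 hb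
    refine ⟨k, Subtype.ext ?_⟩
    show (a ^ i) ^ p ^ k = 1
    rw [← zpow_natCast, zpow_comm, zpow_natCast, ha, one_zpow]
  obtain ⟨U, hU⟩ := hp.exists_le_sylow
  obtain ⟨g, hg⟩ := MulAction.exists_smul_eq A R U
  have h1 := hU (Subgroup.mem_zpowers a)
  rw [← hg, Sylow.coe_subgroup_smul] at h1
  obtain ⟨r, hr, rfl⟩ := h1
  exact Subgroup.Normal.conj_mem inferInstance r (hR hr) g

/-- **The criterion.** -/
theorem isSimple_of_criterion [Finite G] (S : Sylow p G) (hS : (S : Subgroup G) ≠ ⊥)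
    (hcl : ClosedTrivial (S : Subgroup G))
    (hgen : Subgroup.normalizer ((S : Subgroup G) : Set G) ≤
      Subgroup.closure (((S : Subgroup G) : Set G) ∪ GoodElts p (S : Subgroup G))) :
    (groupFusionSystem (S : Subgroup G)).IsSimple p := by
  classical
  refine ⟨group_isSaturated S, hS, fun T E hE => ?_⟩
  obtain ⟨⟨hEsat, -, hsub, hT, hinv, hfr⟩, -⟩ := hE
  by_cases hT0 : T = ⊥
  · exact Or.inl hT0
  have hTS : T = S := by
    refine hcl T hT.1 hT0 fun x hx g hg => ?_
    have hle : Subgroup.zpowers x ≤ T := Subgroup.zpowers_le.2 hx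
    refine hT.2 _ hle _ (conjHom_mem_group (g := g) (hle.trans hT.1) ?_) ⟨x, Subgroup.mem_zpowers x⟩
    rw [MonoidHom.map_zpowers, Subgroup.zpowers_le]
    exact hg
  subst hTS
  refine Or.inr ⟨rfl, fun P => Set.Subset.antisymm (hsub P) ?_⟩
  set F := groupFusionSystem (S : Subgroup G) with hF
  -- automorphisms of the subgroups normal in `S`
  have hQaut : ∀ Q : Subgroup G, Q ≤ (S : Subgroup G) →
      (S : Subgroup G) ≤ Subgroup.normalizer (Q : Set G) →
      ∀ x ∈ Subgroup.closure (pElts p Q), ∃ hn : x ∈ Subgroup.normalizer (Q : Set G),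
        conjAut hn ∈ E.autGroup Q := by
    intro Q hQS hQn
    have hfn : F.IsFullyNormalized Q := ⟨hQS, fun R _ => by
      rw [show normalizerIn (S : Subgroup G) Q = S from
        le_antisymm (normalizerIn_le _ Q) fun g hg => ⟨hg, hQn hg⟩]
      exact Subgroup.card_le_of_le (normalizerIn_le _ R)⟩
    have hEF : E.autGroup Q ≤ F.autGroup Q := fun α hα =>
      mem_autGroup_of_hom F (hsub Q (autHom_mem E hQS hα))
    haveI : ((E.autGroup Q).subgroupOf (F.autGroup Q)).Normal := by
      constructor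
      rintro ⟨β, hβF⟩ hβ ⟨α, hα⟩
      obtain ⟨α₀, hα₀, φ₀, hφ₀, h0⟩ := hfr Q hQS (autHom α) (autHom_mem F hQS hα)
      have hβE : autHom β ∈ E.Hom Q := autHom_mem E hQS hβ
      obtain ⟨ψ, hψ, hψr, hl, -⟩ := exists_inv E hφ₀ rfl
      have hm : ∀ y, ψ y ∈ Q := fun y => hψr.le ⟨y, rfl⟩
      have hm2 : ∀ y, compose ψ (autHom β) hm y ∈ Q := fun y => (β _).2
      have hR : φ₀.range ≤ (S : Subgroup G) := range_le hφ₀
      have hc : compose (compose ψ (autHom β) hm) φ₀ hm2 ∈ E.Hom φ₀.range :=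
        compose_mem E (compose_mem E hψ hβE hm) hφ₀ hm2
      obtain ⟨χ, hχ, hχe⟩ := hinv _ hR _ hc α₀ hα₀
      have himg : (φ₀.range.subgroupOf (S : Subgroup G)).map
          ((S : Subgroup G).subtype.comp α₀.toMonoidHom) = Q := by
        ext y
        constructor
        · rintro ⟨⟨_, hw⟩, ⟨z, rfl⟩, rfl⟩
          exact Eq.mp (congrArg (· ∈ Q) (h0 z hw)) (α z).2
        · intro hy
          obtain ⟨z, hz⟩ := α.surjective ⟨y, hy⟩
          refine ⟨⟨φ₀ z, apply_mem hφ₀ z⟩, ⟨z, rfl⟩, ?_⟩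
          exact (h0 z (apply_mem hφ₀ z)).symm.trans (congrArg Subtype.val hz)
      revert χ
      rw [himg]
      intro χ hχ hχe
      show α * β * α⁻¹ ∈ E.autGroup Q
      refine mem_autGroup_of_hom E ?_
      have e : autHom (α * β * α⁻¹) = χ := by
        ext y
        obtain ⟨z, rfl⟩ := α.surjective y
        have e0 : (α₀ ⟨φ₀ z, hR ⟨z, rfl⟩⟩ : G) = ((α z : Q) : G) :=
          (h0 z (apply_mem hφ₀ z)).symm
        have hx : compose (compose ψ (autHom β) hm) φ₀ hm2 ⟨φ₀ z, ⟨z, rfl⟩⟩ ∈ (S : Subgroup G) :=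
          apply_mem hc _
        have h1 := hχe ⟨φ₀ z, ⟨z, rfl⟩⟩ hx (e0 ▸ (α z).2)
        simp only [e0] at h1
        have e1 : compose (compose ψ (autHom β) hm) φ₀ hm2 ⟨φ₀ z, ⟨z, rfl⟩⟩ = φ₀ (β z) := by
          refine congrArg φ₀ (Subtype.ext ?_)
          show ((β ⟨ψ ⟨φ₀ z, _⟩, _⟩ : Q) : G) = β z
          have e2 : (⟨ψ ⟨φ₀ z, ⟨z, rfl⟩⟩, hm _⟩ : Q) = z := Subtype.ext (hl z _)
          exact congrArg (fun w => ((β w : Q) : G)) e2
        simp only [e1] at h1
        refine Eq.trans ?_ h1.symm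
        rw [← h0 (β z) (apply_mem hφ₀ _)]
        show ((α (β (α⁻¹ (α z))) : Q) : G) = (α (β z) : Q)
        rw [MulAut.inv_apply, MulEquiv.symm_apply_apply]
      rw [e]
      exact hχ
    obtain ⟨-, R, hR⟩ := (IsSaturated.automized_receptive S.2 (group_isSaturated S) hfn).1
    have hRE : (R : Subgroup (F.autGroup Q)) ≤ (E.autGroup Q).subgroupOf (F.autGroup Q) := by
      rw [hR]
      intro a ha
      exact autInducedBy_le_autGroup E hQS ha
    intro x hx
    induction hx using Subgroup.closure_induction with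
    | mem x hx =>
      obtain ⟨hn, k, hk⟩ := hx
      refine ⟨hn, ?_⟩
      have hmem : conjAut hn ∈ F.autGroup Q := by
        rw [hF, autGroup_group hQS]
        exact conjAut_mem_autInducedBy (Subgroup.mem_top x) hn
      refine mem_normal_of_sylow _ R hRE (a := (⟨_, hmem⟩ : F.autGroup Q)) (k := k) (Subtype.ext ?_)
      show (Q.normalizerMonoidHom ⟨x, hn⟩) ^ p ^ k = 1
      rw [← map_pow]
      convert map_one Q.normalizerMonoidHom
      exact Subtype.ext hk
    | one =>
      refine ⟨one_mem _, ?_⟩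
      convert one_mem (E.autGroup Q)
      exact map_one Q.normalizerMonoidHom
    | mul a b _ _ ha hb =>
      obtain ⟨hna, ha⟩ := ha
      obtain ⟨hnb, hb⟩ := hb
      refine ⟨mul_mem hna hnb, ?_⟩
      have := mul_mem ha hb
      rwa [conjAut, conjAut, ← map_mul] at this
    | inv a _ ha =>
      obtain ⟨hna, ha⟩ := ha
      refine ⟨inv_mem hna, ?_⟩
      have := inv_mem ha
      rwa [conjAut, ← map_inv] at this
  -- the elements of the normalizer acting in `E`
  let K : Subgroup G :=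
    { carrier := {g | ∃ hn : g ∈ Subgroup.normalizer ((S : Subgroup G) : Set G),
        conjAut hn ∈ E.autGroup (S : Subgroup G)}
      one_mem' := ⟨one_mem _, by
        convert one_mem (E.autGroup (S : Subgroup G))
        exact map_one (S : Subgroup G).normalizerMonoidHom⟩
      mul_mem' := fun {a b} ha hb => by
        obtain ⟨hna, ha⟩ := ha
        obtain ⟨hnb, hb⟩ := hb
        refine ⟨mul_mem hna hnb, ?_⟩
        have := mul_mem ha hb
        rwa [conjAut, conjAut, ← map_mul] at this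
      inv_mem' := fun {a} ha => by
        obtain ⟨hna, ha⟩ := ha
        refine ⟨inv_mem hna, ?_⟩
        have := inv_mem ha
        rwa [conjAut, ← map_inv] at this }
  have hSK : (S : Subgroup G) ≤ K := fun g hg =>
    ⟨Subgroup.le_normalizer hg, conjAut_mem_autGroup E le_rfl hg _⟩
  have hgood : GoodElts p (S : Subgroup G) ⊆ K := by
    rintro h ⟨hhS, Q, hQS, hQn, hQc, hh⟩
    obtain ⟨hn, hβ⟩ := hQaut Q hQS hQn h hh
    have hE_fn : E.IsFullyNormalized Q := ⟨hQS, fun R _ => by
      rw [show normalizerIn (S : Subgroup G) Q = S from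
        le_antisymm (normalizerIn_le _ Q) fun g hg => ⟨hg, hQn hg⟩]
      exact Subgroup.card_le_of_le (normalizerIn_le _ R)⟩
    obtain ⟨ψ, hψ, hext, -⟩ := IsReceptive.extend
      (IsSaturated.automized_receptive S.2 hEsat hE_fn).2 (autHom_mem E hQS hβ) (range_autHom _)
    have hle : (S : Subgroup G) ≤ extender (S : Subgroup G) Q (autHom (conjAut hn)) := by
      intro g hg
      refine mem_extender.2 ⟨hg, hQn hg, h * g * h⁻¹, conj_mem_of_mem_normalizer hhS hg,
        fun x hx => ?_⟩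
      show h * (g * x * g⁻¹) * h⁻¹ = h * g * h⁻¹ * (h * x * h⁻¹) * (h * g * h⁻¹)⁻¹
      group
    obtain ⟨-, hψS, g, hg⟩ := hsub _ (restr_mem E hψ hle)
    have hgN : g ∈ Subgroup.normalizer ((S : Subgroup G) : Set G) :=
      mem_normalizer_of_finite fun y hy => Eq.mp (congrArg (· ∈ _) (hg ⟨y, hy⟩)) (hψS ⟨y, hy⟩)
    have hgK : g ∈ K := by
      refine ⟨hgN, mem_autGroup_of_hom E ?_⟩
      have e : autHom (conjAut hgN) = restr hle ψ := MonoidHom.ext fun y => (hg y).symm
      rw [e]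
      exact restr_mem E hψ hle
    have hz : g⁻¹ * h ∈ Subgroup.centralizer (Q : Set G) := fun y hy => by
      have h1 : g * y * g⁻¹ = h * y * h⁻¹ :=
        (hg ⟨y, hQS hy⟩).symm.trans (hext y hy (hle (hQS hy)))
      calc y * (g⁻¹ * h) = g⁻¹ * (g * y * g⁻¹) * h := by group
        _ = g⁻¹ * h * y := by rw [h1]; group
    have := mul_mem hgK (hSK (hQc hz))
    rwa [mul_inv_cancel_left] at this
  intro φ hφ
  obtain ⟨α, hα, φ₀, hφ₀, h0⟩ := hfr P hφ.1 φ hφ
  rw [hF, autGroup_group le_rfl, mem_autInducedBy_iff_conjAut] at hα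
  obtain ⟨g, hn, -, rfl⟩ := hα
  obtain ⟨hn', hgE⟩ : g ∈ K :=
    (Subgroup.closure_le _).2 (Set.union_subset hSK hgood) (hgen hn)
  exact mem_of_comp E hφ₀ (autHom_mem E le_rfl hgE) (apply_mem hφ₀)
    fun x => h0 x (apply_mem hφ₀ x)

/-- The criterion may be checked on any Sylow subgroup. -/
theorem isSimple_of_criterion' [Finite G] (S₀ : Sylow p G) (hS : (S₀ : Subgroup G) ≠ ⊥)
    (hcl : ClosedTrivial (S₀ : Subgroup G))
    (hgen : Subgroup.normalizer ((S₀ : Subgroup G) : Set G) ≤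
      Subgroup.closure (((S₀ : Subgroup G) : Set G) ∪ GoodElts p (S₀ : Subgroup G)))
    (S : Sylow p G) : (groupFusionSystem (S : Subgroup G)).IsSimple p := by
  obtain ⟨g, rfl⟩ := MulAction.exists_smul_eq G S₀ S
  set f := MulAut.conj g with hf
  have key : ((g • S₀ : Sylow p G) : Subgroup G) = (S₀ : Subgroup G).map f.toMonoidHom :=
    Sylow.coe_subgroup_smul
  have hmemN : ∀ (Q : Subgroup G) (x : G), x ∈ Subgroup.normalizer (Q : Set G) →
      f x ∈ Subgroup.normalizer ((Q.map f.toMonoidHom : Subgroup G) : Set G) := fun Q x hx => by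
    rw [← Subgroup.map_equiv_normalizer_eq Q f]
    exact Subgroup.mem_map_of_mem _ hx
  refine isSimple_of_criterion (g • S₀) ?_ ?_ ?_
  · rw [key, Ne, Subgroup.map_eq_bot_iff_of_injective _ f.injective]
    exact hS
  · rw [key]
    intro T hTS hT0 hc
    have e : T = (T.comap f.toMonoidHom).map f.toMonoidHom :=
      (Subgroup.map_comap_eq_self_of_surjective f.surjective T).symm
    rw [e, hcl (T.comap f.toMonoidHom) ?_ ?_ ?_]
    · intro x hx
      obtain ⟨y, hy, hyx⟩ := hTS hx
      rwa [← f.injective hyx]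
    · intro h0
      apply hT0
      rw [e, h0, Subgroup.map_bot]
    · intro x hx a ha
      show f (a * x * a⁻¹) ∈ T
      rw [map_mul, map_mul, map_inv]
      exact hc _ hx (f a) ⟨a * x * a⁻¹, ha, by simp⟩
  · rw [key, ← Subgroup.map_equiv_normalizer_eq (S₀ : Subgroup G) f]
    refine (Subgroup.map_mono hgen).trans ?_
    rw [MonoidHom.map_closure, Set.image_union]
    refine Subgroup.closure_mono (Set.union_subset_union (le_of_eq (Subgroup.coe_map _ _).symm) ?_)
    rintro _ ⟨h, ⟨hh, Q, hQS, hQn, hQc, hcl'⟩, rfl⟩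
    refine ⟨hmemN _ h hh, Q.map f.toMonoidHom, Subgroup.map_mono hQS, ?_, ?_, ?_⟩
    · rintro _ ⟨s, hs, rfl⟩
      exact hmemN Q s (hQn hs)
    · intro c hc
      refine ⟨f.symm c, hQc fun y hy => f.injective ?_, f.apply_symm_apply c⟩
      rw [map_mul, map_mul, f.apply_symm_apply]
      exact hc _ (Subgroup.mem_map_of_mem _ hy)
    · have h1 := Subgroup.mem_map_of_mem f.toMonoidHom hcl'
      rw [MonoidHom.map_closure] at h1
      refine Subgroup.closure_mono ?_ h1
      rintro _ ⟨x, ⟨hxn, k, hk⟩, rfl⟩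
      exact ⟨hmemN Q x hxn, k, by show f x ^ p ^ k = 1; rw [← map_pow, hk, map_one]⟩

end Cfsg.Agent.Lib.Fusion
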