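import Cfsg.Agent.Lib.Classical.AutPSp.Sylow
import Cfsg.Agent.Lib.Fusion.PSLBorel
import Cfsg.Agent.Lib.Fusion.Aut
import Cfsg.Agent.Lib.Fusion.Axioms

/-!
The standard Borel subgroup of the symplectic group, in block form, and the symmetric matrices
occurring in a closed subgroup of its unipotent radical.
-/

set_option autoImplicit false
set_option linter.unusedSectionVars false

namespace Cfsg.Agent.Lib.Fusion.PSpBorel

open Matrix Cfsg.Agent.Lib.Classical Cfsg.Agent.Lib.Classical.AutPSL
open Cfsg.Agent.Lib.Classical.AutPSp (pr pr_surjective pr_eq_one eq_one_of_central_pow)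

variable {F : Type*} [Field F] [Fintype F] {m : ℕ}

set_option quotPrecheck false in
local notation "Spm" => Subtype (fun A => A ∈ Matrix.symplecticGroup (Fin m) F)
set_option quotPrecheck false in
local notation "PSpm" => Cfsg.PSp m F
set_option quotPrecheck false in
local notation "Mm" => Matrix (Fin m) (Fin m) F

theorem spM_mul (A B : GL (Fin m) F) : spM (A * B) = spM A * spM B := by
  refine Subtype.ext ?_
  show Matrix.fromBlocks ((A * B : GL (Fin m) F) : Mm) 0 0 (((A * B : GL (Fin m) F)⁻¹).1)ᵀ =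
    Matrix.fromBlocks A.1 0 0 ((A⁻¹).1)ᵀ * Matrix.fromBlocks B.1 0 0 ((B⁻¹).1)ᵀ
  rw [Matrix.fromBlocks_multiply]
  simp [_root_.mul_inv_rev, Matrix.transpose_mul]

/-- `spM` as a homomorphism. -/
noncomputable def lev : GL (Fin m) F →* Spm where
  toFun := spM
  map_one' := Subtype.ext (by
    show Matrix.fromBlocks (1 : GL (Fin m) F).1 0 0 (((1 : GL (Fin m) F)⁻¹).1)ᵀ = 1
    simp [Matrix.fromBlocks_one])
  map_mul' := spM_mul

theorem lev_coe (A : GL (Fin m) F) :
    (lev A : Spm).1 = Matrix.fromBlocks A.1 0 0 ((A⁻¹).1)ᵀ := rfl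

theorem spN_coe (X : Mm) (hX : Xᵀ = X) : (spN X hX).1 = Matrix.fromBlocks 1 X 0 1 := rfl

theorem spN_zero : spN (0 : Mm) Matrix.transpose_zero = 1 :=
  Subtype.ext (Matrix.fromBlocks_one)

theorem spN_inv (X : Mm) (hX : Xᵀ = X) :
    (spN X hX)⁻¹ = spN (-X) (by rw [Matrix.transpose_neg, hX]) := by
  refine inv_eq_of_mul_eq_one_right ?_
  rw [spN_mul, ← spN_zero]
  exact spN_congr _ _ (add_neg_cancel X)

theorem lev_mul_spN (A : GL (Fin m) F) (X : Mm) (hX : Xᵀ = X) :
    lev A * spN X hX = spN (A.1 * X * A.1ᵀ) (transpose_conj_symm hX) * lev A := by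
  refine Subtype.ext ?_
  show Matrix.fromBlocks A.1 0 0 ((A⁻¹).1)ᵀ * Matrix.fromBlocks 1 X 0 1 =
    Matrix.fromBlocks 1 (A.1 * X * A.1ᵀ) 0 1 * Matrix.fromBlocks A.1 0 0 ((A⁻¹).1)ᵀ
  rw [Matrix.fromBlocks_multiply, Matrix.fromBlocks_multiply]
  have : A.1ᵀ * ((A⁻¹).1)ᵀ = 1 := by
    rw [← Matrix.transpose_mul, ← Units.val_mul, inv_mul_cancel, Units.val_one, Matrix.transpose_one]
  simp only [Matrix.one_mul, Matrix.mul_one, Matrix.zero_mul, Matrix.mul_zero, add_zero, zero_add,
    Matrix.mul_assoc, this]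

theorem lev_conj_spN (A : GL (Fin m) F) (X : Mm) (hX : Xᵀ = X) :
    lev A * spN X hX * (lev A)⁻¹ = spN (A.1 * X * A.1ᵀ) (transpose_conj_symm hX) := by
  rw [lev_mul_spN, mul_inv_cancel_right]

/-- `SL_m` inside `GL_m`. -/
noncomputable def toG : Matrix.SpecialLinearGroup (Fin m) F →* GL (Fin m) F :=
  Matrix.SpecialLinearGroup.toGL

theorem toG_coe (A : Matrix.SpecialLinearGroup (Fin m) F) : ((toG A : GL (Fin m) F) : Mm) = A :=
  Matrix.SpecialLinearGroup.coe_GL_coe_matrix A

/-- The unipotent radical of the Borel subgroup. -/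
def spU : Subgroup Spm where
  carrier := {g | ∃ A ∈ upperUni m F, ∃ (X : Mm) (hX : Xᵀ = X), g = lev (toG A) * spN X hX}
  one_mem' := ⟨1, one_mem _, 0, Matrix.transpose_zero, by rw [map_one, map_one, spN_zero, one_mul]⟩
  mul_mem' := by
    rintro _ _ ⟨A, hA, X, hX, rfl⟩ ⟨B, hB, Y, hY, rfl⟩
    have h := lev_mul_spN (toG B⁻¹) X hX
    refine ⟨A * B, mul_mem hA hB, _ + Y,
      by rw [Matrix.transpose_add, transpose_conj_symm (A := (toG B⁻¹ : GL (Fin m) F).1) hX, hY], ?_⟩
    rw [← spN_mul _ _ (transpose_conj_symm hX) hY, ← lev_conj_spN (hX := hX), map_mul, map_mul,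
      map_inv, map_inv]
    group
  inv_mem' := by
    rintro _ ⟨A, hA, X, hX, rfl⟩
    refine ⟨A⁻¹, inv_mem hA, _, transpose_conj_symm (A := (toG A : GL (Fin m) F).1)
      (X := -X) (by rw [Matrix.transpose_neg, hX]), ?_⟩
    rw [← lev_conj_spN (hX := by rw [Matrix.transpose_neg, hX]), ← spN_inv _ hX, map_inv, map_inv]
    group

theorem spN_mem (X : Mm) (hX : Xᵀ = X) : spN X hX ∈ spU (F := F) (m := m) :=
  ⟨1, one_mem _, X, hX, by rw [map_one, map_one, one_mul]⟩

theorem lev_mem {A : Matrix.SpecialLinearGroup (Fin m) F} (hA : A ∈ upperUni m F) :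
    lev (toG A) ∈ spU (F := F) (m := m) :=
  ⟨A, hA, 0, Matrix.transpose_zero, by rw [spN_zero, mul_one]⟩

variable (p : ℕ) [Fact p.Prime] [CharP F p]

theorem spN_nsmul : ∀ (k : ℕ) (X : Mm) (hX : Xᵀ = X),
    spN X hX ^ k = spN (k • X) (by rw [Matrix.transpose_smul, hX])
  | 0, X, hX => by rw [pow_zero, ← spN_zero]; exact spN_congr _ _ (zero_smul ℕ X).symm
  | k + 1, X, hX => by
    rw [pow_succ, spN_nsmul k X hX, spN_mul]
    exact spN_congr _ _ (succ_nsmul X k).symm

theorem isPGroup_spU : IsPGroup p (spU (F := F) (m := m)) := by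
  rintro ⟨_, A, hA, X, hX, rfl⟩
  obtain ⟨k, hk⟩ := isPGroup_upperUni (n := m) (F := F) p ⟨A, hA⟩
  refine ⟨k + 1, Subtype.ext ?_⟩
  have key : ∀ j : ℕ, ∃ Y, ∃ hY : Yᵀ = Y, (lev (toG A) * spN X hX) ^ j =
      lev (toG (A ^ j)) * spN Y hY := by
    intro j
    induction j with
    | zero => exact ⟨0, Matrix.transpose_zero, by rw [pow_zero, pow_zero, map_one, map_one, spN_zero, one_mul]⟩
    | succ j ih =>
      obtain ⟨Y, hY, e⟩ := ih
      refine ⟨(toG A⁻¹ : GL (Fin m) F).1 * Y * (toG A⁻¹ : GL (Fin m) F).1ᵀ + X,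
        by rw [Matrix.transpose_add, transpose_conj_symm hY, hX], ?_⟩
      rw [pow_succ, e, ← spN_mul _ _ (transpose_conj_symm hY) hX, ← lev_conj_spN (hX := hY), pow_succ,
        map_mul, map_mul, map_inv, map_inv]
      group
  obtain ⟨Y, hY, e⟩ := key (p ^ k)
  have hA1 : A ^ p ^ k = 1 := congrArg Subtype.val hk
  rw [hA1, map_one, map_one, one_mul] at e
  show (lev (toG A) * spN X hX) ^ p ^ (k + 1) = 1
  rw [pow_succ, pow_mul, e, spN_nsmul, ← spN_zero]
  refine spN_congr _ _ ?_
  ext i j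
  simp [CharP.cast_eq_zero]

/-- The image in `PSp`. -/
abbrev U' : Subgroup PSpm := (spU (F := F) (m := m)).map pr

theorem negOne_mem_center (hm : 1 ≤ m) : lev (-1 : GL (Fin m) F) ∈ Subgroup.center Spm := by
  refine (mem_center_sp_iff hm _).2 (Or.inr ?_)
  rw [lev_coe]
  ext i j
  rcases i with i | i <;> rcases j with j | j <;>
    simp [Matrix.one_apply, apply_ite Neg.neg, eq_comm]

include p in
/-- Two `p`-elements with the same image agree. -/
theorem eq_of_pr (hm : 1 ≤ m) {x y : Spm} {k : ℕ} (hx : x ^ p ^ k = 1) (hy : y ^ p ^ k = 1)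
    (h : pr x = pr y) : x = y := by
  have hz : x⁻¹ * y ∈ Subgroup.center Spm := QuotientGroup.eq.mp h
  refine inv_mul_eq_one.mp (eq_one_of_central_pow p hm hz (k := k) ?_)
  have hc : Commute x (x⁻¹ * y) := Subgroup.mem_center_iff.mp hz x
  have h2 : (x * (x⁻¹ * y)) ^ p ^ k = x ^ p ^ k * (x⁻¹ * y) ^ p ^ k := hc.mul_pow _
  rw [mul_inv_cancel_left, hy, hx, one_mul] at h2
  exact h2.symm

include p in
theorem exists_pow_eq_one : ∃ k, ∀ u ∈ spU (F := F) (m := m), u ^ p ^ k = 1 := by
  classical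
  haveI : Finite Spm := Subtype.finite
  obtain ⟨k, hk⟩ := IsPGroup.iff_card.mp (isPGroup_spU (F := F) (m := m) p)
  refine ⟨k, fun u hu => ?_⟩
  have := congrArg Subtype.val (pow_card_eq_one' (x := (⟨u, hu⟩ : spU (F := F) (m := m))))
  rwa [hk, SubmonoidClass.coe_pow] at this

include p in
theorem mem_spU_of_pr (hm : 1 ≤ m) {s u : Spm} (hu : u ∈ spU (F := F) (m := m))
    (h : pr (s * u * s⁻¹) ∈ U' (F := F) (m := m)) : s * u * s⁻¹ ∈ spU (F := F) (m := m) := by
  obtain ⟨k, hk⟩ := exists_pow_eq_one (F := F) (m := m) p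
  obtain ⟨v, hv, e⟩ := h
  rw [← eq_of_pr p hm (hk v hv) (by rw [conj_pow, hk u hu]; group) e]
  exact hv

/-- The position of a basis vector in the flag. -/
def key : Fin m ⊕ Fin m → ℕ
  | Sum.inl i => i
  | Sum.inr i => 2 * m - 1 - i

theorem key_injective : Function.Injective (key (m := m)) := by
  rintro (i | i) (j | j) h <;> simp only [key] at h <;>
    first
      | exact congrArg Sum.inl (Fin.ext h)
      | (exact congrArg Sum.inr (Fin.ext (by omega)))
      | (exfalso; omega)

/-- Upper triangular in the flag order. -/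
def Upper (M : Matrix (Fin m ⊕ Fin m) (Fin m ⊕ Fin m) F) : Prop :=
  ∀ i j, key j < key i → M i j = 0

theorem spU_uni {g : Spm} (hg : g ∈ spU (F := F) (m := m)) :
    Upper g.1 ∧ ∀ i, g.1 i i = 1 := by
  obtain ⟨A, hA, X, hX, rfl⟩ := hg
  have hAi := inv_mem hA
  have e : (lev (toG A) * spN X hX).1 =
      Matrix.fromBlocks (A : Mm) ((A : Mm) * X) 0 ((A⁻¹ : Matrix.SpecialLinearGroup (Fin m) F) : Mm)ᵀ := by
    show (lev (toG A)).1 * (spN X hX).1 = _
    rw [lev_coe, spN_coe, Matrix.fromBlocks_multiply, ← map_inv, toG_coe, toG_coe]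
    simp
  rw [e]
  refine ⟨?_, ?_⟩
  · rintro (i | i) (j | j) h
    · rw [Matrix.fromBlocks_apply₁₁]
      have hji : j < i := Fin.lt_def.2 h
      rw [hA i j hji.le, if_neg hji.ne']
    · simp only [key] at h; omega
    · simp
    · rw [Matrix.fromBlocks_apply₂₂, Matrix.transpose_apply]
      have hij : i < j := Fin.lt_def.2 (by simp only [key] at h; omega)
      rw [hAi j i hij.le, if_neg hij.ne']
  · rintro (i | i)
    · rw [Matrix.fromBlocks_apply₁₁, hA i i le_rfl, if_pos rfl]
    · rw [Matrix.fromBlocks_apply₂₂, Matrix.transpose_apply, hAi i i le_rfl, if_pos rfl]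

/-- The triangularity lemma. -/
theorem upper_of_adjacent (s : Matrix (Fin m ⊕ Fin m) (Fin m ⊕ Fin m) F)
    (h : ∀ i r : Fin m ⊕ Fin m, key i < key r → ∃ j, key i < key j ∧
      (∀ k : Fin m ⊕ Fin m, key i < key k → key j ≤ key k) ∧ ∃ (u v : Matrix (Fin m ⊕ Fin m) (Fin m ⊕ Fin m) F) (c : F),
        c ≠ 0 ∧ s * u = v * s ∧ Upper v ∧ (∀ k, v k k = 1) ∧
        ∀ k, u k j = (if k = j then 1 else 0) + (if k = i then c else 0)) :
    Upper s := by
  have main : ∀ d i r, 2 * m ≤ key i + d → key i < key r → s r i = 0 := by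
    intro d
    induction d with
    | zero =>
      intro i r hd hir
      exfalso
      rcases i with i | i <;> rcases r with r | r <;> simp only [key] at hir hd <;> omega
    | succ d ih =>
      intro i r hd hir
      obtain ⟨j, hij, hmin, u, v, c, hc, he, hv, hv1, hu⟩ := h i r hir
      have h1 := congrFun (congrFun he r) j
      rw [Matrix.mul_apply, Matrix.mul_apply] at h1
      simp only [hu, mul_add, mul_ite, mul_one, mul_zero, Finset.sum_add_distrib,
        Finset.sum_ite_eq', Finset.mem_univ, if_true] at h1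
      rw [Finset.sum_eq_single r] at h1
      · rw [hv1, one_mul, add_eq_left] at h1
        exact (mul_eq_zero.1 h1).resolve_right hc
      · intro k _ hk
        rcases lt_or_gt_of_ne (fun e => hk (key_injective e)) with hkr | hkr
        · rw [hv r k hkr, zero_mul]
        · rw [ih j k (by omega) (lt_of_le_of_lt (hmin r hir) hkr), mul_zero]
      · simp
  exact fun r i hir => main (2 * m) i r (by omega) hir

/-- Decomposition of upper triangular elements. -/
theorem exists_decomp {g : Spm} (hg : Upper g.1) :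
    ∃ (A : GL (Fin m) F) (X : Mm) (hX : Xᵀ = X), g = lev A * spN X hX ∧
      (∀ i j : Fin m, j < i → A.1 i j = 0) ∧ ∀ i, A.1 i i = g.1 (Sum.inl i) (Sum.inl i) := by
  obtain ⟨M, hM⟩ := g
  obtain ⟨A, B, C, D, rfl⟩ : ∃ A B C D, M = Matrix.fromBlocks A B C D :=
    ⟨M.toBlocks₁₁, M.toBlocks₁₂, M.toBlocks₂₁, M.toBlocks₂₂, (Matrix.fromBlocks_toBlocks M).symm⟩
  have hC : C = 0 := by
    ext i j
    exact hg (Sum.inr i) (Sum.inl j) (by simp only [key]; omega)
  subst hC
  obtain ⟨-, h2, h3⟩ := SymplecticGroup.fromBlocks_mem_iff.1 hM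
  simp only [Matrix.transpose_zero, Matrix.zero_mul, sub_zero] at h3
  have hAD : A * Dᵀ = 1 := by
    have := congrArg Matrix.transpose h3
    rw [Matrix.transpose_mul, Matrix.transpose_transpose, Matrix.transpose_one] at this
    exact mul_eq_one_comm.1 this
  have hDA : Dᵀ * A = 1 := mul_eq_one_comm.1 hAD
  let U : GL (Fin m) F := ⟨A, Dᵀ, hAD, hDA⟩
  refine ⟨U, Dᵀ * B, ?_, Subtype.ext ?_, fun i j hji => hg (Sum.inl i) (Sum.inl j) (Fin.lt_def.1 hji),
    fun i => rfl⟩
  · rw [Matrix.transpose_mul, Matrix.transpose_transpose, h2]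
  · show _ = (lev U).1 * (spN _ _).1
    rw [lev_coe, spN_coe, Matrix.fromBlocks_multiply]
    show _ = Matrix.fromBlocks (A * 1 + 0 * 0) (A * (Dᵀ * B) + 0 * 1) (0 * 1 + Dᵀᵀ * 0)
      (0 * (Dᵀ * B) + Dᵀᵀ * 1)
    rw [← Matrix.mul_assoc, hAD]
    simp

/-- An upper element with unit diagonal on the first half lies in `spU`. -/
theorem mem_spU_of_upper {g : Spm} (hg : Upper g.1)
    (h1 : ∀ i : Fin m, g.1 (Sum.inl i) (Sum.inl i) = 1) : g ∈ spU (F := F) (m := m) := by
  obtain ⟨A, X, hX, e, hA, hAd⟩ := exists_decomp hg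
  have huni : IsUni A.1 := fun i j hji => by
    rcases eq_or_lt_of_le hji with rfl | hlt
    · rw [if_pos rfl, hAd, h1]
    · rw [if_neg hlt.ne', hA i j hlt]
  refine ⟨⟨A.1, huni.det⟩, huni, X, hX, ?_⟩
  rw [e]
  congr 2
  exact Units.ext (toG_coe (⟨A.1, huni.det⟩ : Matrix.SpecialLinearGroup (Fin m) F)).symm

/-! ### Additive subgroups of symmetric matrices invariant under congruence -/

/-- The symmetric matrix `c (E_ij + E_ji)`. -/
def pairM (i j : Fin m) (c : F) : Mm := Matrix.single i j c + Matrix.single j i c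

theorem pairM_symm (i j : Fin m) (c : F) : (pairM i j c)ᵀ = pairM i j c := by
  rw [pairM, Matrix.transpose_add, Matrix.transpose_single, Matrix.transpose_single, add_comm]

theorem pairM_swap (i j : Fin m) (c : F) : pairM i j c = pairM j i c := add_comm _ _

theorem congr_elem (i k : Fin m) (s : F) (B : Mm) :
    (1 + Matrix.single i k s) * B * (1 + Matrix.single i k s)ᵀ - B =
      Matrix.single i k s * B + B * Matrix.single k i s +
        Matrix.single i k s * B * Matrix.single k i s := by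
  rw [Matrix.transpose_add, Matrix.transpose_one, Matrix.transpose_single]
  simp only [add_mul, mul_add, one_mul, mul_one]
  abel

theorem elem_mem_GL {i k : Fin m} (hik : i ≠ k) (s : F) :
    ((toG (et i k hik s) : GL (Fin m) F) : Mm) = 1 + Matrix.single i k s := by
  rw [toG_coe, et_coe]

/-- A nonzero invariant subgroup contains a nonzero pair matrix. -/
theorem exists_pair {N : AddSubgroup Mm} (hsym : ∀ B ∈ N, Bᵀ = B)
    (hinv : ∀ (A : GL (Fin m) F), ∀ B ∈ N, A.1 * B * A.1ᵀ ∈ N) (hne : N ≠ ⊥) (hm : 2 ≤ m)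
    (hq : m = 2 → ∃ t : F, t ≠ 0 ∧ t ≠ 1) :
    ∃ (i l : Fin m) (c : F), i ≠ l ∧ c ≠ 0 ∧ pairM i l c ∈ N := by
  classical
  obtain ⟨B, hB, hB0⟩ : ∃ B ∈ N, B ≠ 0 := by
    by_contra hcon
    push Not at hcon
    exact hne ((AddSubgroup.eq_bot_iff_forall N).2 hcon)
  have hBs : ∀ a b, B a b = B b a := fun a b => (congrFun (congrFun (hsym B hB) b) a)
  -- the reduction from a hook
  have hook : ∀ i k l : Fin m, i ≠ k → i ≠ l → B k l ≠ 0 →
      ∃ (i l : Fin m) (c : F), i ≠ l ∧ c ≠ 0 ∧ pairM i l c ∈ N := by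
    intro i k l hik hil hkl
    have hD : Matrix.single i k (1 : F) * B + B * Matrix.single k i 1 +
        Matrix.single i k 1 * B * Matrix.single k i 1 ∈ N := by
      rw [← congr_elem, ← elem_mem_GL hik]
      exact N.sub_mem (hinv _ B hB) hB
    set D := Matrix.single i k (1 : F) * B + B * Matrix.single k i 1 +
        Matrix.single i k 1 * B * Matrix.single k i 1 with hDdef
    have hDe : ∀ a b, D a b = (if a = i then B k b else 0) + (if b = i then B a k else 0) +
        (if a = i ∧ b = i then B k k else 0) := by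
      intro a b
      rw [hDdef]
      simp only [Matrix.add_apply]
      by_cases ha : a = i <;> by_cases hb : b = i <;> simp [ha, hb]
    by_cases ht : ∃ t : F, t ≠ 0 ∧ t ≠ 1
    · obtain ⟨t, ht0, ht1⟩ := ht
      refine ⟨i, l, (1 - t) * B k l, hil, mul_ne_zero (sub_ne_zero.2 (Ne.symm ht1)) hkl, ?_⟩
      have h1 := N.sub_mem hD (hinv (diag1n l (Units.mk0 t ht0)) D hD)
      convert h1 using 1
      ext a b
      show _ = D a b - (Matrix.diagonal (fun x => if x = l then t else 1) * D *
        (Matrix.diagonal fun x => if x = l then t else 1)ᵀ) a b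
      rw [Matrix.diagonal_transpose, Matrix.mul_diagonal, Matrix.diagonal_mul, hDe]
      simp only [pairM, Matrix.add_apply, Matrix.single_apply]
      rcases eq_or_ne a i with rfl | ha
      · rcases eq_or_ne b l with rfl | hb
        · simp [hil, hil.symm]; ring
        · rcases eq_or_ne b a with rfl | hb'
          · simp [hil, hil.symm]
          · simp [hil, hil.symm, hb, hb.symm, hb']
      · rcases eq_or_ne b i with rfl | hb'
        · rcases eq_or_ne a l with rfl | ha'
          · simp [hil, hil.symm, hBs a k]; ring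
          · simp [hil, hil.symm, ha, ha.symm, ha', Ne.symm ha']
        · simp [ha, hb', Ne.symm ha, Ne.symm hb']
    · have hm3 : m ≠ 2 := fun e => ht (hq e)
      obtain ⟨j, hji, hjl⟩ : ∃ j : Fin m, j ≠ i ∧ j ≠ l := by
        by_contra hcon
        push Not at hcon
        have h1 : (Finset.univ : Finset (Fin m)) ⊆ {i, l} := fun c _ => by
          rcases eq_or_ne c i with h | h
          · simp [h]
          · simp [hcon c h]
        have h2 := (Finset.card_le_card h1).trans Finset.card_le_two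
        simp only [Finset.card_univ, Fintype.card_fin] at h2
        omega
      refine ⟨i, j, B k l, hji.symm, hkl, ?_⟩
      have h1 := N.sub_mem (hinv (toG (et j l hjl (1 : F))) D hD) hD
      rw [elem_mem_GL, congr_elem] at h1
      convert h1 using 1
      ext a b
      simp only [pairM, Matrix.add_apply, Matrix.single_apply]
      rcases eq_or_ne a j with rfl | ha
      · rcases eq_or_ne b a with rfl | hb
        · simp [hDe, hji, hji.symm, hil.symm]
        · rcases eq_or_ne b i with rfl | hb'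
          · simp [hDe, hji, hji.symm, hil, hil.symm, hb, hBs l k]
          · simp [hDe, hji, hji.symm, hil.symm, hb, hb', Ne.symm hb, Ne.symm hb']
      · rcases eq_or_ne b j with rfl | hb
        · rcases eq_or_ne a i with rfl | ha'
          · simp [hDe, hji, hji.symm, hil, hil.symm, ha]
          · simp [hDe, hji, hji.symm, hil, hil.symm, ha, ha', Ne.symm ha, Ne.symm ha']
        · simp [ha, hb, Ne.symm ha, Ne.symm hb]
  by_cases hdiag : ∃ k, B k k ≠ 0
  · obtain ⟨k, hk⟩ := hdiag
    haveI : Nontrivial (Fin m) := Fin.nontrivial_iff_two_le.2 hm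
    obtain ⟨i, hik⟩ := exists_ne k
    exact hook i k k hik hik hk
  push Not at hdiag
  obtain ⟨k, l, hkl⟩ : ∃ k l, B k l ≠ 0 := by
    by_contra hcon
    push Not at hcon
    exact hB0 (Matrix.ext hcon)
  have hne' : k ≠ l := fun e => hkl (e ▸ hdiag k)
  rcases Nat.lt_or_ge 2 m with hm3 | hm3
  · obtain ⟨i, hik, hil⟩ : ∃ i : Fin m, i ≠ k ∧ i ≠ l := by
      by_contra hcon
      push Not at hcon
      have h1 : (Finset.univ : Finset (Fin m)) ⊆ {k, l} := fun c _ => by
        rcases eq_or_ne c k with h | h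
        · simp [h]
        · simp [hcon c h]
      have h2 := (Finset.card_le_card h1).trans Finset.card_le_two
      simp only [Finset.card_univ, Fintype.card_fin] at h2
      omega
    exact hook i k l hik hil hkl
  · refine ⟨k, l, B k l, hne', hkl, ?_⟩
    convert hB using 1
    ext a b
    have ha : a = k ∨ a = l := by
      rcases eq_or_ne a k with h | h
      · exact Or.inl h
      · exact Or.inr (Fin.ext (by have := Fin.val_ne_of_ne h; have := Fin.val_ne_of_ne hne'; omega))
    have hb : b = k ∨ b = l := by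
      rcases eq_or_ne b k with h | h
      · exact Or.inl h
      · exact Or.inr (Fin.ext (by have := Fin.val_ne_of_ne h; have := Fin.val_ne_of_ne hne'; omega))
    simp only [pairM, Matrix.add_apply, Matrix.single_apply]
    rcases ha with rfl | rfl <;> rcases hb with rfl | rfl <;>
      simp [hne', hne'.symm, hdiag, hBs]

/-- All pair matrices. -/
theorem pairs_mem {N : AddSubgroup Mm}
    (hinv : ∀ (A : GL (Fin m) F), ∀ B ∈ N, A.1 * B * A.1ᵀ ∈ N) {i l : Fin m} {c : F} (hil : i ≠ l)
    (hc : c ≠ 0) (h : pairM i l c ∈ N) : ∀ a b : Fin m, a ≠ b → ∀ d : F, pairM a b d ∈ N := by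
  have scale : ∀ a b : Fin m, a ≠ b → ∀ d e : F, d ≠ 0 → pairM a b d ∈ N → pairM a b e ∈ N := by
    intro a b hab d e hd hmem
    rcases eq_or_ne e 0 with rfl | he
    · simp [pairM]
    · have h1 := hinv (diag1n b (Units.mk0 (e / d) (div_ne_zero he hd))) _ hmem
      convert h1 using 1
      ext x y
      show _ = (Matrix.diagonal (fun z => if z = b then e / d else 1) * pairM a b d *
        (Matrix.diagonal fun z => if z = b then e / d else 1)ᵀ) x y
      rw [Matrix.diagonal_transpose, Matrix.mul_diagonal, Matrix.diagonal_mul]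
      simp only [pairM, Matrix.add_apply, Matrix.single_apply]
      by_cases h1 : a = x ∧ b = y
      · obtain ⟨rfl, rfl⟩ := h1
        simp [hab, hab.symm]
        field_simp
      · by_cases h2 : b = x ∧ a = y
        · obtain ⟨rfl, rfl⟩ := h2
          simp [hab, hab.symm]
          field_simp
        · simp [h1, h2]
  have step : ∀ a b b' : Fin m, a ≠ b → a ≠ b' → pairM a b c ∈ N → pairM a b' c ∈ N := by
    intro a b b' hab hab' hmem
    rcases eq_or_ne b' b with rfl | hbb
    · exact hmem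
    have h1 := N.sub_mem (hinv (toG (et b' b hbb (1 : F))) _ hmem) hmem
    rw [elem_mem_GL, congr_elem] at h1
    convert h1 using 1
    simp [pairM, add_mul, mul_add, Matrix.single_mul_single_same,
      Matrix.single_mul_single_of_ne _ _ _ _ hab, Matrix.single_mul_single_of_ne _ _ _ _ hab.symm]
    abel
  intro a b hab d
  refine scale a b hab c d hc ?_
  rcases eq_or_ne a i with rfl | hai
  · exact step a l b hil hab h
  · have h1 := step i l a hil (Ne.symm hai) h
    rw [pairM_swap] at h1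
    exact step a i b hai hab h1

end Cfsg.Agent.Lib.Fusion.PSpBorel
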