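import Cfsg.Agent.Lib.Classical.AutPSp.Main
import Cfsg.Agent.Lib.Fusion.PSpBorel
import Cfsg.Agent.Lib.Fusion.SimpleCriterion
import Cfsg.Agent.Lib.Solvable.Nilpotent

/-!
The unipotent radical of the Borel subgroup of `PSp` is a Sylow subgroup, it has no proper
non-trivial closed subgroup, and its normalizer is generated as the criterion requires.
-/

set_option autoImplicit false
set_option linter.unusedSectionVars false

namespace Cfsg.Agent.Lib.Fusion.PSpBorel

open Matrix Cfsg.Agent.Lib.Classical Cfsg.Agent.Lib.Classical.AutPSL Cfsg.Agent.Lib.Geometry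
open Cfsg.Agent.Lib.Classical.AutPSp (pr pr_surjective pr_eq_one eq_one_of_central_pow E Fv form_E
  form_Fv E_ne_zero spT_pow_char spT_eq_imp stab rad isPGroup_rad eich eich_mulVec commute_eich)
open Cfsg.Agent.Lib.Fusion.PSLBorel (dgSL dgSL_coe dgSL_mem upperUni_le)

variable {F : Type*} [Field F] [Fintype F] {m : ℕ}

set_option quotPrecheck false in
local notation "Spm" => Subtype (fun A => A ∈ Matrix.symplecticGroup (Fin m) F)
set_option quotPrecheck false in
local notation "PSpm" => Cfsg.PSp m F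
set_option quotPrecheck false in
local notation "Mm" => Matrix (Fin m) (Fin m) F
set_option quotPrecheck false in
local notation "Vm" => (Fin m ⊕ Fin m → F)
set_option quotPrecheck false in
local notation "ω" => Cfsg.sympForm m F

/-! ### Triangular matrices -/

theorem upper_mul_diag {M N : Matrix (Fin m ⊕ Fin m) (Fin m ⊕ Fin m) F} (hM : Upper M)
    (hN : Upper N) : Upper (M * N) ∧ ∀ i, (M * N) i i = M i i * N i i := by
  refine ⟨fun i j h => ?_, fun i => ?_⟩
  · rw [Matrix.mul_apply]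
    refine Finset.sum_eq_zero fun k _ => ?_
    rcases lt_or_ge (key k) (key i) with hk | hk
    · rw [hM i k hk, zero_mul]
    · rw [hN k j (lt_of_lt_of_le h hk), mul_zero]
  · rw [Matrix.mul_apply, Finset.sum_eq_single i]
    · intro k _ hk
      rcases lt_or_gt_of_ne (fun e => hk (key_injective e)) with h | h
      · rw [hM i k h, zero_mul]
      · rw [hN k i h, mul_zero]
    · simp

theorem upper_pow_diag {s : Spm} (hs : Upper s.1) :
    ∀ n : ℕ, Upper (s ^ n : Spm).1 ∧ ∀ i, (s ^ n : Spm).1 i i = s.1 i i ^ n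
  | 0 => by
    rw [pow_zero]
    refine ⟨fun i j h => ?_, fun i => ?_⟩
    · show (1 : Matrix (Fin m ⊕ Fin m) (Fin m ⊕ Fin m) F) i j = 0
      rw [Matrix.one_apply, if_neg (fun e => absurd h (by rw [e]; exact lt_irrefl _))]
    · show (1 : Matrix (Fin m ⊕ Fin m) (Fin m ⊕ Fin m) F) i i = _
      rw [pow_zero, Matrix.one_apply_eq]
  | n + 1 => by
    obtain ⟨h1, h2⟩ := upper_pow_diag hs n
    obtain ⟨h3, h4⟩ := upper_mul_diag h1 hs
    rw [pow_succ]
    exact ⟨h3, fun i => (h4 i).trans (by rw [h2, pow_succ])⟩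

theorem negOne_coe : (lev (-1 : GL (Fin m) F) : Spm).1 = -1 := by
  rw [lev_coe]
  ext i j
  rcases i with i | i <;> rcases j with j | j <;>
    simp [Matrix.one_apply, apply_ite Neg.neg, eq_comm]

theorem pr_negOne_mul (hm : 1 ≤ m) (s : Spm) : pr (lev (-1 : GL (Fin m) F) * s) = pr s := by
  rw [map_mul, pr_eq_one.2 (negOne_mem_center hm), one_mul]

theorem mem_U'_of_diag (hm : 1 ≤ m) {s : Spm} (hs : Upper s.1) {ε : F} (hε : ε = 1 ∨ ε = -1)
    (hd : ∀ i : Fin m, s.1 (Sum.inl i) (Sum.inl i) = ε) : pr s ∈ U' (F := F) (m := m) := by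
  rcases hε with rfl | rfl
  · exact Subgroup.mem_map_of_mem pr (mem_spU_of_upper hs hd)
  · rw [← pr_negOne_mul hm s]
    have hneg : (lev (-1 : GL (Fin m) F) * s).1 = -s.1 := by
      show (lev (-1 : GL (Fin m) F) : Spm).1 * s.1 = _
      rw [negOne_coe, neg_mul, one_mul]
    refine Subgroup.mem_map_of_mem pr (mem_spU_of_upper (fun i j h => ?_) fun i => ?_)
    · rw [hneg, Matrix.neg_apply, hs i j h, neg_zero]
    · rw [hneg, Matrix.neg_apply, hd i, neg_neg]

/-! ### The diagonal subgroup -/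

/-- A diagonal element of `GL_m`. -/
def dgGL (d : Fin m → Fˣ) : GL (Fin m) F where
  val := Matrix.diagonal fun i => (d i : F)
  inv := Matrix.diagonal fun i => ((d i)⁻¹ : Fˣ)
  val_inv := by
    rw [Matrix.diagonal_mul_diagonal, ← Matrix.diagonal_one]
    congr 1; funext i; simp
  inv_val := by
    rw [Matrix.diagonal_mul_diagonal, ← Matrix.diagonal_one]
    congr 1; funext i; simp

theorem dgGL_mul (d d' : Fin m → Fˣ) : dgGL d * dgGL d' = dgGL (d * d') := by
  refine Units.ext ?_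
  show Matrix.diagonal _ * Matrix.diagonal _ = Matrix.diagonal _
  rw [Matrix.diagonal_mul_diagonal]
  congr 1

theorem lev_dg_coe (d : Fin m → Fˣ) :
    (lev (dgGL d) : Spm).1 =
      Matrix.diagonal (Sum.elim (fun i => (d i : F)) fun i => (((d i)⁻¹ : Fˣ) : F)) := by
  rw [lev_coe]
  show Matrix.fromBlocks (Matrix.diagonal fun i => (d i : F)) 0 0
    (Matrix.diagonal fun i => (((d i)⁻¹ : Fˣ) : F))ᵀ = _
  rw [Matrix.diagonal_transpose, Matrix.fromBlocks_diagonal]

theorem lev_dg_inv (d : Fin m → Fˣ) : (lev (dgGL d) : Spm)⁻¹ = lev (dgGL d⁻¹) := by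
  refine inv_eq_of_mul_eq_one_right ?_
  rw [← map_mul, dgGL_mul, mul_inv_cancel]
  convert map_one (lev (F := F) (m := m))
  exact Units.ext (Matrix.diagonal_one)

theorem dg_toG (d : Fin m → Fˣ) (h : ∏ k, d k = 1) : toG (dgSL d h) = dgGL d :=
  Units.ext (toG_coe (dgSL d h))

variable (p : ℕ) [Fact p.Prime] [CharP F p]

include p in
theorem mem_normalizer_map_pr (Q : Subgroup Spm) {s : Spm} (h : ∀ q ∈ Q, s * q * s⁻¹ ∈ Q) :
    pr s ∈ Subgroup.normalizer ((Q.map pr : Subgroup PSpm) : Set PSpm) :=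
  mem_normalizer_of_finite fun x ⟨q, hq, e⟩ => by
    subst e
    rw [← map_inv, ← map_mul, ← map_mul]
    exact Subgroup.mem_map_of_mem pr (h q hq)

include p in
theorem dg_normalizes (d : Fin m → Fˣ) :
    pr (lev (dgGL d)) ∈ Subgroup.normalizer ((U' (F := F) (m := m) : Subgroup PSpm) : Set PSpm) := by
  refine mem_normalizer_map_pr p _ fun q hq => ?_
  obtain ⟨hqu, hqd⟩ := spU_uni hq
  have hup : ∀ d : Fin m → Fˣ, Upper (lev (dgGL d) : Spm).1 := fun d i j h => by
    rw [lev_dg_coe, Matrix.diagonal_apply_ne _ (fun e => absurd h (by rw [e]; exact lt_irrefl _))]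
  rw [lev_dg_inv]
  obtain ⟨h1, h2⟩ := upper_mul_diag (hup d) hqu
  obtain ⟨h3, h4⟩ := upper_mul_diag h1 (hup d⁻¹)
  refine mem_spU_of_upper h3 fun i => ?_
  show ((lev (dgGL d) : Spm).1 * q.1 * (lev (dgGL d⁻¹) : Spm).1) _ _ = 1
  rw [h4, h2, hqd, lev_dg_coe, lev_dg_coe]
  simp

/-! ### The Sylow subgroup -/

include p in
theorem upper_of_normalizes (hm : 2 ≤ m) {s : Spm}
    (h : pr s ∈ Subgroup.normalizer ((U' (F := F) (m := m) : Subgroup PSpm) : Set PSpm)) :
    Upper s.1 := by
  classical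
  have hm1 : 1 ≤ m := by omega
  have hconj : ∀ u ∈ spU (F := F) (m := m), s * u * s⁻¹ ∈ spU (F := F) (m := m) := fun u hu => by
    refine mem_spU_of_pr p hm1 hu ?_
    rw [map_mul, map_mul, map_inv]
    exact (Subgroup.mem_normalizer_iff.1 h _).1 (Subgroup.mem_map_of_mem pr hu)
  have mk : ∀ (i j : Fin m ⊕ Fin m) (u : Spm) (c : F), u ∈ spU (F := F) (m := m) → c ≠ 0 →
      (∀ k, u.1 k j = (if k = j then 1 else 0) + (if k = i then c else 0)) →
      ∃ (u v : Matrix (Fin m ⊕ Fin m) (Fin m ⊕ Fin m) F) (c : F),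
        c ≠ 0 ∧ s.1 * u = v * s.1 ∧ Upper v ∧ (∀ k, v k k = 1) ∧
        ∀ k, u k j = (if k = j then 1 else 0) + (if k = i then c else 0) := by
    intro i j u c hu hc hk
    obtain ⟨h1, h2⟩ := spU_uni (hconj u hu)
    refine ⟨u.1, (s * u * s⁻¹).1, c, hc, ?_, h1, h2, hk⟩
    exact congrArg Subtype.val (show s * u = s * u * s⁻¹ * s by group)
  refine PSpBorel.upper_of_adjacent s.1 fun i r hir => ?_
  rcases i with a | a
  · by_cases ha : (a : ℕ) + 1 < m
    · refine ⟨Sum.inl ⟨a + 1, ha⟩, by simp only [key]; omega, fun k hk => ?_, ?_⟩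
      · simp only [key] at hk ⊢
        omega
      · have hne : a ≠ ⟨a + 1, ha⟩ := Fin.ne_of_val_ne (by simp)
        refine mk _ _ (lev (toG (et a ⟨a + 1, ha⟩ hne (1 : F)))) 1
          (lev_mem (et_mem_upperUni (Fin.lt_def.2 (by simp)) 1)) one_ne_zero fun k => ?_
        rw [lev_coe, elem_mem_GL]
        rcases k with k | k
        · rw [Matrix.fromBlocks_apply₁₁]
          simp [Matrix.one_apply, Matrix.single_apply, eq_comm]
        · simp
    · have hal : (a : ℕ) = m - 1 := by omega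
      refine ⟨Sum.inr a, by simp only [key]; omega, fun k hk => ?_, ?_⟩
      · simp only [key] at hk ⊢
        rcases k with k | k <;> simp only at hk ⊢ <;> omega
      · refine mk _ _ (spN (Matrix.single a a 1) (single_symm a 1)) 1 (spN_mem _ _) one_ne_zero
          fun k => ?_
        rw [spN_coe]
        rcases k with k | k
        · simp [Matrix.single_apply, eq_comm]
        · simp [Matrix.one_apply, eq_comm]
  · by_cases ha : (a : ℕ) = 0
    · exfalso
      rcases r with r | r <;> simp only [key] at hir <;> omega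
    · have hlt : (a : ℕ) - 1 < m := by omega
      refine ⟨Sum.inr ⟨a - 1, hlt⟩, by simp only [key]; omega, fun k hk => ?_, ?_⟩
      · simp only [key] at hk ⊢
        omega
      · have hne : (⟨a - 1, hlt⟩ : Fin m) ≠ a := Fin.ne_of_val_ne (show (a : ℕ) - 1 ≠ a by omega)
        refine mk _ _ (lev (toG (et ⟨a - 1, hlt⟩ a hne (1 : F)))) (-1)
          (lev_mem (et_mem_upperUni (Fin.lt_def.2 (show (a : ℕ) - 1 < a by omega)) 1))
          (neg_ne_zero.2 one_ne_zero) fun k => ?_
        rw [lev_coe, ← map_inv, inv_eq_of_mul_eq_one_right (b := et (⟨a - 1, hlt⟩ : Fin m) a hne (-1 : F))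
          (by rw [← et_add, add_neg_cancel, et, tvs_zero]), elem_mem_GL, elem_mem_GL]
        rcases k with k | k
        · simp
        · rw [Matrix.fromBlocks_apply₂₂, Matrix.transpose_apply]
          simp [Matrix.one_apply, Matrix.single_apply, eq_comm, hne, hne.symm]

include p in
theorem exists_sylow (hm : 2 ≤ m) :
    ∃ P : Sylow p PSpm, (P : Subgroup PSpm) = U' (F := F) (m := m) := by
  classical
  have hm1 : 1 ≤ m := by omega
  haveI : ExpChar F p := ExpChar.prime Fact.out
  obtain ⟨P, hP⟩ := ((isPGroup_spU (F := F) (m := m) p).map pr).exists_le_sylow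
  refine ⟨P, le_antisymm ?_ hP⟩
  by_contra hcon
  haveI : Finite (P : Subgroup PSpm) := inferInstance
  haveI := P.isPGroup'.isNilpotent
  have hlt : (U' (F := F) (m := m)).subgroupOf (P : Subgroup PSpm) < ⊤ := by
    rw [lt_top_iff_ne_top, Ne, Subgroup.subgroupOf_eq_top]
    exact hcon
  obtain ⟨x, hx, hxU⟩ := SetLike.exists_of_lt (normalizerCondition_of_isNilpotent _ hlt)
  obtain ⟨s, hs⟩ := pr_surjective (x : PSpm)
  apply hxU
  rw [Subgroup.mem_subgroupOf, ← hs]
  have hn : pr s ∈ Subgroup.normalizer ((U' (F := F) (m := m) : Subgroup PSpm) : Set PSpm) := by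
    rw [hs]
    refine mem_normalizer_of_finite fun y hy => ?_
    exact (Subgroup.mem_normalizer_iff.1 hx (⟨y, hP hy⟩ : (P : Subgroup PSpm))).1 hy
  have hup := upper_of_normalizes p hm hn
  obtain ⟨k, hk⟩ := P.isPGroup' x
  have hz : s ^ p ^ k ∈ Subgroup.center Spm := by
    rw [← pr_eq_one, map_pow, hs, ← SubmonoidClass.coe_pow, hk, OneMemClass.coe_one]
  obtain ⟨ε, hε, hd⟩ : ∃ ε : F, (ε = 1 ∨ ε = -1) ∧ ∀ i, s.1 i i ^ p ^ k = ε := by
    rcases (mem_center_sp_iff hm1 _).1 hz with e | e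
    · exact ⟨1, Or.inl rfl, fun i => by rw [← (upper_pow_diag hup _).2, e, Matrix.one_apply_eq]⟩
    · exact ⟨-1, Or.inr rfl, fun i => by
        rw [← (upper_pow_diag hup _).2, e, Matrix.neg_apply, Matrix.one_apply_eq]⟩
  refine mem_U'_of_diag hm1 hup hε fun i => sub_eq_zero.1 (eq_zero_of_pow_eq_zero (n := p ^ k) ?_)
  rw [sub_pow_char_pow, hd]
  rcases hε with rfl | rfl
  · rw [one_pow, sub_self]
  · rw [neg_one_pow_char_pow, sub_self]

include p in
theorem U'_ne_bot (hm : 2 ≤ m) : U' (F := F) (m := m) ≠ ⊥ := by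
  intro h
  let i₀ : Fin m := ⟨0, by omega⟩
  have h1 : pr (spN (Matrix.single i₀ i₀ (1 : F)) (single_symm i₀ 1)) ∈ U' (F := F) (m := m) :=
    Subgroup.mem_map_of_mem pr (spN_mem _ _)
  rw [h, Subgroup.mem_bot] at h1
  obtain ⟨k, hk⟩ := exists_pow_eq_one (F := F) (m := m) p
  have h2 := congrArg (fun g : Spm => g.1 (Sum.inl i₀) (Sum.inr i₀))
    (eq_of_pr p (by omega) (hk _ (spN_mem _ _)) (one_pow _) (h1.trans (map_one pr).symm))
  simp [spN_coe] at h2

/-! ### Closed subgroups -/

/-- A representative of the Weyl group. -/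
def weyl (j : Fin m) : Spm :=
  ⟨Matrix.fromBlocks (1 - Matrix.single j j 1) (Matrix.single j j 1) (-Matrix.single j j 1)
      (1 - Matrix.single j j 1), by
    rw [SymplecticGroup.fromBlocks_mem_iff]
    refine ⟨?_, ?_, ?_⟩ <;>
      simp [Matrix.transpose_sub, Matrix.transpose_neg, Matrix.transpose_single, mul_sub, sub_mul]⟩

theorem weyl_conj {i j : Fin m} (hij : i ≠ j) (c : F) :
    weyl j * spN (pairM i j c) (pairM_symm i j c) * (weyl j)⁻¹ = lev (toG (et i j hij c)) := by
  rw [mul_inv_eq_iff_eq_mul]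
  refine Subtype.ext ?_
  show (weyl j).1 * (spN _ _).1 = (lev _).1 * (weyl j).1
  rw [spN_coe, lev_coe, ← map_inv, inv_eq_of_mul_eq_one_right (b := et i j hij (-c))
    (by rw [← et_add, add_neg_cancel, et, tvs_zero]), elem_mem_GL, elem_mem_GL]
  show Matrix.fromBlocks _ _ _ _ * _ = _ * Matrix.fromBlocks _ _ _ _
  rw [Matrix.fromBlocks_multiply, Matrix.fromBlocks_multiply]
  congr 1 <;>
    simp [pairM, mul_sub, sub_mul, mul_add, add_mul, hij, hij.symm,
      Matrix.single_mul_single_of_ne _ _ _ _ hij, Matrix.single_mul_single_of_ne _ _ _ _ hij.symm,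
      ← Matrix.single_neg] <;>
    abel

theorem eq_sum_parts {X : Mm} (hX : Xᵀ = X) :
    X = ∑ i, ∑ j, (Matrix.single i j (if i ≤ j then X i j else 0) +
      Matrix.single j i (if i < j then X i j else 0)) := by
  have hs : ∀ a b, X a b = X b a := fun a b => congrFun (congrFun hX b) a
  ext a b
  simp only [Matrix.sum_apply, Matrix.add_apply, Matrix.single_apply, Finset.sum_add_distrib,
    ite_and, Finset.sum_ite_eq, Finset.sum_ite_eq', Finset.mem_univ, if_true]
  rcases lt_trichotomy a b with h | rfl | h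
  · simp [h.le, not_lt.2 h.le]
  · simp
  · simp [not_le.2 h, h, hs a b]

theorem mem_of_parts {N : AddSubgroup Mm} (hpair : ∀ a b : Fin m, a ≠ b → ∀ c : F, pairM a b c ∈ N)
    (hdiag : ∀ (a : Fin m) (c : F), Matrix.single a a c ∈ N) {X : Mm} (hX : Xᵀ = X) : X ∈ N := by
  rw [eq_sum_parts hX]
  refine N.sum_mem fun i _ => N.sum_mem fun j _ => ?_
  rcases lt_trichotomy i j with h | rfl | h
  · rw [if_pos h.le, if_pos h]
    exact hpair i j h.ne _
  · rw [if_pos le_rfl, if_neg (lt_irrefl _), Matrix.single_zero, add_zero]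
    exact hdiag i _
  · rw [if_neg (not_le.2 h), if_neg (not_lt.2 h.le), Matrix.single_zero, Matrix.single_zero, add_zero]
    exact N.zero_mem

include p in
theorem closedTrivial (hm : 2 ≤ m) (hex : m = 2 → 3 ≤ Fintype.card F) :
    ClosedTrivial (U' (F := F) (m := m)) := by
  classical
  have hm1 : 1 ≤ m := by omega
  intro T hTU hT0 hc
  obtain ⟨k, hk⟩ := exists_pow_eq_one (F := F) (m := m) p
  have hUp : IsPGroup p (U' (F := F) (m := m)) := (isPGroup_spU (F := F) (m := m) p).map pr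
  haveI : Finite (U' (F := F) (m := m)) := inferInstance
  haveI := hUp.isNilpotent
  haveI : (T.subgroupOf (U' (F := F) (m := m))).Normal :=
    ⟨fun x hx g => hc _ hx _ (g * x * g⁻¹).2⟩
  have hne : T.subgroupOf (U' (F := F) (m := m)) ≠ ⊥ := fun e => hT0 (by
    rw [Subgroup.eq_bot_iff_forall] at e ⊢
    exact fun x hx => congrArg Subtype.val (e ⟨x, hTU hx⟩ hx))
  obtain ⟨⟨⟨_, u, hu, rfl⟩, hmem⟩, hne1⟩ :
      ∃ z : ↥(T.subgroupOf (U' (F := F) (m := m)) ⊓ Subgroup.center _), z ≠ 1 := by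
    by_contra hcon
    push Not at hcon
    exact Cfsg.Agent.Lib.Solvable.inf_center_ne_bot hne
      ((Subgroup.eq_bot_iff_forall _).2 fun z hz => congrArg Subtype.val (hcon ⟨z, hz⟩))
  obtain ⟨huT, huc⟩ := hmem
  have hucomm : ∀ t ∈ spU (F := F) (m := m), u * t = t * u := fun t ht => by
    refine eq_of_pr p hm1 (hk _ (mul_mem hu ht)) (hk _ (mul_mem ht hu)) ?_
    rw [map_mul, map_mul]
    exact (congrArg Subtype.val
      (Subgroup.mem_center_iff.1 huc ⟨pr t, Subgroup.mem_map_of_mem pr ht⟩)).symm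
  obtain ⟨A, hA, X, hX, rfl⟩ := hu
  -- the Levi part is trivial
  have hA1 : A = 1 := by
    have h1 : (1 : Mm)ᵀ = 1 := Matrix.transpose_one
    have hcomm := hucomm _ (spN_mem 1 h1)
    have h2 : lev (toG A) * spN 1 h1 = spN 1 h1 * lev (toG A) := by
      refine mul_right_cancel (b := spN X hX) ?_
      rw [mul_assoc, spN_mul 1 X h1 hX, spN_congr _ (by rw [Matrix.transpose_add, hX, h1]) (add_comm 1 X), ← spN_mul X 1 hX h1,
        ← mul_assoc, hcomm, ← mul_assoc]
    rw [lev_mul_spN] at h2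
    have h3 : (toG A).1 * (1 : Mm) * (toG A).1ᵀ = 1 := by
      have := congrArg (fun g : Spm => g.1.toBlocks₁₂) (mul_right_cancel h2)
      simpa [spN_coe] using this
    rw [mul_one, toG_coe] at h3
    have h4 : ((A⁻¹ : Matrix.SpecialLinearGroup (Fin m) F) : Mm) = (A : Mm)ᵀ := by
      calc ((A⁻¹ : Matrix.SpecialLinearGroup (Fin m) F) : Mm)
          = ((A⁻¹ : Matrix.SpecialLinearGroup (Fin m) F) : Mm) * ((A : Mm) * (A : Mm)ᵀ) := by
            rw [h3, mul_one]
        _ = (A : Mm)ᵀ := by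
            rw [← mul_assoc, ← Matrix.SpecialLinearGroup.coe_mul, inv_mul_cancel,
              Matrix.SpecialLinearGroup.coe_one, one_mul]
    refine sl_ext (Matrix.ext fun i j => ?_)
    rw [Matrix.SpecialLinearGroup.coe_one, Matrix.one_apply]
    rcases le_or_gt j i with h | h
    · exact hA i j h
    · have h5 := (inv_mem hA) j i h.le
      rw [h4, Matrix.transpose_apply, if_neg h.ne'] at h5
      rw [h5, if_neg h.ne]
  subst hA1
  have hX0 : X ≠ 0 := fun h0 => hne1 (Subtype.ext (Subtype.ext (by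
    show pr (lev (toG 1) * spN X hX) = 1
    rw [map_one, map_one, one_mul, spN_congr hX Matrix.transpose_zero h0, spN_zero, map_one])))
  let N : AddSubgroup Mm :=
    { carrier := {B | ∃ h : Bᵀ = B, pr (spN B h) ∈ T}
      zero_mem' := ⟨Matrix.transpose_zero, by rw [spN_zero, map_one]; exact T.one_mem⟩
      add_mem' := fun {B C} ⟨hB, hBT⟩ ⟨hC, hCT⟩ => ⟨by rw [Matrix.transpose_add, hB, hC], by
        have := T.mul_mem hBT hCT
        rwa [← map_mul, spN_mul] at this⟩
      neg_mem' := fun {B} ⟨hB, hBT⟩ => ⟨by rw [Matrix.transpose_neg, hB], by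
        have := T.inv_mem hBT
        rwa [← map_inv, spN_inv] at this⟩ }
  have hinv : ∀ (A : GL (Fin m) F), ∀ B ∈ N, A.1 * B * A.1ᵀ ∈ N := by
    rintro A B ⟨hB, hBT⟩
    refine ⟨transpose_conj_symm hB, ?_⟩
    have e : pr (lev A) * pr (spN B hB) * (pr (lev A))⁻¹ =
        pr (spN _ (transpose_conj_symm (A := A.1) hB)) := by
      rw [← map_inv, ← map_mul, ← map_mul, lev_conj_spN]
    rw [← e]
    refine hc _ hBT _ ?_
    rw [e]
    exact Subgroup.mem_map_of_mem pr (spN_mem _ _)
  have hNne : N ≠ ⊥ := fun e => hX0 (by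
    have h1 : X ∈ N := ⟨hX, by
      show pr (spN X hX) ∈ T
      have : pr (lev (toG 1) * spN X hX) ∈ T := huT
      simpa only [map_one, one_mul] using this⟩
    rwa [e, AddSubgroup.mem_bot] at h1)
  have hq : m = 2 → ∃ t : F, t ≠ 0 ∧ t ≠ 1 := fun e => by
    by_contra hcon
    push Not at hcon
    have h1 : (Finset.univ : Finset F) ⊆ {0, 1} := fun c _ => by
      rcases eq_or_ne c 0 with h | h
      · simp [h]
      · simp [hcon c h]
    have h2 := (Finset.card_le_card h1).trans Finset.card_le_two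
    simp only [Finset.card_univ] at h2
    have := hex e
    omega
  obtain ⟨i₁, l₁, c₁, hil, hc₁, hpm⟩ := exists_pair (N := N) (fun B hB => by obtain ⟨h, -⟩ := hB; exact h) hinv hNne hm hq
  have hpair := pairs_mem hinv hil hc₁ hpm
  -- Levi transvections
  have hlev : ∀ (i j : Fin m) (hij : i < j) (c : F), pr (lev (toG (et i j hij.ne c))) ∈ T := by
    intro i j hij c
    obtain ⟨h, hT'⟩ := hpair i j hij.ne c
    have e : pr (weyl j) * pr (spN (pairM i j c) h) * (pr (weyl (F := F) j))⁻¹ =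
        pr (lev (toG (et i j hij.ne c))) := by
      rw [← map_inv, ← map_mul, ← map_mul, weyl_conj hij.ne]
    rw [← e]
    refine hc _ hT' _ ?_
    rw [e]
    exact Subgroup.mem_map_of_mem pr (lev_mem (et_mem_upperUni hij c))
  let f : Fin m := ⟨0, by omega⟩
  let g : Fin m := ⟨1, by omega⟩
  have hfg : f < g := Fin.lt_def.2 Nat.zero_lt_one
  have hff : ∀ c : F, Matrix.single f f c ∈ N := by
    intro s
    set x := lev (toG (et f g hfg.ne (1 : F))) with hx
    set y := spN (Matrix.single g g s) (single_symm g s) with hy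
    have h1 : pr (x * y * x⁻¹ * y⁻¹) ∈ T := by
      rw [show x * y * x⁻¹ * y⁻¹ = x * (y * x⁻¹ * y⁻¹) by group, map_mul]
      refine T.mul_mem (hlev f g hfg 1) ?_
      rw [map_mul, map_mul, map_inv, map_inv]
      refine hc _ (T.inv_mem (hlev f g hfg 1)) _ ?_
      exact mul_mem (mul_mem (Subgroup.mem_map_of_mem pr (spN_mem _ _))
        (inv_mem (Subgroup.mem_map_of_mem pr (lev_mem (et_mem_upperUni hfg 1)))))
        (inv_mem (Subgroup.mem_map_of_mem pr (spN_mem _ _)))
    rw [hx, hy, lev_conj_spN, spN_inv, spN_mul] at h1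
    have hN : ∀ B (h : Bᵀ = B), pr (spN B h) ∈ T → B ∈ N := fun B h h' => ⟨h, h'⟩
    have h2 := N.sub_mem (hN _ _ h1) (hpair f g hfg.ne s)
    convert h2 using 1
    rw [← sub_eq_add_neg, elem_mem_GL, congr_elem]
    simp [pairM, Matrix.single_mul_single_of_ne _ _ _ _ hfg.ne]

  have hdiag : ∀ (a : Fin m) (c : F), Matrix.single a a c ∈ N := by
    intro a c
    rcases eq_or_ne a f with rfl | haf
    · exact hff c
    have h1 := N.sub_mem (N.sub_mem (hinv (toG (et a f haf (1 : F))) _ (hff c)) (hff c))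
      (hpair a f haf c)
    rw [elem_mem_GL, congr_elem] at h1
    convert h1 using 1
    simp [pairM]

  refine le_antisymm hTU ?_
  rintro _ ⟨_, ⟨B, hB, Y, hY, rfl⟩, rfl⟩
  rw [map_mul]
  refine T.mul_mem
    (upperUni_le (H := T.comap (pr.comp ((lev (F := F) (m := m)).comp toG))) hlev hB) ?_
  obtain ⟨_, hh⟩ := mem_of_parts hpair hdiag hY
  exact hh

/-! ### The normalizer -/

/-- The radical of the Siegel parabolic. -/
def siegel : Subgroup Spm where
  carrier := {g | ∃ (X : Mm) (hX : Xᵀ = X), g = spN X hX}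
  one_mem' := ⟨0, Matrix.transpose_zero, spN_zero.symm⟩
  mul_mem' := by
    rintro _ _ ⟨X, hX, rfl⟩ ⟨Y, hY, rfl⟩
    exact ⟨_, _, spN_mul X Y hX hY⟩
  inv_mem' := by
    rintro _ ⟨X, hX, rfl⟩
    exact ⟨_, _, spN_inv X hX⟩

theorem conj_rad {e : Vm} {h g : Spm} (hh : h.1 *ᵥ e = e)
    (hg : g ∈ (rad (F := F) (m := m) e).map (stab e).subtype) :
    h * g * h⁻¹ ∈ (rad (F := F) (m := m) e).map (stab e).subtype := by
  obtain ⟨⟨g, hgs⟩, hgr, rfl⟩ := hg
  have hi : (h⁻¹).1 *ᵥ e = e := (stab e).inv_mem hh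
  refine ⟨⟨h * g * h⁻¹, mul_mem (mul_mem (show h ∈ stab e from hh) hgs) (inv_mem (show h ∈ stab e from hh))⟩,
    fun w hw => ?_, rfl⟩
  have hw' : ω e ((h⁻¹).1 *ᵥ w) = 0 := by
    conv_lhs => rw [← hi]
    rw [sp_form, hw]
  obtain ⟨a, ha⟩ := hgr _ hw'
  refine ⟨a, ?_⟩
  show (h * g * h⁻¹).1 *ᵥ w = _
  rw [sp_mulVec_mul, sp_mulVec_mul, ha, Matrix.mulVec_add, Matrix.mulVec_smul, hh,
    sp_mulVec_inv_cancel]

include p in
theorem dg_last_eq (l : Fin m) (a : Fˣ) :
    lev (dgGL (Pi.mulSingle l a)) = spT (E l : Vm) (a : F) * spT (Fv l) (a⁻¹ : F) *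
      spT (E l) (a : F) * spT (E l) (-1) * spT (Fv l) (-1) * spT (E l) (-1) := by
  refine sp_ext fun x => funext fun k => ?_
  rw [lev_dg_coe, Matrix.mulVec_diagonal]
  simp only [sp_mulVec_mul, spT_mulVec, form_E, form_Fv, Pi.add_apply, Pi.smul_apply, smul_eq_mul]
  have ha := Units.ne_zero a
  rcases k with k | k <;> rcases eq_or_ne k l with rfl | hk
  · simp [E, Fv]
    field_simp
    ring
  · simp [E, Fv, hk]
  · simp [E, Fv]
    field_simp
    ring
  · simp [E, Fv, hk]

include p in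
theorem normalizer_le (hm : 2 ≤ m) :
    Subgroup.normalizer ((U' (F := F) (m := m) : Subgroup PSpm) : Set PSpm) ≤
      Subgroup.closure ((U' (F := F) (m := m) : Set PSpm) ∪ GoodElts p (U' (F := F) (m := m))) := by
  classical
  have hm1 : 1 ≤ m := by omega
  obtain ⟨k, hk⟩ := exists_pow_eq_one (F := F) (m := m) p
  set H := Subgroup.closure ((U' (F := F) (m := m) : Set PSpm) ∪ GoodElts p (U' (F := F) (m := m)))
  let f : Fin m := ⟨0, by omega⟩
  let l : Fin m := ⟨m - 1, by omega⟩
  have hfl : f ≠ l := Fin.ne_of_val_ne (show 0 ≠ m - 1 by omega)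
  -- the Siegel parabolic
  have hsU : siegel ≤ spU (F := F) (m := m) := by
    rintro _ ⟨X, hX, rfl⟩
    exact spN_mem X hX
  have hsN : ∀ (A : GL (Fin m) F), ∀ q ∈ siegel (F := F) (m := m), lev A * q * (lev A)⁻¹ ∈ siegel := by
    rintro A _ ⟨X, hX, rfl⟩
    exact ⟨_, _, lev_conj_spN A X hX⟩
  have hsC : Subgroup.centralizer (((siegel (F := F) (m := m)).map pr : Subgroup PSpm) : Set PSpm) ≤
      U' (F := F) (m := m) := by
    intro x hx
    obtain ⟨⟨M, hM⟩, rfl⟩ := pr_surjective x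
    obtain ⟨A, B, C, D, rfl⟩ : ∃ A B C D, M = Matrix.fromBlocks A B C D :=
      ⟨M.toBlocks₁₁, M.toBlocks₁₂, M.toBlocks₂₁, M.toBlocks₂₂, (Matrix.fromBlocks_toBlocks M).symm⟩
    have hY : ∀ Y : Mm, Yᵀ = Y → Y * C = 0 ∧ A * Y = Y * D := by
      intro Y hY
      set s : Spm := ⟨Matrix.fromBlocks A B C D, hM⟩ with hs
      have h1 : s * spN Y hY * s⁻¹ = spN Y hY := by
        refine eq_of_pr p hm1 ?_ (hk _ (spN_mem Y hY)) ?_
        · rw [conj_pow, hk _ (spN_mem Y hY)]; group
        · rw [map_mul, map_mul, map_inv, mul_inv_eq_iff_eq_mul]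
          exact (hx _ (Subgroup.mem_map_of_mem pr ⟨Y, hY, rfl⟩)).symm
      rw [mul_inv_eq_iff_eq_mul] at h1
      have h2 : Matrix.fromBlocks A B C D * Matrix.fromBlocks 1 Y 0 1 =
          Matrix.fromBlocks 1 Y 0 1 * Matrix.fromBlocks A B C D := congrArg Subtype.val h1
      rw [Matrix.fromBlocks_multiply, Matrix.fromBlocks_multiply, Matrix.fromBlocks_inj] at h2
      obtain ⟨e1, e2, -, -⟩ := h2
      simp only [Matrix.mul_one, Matrix.mul_zero, Matrix.one_mul, add_zero] at e1 e2
      refine ⟨?_, ?_⟩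
      · exact (add_eq_left.1 e1.symm)
      · rw [add_comm (A * Y)] at e2
        exact add_left_cancel e2
    have hC : C = 0 := by simpa using (hY 1 Matrix.transpose_one).1
    have hD : A = D := by simpa using (hY 1 Matrix.transpose_one).2
    subst hC hD
    have hoff : ∀ a b : Fin m, a ≠ b → A a b = 0 := fun a b hab => by
      have := congrFun (congrFun (hY _ (single_symm b 1)).2 a) b
      rw [Matrix.mul_single_apply_same, mul_one, Matrix.single_mul_apply_of_ne _ _ _ _ _ hab] at this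
      exact this
    have hdg : ∀ a b : Fin m, A a a = A b b := fun a b => by
      rcases eq_or_ne a b with rfl | hab
      · rfl
      have := congrFun (congrFun (hY _ (pairM_symm a b 1)).2 a) b
      simp only [pairM, mul_add, add_mul, Matrix.add_apply, Matrix.mul_single_apply_same,
        Matrix.single_mul_apply_same, Matrix.mul_single_apply_of_ne _ _ _ _ _ hab.symm,
        Matrix.single_mul_apply_of_ne _ _ _ _ _ hab, mul_one, one_mul, add_zero, zero_add] at this
      exact this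
    obtain ⟨-, -, h3⟩ := SymplecticGroup.fromBlocks_mem_iff.1 hM
    have hε : A f f = 1 ∨ A f f = -1 := by
      have := congrFun (congrFun h3 f) f
      rw [Matrix.transpose_zero, Matrix.zero_mul, sub_zero, Matrix.mul_apply,
        Finset.sum_eq_single f (fun b _ hb => by rw [hoff b f hb, mul_zero]) (by simp),
        Matrix.transpose_apply, Matrix.one_apply_eq] at this
      exact mul_self_eq_one_iff.1 this
    refine mem_U'_of_diag hm1 (fun i j h => ?_) hε fun i => hdg i f
    rcases i with i | i <;> rcases j with j | j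
    · exact hoff i j (fun e => absurd h (by rw [e]; exact lt_irrefl _))
    · simp only [key] at h; omega
    · simp
    · exact hoff i j (fun e => absurd h (by rw [e]; exact lt_irrefl _))
  have hU2 : U' (F := F) (m := m) ≤
      Subgroup.normalizer (((siegel (F := F) (m := m)).map pr : Subgroup PSpm) : Set PSpm) := by
    rintro _ ⟨_, ⟨B, hB, Y, hY, rfl⟩, rfl⟩
    refine mem_normalizer_map_pr p _ ?_
    rintro _ ⟨X, hX, rfl⟩
    rw [_root_.mul_inv_rev, show lev (toG B) * spN Y hY * spN X hX * ((spN Y hY)⁻¹ * (lev (toG B))⁻¹) =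
      lev (toG B) * (spN Y hY * spN X hX * (spN Y hY)⁻¹) * (lev (toG B))⁻¹ by group]
    exact hsN _ _ ⟨X, hX, by rw [spN_mul, spN_congr _ (by rw [Matrix.transpose_add, hX, hY]) (add_comm Y X), ← spN_mul X Y hX hY,
      mul_inv_cancel_right]⟩
  have hgood2 : ∀ (d : Fin m → Fˣ) (_ : ∏ i, d i = 1), pr (lev (dgGL d)) ∈ H := by
    intro d hd
    refine Subgroup.subset_closure (Or.inr ⟨dg_normalizes p d, (siegel (F := F) (m := m)).map pr,
      Subgroup.map_mono hsU, hU2, hsC, ?_⟩)
    have het : ∀ (i j : Fin m) (hij : i ≠ j) (c : F), pr (lev (toG (et i j hij c))) ∈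
        Subgroup.closure (pElts p ((siegel (F := F) (m := m)).map pr)) := fun i j hij c =>
      Subgroup.subset_closure ⟨mem_normalizer_map_pr p _ (hsN _), 1, by
        rw [pow_one, ← map_pow, ← map_pow, ← map_pow, et, tvs_pow_char, map_one, map_one, map_one]⟩
    have h1 := dgSL_mem (H := (Subgroup.closure (pElts p ((siegel (F := F) (m := m)).map pr))).comap
      (pr.comp ((lev (F := F) (m := m)).comp toG))) (m := f) (Finset.univ.erase f) (by simp)
      (fun i _ hif a ha => ?_) d hd (fun i hi hif => by simp [hif] at hi)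
    · rw [← dg_toG d hd]
      exact h1
    · rw [Subgroup.mem_comap, diag2n_eq_transvections hif a ha, ← et_eq_transvection,
        ← et_eq_transvection, ← et_eq_transvection, ← et_eq_transvection]
      simp only [map_mul]
      have h1 := het i f hif
      have h2 := het f i hif.symm
      exact mul_mem (mul_mem (mul_mem (mul_mem (mul_mem (h1 _) (h2 _)) (h1 _)) (h1 _)) (h2 _)) (h1 _)
  -- the point stabiliser
  set e : Vm := E f with he
  have he0 : e ≠ 0 := E_ne_zero f
  set Q : Subgroup Spm := (rad e).map (stab e).subtype with hQ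
  have hQU : Q ≤ spU (F := F) (m := m) := by
    rintro _ ⟨⟨g, hgs⟩, hgr, rfl⟩
    have hcol : ∀ j : Fin m ⊕ Fin m, j ≠ Sum.inr f → ∃ a : F, ∀ r,
        g.1 r j = (if r = j then 1 else 0) + (if r = Sum.inl f then a else 0) := fun j hj => by
      obtain ⟨a, ha⟩ := hgr (Pi.single j 1) (by
        rw [sympForm_swap, he, form_E, Pi.single_eq_of_ne hj.symm, neg_zero])
      refine ⟨a, fun r => ?_⟩
      have := congrFun ha r
      rw [Matrix.mulVec_single_one] at this
      simpa [e, E, Pi.single_apply] using this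
    have hef : ∀ r, g.1 r (Sum.inl f) = if r = Sum.inl f then 1 else 0 := fun r => by
      have := congrFun (show g.1 *ᵥ e = e from hgs) r
      simpa [e, E, Matrix.mulVec_single_one, Pi.single_apply] using this
    refine mem_spU_of_upper (fun i j h => ?_) fun i => ?_
    · show g.1 i j = 0
      have hij : i ≠ j := fun e => absurd h (by rw [e]; exact lt_irrefl _)
      rcases eq_or_ne j (Sum.inr f) with rfl | hj
      · rcases i with i | i <;> simp only [key, f] at h <;> omega
      · obtain ⟨a, ha⟩ := hcol j hj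
        rw [ha, if_neg hij, if_neg, add_zero]
        rintro rfl
        simp only [key, f] at h
        omega
    · show g.1 (Sum.inl i) (Sum.inl i) = 1
      rcases eq_or_ne i f with rfl | hif
      · rw [hef, if_pos rfl]
      · obtain ⟨a, ha⟩ := hcol (Sum.inl i) (by simp)
        rw [ha, if_pos rfl, if_neg (by simpa using hif), add_zero]
  have hU1 : U' (F := F) (m := m) ≤ Subgroup.normalizer ((Q.map pr : Subgroup PSpm) : Set PSpm) := by
    rintro _ ⟨u, hu, rfl⟩
    refine mem_normalizer_map_pr p _ fun q hq => conj_rad ?_ hq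
    obtain ⟨hup, hud⟩ := spU_uni hu
    funext r
    rw [he, E, Matrix.mulVec_single_one, Matrix.col_apply]
    rcases eq_or_ne r (Sum.inl f) with rfl | hr
    · rw [hud, Pi.single_eq_same]
    · rw [Pi.single_eq_of_ne hr, hup]
      have : key r ≠ key (Sum.inl f) := fun e => hr (key_injective e)
      simp only [key, f] at this ⊢
      omega
  have hC1 : Subgroup.centralizer ((Q.map pr : Subgroup PSpm) : Set PSpm) ≤ U' (F := F) (m := m) := by
    intro x hx
    obtain ⟨s, rfl⟩ := pr_surjective x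
    have hcomm : ∀ g ∈ Q, s * g * s⁻¹ = g := fun g hg => by
      have hgk := hk g (hQU hg)
      refine eq_of_pr p hm1 ?_ hgk ?_
      · rw [conj_pow, hgk]; group
      · rw [map_mul, map_mul, map_inv, mul_inv_eq_iff_eq_mul]
        exact (hx _ (Subgroup.mem_map_of_mem pr hg)).symm
    have hT : spT e (1 : F) ∈ Q :=
      ⟨⟨spT e 1, show (spT e 1).1 *ᵥ e = e by
        rw [spT_mulVec, sympForm_self, mul_zero, zero_smul, add_zero]⟩,
        fun w hw => ⟨1 * ω w e, by show (spT e 1).1 *ᵥ w = _; rw [spT_mulVec]⟩, rfl⟩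
    have h1 := hcomm _ hT
    rw [spT_conj] at h1
    obtain ⟨a, -, hae, ha2⟩ := spT_eq_imp he0 one_ne_zero h1.symm
    rw [one_mul] at ha2
    obtain ⟨t, ht, hts, htc⟩ : ∃ t : Spm, pr t = pr s ∧ t.1 *ᵥ e = e ∧
        ∀ g ∈ Q, t * g = g * t := by
      have hs : ∀ g ∈ Q, s * g = g * s := fun g hg => mul_inv_eq_iff_eq_mul.1 (hcomm g hg)
      rcases mul_self_eq_one_iff.1 ha2 with rfl | rfl
      · exact ⟨s, rfl, by rw [hae, one_smul], hs⟩
      · refine ⟨lev (-1 : GL (Fin m) F) * s, pr_negOne_mul hm1 s, ?_, fun g hg => ?_⟩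
        · rw [sp_mulVec_mul, negOne_coe, hae, Matrix.neg_mulVec, Matrix.one_mulVec, neg_one_smul,
            neg_neg]
        · rw [mul_assoc, hs g hg, ← mul_assoc, ← Subgroup.mem_center_iff.1 (negOne_mem_center hm1) g,
            mul_assoc]
    rw [← ht]
    refine Subgroup.mem_map_of_mem pr (hQU ⟨⟨t, hts⟩, fun w hw => ?_, rfl⟩)
    have hE : ∀ w, ω e w = 0 → eich e w ∈ Q := fun w hw => by
      refine ⟨⟨eich e w, show (eich e w).1 *ᵥ e = e by
        rw [eich_mulVec hw, sympForm_self, hw, zero_smul, add_zero, zero_smul, add_zero]⟩,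
        fun v hv => ⟨ω v w, ?_⟩, rfl⟩
      show (eich e w).1 *ᵥ v = _
      rw [eich_mulVec hw, show ω v e = 0 by rw [sympForm_swap, hv, neg_zero], zero_smul, add_zero]
    obtain ⟨a, ha, -⟩ := commute_eich he0 hts (fun w hw => htc _ (hE w hw)) hw
    exact ⟨a, ha⟩
  have hgood1 : ∀ a : Fˣ, pr (lev (dgGL (Pi.mulSingle l a))) ∈ H := by
    intro a
    refine Subgroup.subset_closure (Or.inr ⟨dg_normalizes p _, Q.map pr, Subgroup.map_mono hQU,
      hU1, hC1, ?_⟩)
    have hgen : ∀ (v : Vm) (c : F), ω e v = 0 →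
        pr (spT v c) ∈ Subgroup.closure (pElts p (Q.map pr)) := fun v c hv =>
      Subgroup.subset_closure ⟨mem_normalizer_map_pr p _ (fun q hq => conj_rad (by
        rw [spT_mulVec, hv, mul_zero, zero_smul, add_zero]) hq), 1, by
        rw [pow_one, ← map_pow, spT_pow_char, map_one]⟩
    have h1 : ω e (E l) = 0 := by rw [form_E, he, E]; simp
    have h2 : ω e (Fv l) = 0 := by rw [form_Fv, he, E]; simp [hfl.symm]
    rw [dg_last_eq p]
    simp only [map_mul]
    exact mul_mem (mul_mem (mul_mem (mul_mem (mul_mem (hgen _ _ h1) (hgen _ _ h2)) (hgen _ _ h1))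
      (hgen _ _ h1)) (hgen _ _ h2)) (hgen _ _ h1)
  -- assembling
  intro x hx
  obtain ⟨s, rfl⟩ := pr_surjective x
  obtain ⟨A, X, hX, rfl, hA, -⟩ := exists_decomp (upper_of_normalizes p hm hx)
  have hdet : A.1.det = ∏ i, A.1 i i := Matrix.det_of_upperTriangular fun i j (h : j < i) => hA i j h
  have hne : ∀ i, A.1 i i ≠ 0 := fun i h0 => ((Matrix.isUnit_iff_isUnit_det A.1).1 A.isUnit).ne_zero
    (hdet.trans (Finset.prod_eq_zero (f := fun i => A.1 i i) (Finset.mem_univ i) h0))
  let d : Fin m → Fˣ := fun i => Units.mk0 _ (hne i)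
  have huni : IsUni ((dgGL d⁻¹ * A : GL (Fin m) F) : Mm) := fun i j hji => by
    show (Matrix.diagonal (fun i => ((d⁻¹) i : F)) * A.1) i j = _
    rw [Matrix.diagonal_mul]
    rcases eq_or_lt_of_le hji with rfl | hlt
    · simp [d, hne j]
    · rw [hA i j hlt, mul_zero, if_neg hlt.ne']
  have hA' : A = dgGL d * toG ⟨_, huni.det⟩ := by
    refine Units.ext ?_
    rw [Units.val_mul]
    erw [toG_coe]
    show _ = (dgGL d).1 * ((dgGL d⁻¹).1 * A.1)
    rw [← mul_assoc, ← Units.val_mul, dgGL_mul, mul_inv_cancel,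
      show (dgGL (1 : Fin m → Fˣ) : GL (Fin m) F).1 = 1 from Matrix.diagonal_one, one_mul]
  rw [hA', map_mul lev, mul_assoc, map_mul pr]
  refine H.mul_mem ?_ (Subgroup.subset_closure (Or.inl (Subgroup.mem_map_of_mem pr
    ⟨_, huni, X, hX, rfl⟩)))
  have e : d = (d * Pi.mulSingle l (∏ i, d i)⁻¹) * Pi.mulSingle l (∏ i, d i) := by
    rw [mul_assoc, ← Pi.mulSingle_mul, inv_mul_cancel, Pi.mulSingle_one, mul_one]
  rw [e, ← dgGL_mul, map_mul, map_mul]
  exact H.mul_mem (hgood2 _ (by simp [Finset.prod_mul_distrib])) (hgood1 _)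

end Cfsg.Agent.Lib.Fusion.PSpBorel
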