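import Cfsg.Agent.Lib.Fusion.GroupSystem
import Cfsg.Agent.Lib.Fusion.ConstrainedSub
import Cfsg.Agent.Lib.Cores
import Cfsg.Prelude.Def_LocalEven

/-!
`p`-stability of fusion systems.
-/

set_option autoImplicit false
set_option linter.unusedSectionVars false

namespace Cfsg.Agent.Lib.Fusion

open Cfsg Cfsg.FusionSystem
open scoped commutatorElement

universe u

/-- Quadratic action. -/
def QuadAct {Q : Type u} [Group Q] (χ : MulAut Q) : Prop :=
  ∀ a : Q, (χ a⁻¹) * a * (χ a⁻¹) * (χ (χ a)) = 1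

theorem quadAct_iff {Q : Type u} [Group Q] {χ : MulAut Q} :
    QuadAct χ ↔ ∀ a : Q, χ (a⁻¹ * χ a) = a⁻¹ * χ a := by
  have key : ∀ a : Q, (χ a⁻¹) * a * (χ a⁻¹) * (χ (χ a)) = 1 ↔ χ (a⁻¹ * χ a) = a⁻¹ * χ a := by
    intro a
    rw [map_mul, map_inv]
    constructor
    · intro h
      rw [eq_inv_of_mul_eq_one_right h]
      group
    · intro h
      have h' : χ (χ a) = χ a * (a⁻¹ * χ a) := by rw [← h, mul_inv_cancel_left]
      rw [h']
      group
  exact ⟨fun h a => (key a).1 (h a), fun h a => (key a).2 (h a)⟩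

theorem QuadAct.congr {P Q : Type u} [Group P] [Group Q] (e : P ≃* Q) {χ : MulAut P}
    (h : QuadAct χ) : QuadAct (MulAut.congr e χ) := by
  intro a
  obtain ⟨b, rfl⟩ := e.surjective a
  show e (χ (e.symm (e b)⁻¹)) * e b * e (χ (e.symm (e b)⁻¹)) *
    e (χ (e.symm (e (χ (e.symm (e b)))))) = 1
  simp only [map_inv, e.symm_apply_apply]
  rw [← map_inv e, ← map_mul, ← map_mul, ← map_mul, ← map_inv, h b, map_one]

/-- Quadratic elements of `A` lie in `O_p(A)`. -/
def StableAt (p : ℕ) {Q : Type u} [Group Q] (A : Subgroup (MulAut Q)) : Prop :=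
  ∀ χ ∈ A, QuadAct χ → χ ∈ (pCore p A).map A.subtype

variable {p : ℕ} [Fact p.Prime]

theorem StableAt.map_congr {P Q : Type u} [Group P] [Group Q] (e : P ≃* Q)
    {A : Subgroup (MulAut P)} (h : StableAt p A) :
    StableAt p (A.map (MulAut.congr e).toMonoidHom) := by
  rintro _ ⟨χ, hχ, rfl⟩ hq
  have hq' : QuadAct χ := by
    have := hq.congr e.symm
    rwa [show MulAut.congr e.symm ((MulAut.congr e).toMonoidHom χ) = χ from
      MulEquiv.ext fun x => by simp [MulAut.congr]] at this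
  obtain ⟨y, hy, rfl⟩ := h χ hχ hq'
  let f := A.equivMapOfInjective (MulAut.congr e).toMonoidHom (MulAut.congr e).injective
  exact ⟨f y, (Cores.map_pCore_equiv (p := p) f).le ⟨y, hy, rfl⟩, rfl⟩

theorem StableAt.mono {Q : Type u} [Group Q] {A B : Subgroup (MulAut Q)} (hBA : B ≤ A)
    (h : StableAt p A) : StableAt p B := by
  intro χ hχ hq
  obtain ⟨⟨y, hyA⟩, hy, rfl⟩ := h χ (hBA hχ) hq
  refine ⟨⟨y, hχ⟩, ?_, rfl⟩
  let i : B →* A := Subgroup.inclusion hBA
  have hn : ((pCore p A).comap i).Normal := (pCore_normal p A).comap i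
  exact Cores.le_pCore hn ((Cores.pCore_isPGroup p A).comap_of_injective i
    (Subgroup.inclusion_injective hBA)) hy

variable {Ω : Type u} [Group Ω] {S : Subgroup Ω}

theorem autGroup_map_congr (F : FusionSystem S) {P Q : Subgroup Ω} {φ : P →* Ω}
    (hφ : φ ∈ F.Hom P) (hQ : φ.range = Q) :
    (F.autGroup P).map (MulAut.congr (isoOf φ (F.injective_of_mem hφ) hQ)).toMonoidHom =
      F.autGroup Q := by
  refine le_antisymm ?_ fun β hβ => ?_
  · rintro _ ⟨α, hα, rfl⟩
    exact exists_mulAut_congr F hφ hQ hα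
  · obtain ⟨ψ, hψ, hr, he⟩ := isoOf_symm_eq F hφ hQ
    have h := exists_mulAut_congr F hψ hr hβ
    rw [he, congr_symm_eq] at h
    exact ⟨_, h, MulEquiv.apply_symm_apply _ β⟩

theorem StableAt.of_isConj {F : FusionSystem S} {P Q : Subgroup Ω}
    (h : StableAt p (F.autGroup P)) (hPQ : F.IsConj P Q) : StableAt p (F.autGroup Q) := by
  obtain ⟨φ, hφ, hr⟩ := hPQ
  rw [← autGroup_map_congr F hφ hr]
  exact h.map_congr _

theorem stableAt_all [Finite S] {F : FusionSystem S}
    (h : ∀ Q : Subgroup Ω, F.IsFullyNormalized Q → StableAt p (F.autGroup Q)) {Q : Subgroup Ω}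
    (hQ : Q ≤ S) : StableAt p (F.autGroup Q) := by
  obtain ⟨R, hR, hRn⟩ := exists_fullyNormalized F hQ
  exact (h R hRn).of_isConj (isConj_symm hR)

/-- In cyclic subgroups every quadratic automorphism is harmless. -/
theorem stableAt_of_isCyclic {Q : Type u} [Group Q] [Finite Q] [IsCyclic Q] (hQ : IsPGroup p Q)
    (A : Subgroup (MulAut Q)) : StableAt p A := by
  intro χ hχ hq
  have hcomm : ∀ α β : MulAut Q, α * β = β * α := by
    obtain ⟨g, hg⟩ := IsCyclic.exists_generator (α := Q)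
    intro α β
    obtain ⟨i, hi⟩ := hg (α g)
    obtain ⟨j, hj⟩ := hg (β g)
    refine MulEquiv.ext fun x => ?_
    obtain ⟨k, rfl⟩ := hg x
    have hi' : α g = g ^ i := hi.symm
    have hj' : β g = g ^ j := hj.symm
    simp only [MulAut.mul_apply, map_zpow, hj', hi']
    rw [← zpow_mul, ← zpow_mul, ← zpow_mul, ← zpow_mul]
    congr 1
    ring
  obtain ⟨a, ha⟩ := IsPGroup.iff_card.1 hQ
  have hp : χ ^ p ^ a = 1 := by
    refine MulEquiv.ext fun x => ?_
    have key : ∀ n : ℕ, (χ ^ n) x = x * (x⁻¹ * χ x) ^ n := by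
      intro n
      induction n with
      | zero => simp
      | succ n ih =>
        rw [pow_succ', MulAut.mul_apply, ih, map_mul, map_pow, quadAct_iff.1 hq x,
          pow_succ' (x⁻¹ * χ x), ← mul_assoc x, mul_inv_cancel_left]
    rw [key, ← ha, pow_card_eq_one', mul_one]
    rfl
  let Z : Subgroup A := Subgroup.zpowers ⟨χ, hχ⟩
  have hn : Z.Normal := ⟨fun y hy g => by
    rwa [show g * y * g⁻¹ = y by rw [show g * y = y * g from Subtype.ext (hcomm g y), mul_inv_cancel_right]]⟩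
  have hZ : IsPGroup p Z := by
    rintro ⟨_, i, rfl⟩
    refine ⟨a, Subtype.ext (Subtype.ext ?_)⟩
    show ((χ : MulAut Q) ^ i) ^ p ^ a = 1
    rw [← zpow_natCast, ← zpow_mul, mul_comm, zpow_mul, zpow_natCast, hp, one_zpow]
  exact ⟨⟨χ, hχ⟩, Cores.le_pCore hn hZ (Subgroup.mem_zpowers _), rfl⟩

/-- A system is stable exactly when its local subsystems at noncyclic subgroups are. -/
theorem stable_iff_normalizers [Finite S] (hS : IsPGroup p S) {F : FusionSystem S} :
    (∀ Q : Subgroup Ω, F.IsFullyNormalized Q → StableAt p (F.autGroup Q)) ↔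
      ∀ R : Subgroup Ω, F.IsFullyNormalized R → ¬ IsCyclic ↥R →
        ∀ N : FusionSystem (normalizerIn S R), F.IsNormalizerSystem R N →
          ∀ Q : Subgroup Ω, N.IsFullyNormalized Q → StableAt p (N.autGroup Q) := by
  constructor
  · intro h R hR _ N hN Q hQ
    exact (stableAt_all h (hQ.1.trans (normalizerIn_le S R))).mono
      (Subgroup.closure_mono fun α hα => IsNormalizerSystem.le_system hN hα)
  · intro h Q hQ
    by_cases hc : IsCyclic ↥Q
    · have := finite_of_le hQ.1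
      exact stableAt_of_isCyclic (hS.to_le hQ.1) _
    have hN := normalizerSystem_spec F Q hQ.1
    have : Finite (normalizerIn S Q) := finite_of_le (normalizerIn_le S Q)
    rw [← IsNormalizerSystem.autGroup_eq hN hQ.1]
    exact h Q hQ hc _ hN Q (isFullyNormalized_of_le_normalizer' _ (le_normalizerIn hQ.1)
      fun g hg => hg.2)

variable {G : Type u} [Group G] [Finite G]

/-- Pointwise comparison with stability of a group. -/
theorem stableAt_autInducedBy_iff (Q : Subgroup G) :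
    StableAt p (autInducedBy ⊤ Q) ↔ ∀ (g : G) (hg : g ∈ Subgroup.normalizer (Q : Set G)),
      ⁅⁅Q, Subgroup.zpowers g⁆, Subgroup.zpowers g⁆ = ⊥ →
        (QuotientGroup.mk (s := (Subgroup.centralizer (Q : Set G)).subgroupOf
          (Subgroup.normalizer (Q : Set G))) (⟨g, hg⟩ : ↥(Subgroup.normalizer (Q : Set G)))) ∈
          pCore p (↥(Subgroup.normalizer (Q : Set G)) ⧸
            (Subgroup.centralizer (Q : Set G)).subgroupOf (Subgroup.normalizer (Q : Set G))) := by
  set N := Subgroup.normalizer (Q : Set G)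
  set A := autInducedBy (⊤ : Subgroup G) Q
  let π : N →* A := Q.normalizerMonoidHom.codRestrict A fun g =>
    mem_autInducedBy.2 ⟨g, trivial, fun x => conjAut_coe g.2 x⟩
  have hπs : Function.Surjective π := by
    rintro ⟨α, hα⟩
    obtain ⟨g, hg, -, rfl⟩ := mem_autInducedBy_iff_conjAut.1 hα
    exact ⟨⟨g, hg⟩, rfl⟩
  have hker : (Subgroup.centralizer (Q : Set G)).subgroupOf N = π.ker := by
    rw [MonoidHom.ker_codRestrict, Subgroup.normalizerMonoidHom_ker]
  let e : ↥N ⧸ (Subgroup.centralizer (Q : Set G)).subgroupOf N ≃* A :=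
    (QuotientGroup.quotientMulEquivOfEq hker).trans
      (QuotientGroup.quotientKerEquivOfSurjective π hπs)
  have hmem : ∀ x : N, QuotientGroup.mk x ∈ pCore p (↥N ⧸
      (Subgroup.centralizer (Q : Set G)).subgroupOf N) ↔ π x ∈ pCore p A := by
    intro x
    rw [← Cores.map_pCore_equiv e]
    exact ⟨fun h => ⟨_, h, rfl⟩, fun ⟨y, hy, hye⟩ =>
      (e.injective hye : y = QuotientGroup.mk x) ▸ hy⟩
  have hquad : ∀ (g : G) (hg : g ∈ N),
      QuadAct (conjAut hg) ↔ ⁅⁅Q, Subgroup.zpowers g⁆, Subgroup.zpowers g⁆ = ⊥ := by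
    intro g hg
    rw [quadAct_iff]
    constructor
    · intro h
      rw [Subgroup.commutator_eq_bot_iff_le_centralizer, Subgroup.commutator_le]
      intro a ha y hy
      have hpow : ∀ n : ℕ, ∀ b ∈ Q, Commute g (b⁻¹ * (g ^ n * b * (g ^ n)⁻¹)) := by
        intro n
        induction n with
        | zero => intro b _; simp
        | succ n ih =>
          intro b hb
          have h1 : g ^ n * b * (g ^ n)⁻¹ ∈ Q := conj_mem_of_mem_normalizer (pow_mem hg n) hb
          have h2 : g * ((g ^ n * b * (g ^ n)⁻¹)⁻¹ * (g * (g ^ n * b * (g ^ n)⁻¹) * g⁻¹)) * g⁻¹ =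
              (g ^ n * b * (g ^ n)⁻¹)⁻¹ * (g * (g ^ n * b * (g ^ n)⁻¹) * g⁻¹) :=
            congrArg Subtype.val (h ⟨_, h1⟩)
          have h3 := mul_inv_eq_iff_eq_mul.1 h2
          rw [show b⁻¹ * (g ^ (n + 1) * b * (g ^ (n + 1))⁻¹) = b⁻¹ * (g ^ n * b * (g ^ n)⁻¹) *
            ((g ^ n * b * (g ^ n)⁻¹)⁻¹ * (g * (g ^ n * b * (g ^ n)⁻¹) * g⁻¹)) by
              rw [pow_succ']; group]
          exact (ih b hb).mul_right h3
      obtain ⟨n, rfl⟩ := (isOfFinOrder_of_finite g).mem_powers_iff_mem_zpowers.2 hy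
      rw [Subgroup.mem_centralizer_iff]
      rintro _ ⟨i, rfl⟩
      have h4 := hpow n a⁻¹ (inv_mem ha)
      rw [inv_inv] at h4
      have e : ⁅a, g ^ n⁆ = a * (g ^ n * a⁻¹ * (g ^ n)⁻¹) := by
        rw [commutatorElement_def]; group
      exact ((e ▸ h4 : Commute g ⁅a, g ^ n⁆).zpow_left i).eq
    · intro h a
      refine Subtype.ext ?_
      show g * ((a : G)⁻¹ * (g * (a : G) * g⁻¹)) * g⁻¹ = (a : G)⁻¹ * (g * (a : G) * g⁻¹)
      have h1 : ⁅((a : G))⁻¹, g⁆ ∈ ⁅Q, Subgroup.zpowers g⁆ :=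
        Subgroup.commutator_mem_commutator (inv_mem a.2) (Subgroup.mem_zpowers g)
      have h2 := Subgroup.commutator_mem_commutator h1 (Subgroup.mem_zpowers g)
      rw [h, Subgroup.mem_bot] at h2
      have h3 := commutatorElement_eq_one_iff_mul_comm.1 h2
      rw [show (a : G)⁻¹ * (g * (a : G) * g⁻¹) = ⁅((a : G))⁻¹, g⁆ by
        rw [commutatorElement_def]; group, ← h3, mul_inv_cancel_right]
  constructor
  · intro h g hg hq
    obtain ⟨y, hy, hye⟩ := h _ (π ⟨g, hg⟩).2 ((hquad g hg).2 hq)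
    exact (hmem _).2 (Subtype.ext (a1 := y) (a2 := π ⟨g, hg⟩) hye ▸ hy)
  · intro h χ hχ hq
    obtain ⟨g, hg, -, rfl⟩ := mem_autInducedBy_iff_conjAut.1 hχ
    exact ⟨π ⟨g, hg⟩, (hmem _).1 (h g hg ((hquad g hg).1 hq)), rfl⟩

/-- A group is stable exactly when its fusion system is. -/
theorem isNormalizerPStable_iff (P : Sylow p G) :
    IsNormalizerPStable p G ↔ ∀ Q : Subgroup G,
      (groupFusionSystem (P : Subgroup G)).IsFullyNormalized Q →
        StableAt p ((groupFusionSystem (P : Subgroup G)).autGroup Q) := by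
  constructor
  · intro h Q hQ
    rw [autGroup_group hQ.1]
    exact (stableAt_autInducedBy_iff Q).2 (h Q (P.2.to_le hQ.1))
  · intro h Q hQp
    refine (stableAt_autInducedBy_iff Q).1 ?_
    obtain ⟨T, hT⟩ := hQp.exists_le_sylow
    obtain ⟨x, hx⟩ := MulAction.exists_smul_eq G T P
    have hQ' : Q.map (MulAut.conj x).toMonoidHom ≤ (P : Subgroup G) := by
      rw [← hx, Sylow.coe_subgroup_smul]
      exact Subgroup.map_mono hT
    have h1 := stableAt_all h hQ'
    rw [autGroup_group hQ', ← autGroup_group (S := (⊤ : Subgroup G)) le_top] at h1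
    rw [← autGroup_group (S := (⊤ : Subgroup G)) (le_top : Q ≤ ⊤)]
    exact h1.of_isConj (isConj_symm (isConj_group_iff.2 ⟨le_top, le_top, x, rfl⟩))

end Cfsg.Agent.Lib.Fusion
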