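import Cfsg.Agent.Lib.Fusion.SimpleCriterion

/-!
Comparing two saturated systems over the same subgroup whose automorphism groups normalize one
another, and the invariance of the automorphism groups of an invariant subsystem.
-/

set_option autoImplicit false

namespace Cfsg.Agent.Lib.Fusion

open Cfsg Cfsg.FusionSystem

variable {Ω : Type*} [Group Ω] {S T : Subgroup Ω}

/-- In an invariant subsystem the automorphism groups are normalized by those of the big system. -/
theorem conj_mem_autGroup_of_invariant {F : FusionSystem S} {E : FusionSystem T}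
    (hE : E.IsInvariantIn F) (hTS : T ≤ S) {R : Subgroup Ω} (hR : R ≤ T) {α β : MulAut R}
    (hα : α ∈ F.autGroup R) (hβ : β ∈ E.autGroup R) : α * β * α⁻¹ ∈ E.autGroup R := by
  obtain ⟨-, -, hinv, hfr⟩ := hE
  obtain ⟨α₀, hα₀, φ₀, hφ₀, h0⟩ := hfr R hR (autHom α) (autHom_mem F (hR.trans hTS) hα)
  have hβE : autHom β ∈ E.Hom R := autHom_mem E hR hβ
  obtain ⟨ψ, hψ, hψr, hl, -⟩ := exists_inv E hφ₀ rfl
  have hm : ∀ y, ψ y ∈ R := fun y => hψr.le ⟨y, rfl⟩
  have hm2 : ∀ y, compose ψ (autHom β) hm y ∈ R := fun y => (β _).2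
  have hT : φ₀.range ≤ T := range_le hφ₀
  have hc : compose (compose ψ (autHom β) hm) φ₀ hm2 ∈ E.Hom φ₀.range :=
    compose_mem E (compose_mem E hψ hβE hm) hφ₀ hm2
  obtain ⟨χ, hχ, hχe⟩ := hinv _ hT _ hc α₀ hα₀
  have himg : (φ₀.range.subgroupOf T).map (T.subtype.comp α₀.toMonoidHom) = R := by
    ext y
    constructor
    · rintro ⟨⟨_, hw⟩, ⟨z, rfl⟩, rfl⟩
      exact Eq.mp (congrArg (· ∈ R) (h0 z hw)) (α z).2
    · intro hy
      obtain ⟨z, hz⟩ := α.surjective ⟨y, hy⟩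
      refine ⟨⟨φ₀ z, apply_mem hφ₀ z⟩, ⟨z, rfl⟩, ?_⟩
      exact (h0 z (apply_mem hφ₀ z)).symm.trans (congrArg Subtype.val hz)
  revert χ
  rw [himg]
  intro χ hχ hχe
  refine mem_autGroup_of_hom E ?_
  have e : autHom (α * β * α⁻¹) = χ := by
    ext y
    obtain ⟨z, rfl⟩ := α.surjective y
    have e0 : (α₀ ⟨φ₀ z, hT ⟨z, rfl⟩⟩ : Ω) = ((α z : R) : Ω) := (h0 z (apply_mem hφ₀ z)).symm
    have hx : compose (compose ψ (autHom β) hm) φ₀ hm2 ⟨φ₀ z, ⟨z, rfl⟩⟩ ∈ T := apply_mem hc _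
    have h1 := hχe ⟨φ₀ z, ⟨z, rfl⟩⟩ hx (e0 ▸ (α z).2)
    simp only [e0] at h1
    have e1 : compose (compose ψ (autHom β) hm) φ₀ hm2 ⟨φ₀ z, ⟨z, rfl⟩⟩ = φ₀ (β z) := by
      refine congrArg φ₀ (Subtype.ext ?_)
      show ((β ⟨ψ ⟨φ₀ z, _⟩, _⟩ : R) : Ω) = β z
      have e2 : (⟨ψ ⟨φ₀ z, ⟨z, rfl⟩⟩, hm _⟩ : R) = z := Subtype.ext (hl z _)
      exact congrArg (fun w => ((β w : R) : Ω)) e2
    simp only [e1] at h1
    refine Eq.trans ?_ h1.symm
    rw [← h0 (β z) (apply_mem hφ₀ _)]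
    show ((α (β (α⁻¹ (α z))) : R) : Ω) = (α (β z) : R)
    rw [MulAut.inv_apply, MulEquiv.symm_apply_apply]
  rw [e]
  exact hχ

/-- A subgroup containing a normal subgroup with a Sylow subgroup and the normalizer of that Sylow
subgroup is everything. -/
theorem eq_top_of_frattini {A : Type*} [Group A] [Finite A] {p : ℕ} [Fact p.Prime] (M X : Subgroup A)
    [M.Normal] (R : Sylow p A) (hRM : (R : Subgroup A) ≤ M)
    (hN : Subgroup.normalizer ((R : Subgroup A) : Set A) ≤ X) (hMX : M ≤ X) : X = ⊤ :=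
  top_le_iff.1 ((Sylow.normalizer_sup_eq_top' R hRM).ge.trans (sup_le hN hMX))

variable {p : ℕ} [Fact p.Prime] [Finite T]

/-- An automorphism normalizing the induced automorphisms extends to the normalizer. -/
theorem exists_extension_of_normalizes (hT : IsPGroup p T) {E : FusionSystem T}
    (hE : E.IsSaturated p) {R : Subgroup Ω} (hR : E.IsFullyNormalized R) {α : MulAut R}
    (hα : α ∈ E.autGroup R) (hn : ∀ β ∈ autInducedBy T R, α * β * α⁻¹ ∈ autInducedBy T R) :
    ∃ ψ ∈ E.Hom (normalizerIn T R), ∀ (x : Ω) (hx : x ∈ R) (hN : x ∈ normalizerIn T R),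
      ψ ⟨x, hN⟩ = (α ⟨x, hx⟩ : Ω) := by
  obtain ⟨-, hrec⟩ := IsSaturated.automized_receptive hT hE hR
  obtain ⟨ψ, hψ, hext, -⟩ := IsReceptive.extend hrec (autHom_mem E hR.1 hα) (range_autHom α)
  have hle : normalizerIn T R ≤ extender T R (autHom α) := by
    intro g hg
    obtain ⟨h, hh, he⟩ := mem_autInducedBy.1 (hn _ (conjAut_mem_autInducedBy (K := T) hg.1 hg.2))
    refine mem_extender.2 ⟨hg.1, hg.2, h, hh, fun x hx => ?_⟩
    have h1 := he (α x)
    rw [MulAut.mul_apply, MulAut.mul_apply, MulAut.inv_apply, MulEquiv.symm_apply_apply] at h1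
    exact h1
  exact ⟨restr hle ψ, restr_mem E hψ hle, fun x hx hN => hext x hx (hle hN)⟩

/-- The comparison: `E ≤ D` when this holds at the top and the automorphism groups of `E` normalize
those of `D`. -/
theorem le_of_normalized (hT : IsPGroup p T) {E D : FusionSystem T} (hE : E.IsSaturated p)
    (htop : E.autGroup T ≤ D.autGroup T)
    (hnorm : ∀ R : Subgroup Ω, R ≤ T → ∀ α ∈ E.autGroup R, ∀ β ∈ D.autGroup R,
      α * β * α⁻¹ ∈ D.autGroup R) : E ≤ D := by
  refine alperin_ind hT hE D htop fun P hP ih => ?_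
  have hPlt := IsEssential.lt hE hT hP
  have := finite_mulAut (P := P) hPlt.le
  set A := E.autGroup P with hA
  obtain ⟨⟨-, R, hR⟩, -⟩ := IsSaturated.automized_receptive hT hE hP.2.1
  let M : Subgroup A := (D.autGroup P).subgroupOf A
  haveI : M.Normal := ⟨fun β hβ α => hnorm P hPlt.le _ α.2 _ hβ⟩
  have hRM : (R : Subgroup A) ≤ M := by
    rw [hR]
    exact fun a ha => autInducedBy_le_autGroup D hPlt.le ha
  have hNM : Subgroup.normalizer ((R : Subgroup A) : Set A) ≤ M := by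
    rintro ⟨α, hα⟩ hαN
    obtain ⟨ψ, hψ, hext⟩ := exists_extension_of_normalizes hT hE hP.2.1 hα (fun β hβ => by
      have hβA : β ∈ A := autInducedBy_le_autGroup E hPlt.le hβ
      have h1 := (Subgroup.mem_normalizer_iff.1 hαN ⟨β, hβA⟩).1 (by rw [hR]; exact hβ)
      rw [hR] at h1
      exact h1)
    have hlt := lt_normalizerIn hT hPlt
    have : Finite (normalizerIn T P) := finite_of_le (normalizerIn_le _ _)
    have hcard : Nat.card P < Nat.card (normalizerIn T P) := by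
      by_contra hge
      exact hlt.ne (Subgroup.eq_of_le_of_card_ge hlt.le (not_lt.1 hge))
    refine Subgroup.mem_subgroupOf.2 (mem_autGroup_of_hom D ?_)
    have e : autHom α = restr hlt.le ψ :=
      MonoidHom.ext fun x => (hext x x.2 (hlt.le x.2)).symm
    show autHom α ∈ D.Hom P
    rw [e]
    exact restr_mem D (ih _ hcard ψ hψ) _
  have htopM := eq_top_of_frattini M M R hRM hNM le_rfl
  intro α hα
  exact Subgroup.mem_subgroupOf.1 (htopM ▸ Subgroup.mem_top (⟨α, hα⟩ : A))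

end Cfsg.Agent.Lib.Fusion
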