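import Cfsg.Agent.Lib.Fusion.LocalModel
import Cfsg.Agent.Lib.Fusion.Involves
import Cfsg.Agent.Lib.Fusion.Constrained
import Cfsg.Prelude.Def_FusionReduction

/-!
Section free fusion systems: testing at radical centric subgroups, heredity to normalizers.
-/

set_option autoImplicit false
set_option linter.unusedSectionVars false

namespace Cfsg.Agent.Lib.Fusion

open Cfsg Cfsg.FusionSystem

universe u v w

variable {Ω : Type u} [Group Ω] {S : Subgroup Ω} [Finite S] {p : ℕ} [Fact p.Prime]

theorem involves_trans_injective {H : Type v} [Group H] {L : Type w} {L' : Type u} [Group L]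
    [Group L'] (e : L →* L') (he : Function.Injective e) (h : Involves H L) : Involves H L' := by
  obtain ⟨K, f, hf⟩ := exists_surjective_of_involves h
  exact involves_of_injective (e.comp K.subtype) (he.comp K.subtype_injective) f hf

/-- The core of a constrained system with a model is radical. -/
theorem radical_core {F : FusionSystem S} (hS : IsPGroup p S) {G : Type v} [Group G]
    {ι : S →* G} (hG : F.IsModel p G ι) : F.IsRadical p F.core := by
  have hcore := (isNormal_core F).1
  have := finite_mulAut hcore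
  have hfin : Finite G := hG.1
  let D := Model.data_core hS (IsModel.isConstrained hG)
  let ρ := Model.modelAct hG
  refine ⟨hcore, le_antisymm ?_ ?_⟩
  · rintro _ ⟨a, ha, rfl⟩
    have hn : (pCore p (F.autGroup F.core)).Normal := pCore_normal p _
    have hker : IsPGroup p ρ.ker := by
      refine (hS.of_surjective _ ι.rangeRestrict_surjective).to_le ?_
      intro g hg
      obtain ⟨c, hc⟩ := Model.exists_of_modelAct_eq_one hG D hg
      exact ⟨_, hc⟩
    have hle : (pCore p (F.autGroup F.core)).comap ρ ≤ pCore p G :=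
      le_sSup ⟨hn.comap ρ, (isPGroup_pCore_aux (p := p)).comap_of_ker_isPGroup ρ hker⟩
    obtain ⟨g, rfl⟩ := Model.modelAct_surjective hG a
    have h1 := hle (show g ∈ (pCore p (F.autGroup F.core)).comap ρ from ha)
    rw [Model.pCore_eq hG] at h1
    obtain ⟨x, hx, hxQ, rfl⟩ := mem_imageAlong.1 h1
    rw [Model.modelAct_iota hG D]
    exact ⟨⟨x, hxQ⟩, MulEquiv.ext fun y => rfl⟩
  · intro a ha
    have hle := inn_le_autGroup F hcore
    have hn : ((Inn F.core).subgroupOf (F.autGroup F.core)).Normal := by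
      refine ⟨?_⟩
      rintro ⟨β, hβ⟩ ⟨q, hq⟩ ⟨α, hα⟩
      refine ⟨α q, MulEquiv.ext fun y => ?_⟩
      show MulAut.conj (α q) y = α (β (α.symm y))
      rw [show β (α.symm y) = MulAut.conj q (α.symm y) from (congrArg (fun f => f (α.symm y)) hq).symm]
      simp [MulAut.conj_apply]
    have hp : IsPGroup p ((Inn F.core).subgroupOf (F.autGroup F.core)) := by
      refine (((hS.to_le hcore).of_surjective _
        (MulAut.conj (G := F.core)).rangeRestrict_surjective).of_equiv
        (Subgroup.subgroupOfEquivOfLe hle).symm)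
    exact ⟨⟨a, hle ha⟩, le_pCore_of_normal hp ha, rfl⟩

variable {F : FusionSystem S}

/-- Test of a section at the fully normalized centric radical subgroups suffices. -/
theorem not_involves_of_radical (hS : IsPGroup p S) (hF : F.IsSaturated p) {H : Type v} [Group H]
    (h : ∀ Q : Subgroup Ω, F.IsFullyNormalized Q → F.IsCentric Q → F.IsRadical p Q →
      ∀ N : FusionSystem (normalizerIn S Q), F.IsNormalizerSystem Q N →
        ∀ (L : Type u) [Group L] (ι : ↥(normalizerIn S Q) →* L), N.IsModel p L ι → ¬ Involves H L) :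
    F.IsSectionFree p H := by
  suffices key : ∀ n, ∀ Q : Subgroup Ω, Nat.card S ≤ Nat.card Q + n → F.IsFullyNormalized Q →
      F.IsCentric Q → ∀ N : FusionSystem (normalizerIn S Q), F.IsNormalizerSystem Q N →
        ∀ (L : Type u) [Group L] (ι : ↥(normalizerIn S Q) →* L), N.IsModel p L ι →
          ¬ Involves H L by
    intro Q hQn hQc N hN L _ ι hL
    exact key (Nat.card S) Q (Nat.le_add_left _ _) hQn hQc N hN L ι hL
  intro n
  induction n using Nat.strong_induction_on with
  | _ n ih =>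
    intro Q hn hQn hQc N hN L _ ι hL hinv
    let T := normalizerIn S Q
    have : Finite T := finite_of_le (normalizerIn_le S Q)
    have hT : IsPGroup p T := hS.to_le (normalizerIn_le S Q)
    have hQN : N.IsNormal Q := IsNormalizerSystem.isNormal hN hQn.1
    have hQR : Q ≤ N.core := le_core hQN
    rcases hQR.eq_or_lt with e | hlt
    · refine h Q hQn hQc ⟨hQn.1, ?_⟩ N hN L ι hL hinv
      rw [← IsNormalizerSystem.autGroup_eq hN hQn.1]
      have h1 := (radical_core hT hL).2
      rw [← e] at h1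
      exact h1
    · let R := N.core
      have hRn := isNormal_core N
      have hRT : R ≤ T := hRn.1
      have hRS : R ≤ S := hRT.trans (normalizerIn_le S Q)
      have hnorm : T ≤ Subgroup.normalizer (R : Set Ω) :=
        WeaklyClosed.le_normalizer (StronglyClosed.weaklyClosed (IsNormal.stronglyClosed hRn))
      obtain ⟨P', hP', hP'c, hRP', hemb⟩ := exists_embedding hS hF (isCentric_of_le hQc hQR hRS)
        hQR hRT (fun x => ⟨fun hx => ⟨⟨hx.1, hnorm hx⟩, hx⟩, fun hx => hx.2⟩) (E := N)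
        (fun X φ => ⟨fun hφ => by
          obtain ⟨ψ, hψ, hψe, hψR⟩ := hRn.2 X φ hφ
          exact ⟨IsNormalizerSystem.le_system hN hφ, source_le hφ, apply_mem hφ, ψ,
            IsNormalizerSystem.le_system hN hψ, hψe, hψR,
            WeaklyClosed.img_eq (StronglyClosed.weaklyClosed (IsNormal.stronglyClosed hQN)) hψ
              (hQR.trans le_sup_right)⟩,
        fun ⟨hφ, hX, hv, ψ, hψ, hψe, hψR, hψQ⟩ => by
          rw [hN X]
          have hle : X ⊔ Q ≤ X ⊔ R := sup_le_sup_left hQR X
          refine ⟨hφ, hX, hv, restr hle ψ, restr_mem F hψ hle, fun x => hψe x, ?_⟩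
          show img (restr hle ψ) Q = Q
          rw [img_restr hle ψ le_sup_right]
          exact hψQ⟩)
        (fun f hf => by
          have hc : F.IsConj Q (img f Q) := isConj_img F hf hQR
          have := finite_of_le (normalizerIn_le S (img f Q))
          exact (Subgroup.card_le_of_le inf_le_right).trans (hQn.2 _ hc)) hL
      have := finite_of_le (normalizerIn_le S P')
      obtain ⟨G, _, ι', hG⟩ := exists_model (hS.to_le (normalizerIn_le S P'))
        (IsNormalizerSystem.isConstrained hS hF hP' hP'c (normalizerSystem_spec F P' hP'.1))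
      obtain ⟨e, he⟩ := hemb _ (normalizerSystem_spec F P' hP'.1) G ι' hG
      -- `P'` is conjugate to a subgroup larger than `Q`
      by_cases hPQ : Nat.card S ≤ Nat.card P' + (n - 1) ∧ 0 < n
      · exact ih (n - 1) (by omega) P' hPQ.1 hP' hP'c _ (normalizerSystem_spec F P' hP'.1) G ι'
          hG (involves_trans_injective e he hinv)
      · exfalso
        apply hPQ
        have := finite_of_le hRS
        have h1 : Nat.card Q < Nat.card R := by
          by_contra hge
          exact hlt.ne (Subgroup.eq_of_le_of_card_ge hQR (not_lt.1 hge))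
        have h2 : Nat.card R ≤ Nat.card S := Subgroup.card_le_of_le hRS
        have h3 : Nat.card R ≤ Nat.card P' := (isConj_card hRP').le
        omega

/-- The image of the common normalizer under a map normalizing it. -/
theorem apply_mem_normalizerIn {A : Subgroup Ω} {β : A →* Ω} (hβ : β ∈ F.Hom A) {X : Subgroup Ω}
    (hX : X ≤ A) {g : A} (hg : (g : Ω) ∈ normalizerIn S X) :
    β g ∈ normalizerIn S (img β X) := by
  refine ⟨apply_mem hβ g, ?_⟩
  have := finite_of_le ((img_le_range β X).trans (range_le hβ))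
  refine mem_normalizer_of_finite fun y hy => ?_
  obtain ⟨x, hxA, hx, rfl⟩ := mem_img.1 hy
  refine mem_img.2 ⟨_, A.mul_mem (A.mul_mem g.2 (hX hx)) (A.inv_mem g.2),
    conj_mem_of_mem_normalizer hg.2 hx, ?_⟩
  rw [← map_inv, ← map_mul, ← map_mul]
  rfl

/-- Normalizers of fully normalized subgroups inherit section freeness. -/
theorem normalizer_sectionFree (hS : IsPGroup p S) (hF : F.IsSaturated p) {H : Type v} [Group H]
    (hfree : F.IsSectionFree p H) {Q : Subgroup Ω} (hQ : F.IsFullyNormalized Q)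
    {N : FusionSystem (normalizerIn S Q)} (hN : F.IsNormalizerSystem Q N) :
    N.IsSectionFree p H := by
  let T₀ := normalizerIn S Q
  have hT₀ : T₀ ≤ S := normalizerIn_le S Q
  have : Finite T₀ := finite_of_le hT₀
  have hNs := normalizerSystem_isSaturated hS hF hQ hN
  have hQn : N.IsNormal Q := IsNormalizerSystem.isNormal hN hQ.1
  refine not_involves_of_radical (hS.to_le hT₀) hNs fun P hPn hPc hPr M hM L _ ι hL hinv => ?_
  have hQP : Q ≤ P := IsNormal.le_centricRadical (hS.to_le hT₀) hQn hPc hPr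
  have hPS : P ≤ S := hPn.1.trans hT₀
  have key : ∀ f ∈ F.Hom P, ∃ β : ↥(normalizerIn S (img f Q)) →* Ω,
      β ∈ F.Hom (normalizerIn S (img f Q)) ∧ (∀ x, β x ∈ T₀) ∧
        ∃ hm : ∀ x : P, f x ∈ normalizerIn S (img f Q), compose f β hm ∈ N.Hom P := by
    intro f hf
    obtain ⟨β, hβ, hβv, hβQ⟩ :=
      IsSaturated.exists_normalizer_map hS hF hQ (isConj_symm (isConj_img F hf hQP))
    have hm : ∀ x : P, f x ∈ normalizerIn S (img f Q) := fun x =>
      apply_mem_normalizerIn hf hQP (g := x) ⟨hPS x.2, (hPn.1 x.2).2⟩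
    refine ⟨β, hβ, hβv, hm, ?_⟩
    rw [hN P]
    have hle : P ⊔ Q ≤ P := sup_le le_rfl hQP
    refine ⟨compose_mem F hf hβ hm, hPn.1, fun x => hβv _,
      restr hle (compose f β hm), restr_mem F (compose_mem F hf hβ hm) hle, fun x => rfl, ?_⟩
    show img (restr hle (compose f β hm)) Q = Q
    rw [img_restr hle _ le_sup_right]
    have := finite_of_le hQ.1
    refine Subgroup.eq_of_le_of_card_ge ?_
      (card_img (F.injective_of_mem (compose_mem F hf hβ hm)) hQP).ge
    intro y hy
    obtain ⟨x, hxP, hx, rfl⟩ := mem_img.1 hy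
    exact hβQ.le (apply_mem_img β _ (apply_mem_img f _ hx))
  have hPF : F.IsCentric P := by
    refine ⟨hPS, fun P₁ ⟨f, hf, hfr⟩ c hc => ?_⟩
    subst hfr
    obtain ⟨β, hβ, hβv, hm, hg⟩ := key f hf
    have hcN : c ∈ normalizerIn S (img f Q) :=
      centralizerIn_le_normalizerIn S _ ⟨hc.1, fun y hy => hc.2 y (img_le_range f Q hy)⟩
    have h1 : β ⟨c, hcN⟩ ∈ (compose f β hm).range := by
      refine hPc.2 _ ⟨_, hg, rfl⟩ ⟨hβv _, ?_⟩
      rintro _ ⟨x, rfl⟩
      rw [compose_apply, ← map_mul, ← map_mul]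
      exact congrArg β (Subtype.ext (hc.2 (f x) ⟨x, rfl⟩))
    obtain ⟨x, hx⟩ := h1
    exact ⟨x, congrArg Subtype.val (F.injective_of_mem hβ hx :)⟩
  have hPT : P ≤ normalizerIn T₀ P := le_normalizerIn hPn.1
  obtain ⟨P', hP', hP'c, -, hemb⟩ := exists_embedding hS hF hPF hQP hPT
    (fun x => ⟨fun hx => ⟨⟨hT₀ hx.1, hx.2⟩, hx.1⟩, fun hx => ⟨hx.2, hx.1.2⟩⟩) (E := M)
    (fun X φ => by
      rw [hM X]
      constructor
      · rintro ⟨hφ, hX, hv, ψ, hψ, hψe, hψP⟩
        exact ⟨IsNormalizerSystem.le_system hN hφ, hX, hv, ψ,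
          IsNormalizerSystem.le_system hN hψ, hψe, hψP,
          WeaklyClosed.img_eq (StronglyClosed.weaklyClosed (IsNormal.stronglyClosed hQn)) hψ
            (hQP.trans le_sup_right)⟩
      · rintro ⟨hφ, hX, hv, ψ, hψ, hψe, hψP, hψQ⟩
        have hle : X ⊔ P ⊔ Q ≤ X ⊔ P := sup_le le_rfl (hQP.trans le_sup_right)
        have hsup : X ⊔ P ≤ T₀ := sup_le (hX.trans (normalizerIn_le T₀ P)) hPn.1
        have hψv : ∀ x, ψ x ∈ T₀ := fun x => normalizerIn_le T₀ P
          (IsNormalizerSystem.ext_mem (S := T₀) (Q := P) hPn.1 hv hψe hψP x)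
        have hψN : ψ ∈ N.Hom (X ⊔ P) := by
          rw [hN (X ⊔ P)]
          refine ⟨hψ, hsup, hψv, restr hle ψ, restr_mem F hψ hle, fun x => rfl, ?_⟩
          show img (restr hle ψ) Q = Q
          rw [img_restr hle ψ le_sup_right]
          exact hψQ
        refine ⟨?_, hX, hv, ψ, hψN, hψe, hψP⟩
        rw [show φ = restr le_sup_left ψ from MonoidHom.ext fun x => (hψe x).symm]
        exact restr_mem N hψN _)
    (fun f hf => by
      obtain ⟨β, hβ, hβv, hm, hg⟩ := key f hf
      have hle : f.range ≤ normalizerIn S (img f Q) := by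
        rintro _ ⟨x, rfl⟩
        exact hm x
      have hr : (compose f β hm).range = img β f.range := range_compose f β hm
      have := finite_of_le (normalizerIn_le T₀ (compose f β hm).range)
      refine (Nat.card_le_card_of_injective
        (fun a => (⟨β ⟨a.1, a.2.2⟩, hβv _, hr.symm ▸
          (apply_mem_normalizerIn hβ hle (g := ⟨a.1, a.2.2⟩) a.2.1).2⟩ :
          ↥(normalizerIn T₀ (compose f β hm).range))) fun a b h => ?_).trans
        (hPn.2 _ ⟨_, hg, rfl⟩)
      exact Subtype.ext (congrArg Subtype.val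
        (F.injective_of_mem hβ (congrArg Subtype.val h)) :))
    hL
  have := finite_of_le (normalizerIn_le S P')
  obtain ⟨G, _, ι', hG⟩ := exists_model (hS.to_le (normalizerIn_le S P'))
    (IsNormalizerSystem.isConstrained hS hF hP' hP'c (normalizerSystem_spec F P' hP'.1))
  obtain ⟨e, he⟩ := hemb _ (normalizerSystem_spec F P' hP'.1) G ι' hG
  exact hfree P' hP' hP'c _ (normalizerSystem_spec F P' hP'.1) G ι' hG
    (involves_trans_injective e he hinv)

/-- Centralizers of fully centralized subgroups inherit section freeness. -/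
theorem centralizer_sectionFree (hS : IsPGroup p S) (hF : F.IsSaturated p) {H : Type v} [Group H]
    (hfree : F.IsSectionFree p H) {K : Subgroup Ω} (hK : F.IsFullyCentralized K)
    {C : FusionSystem (centralizerIn S K)} (hC : F.IsCentralizerSystem K C) :
    C.IsSectionFree p H := by
  intro P₀ hPn hPc M hM L _ ι hL hinv
  let T₁ := centralizerIn S K
  have hT₁ : T₁ ≤ S := centralizerIn_le S K
  have hP₀S : P₀ ≤ S := hPn.1.trans hT₁
  have hcomm : ∀ x ∈ P₀, ∀ k ∈ K, k * x = x * k := fun x hx k hk => (hPn.1 hx).2 k hk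
  have hPS : P₀ ⊔ K ≤ S := sup_le hP₀S hK.1
  have := finite_of_le hPS
  have := finite_of_le hP₀S
  have := finite_of_le hT₁
  have := finite_of_le hK.1
  have hPn₀ : P₀ ⊔ K ≤ normalizerIn S P₀ := by
    refine sup_le (le_normalizerIn hP₀S) fun k hk => ⟨hK.1 hk, mem_normalizer_of_finite fun x hx => ?_⟩
    rw [hcomm x hx k hk, mul_inv_cancel_right]
    exact hx
  have hnK : P₀ ⊔ K ≤ Subgroup.normalizer (K : Set Ω) :=
    sup_le (fun x hx => mem_normalizer_of_finite fun k hk => by
      rw [← hcomm x hx k hk, mul_inv_cancel_right]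
      exact hk) Subgroup.le_normalizer
  have key : ∀ f ∈ F.Hom (P₀ ⊔ K), ∃ (A : Subgroup Ω) (β : A →* Ω), β ∈ F.Hom A ∧
      centralizerIn S (img f K) ≤ A ∧ (∀ a : A, (a : Ω) ∈ centralizerIn S (img f K) → β a ∈ T₁) ∧
      ∃ hm : ∀ x, f x ∈ A,
        restr le_sup_left (compose f β hm) ∈ C.Hom P₀ := by
    intro f hf
    have hf₀ := restr_mem F hf (le_sup_right : K ≤ P₀ ⊔ K)
    obtain ⟨c, hc, hcr, hl, -⟩ := exists_inv F hf₀ (range_restr le_sup_right f)
    obtain ⟨β, hβ, hβe, -⟩ := IsReceptive.extend (IsSaturated.receptive hS hF hK) hc hcr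
    have hm : ∀ x, f x ∈ extender S (img f K) c := by
      intro x
      have hn : f x ∈ Subgroup.normalizer (img f K : Set Ω) := by
        have := finite_of_le ((img_le_range f K).trans (range_le hf))
        refine mem_normalizer_of_finite fun y hy => ?_
        obtain ⟨k, hkP, hk, rfl⟩ := mem_img.1 hy
        refine mem_img.2 ⟨_, (P₀ ⊔ K).mul_mem ((P₀ ⊔ K).mul_mem x.2 hkP) ((P₀ ⊔ K).inv_mem x.2),
          ?_, ?_⟩
        · exact conj_mem_of_mem_normalizer (hnK x.2) hk
        · rw [← map_inv, ← map_mul, ← map_mul]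
          rfl
      obtain ⟨x, hx⟩ := x
      refine mem_extender.2 ⟨apply_mem hf _, hn, x, hPS hx, fun y hy => ?_⟩
      obtain ⟨y, hy'⟩ := y
      obtain ⟨k, hkP, hk, rfl⟩ := mem_img.1 hy'
      have hk' : x * k * x⁻¹ ∈ K := conj_mem_of_mem_normalizer (hnK hx) hk
      have h1 := hl ⟨_, hk'⟩ (apply_mem_img f (⟨_, Subgroup.mem_sup_right hk'⟩ : ↥(P₀ ⊔ K)) hk')
      have h2 := hl ⟨k, hk⟩ (apply_mem_img f (⟨k, Subgroup.mem_sup_right hk⟩ : ↥(P₀ ⊔ K)) hk)
      rw [show c ⟨f ⟨k, hkP⟩, hy'⟩ = k from h2]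
      refine Eq.trans (congrArg c (Subtype.ext ?_)) h1
      show f ⟨x, hx⟩ * f ⟨k, hkP⟩ * (f ⟨x, hx⟩)⁻¹ = f ⟨x * k * x⁻¹, _⟩
      rw [← map_inv, ← map_mul, ← map_mul]
      rfl
    have hCle : centralizerIn S (img f K) ≤ extender S (img f K) c := centralizerIn_le_extender c
    have hbase : img f K ≤ extender S (img f K) c :=
      le_extender (source_le hc) (apply_mem hc)
    refine ⟨_, β, hβ, hCle, fun a ha => apply_mem_centralizerIn hcr hβ hβe hbase a.2 ha, hm, ?_⟩
    rw [hC P₀]
    have hg := compose_mem F hf hβ hm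
    refine ⟨restr_mem F hg _, hPn.1, fun x => ?_, compose f β hm, hg, fun x => rfl, fun k => ?_⟩
    · refine apply_mem_centralizerIn hcr hβ hβe hbase (hm _)
        (mem_centralizerIn_iff_conj.2 ⟨apply_mem hf _, fun y hy => ?_⟩)
      obtain ⟨k, hkP, hk, rfl⟩ := mem_img.1 hy
      rw [mul_inv_eq_iff_eq_mul, ← map_mul, ← map_mul]
      exact congrArg f (Subtype.ext (hcomm x x.2 k hk).symm)
    · show β ⟨f ⟨k, _⟩, _⟩ = k
      rw [hβe _ (apply_mem_img f ⟨k, Subgroup.mem_sup_right k.2⟩ k.2) (hm _)]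
      exact hl k _
  have hPF : F.IsCentric (P₀ ⊔ K) := by
    refine ⟨hPS, fun P₁ ⟨f, hf, hfr⟩ c hc => ?_⟩
    subst hfr
    obtain ⟨A, β, hβ, hCA, hβT, hm, hg⟩ := key f hf
    have hcC : c ∈ centralizerIn S (img f K) :=
      ⟨hc.1, fun y hy => hc.2 y (img_le_range f K hy)⟩
    have h1 : β ⟨c, hCA hcC⟩ ∈ (restr le_sup_left (compose f β hm)).range := by
      refine hPc.2 _ ⟨_, hg, rfl⟩ ⟨hβT _ hcC, ?_⟩
      rintro _ ⟨x, rfl⟩
      rw [restr_apply, compose_apply, ← map_mul, ← map_mul]
      exact congrArg β (Subtype.ext (hc.2 (f _) ⟨_, rfl⟩))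
    obtain ⟨x, hx⟩ := h1
    exact ⟨_, congrArg Subtype.val (F.injective_of_mem hβ hx :)⟩
  obtain ⟨P', hP', hP'c, -, hemb⟩ := exists_embedding_fix hS hF hPF (Q := P₀) le_sup_left
    le_sup_right (T₀ := normalizerIn S (P₀ ⊔ K) ⊓ normalizerIn S P₀)
    (le_inf (le_normalizerIn hPS) hPn₀) (fun x => Iff.rfl)
    (T := normalizerIn T₁ P₀) (fun x => by
      refine ⟨fun hx => ⟨⟨⟨hT₁ hx.1, ?_⟩, hT₁ hx.1, hx.2⟩, hx.1.2⟩,
        fun hx => ⟨⟨hx.1.2.1, hx.2⟩, hx.1.2.2⟩⟩
      refine mem_normalizer_of_finite fun y hy => ?_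
      have : P₀ ⊔ K ≤ (P₀ ⊔ K).comap (MulAut.conj x).toMonoidHom := by
        refine sup_le (fun z hz => Subgroup.mem_sup_left (conj_mem_of_mem_normalizer hx.2 hz))
          fun z hz => ?_
        show x * z * x⁻¹ ∈ P₀ ⊔ K
        rw [show x * z = z * x from (hx.1.2 z hz).symm, mul_inv_cancel_right]
        exact Subgroup.mem_sup_right hz
      exact this hy)
    (sup_le (le_trans (le_inf le_sup_left (le_normalizerIn hPn.1)) le_sup_left) le_sup_right)
    (E := M)
    (fun X φ => by
      rw [hM X]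
      constructor
      · rintro ⟨hφ, hX, hv, ψ, hψ, hψe, hψP⟩
        rw [hC X] at hφ
        rw [hC (X ⊔ P₀)] at hψ
        obtain ⟨-, -, -, ψ', hψ', hψ'e, hψ'K⟩ := hψ
        have hle : X ⊔ (P₀ ⊔ K) ≤ X ⊔ P₀ ⊔ K := (sup_assoc X P₀ K).ge
        have hP₀img : img (restr hle ψ') P₀ = P₀ := by
          rw [img_restr hle ψ' (le_sup_left.trans le_sup_right)]
          refine le_antisymm ?_ fun y hy => ?_
          · intro y hy
            obtain ⟨x, hxU, hx, rfl⟩ := mem_img.1 hy
            exact hψP.le ⟨⟨x, Subgroup.mem_sup_right hx⟩, hx,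
              (hψ'e ⟨x, Subgroup.mem_sup_right hx⟩).symm⟩
          · obtain ⟨x, hx, rfl⟩ := hψP.ge hy
            exact mem_img.2 ⟨x, _, hx, hψ'e x⟩
        have hKimg : img (restr hle ψ') K = K := by
          rw [img_restr hle ψ' (le_sup_right.trans le_sup_right)]
          refine le_antisymm ?_ fun y hy => ?_
          · intro y hy
            obtain ⟨x, hxU, hx, rfl⟩ := mem_img.1 hy
            exact (hψ'K ⟨x, hx⟩).symm ▸ hx
          · exact mem_img.2 ⟨y, Subgroup.mem_sup_right hy, hy, hψ'K ⟨y, hy⟩⟩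
        refine ⟨hφ.1, hX, hv, restr hle ψ', restr_mem F hψ' hle, fun x => ?_, ?_, hP₀img,
          fun k hk hkK => hψ'K ⟨k, hkK⟩⟩
        · exact (hψ'e (Subgroup.inclusion le_sup_left x)).trans (hψe x)
        · rw [img_sup _ (le_sup_left.trans le_sup_right) (le_sup_right.trans le_sup_right),
            hP₀img, hKimg]
      · rintro ⟨hφ, hX, hv, ψ, hψ, hψe, hψP, hψQ, hψK⟩
        have hle : X ⊔ P₀ ≤ X ⊔ (P₀ ⊔ K) := sup_le_sup_left le_sup_left X
        have hle' : X ⊔ P₀ ⊔ K ≤ X ⊔ (P₀ ⊔ K) := (sup_assoc X P₀ K).le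
        have hψ₁ : restr hle ψ ∈ C.Hom (X ⊔ P₀) := by
          rw [hC (X ⊔ P₀)]
          refine ⟨restr_mem F hψ hle, sup_le (hX.trans (normalizerIn_le _ _)) hPn.1, fun x => ?_,
            restr hle' ψ, restr_mem F hψ hle', fun x => rfl,
            fun k => hψK k (Subgroup.mem_sup_right (Subgroup.mem_sup_right k.2)) k.2⟩
          exact normalizerIn_le T₁ P₀ (IsNormalizerSystem.ext_mem (S := T₁) (Q := P₀) hPn.1
            (φ := φ) (ψ := restr hle ψ) hv (fun y => hψe y)
            ((img_restr hle ψ le_sup_right).trans hψQ) x)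
        refine ⟨?_, hX, hv, restr hle ψ, hψ₁, fun x => hψe x,
          (img_restr hle ψ le_sup_right).trans hψQ⟩
        rw [show φ = restr le_sup_left (restr hle ψ) from MonoidHom.ext fun x => (hψe x).symm]
        exact restr_mem C hψ₁ _)
    (fun f hf => by
      obtain ⟨A, β, hβ, hCA, hβT, hm, hg⟩ := key f hf
      have hr : (restr le_sup_left (compose f β hm)).range = img β (img f P₀) := by
        rw [range_restr, img_img]
      have hle : img f P₀ ≤ A := by
        rintro _ ⟨x, -, rfl⟩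
        exact hm x
      have := finite_of_le ((normalizerIn_le T₁ (restr le_sup_left (compose f β hm)).range).trans hT₁)
      refine (Nat.card_le_card_of_injective
        (fun a => (⟨β ⟨a.1, hCA a.2.2⟩, hβT _ a.2.2, hr.symm ▸
          (apply_mem_normalizerIn hβ hle (g := ⟨a.1, hCA a.2.2⟩) a.2.1.2).2⟩ :
          ↥(normalizerIn T₁ (restr le_sup_left (compose f β hm)).range))) fun a b h => ?_).trans
        (hPn.2 _ ⟨_, hg, rfl⟩)
      exact Subtype.ext (congrArg Subtype.val
        (F.injective_of_mem hβ (congrArg Subtype.val h)) :))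
    hL
  have := finite_of_le (normalizerIn_le S P')
  obtain ⟨G, _, ι', hG⟩ := exists_model (hS.to_le (normalizerIn_le S P'))
    (IsNormalizerSystem.isConstrained hS hF hP' hP'c (normalizerSystem_spec F P' hP'.1))
  obtain ⟨e, he⟩ := hemb _ (normalizerSystem_spec F P' hP'.1) G ι' hG
  exact hfree P' hP' hP'c _ (normalizerSystem_spec F P' hP'.1) G ι' hG
    (involves_trans_injective e he hinv)

end Cfsg.Agent.Lib.Fusion
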