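import Cfsg.Agent.Lib.PLocal.QdSection
import Cfsg.Agent.Lib.LocalEven.Qd
import Cfsg.Agent.Lib.FusionControl.NormalControl
import Cfsg.Agent.Lib.Fusion.GroupSystem
import Cfsg.Agent.Lib.Fusion.ModelExists
import Cfsg.Agent.Lib.Fusion.NormalizerFacts
import Cfsg.Agent.Lib.Fusion.KNormalizer
import Cfsg.Agent.Lib.Fusion.SectionFree

/-!
`Qd(p)` is involved in a group exactly when it is involved in a model of a local subsystem of its
fusion system.
-/

set_option autoImplicit false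
set_option linter.unusedSectionVars false

open Matrix hiding zpow_mul one_zpow

namespace Cfsg.Agent.Lib.Fusion

open Cfsg Cfsg.FusionSystem
open Cfsg.Agent.Lib.PLocal (upT loT involves_qd_of_gens)
open Cfsg.Agent.Lib.FusionControl (exists_frattini_split)

universe u v

variable {p : ℕ} [Fact p.Prime]

/-- The normalizer of `B` induces both unit transvections on an image of `B` of rank two. -/
def HasPlaneAction (p : ℕ) [Fact p.Prime] {G : Type v} [Group G] (B : Subgroup G) : Prop :=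
  ∃ φ : B →* Multiplicative (Fin 2 → ZMod p), Function.Surjective φ ∧
    (∃ b ∈ Subgroup.normalizer (B : Set G), ∀ (k : B) (h : b * (k : G) * b⁻¹ ∈ B),
      (φ ⟨_, h⟩).toAdd = (upT p).1 *ᵥ (φ k).toAdd) ∧
    ∃ c ∈ Subgroup.normalizer (B : Set G), ∀ (k : B) (h : c * (k : G) * c⁻¹ ∈ B),
      (φ ⟨_, h⟩).toAdd = (loT p).1 *ᵥ (φ k).toAdd

theorem HasPlaneAction.involves (hp : p ≠ 2) {G : Type v} [Group G] [Finite G] {B : Subgroup G}
    (h : HasPlaneAction p B) : Cfsg.Involves ↥(Cfsg.qd p) G := by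
  obtain ⟨φ, hφ, ⟨b, hb, hbe⟩, c, hc, hce⟩ := h
  exact involves_qd_of_gens hp B φ hφ b c hb hc hbe hce

theorem HasPlaneAction.transfer {G : Type v} [Group G] {B : Subgroup G} (h : HasPlaneAction p B)
    {G' : Type u} [Group G'] {B' : Subgroup G'} (e : B ≃* B')
    (he : ∀ b ∈ Subgroup.normalizer (B : Set G), ∃ b' ∈ Subgroup.normalizer (B' : Set G'),
      ∀ (k : B) (hk : b * (k : G) * b⁻¹ ∈ B), b' * (e k : G') * b'⁻¹ = e ⟨_, hk⟩) :
    HasPlaneAction p B' := by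
  obtain ⟨φ, hφ, hb, hc⟩ := h
  refine ⟨φ.comp e.symm.toMonoidHom, hφ.comp e.symm.surjective, ?_⟩
  have key : ∀ A : Matrix.SpecialLinearGroup (Fin 2) (ZMod p),
      (∃ b ∈ Subgroup.normalizer (B : Set G), ∀ (k : B) (h : b * (k : G) * b⁻¹ ∈ B),
        (φ ⟨_, h⟩).toAdd = A.1 *ᵥ (φ k).toAdd) →
      ∃ b' ∈ Subgroup.normalizer (B' : Set G'), ∀ (k' : B') (h : b' * (k' : G') * b'⁻¹ ∈ B'),
        ((φ.comp e.symm.toMonoidHom) ⟨_, h⟩).toAdd =
          A.1 *ᵥ ((φ.comp e.symm.toMonoidHom) k').toAdd := by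
    rintro A ⟨b, hb, hbe⟩
    obtain ⟨b', hb', hb'e⟩ := he b hb
    refine ⟨b', hb', fun k' h => ?_⟩
    obtain ⟨k, rfl⟩ := e.surjective k'
    have hk : b * (k : G) * b⁻¹ ∈ B := (Subgroup.mem_normalizer_iff.1 hb _).1 k.2
    have h1 : (⟨_, h⟩ : B') = e ⟨_, hk⟩ := Subtype.ext (hb'e k hk)
    rw [h1]
    show (φ (e.symm (e ⟨_, hk⟩))).toAdd = A.1 *ᵥ (φ (e.symm (e k))).toAdd
    rw [e.symm_apply_apply, e.symm_apply_apply]
    exact hbe k hk
  exact ⟨key _ hb, key _ hc⟩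

theorem HasPlaneAction.conj {G : Type v} [Group G] [Finite G] {B : Subgroup G}
    (h : HasPlaneAction p B) (g : G) :
    HasPlaneAction p (B.map (MulAut.conj g).toMonoidHom) := by
  refine h.transfer (B.equivMapOfInjective (MulAut.conj g).toMonoidHom (MulAut.conj g).injective)
    fun b hb => ⟨g * b * g⁻¹, mem_normalizer_of_finite ?_, fun k hk => ?_⟩
  · rintro _ ⟨x, hx, rfl⟩
    exact ⟨b * x * b⁻¹, conj_mem_of_mem_normalizer hb hx, by simp [mul_assoc]⟩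
  · show g * b * g⁻¹ * (g * (k : G) * g⁻¹) * (g * b * g⁻¹)⁻¹ = g * (b * k * b⁻¹) * g⁻¹
    group

/-- A section isomorphic to `Qd(p)` gives a `p`-subgroup with a plane action. -/
theorem exists_planeAction {G : Type v} [Group G] [Finite G]
    (h : Cfsg.Involves ↥(Cfsg.qd p) G) :
    ∃ B : Subgroup G, IsPGroup p B ∧ HasPlaneAction p B := by
  obtain ⟨K, R, hR, ⟨e⟩⟩ := h
  let f : K →* ↥(Cfsg.qdOver (ZMod p)) := (e.toMonoidHom.comp (QuotientGroup.mk' _))
  have hf : Function.Surjective f := e.surjective.comp (QuotientGroup.mk'_surjective _)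
  let V : Subgroup ↥(Cfsg.qdOver (ZMod p)) := (LocalEven.Qd.proj (F := ZMod p)).ker
  let M : Subgroup K := V.comap f
  have hMn : M.Normal := by infer_instance
  let Pt : Sylow p M := default
  let B₀ : Subgroup K := (Pt : Subgroup M).map M.subtype
  have hB₀M : B₀ ≤ M := Subgroup.map_subtype_le _
  have hB₀p : IsPGroup p B₀ := Pt.2.map _
  -- `B₀` covers the translations
  let fM : M →* V := (f.comp M.subtype).codRestrict V fun x => x.2
  have hfM : Function.Surjective fM := fun v => by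
    obtain ⟨x, hx⟩ := hf v
    exact ⟨⟨x, show f x ∈ V from hx.symm ▸ v.2⟩, Subtype.ext hx⟩
  have hcov : ∀ v ∈ V, ∃ x ∈ B₀, f x = v := by
    intro v hv
    have htop : ((Pt.mapSurjective hfM : Sylow p V) : Subgroup V) = ⊤ :=
      ((Pt.mapSurjective hfM).3 ((LocalEven.Qd.isPGroup_ker (F := ZMod p)).to_subgroup ⊤)
        le_top).symm
    obtain ⟨x, hx, hxe⟩ := htop.ge (Subgroup.mem_top (⟨v, hv⟩ : V))
    exact ⟨x, ⟨x, hx, rfl⟩, congrArg Subtype.val hxe⟩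
  -- vectors of translations
  have hvec : ∀ x : B₀, ∃ v, f (x : K) = LocalEven.Qd.el 1 v := fun x =>
    LocalEven.Qd.mem_ker_proj_iff.1 (show f (x : K) ∈ V from hB₀M x.2)
  choose vec hvec using hvec
  have hinj : ∀ v w : Fin 2 → ZMod p,
      LocalEven.Qd.el (1 : Matrix.SpecialLinearGroup (Fin 2) (ZMod p)) v =
        LocalEven.Qd.el 1 w → v = w :=
    fun v w hvw => (LocalEven.Qd.aff_injective (congrArg Subtype.val hvw)).2
  let φ₀ : B₀ →* Multiplicative (Fin 2 → ZMod p) :=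
    MonoidHom.mk' (fun x => Multiplicative.ofAdd (vec x)) fun x y => by
      rw [← ofAdd_add]
      refine congrArg _ (hinj _ _ ?_)
      rw [← hvec, ← LocalEven.Qd.trans_mul, ← hvec, ← hvec, ← map_mul]
      rfl
  have hφ₀ : Function.Surjective φ₀ := by
    intro w
    obtain ⟨x, hx, hxe⟩ := hcov (LocalEven.Qd.el 1 w.toAdd)
      (LocalEven.Qd.mem_ker_proj_iff.2 ⟨_, rfl⟩)
    exact ⟨⟨x, hx⟩, Multiplicative.toAdd.injective (hinj _ _ ((hvec ⟨x, hx⟩).symm.trans hxe))⟩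
  have htop := Sylow.normalizer_sup_eq_top Pt
  have hplane : HasPlaneAction p B₀ := by
    refine ⟨φ₀, hφ₀, ?_⟩
    suffices key : ∀ A : Matrix.SpecialLinearGroup (Fin 2) (ZMod p),
        ∃ b ∈ Subgroup.normalizer (B₀ : Set K), ∀ (k : B₀) (h : b * (k : K) * b⁻¹ ∈ B₀),
          (φ₀ ⟨_, h⟩).toAdd = A.1 *ᵥ (φ₀ k).toAdd from ⟨key _, key _⟩
    intro A
    obtain ⟨x, hx⟩ := hf (LocalEven.Qd.el A 0)
    obtain ⟨n, hn, m, hm, hnm⟩ :=
      Subgroup.mem_sup_of_normal_right.1 (htop.ge (Subgroup.mem_top x))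
    refine ⟨n, hn, fun k h => ?_⟩
    show vec ⟨_, h⟩ = A.1 *ᵥ vec k
    obtain ⟨w, hw⟩ := LocalEven.Qd.mem_ker_proj_iff.1 (show f m ∈ V from hm)
    have hfn : f n = LocalEven.Qd.el A 0 * (LocalEven.Qd.el 1 w)⁻¹ := by
      rw [← hw, ← hx, ← hnm, map_mul, mul_inv_cancel_right]
    refine hinj _ _ ?_
    rw [← hvec, ← LocalEven.Qd.conj_trans A (vec k) 0, map_mul, map_mul, map_inv, hfn, hvec k]
    have hc : (LocalEven.Qd.el (1 : Matrix.SpecialLinearGroup (Fin 2) (ZMod p)) w)⁻¹ *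
        LocalEven.Qd.el 1 (vec k) * LocalEven.Qd.el 1 w = LocalEven.Qd.el 1 (vec k) := by
      rw [mul_assoc, LocalEven.Qd.trans_mul, add_comm, ← LocalEven.Qd.trans_mul,
        inv_mul_cancel_left]
    calc LocalEven.Qd.el A 0 * (LocalEven.Qd.el 1 w)⁻¹ * LocalEven.Qd.el 1 (vec k) *
          (LocalEven.Qd.el A 0 * (LocalEven.Qd.el 1 w)⁻¹)⁻¹
        = LocalEven.Qd.el A 0 * ((LocalEven.Qd.el 1 w)⁻¹ * LocalEven.Qd.el 1 (vec k) *
            LocalEven.Qd.el 1 w) * (LocalEven.Qd.el A 0)⁻¹ := by group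
      _ = _ := by rw [hc]
  refine ⟨B₀.map K.subtype, hB₀p.map _,
    hplane.transfer (B₀.equivMapOfInjective K.subtype K.subtype_injective) fun b hb =>
      ⟨(b : G), mem_normalizer_of_finite ?_, fun k hk => rfl⟩⟩
  rintro _ ⟨x, hx, rfl⟩
  exact ⟨b * x * b⁻¹, conj_mem_of_mem_normalizer hb hx, rfl⟩

variable {G : Type u} [Group G] [Finite G]

/-- The models of the local subsystems do not involve `Qd(p)` unless the group does. -/
theorem sectionFree_of_not_involves (hp : p ≠ 2) (P : Sylow p G)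
    (h : ¬ Cfsg.Involves ↥(Cfsg.qd p) G) :
    (Cfsg.groupFusionSystem (P : Subgroup G)).IsSectionFree p ↥(Cfsg.qd p) := by
  intro Q _ hQc N hN L _ ι hL hinv
  have : Finite L := hL.1
  obtain ⟨B, hBp, hB⟩ := exists_planeAction hinv
  obtain ⟨T, hT⟩ := hL.2.2.1
  obtain ⟨T', hT'⟩ := hBp.exists_le_sylow
  obtain ⟨x, hx⟩ := MulAction.exists_smul_eq L T' T
  set B₁ := B.map (MulAut.conj x).toMonoidHom with hB₁
  have hB₁r : B₁ ≤ ι.range := by
    rw [← hT, ← hx, Sylow.coe_subgroup_smul]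
    exact Subgroup.map_mono hT'
  set B₂ := (B₁.comap ι).map (normalizerIn (P : Subgroup G) Q).subtype with hB₂
  have hB₂S : B₂ ≤ (normalizerIn (P : Subgroup G) Q) := Subgroup.map_subtype_le _
  have hi := hL.2.1.1
  let f : B₂ →* B₁ := (ι.comp (Subgroup.inclusion hB₂S)).codRestrict B₁ (by
    rintro ⟨_, s, hs, rfl⟩
    exact hs)
  have hfb : Function.Bijective f := by
    refine ⟨fun a b hab => Subgroup.inclusion_injective hB₂S (hi (congrArg Subtype.val hab)), ?_⟩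
    rintro ⟨y, hy⟩
    obtain ⟨s, rfl⟩ := hB₁r hy
    exact ⟨⟨s, s, hy, rfl⟩, rfl⟩
  let e : B₁ ≃* B₂ := (MulEquiv.ofBijective f hfb).symm
  have hcoe : ∀ y : B₁, ι ⟨e y, hB₂S (e y).2⟩ = (y : L) := fun y =>
    congrArg Subtype.val ((MulEquiv.ofBijective f hfb).apply_symm_apply y)
  refine h (HasPlaneAction.involves hp ((hB.conj x).transfer e fun b hb => ?_))
  have hbB : ∀ y : B₂, b * ι ⟨y, hB₂S y.2⟩ * b⁻¹ ∈ B₁ := fun y =>
    conj_mem_of_mem_normalizer hb (f y).2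
  obtain ⟨φ, hφ, hφe⟩ := IsRealizedBy.exists_hom hL.2.1 hB₂S b fun y => hB₁r (hbB y)
  obtain ⟨-, -, g, hg⟩ := IsNormalizerSystem.le_system hN hφ
  refine ⟨g, mem_normalizer_of_finite fun y hy => ?_, fun k hk => ?_⟩
  · rw [← hg ⟨y, hy⟩]
    exact ⟨⟨φ ⟨y, hy⟩, apply_mem hφ _⟩,
      show ι _ ∈ B₁ from (hφe ⟨y, hy⟩).symm ▸ hbB ⟨y, hy⟩, rfl⟩
  · rw [← hg (e k)]
    exact congrArg Subtype.val (a₁ := (⟨φ (e k), apply_mem hφ _⟩ : (normalizerIn (P : Subgroup G) Q)))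
      (a₂ := ⟨(e ⟨_, hk⟩ : G), hB₂S (e _).2⟩) (hi ((hφe (e k)).trans ((congrArg (fun z => b * z * b⁻¹) (hcoe k)).trans (hcoe ⟨_, hk⟩).symm)))

/-- If the group involves `Qd(p)` then so does some local model. -/
theorem not_sectionFree_of_involves (hp : p ≠ 2) (P : Sylow p G)
    (h : Cfsg.Involves ↥(Cfsg.qd p) G) :
    ¬ (Cfsg.groupFusionSystem (P : Subgroup G)).IsSectionFree p ↥(Cfsg.qd p) := by
  intro hfree
  obtain ⟨B, hBp, hB⟩ := exists_planeAction h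
  obtain ⟨T', hT'⟩ := hBp.exists_le_sylow
  obtain ⟨x, hx⟩ := MulAction.exists_smul_eq G T' P
  have hB₀ : B.map (MulAut.conj x).toMonoidHom ≤ (P : Subgroup G) := by
    rw [← hx, Sylow.coe_subgroup_smul]
    exact Subgroup.map_mono hT'
  obtain ⟨y, hyP, hyN⟩ := exists_conj_hasSylowNormalizer P hB₀
  have hplane : HasPlaneAction p ((B.map (MulAut.conj x).toMonoidHom).map (MulAut.conj y).toMonoidHom) :=
    (hB.conj x).conj y
  set B₁ := (B.map (MulAut.conj x).toMonoidHom).map (MulAut.conj y).toMonoidHom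
  clear_value B₁
  set F := Cfsg.groupFusionSystem (P : Subgroup G)
  have hF : F.IsSaturated p := group_isSaturated P
  -- centric envelope
  set C := Subgroup.centralizer (B₁ : Set G) with hC
  set CP := centralizerIn (P : Subgroup G) B₁
  obtain ⟨Rc, hRc⟩ := HasSylowNormalizer.centralizer P hyN
  set R := B₁ ⊔ CP with hR
  have hRP : R ≤ (P : Subgroup G) := sup_le hyP (centralizerIn_le _ _)
  have hcentric : F.IsCentric R := by
    refine ⟨hRP, fun R' hR' c hc => ?_⟩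
    obtain ⟨-, -, g, rfl⟩ := isConj_group_iff.1 hR'
    obtain ⟨hcP, hcc⟩ := mem_centralizerIn.1 hc
    set z := g⁻¹ * c * g with hz
    have hzc : ∀ r ∈ R, r * z = z * r := by
      intro r hr
      have h1 : g * r * g⁻¹ * c = c * (g * r * g⁻¹) := hcc _ ⟨r, hr, rfl⟩
      calc r * z = g⁻¹ * (g * r * g⁻¹ * c) * g := by rw [hz]; group
        _ = g⁻¹ * (c * (g * r * g⁻¹)) * g := by rw [h1]
        _ = z * r := by rw [hz]; group
    have hzC : z ∈ C := fun b hb => hzc b (Subgroup.mem_sup_left hb)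
    -- a `p`-element of `C` commuting with a Sylow subgroup of `C` lies in it
    let D : Subgroup C := (Rc : Subgroup C) ⊔ Subgroup.zpowers ⟨z, hzC⟩
    have hn : Subgroup.zpowers (⟨z, hzC⟩ : C) ≤ Subgroup.normalizer ((Rc : Subgroup C) : Set C) := by
      rw [Subgroup.zpowers_le]
      refine mem_normalizer_of_finite fun r hr => ?_
      rw [hRc] at hr ⊢
      have hrC : (r : G) ∈ CP := Subgroup.mem_subgroupOf.1 hr
      refine Subgroup.mem_subgroupOf.2 ?_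
      show z * (r : G) * z⁻¹ ∈ CP
      rw [← hzc r (Subgroup.mem_sup_right hrC), mul_inv_cancel_right]
      exact hrC
    have hzp : IsPGroup p (Subgroup.zpowers (⟨z, hzC⟩ : C)) := by
      obtain ⟨k, hk⟩ := P.2 ⟨c, hcP⟩
      have hk' : (⟨z, hzC⟩ : C) ^ p ^ k = 1 := Subtype.ext (by
        show z ^ p ^ k = 1
        have h0 : c ^ p ^ k = 1 := congrArg Subtype.val hk
        rw [hz, show g⁻¹ * c * g = g⁻¹ * c * g⁻¹⁻¹ by rw [inv_inv], conj_pow, h0]
        group)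
      rintro ⟨_, i, rfl⟩
      exact ⟨k, Subtype.ext (by
        show ((⟨z, hzC⟩ : C) ^ i) ^ p ^ k = 1
        rw [← zpow_natCast, ← zpow_mul, mul_comm, zpow_mul, zpow_natCast, hk', one_zpow])⟩
    have hD : D = Rc := Rc.3 (Rc.2.to_sup_of_normal_left' hzp hn) le_sup_left
    have hzR : z ∈ R := by
      have h1 : (⟨z, hzC⟩ : C) ∈ (Rc : Subgroup C) :=
        hD ▸ Subgroup.mem_sup_right (Subgroup.mem_zpowers _)
      rw [hRc] at h1
      exact Subgroup.mem_sup_right (Subgroup.mem_subgroupOf.1 h1)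
    exact ⟨z, hzR, by simp [hz, mul_assoc]⟩
  obtain ⟨Q, hQR, hQn⟩ := exists_fullyNormalized F hRP
  obtain ⟨-, hQP, g, hgQ⟩ := isConj_group_iff.1 hQR
  have hQc := isCentric_of_isConj hcentric hQR
  have hN := normalizerSystem_spec F Q hQn.1
  have hQp : IsPGroup p (normalizerIn (P : Subgroup G) Q) := P.2.to_le (normalizerIn_le _ _)
  obtain ⟨L, _, ι, hL⟩ :=
    exists_model hQp (IsNormalizerSystem.isConstrained P.2 hF hQn hQc hN)
  have : Finite L := hL.1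
  refine hfree Q hQn hQc _ hN L ι hL ?_
  have hi := hL.2.1.1
  -- the subgroup in the model
  set B₂ := B₁.map (MulAut.conj g).toMonoidHom
  have hB₂Q : B₂ ≤ Q := hgQ ▸ Subgroup.map_mono le_sup_left
  have hQS' : Q ≤ normalizerIn (P : Subgroup G) Q := le_normalizerIn hQn.1
  have hB₂S : B₂ ≤ normalizerIn (P : Subgroup G) Q := hB₂Q.trans hQS'
  let e : B₂ ≃* imageAlong ι B₂ := (Subgroup.subgroupOfEquivOfLe hB₂S).symm.trans
    ((B₂.subgroupOf _).equivMapOfInjective ι hi)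
  have hsyl : ¬ p ∣ CP.relIndex C := by
    have := Rc.not_dvd_index
    rwa [hRc] at this
  refine HasPlaneAction.involves hp ((hplane.conj g).transfer e fun b hb => ?_)
  -- correct the element so that it normalizes `Q`
  set b₁ := g⁻¹ * b * g with hb₁
  have hb₁N : b₁ ∈ Subgroup.normalizer (B₁ : Set G) := mem_normalizer_of_finite fun w hw => by
    obtain ⟨w', hw', hwe⟩ :=
      conj_mem_of_mem_normalizer hb (⟨w, hw, rfl⟩ : g * w * g⁻¹ ∈ B₂)
    have hwe' : g * w' * g⁻¹ = b * (g * w * g⁻¹) * b⁻¹ := hwe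
    rw [show b₁ * w * b₁⁻¹ = g⁻¹ * (b * (g * w * g⁻¹) * b⁻¹) * g by rw [hb₁]; group, ← hwe']
    simpa [mul_assoc] using hw'
  have hb₁C : b₁ ∈ Subgroup.normalizer (C : Set G) := by
    refine mem_normalizer_of_finite fun w hw => fun v hv => ?_
    have h1 : b₁⁻¹ * v * b₁ ∈ B₁ := (mem_normalizer_iff'.1 hb₁N).2 _ hv
    have h2 := hw _ h1
    calc v * (b₁ * w * b₁⁻¹) = b₁ * (b₁⁻¹ * v * b₁ * w) * b₁⁻¹ := by group
      _ = b₁ * (w * (b₁⁻¹ * v * b₁)) * b₁⁻¹ := by rw [h2]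
      _ = _ := by group
  obtain ⟨k, hk, m, hm, hkm⟩ := exists_frattini_split (p := p) (K := C) (R := CP)
    (fun w hw => (mem_centralizerIn.1 hw).2) (P.2.to_le (centralizerIn_le _ _)) hsyl hb₁C
  have hmB : ∀ w ∈ B₁, m * w * m⁻¹ = b₁ * w * b₁⁻¹ := by
    intro w hw
    have h1 : b₁ * w * b₁⁻¹ ∈ B₁ := conj_mem_of_mem_normalizer hb₁N hw
    have h2 : k⁻¹ * (b₁ * w * b₁⁻¹) * k = b₁ * w * b₁⁻¹ := by
      rw [mul_assoc, hk _ h1, inv_mul_cancel_left]
    rw [← h2, hkm]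
    group
  have hmR : ∀ w ∈ R, m * w * m⁻¹ ∈ R := by
    have hle : R ≤ R.comap (MulAut.conj m).toMonoidHom := sup_le
      (fun w hw => Subgroup.mem_sup_left (show m * w * m⁻¹ ∈ B₁ from
        (hmB w hw).symm ▸ conj_mem_of_mem_normalizer hb₁N hw))
      fun w hw => Subgroup.mem_sup_right (conj_mem_of_mem_normalizer hm hw)
    exact fun w hw => hle hw
  set m' := g * m * g⁻¹ with hm'
  have hmQ : ∀ w ∈ Q, m' * w * m'⁻¹ ∈ Q := by
    intro w hw
    rw [← hgQ] at hw ⊢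
    obtain ⟨r, hr, rfl⟩ := hw
    exact ⟨m * r * m⁻¹, hmR r hr, by simp [hm', mul_assoc]⟩
  have hmem : conjHom Q m' ∈ F.Hom Q := by
    refine ⟨hQn.1, fun w => ?_, m', fun w => rfl⟩
    exact hQn.1 (hmQ _ w.2)
  have hmemN : conjHom Q m' ∈ (normalizerSystem F Q hQn.1).Hom Q := by
    refine ⟨hmem, hQS', fun w => hQS' (hmQ _ w.2), restr (sup_le le_rfl le_rfl) (conjHom Q m'),
      restr_mem F hmem _, fun w => rfl, ?_⟩
    show img (restr (sup_le le_rfl le_rfl) (conjHom Q m')) Q = Q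
    rw [img_restr _ _ le_sup_right]
    have := finite_of_le hQn.1
    refine Subgroup.eq_of_le_of_card_ge ?_
      (card_img (F.injective_of_mem hmem) le_rfl).ge
    rintro _ ⟨⟨w, hw⟩, -, rfl⟩
    exact hmQ w hw
  obtain ⟨l, hl⟩ := IsRealizedBy.exists_conj hL.2.1 hmemN
  have hle : ∀ (w : B₂) (hw : m' * (w : G) * m'⁻¹ ∈ B₂),
      l * (e w : L) * l⁻¹ = e ⟨_, hw⟩ := fun w hw => by
    have h1 := hl ⟨w, hB₂Q w.2⟩
    exact h1.symm.trans (congrArg ι (Subtype.ext rfl))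
  have hm'B : ∀ w ∈ B₂, m' * w * m'⁻¹ = b * w * b⁻¹ := by
    rintro _ ⟨w, hw, rfl⟩
    show g * m * g⁻¹ * (g * w * g⁻¹) * (g * m * g⁻¹)⁻¹ = b * (g * w * g⁻¹) * b⁻¹
    calc g * m * g⁻¹ * (g * w * g⁻¹) * (g * m * g⁻¹)⁻¹ = g * (m * w * m⁻¹) * g⁻¹ := by group
      _ = _ := by rw [hmB w hw, hb₁]; group
  refine ⟨l, mem_normalizer_of_finite fun w hw => ?_, fun w hw => ?_⟩
  · obtain ⟨v, rfl⟩ : ∃ v, (e v : L) = w := ⟨e.symm ⟨w, hw⟩, by rw [e.apply_symm_apply]⟩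
    have hv : m' * (v : G) * m'⁻¹ ∈ B₂ := (hm'B v v.2).symm ▸ conj_mem_of_mem_normalizer hb v.2
    rw [hle v hv]
    exact (e _).2
  · have hw' : m' * (w : G) * m'⁻¹ ∈ B₂ := (hm'B w w.2).symm ▸ hw
    rw [hle w hw']
    exact congrArg (fun z => (e z : L)) (Subtype.ext (hm'B w w.2))

end Cfsg.Agent.Lib.Fusion
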