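import Cfsg.Agent.Lib.FusionControl.KWeakClosure

/-!
A functor with quadratic elements outside `O_p` controls `p`-th powers of central elements in `O_p`.
-/

set_option autoImplicit false
set_option linter.unusedSectionVars false

namespace Cfsg.Agent.Lib.Fusion

open Cfsg.Agent.Lib.FusionControl
open scoped commutatorElement

universe u

variable {p : ℕ} [Fact p.Prime]

/-- `p`-th powers of central elements inside `O_p` centralized by the normalizer of the functor are
central. -/
theorem pow_center_control {W : ∀ (Q : Type u) [Group Q], Subgroup Q}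
    (hW : Cfsg.IsCharPFunctor.{u} p W)
    (hq : ∀ (G : Type u) [Group G] [Finite G] (P : Sylow p G),
      ¬ (((W ↥(P : Subgroup G)).map (P : Subgroup G).subtype : Subgroup G)).Normal →
        ∃ g : G, g ∈ (P : Subgroup G) ∧ g ∉ Cfsg.pCore p G ∧
          ⁅⁅Subgroup.center ↥(Cfsg.pCore p G) |>.map (Cfsg.pCore p G).subtype, Subgroup.zpowers g⁆,
            Subgroup.zpowers g⁆ = ⊥) :
    ∀ (n : ℕ) (G : Type u) [Group G] [Finite G], Nat.card G = n → ∀ (P : Sylow p G) (z : G),
      z ∈ (P : Subgroup G) ⊓ Subgroup.centralizer ((P : Subgroup G) : Set G) →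
      z ^ p ∈ Cfsg.pCore p G →
      Subgroup.normalizer ((Cfsg.inducedFunctor W (P : Subgroup G) : Subgroup G) : Set G) ≤
        Subgroup.centralizer ({z ^ p} : Set G) →
      Subgroup.centralizer ({z ^ p} : Set G) = ⊤ := by
  intro n
  induction n using Nat.strong_induction_on with
  | _ n ih =>
  intro G _ _ hn P z hz hxQ hK
  set Cx := Subgroup.centralizer ({z ^ p} : Set G) with hCx
  -- proper overgroups of `P` centralize the power
  have hprop : ∀ M : Subgroup G, M ≠ ⊤ → (P : Subgroup G) ≤ M → M ≤ Cx := by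
    intro M hne hPM m hm
    have hzM : z ∈ M := hPM hz.1
    have hQM : Cfsg.pCore p G ≤ M := (pCore_le_S P).trans hPM
    have hmap : ((P.subtype hPM : Sylow p M) : Subgroup M).map M.subtype = (P : Subgroup G) := by
      rw [Sylow.coe_subtype, Subgroup.subgroupOf_map_subtype, inf_eq_left.2 hPM]
    have h1 := ih _ (hn ▸ card_lt_of_ne_top hne) M rfl (P.subtype hPM) ⟨z, hzM⟩ ?_ ?_ ?_
    · have h2 := Subgroup.mem_centralizer_singleton_iff.1 (h1 ▸ Subgroup.mem_top (⟨m, hm⟩ : M) :
        (⟨m, hm⟩ : M) ∈ Subgroup.centralizer ({(⟨z, hzM⟩ : M) ^ p} : Set M))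
      exact Subgroup.mem_centralizer_singleton_iff.2 (congrArg Subtype.val h2)
    · refine Subgroup.mem_inf.2 ⟨?_, fun t ht => Subtype.ext (hz.2 _ ?_)⟩
      · rw [Sylow.coe_subtype]
        exact Subgroup.mem_subgroupOf.2 hz.1
      · rw [SetLike.mem_coe, Sylow.coe_subtype] at ht
        exact Subgroup.mem_subgroupOf.1 ht
    · exact Cfsg.Agent.Lib.Cores.le_pCore (N := (Cfsg.pCore p G).subgroupOf M) inferInstance
        ((Cfsg.Agent.Lib.Cores.pCore_isPGroup p G).of_equiv
          (Subgroup.subgroupOfEquivOfLe hQM).symm) (Subgroup.mem_subgroupOf.2 hxQ)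
    · intro y hy
      have h2 : M.subtype y ∈ Subgroup.normalizer
          ((Cfsg.inducedFunctor W (P : Subgroup G) : Subgroup G) : Set G) := by
        rw [← hmap]
        exact mem_normalizer_functor_map (𝓦 := {W}) (by rintro _ rfl; exact hW) _
          M.subtype_injective (P.subtype hPM).2 rfl hy
      exact Subgroup.mem_centralizer_singleton_iff.2
        (Subtype.ext (Subgroup.mem_centralizer_singleton_iff.1 (hK h2)))
  by_cases hKn : (Cfsg.inducedFunctor W (P : Subgroup G)).Normal
  · rw [eq_top_iff]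
    exact (Subgroup.normalizer_eq_top_iff.2 hKn).ge.trans hK
  set Q := Cfsg.pCore p G with hQdef
  have hQn : Q.Normal := by rw [hQdef]; infer_instance
  have hQS : Q ≤ (P : Subgroup G) := pCore_le_S P
  -- Frattini with a normal subgroup centralizing the power
  have frat : ∀ C : Subgroup G, C.Normal → C ≤ Cx → ¬ (P : Subgroup G) ⊓ C ≤ Q → Cx = ⊤ := by
    intro C hCn hCA hne
    set R := (P : Subgroup G) ⊓ C with hR
    have hSR : (P : Subgroup G) ≤ Subgroup.normalizer (R : Set G) := fun s hs => by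
      rw [mem_normalizer_iff_cj, hR, cj_inf, mem_normalizer_iff_cj.1 (Subgroup.le_normalizer hs),
        mem_normalizer_iff_cj.1 (show s ∈ Subgroup.normalizer (C : Set G) by
          rw [Subgroup.normalizer_eq_top]; trivial)]
    have hNR := hprop _ (normalizer_ne_top_of_pCore (P.2.to_le inf_le_left) hne) hSR
    rw [eq_top_iff]
    intro x _
    obtain ⟨k, hk, y, hy, rfl⟩ := exists_frattini_split (p := p) (K := C) (R := R) (x := x)
      inf_le_right (P.2.to_le inf_le_left) (not_dvd_relIndex_inf le_top P.2 (sylow_relIndex_top P)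
        le_top (by rw [Subgroup.normalizer_eq_top])) (by rw [Subgroup.normalizer_eq_top]; trivial)
    exact mul_mem (hCA hk) (hNR hy)
  by_cases hSC : (P : Subgroup G) ⊓ Subgroup.centralizer (Q : Set G) ≤ Q
  swap
  · exact frat _ inferInstance (Subgroup.centralizer_le (Set.singleton_subset_iff.2 hxQ)) hSC
  -- the centre of `P` lies in the centre of `Q`
  set ZQ := Q ⊓ Subgroup.centralizer (Q : Set G) with hZQ
  have hZQn : ZQ.Normal := by rw [hZQ]; infer_instance
  have hzQ : z ∈ ZQ := by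
    have hzc := Subgroup.centralizer_le hQS hz.2
    exact Subgroup.mem_inf.2 ⟨hSC (Subgroup.mem_inf.2 ⟨hz.1, hzc⟩), hzc⟩
  obtain ⟨g, hgS, hgQ, hquad⟩ := hq G P hKn
  obtain ⟨w, hwS, hwQ, hwp, hwg⟩ : ∃ w, w ∈ (P : Subgroup G) ∧ w ∉ Q ∧ w ^ p ∈ Q ∧
      w ∈ Subgroup.zpowers g := by
    obtain ⟨k, hk⟩ := P.2 ⟨g, hgS⟩
    have hk' : g ^ p ^ k ∈ Q := by
      have := congrArg Subtype.val hk
      rw [Subgroup.coe_pow, Subgroup.coe_one] at this
      rw [this]; exact one_mem _
    classical
    have hex : ∃ m, g ^ p ^ m ∈ Q := ⟨k, hk'⟩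
    obtain ⟨m, hm⟩ : ∃ m, Nat.find hex = m + 1 := by
      refine Nat.exists_eq_succ_of_ne_zero fun h0 => hgQ ?_
      have := Nat.find_spec hex
      rwa [h0, pow_zero, pow_one] at this
    refine ⟨g ^ p ^ m, pow_mem hgS _, Nat.find_min hex (by omega), ?_,
      pow_mem (Subgroup.mem_zpowers g) _⟩
    rw [← pow_mul, ← pow_succ, ← hm]
    exact Nat.find_spec hex
  have hq' : ∀ y ∈ ZQ, ⁅w, ⁅w, y⁆⁆ = 1 := by
    intro y hy
    obtain ⟨hy1, hy2⟩ := Subgroup.mem_inf.1 hy
    have hyZ : y ∈ (Subgroup.center ↥Q).map Q.subtype := ⟨⟨y, hy1⟩,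
      Subgroup.mem_center_iff.2 fun t => Subtype.ext (hy2 _ t.2), rfl⟩
    have h1 : ⁅w, y⁆ ∈ ⁅(Subgroup.center ↥Q).map Q.subtype, Subgroup.zpowers g⁆ := by
      rw [← commutatorElement_inv]
      exact inv_mem (Subgroup.commutator_mem_commutator hyZ hwg)
    have h2 := Subgroup.commutator_mem_commutator h1 hwg
    rw [hquad, Subgroup.mem_bot] at h2
    rw [← commutatorElement_inv, h2, inv_one]
  set V := Subgroup.normalClosure ({z ^ p} : Set G) with hV
  have hwV : w ∈ Subgroup.centralizer (V : Set G) := by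
    have hle : V ≤ Subgroup.centralizer ({w} : Set G) := by
      rw [hV]
      refine (Subgroup.closure_le _).2 fun v hv => ?_
      obtain ⟨_, hz', hcj⟩ := Group.mem_conjugatesOfSet_iff.1 hv
      rw [Set.mem_singleton_iff] at hz'
      subst hz'
      obtain ⟨x, rfl⟩ := isConj_iff.1 hcj
      rw [SetLike.mem_coe, Subgroup.mem_centralizer_singleton_iff, ← conj_pow]
      have hy := hZQn.conj_mem z hzQ x
      have hyc : Commute (x * z * x⁻¹) ⁅w, x * z * x⁻¹⁆ := by
        have h1 : ⁅w, x * z * x⁻¹⁆ ∈ ZQ := Subgroup.commutator_le_right ⊤ ZQ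
          (Subgroup.commutator_mem_commutator (Subgroup.mem_top w) hy)
        exact Subgroup.mem_centralizer_iff.1 (Subgroup.mem_inf.1 h1).2 _ (Subgroup.mem_inf.1 hy).1
      exact (commute_pow_of_quad (hq' _ hy) hyc
        (Subgroup.mem_centralizer_iff.1 (Subgroup.mem_inf.1 hy).2 _ hwp)).eq.symm
    rw [Subgroup.mem_centralizer_iff]
    intro v hv
    exact Subgroup.mem_centralizer_singleton_iff.1 (hle hv)
  refine frat _ inferInstance (Subgroup.centralizer_le (Set.singleton_subset_iff.2 ?_))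
    fun hle => hwQ (hle (Subgroup.mem_inf.2 ⟨hwS, hwV⟩))
  exact Subgroup.subset_normalClosure rfl

end Cfsg.Agent.Lib.Fusion
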