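import Cfsg.Agent.Lib.Fusion.SimpleCriterion2
import Cfsg.Agent.Lib.Fusion.NormalCriteria
import Cfsg.Agent.Lib.Involutions.OneClass
import Cfsg.Agent.Lib.Involutions.AutomizerTools
import Cfsg.Agent.Lib.Involutions.WreathedCentric

/-!
The fusion system of a finite group without subgroups of index two on a quasi-dihedral or wreathed
Sylow `2`-subgroup is simple.
-/

set_option autoImplicit false
set_option linter.unusedSectionVars false

namespace Cfsg.Agent.Lib.Fusion

open Cfsg Cfsg.FusionSystem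
open Cfsg.Agent.Lib.Involutions

/-- A quasi-dihedral group has no automorphism of odd order. -/
theorem noOddAut_qd {D : Type*} [Group D] {x y : D} {n : ℕ} (h : QDGen x y n) : NoOddAut D := by
  have := h.finite
  have hD : IsPGroup 2 D := IsPGroup.of_card h.card
  intro φ hodd
  have hord : ∀ u : D, orderOf (φ u) = orderOf u := fun u =>
    orderOf_injective φ.toMonoidHom φ.injective u
  have hout : ∀ i : ℤ, orderOf (x ^ i * y) ≠ 2 ^ n := fun i he => by
    have h8 : 2 ^ 3 ≤ 2 ^ n := Nat.pow_le_pow_right two_pos h.hn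
    rcases Int.even_or_odd i with hi | hi
    · rw [h.orderOf_y_even hi] at he; omega
    · rw [h.orderOf_y_odd hi] at he; omega
  have hxc : φ x ∈ Subgroup.zpowers x := by
    obtain ⟨i, e | e⟩ := h.normal_form (φ x)
    · rw [e]; exact Subgroup.zpow_mem_zpowers x i
    · exact absurd (e ▸ (hord x).trans h.ox) (hout i)
  have hx : φ x = x := fix_cyclic hD hodd hxc
  have hfix : ∀ i : ℤ, φ (x ^ i) = x ^ i := fun i => by rw [map_zpow, hx]
  have hy : φ y = y := by
    obtain ⟨i, e | e⟩ := h.normal_form (φ y)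
    · exfalso
      refine h.y_not_mem (Subgroup.mem_zpowers_iff.2 ⟨i, φ.injective ?_⟩)
      rw [hfix, e]
    · refine fix_of_moves_by_fixed hD hodd (c := y⁻¹ * (x ^ i * y)) ?_ (by rw [mul_inv_cancel_left, e])
      have e1 : y⁻¹ * (x ^ i * y) = x ^ (qdExp n * i) := by
        rw [h.y_inv, ← mul_assoc, h.y_mul_zpow, mul_assoc,
          show y * y = 1 from invol_mul_self h.oy, mul_one]
      rw [e1, hfix]
  refine MulEquiv.ext fun u => ?_
  obtain ⟨i, rfl | rfl⟩ := h.normal_form u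
  · rw [hfix]; rfl
  · rw [map_mul, hfix, hy]; rfl

/-- A wreathed group has no automorphism of odd order. -/
theorem noOddAut_wr {D : Type*} [Group D] {x y z : D} {n : ℕ} (h : WRGen x y z n) : NoOddAut D := by
  rcases h.centric_cases ⊤ (fun _ _ => Subgroup.mem_top _) with e | ⟨s, e⟩ | hno
  · exact absurd (e ▸ Subgroup.mem_top z : z ∈ h.base) fun hz => h.z_mem_base_false 0 0 (by
      rw [h.el_zero, one_mul]; exact hz)
  · exfalso
    rw [Subgroup.map_top_of_surjective _ (MulAut.conj s).surjective] at e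
    have hx : el x y 1 0 ∈ h.vsub := e ▸ Subgroup.mem_top _
    rw [h.el_mem_vsub_iff] at hx
    have h2 : (2 : ℤ) ∣ 2 ^ (n - 2 + 1) := dvd_pow_self 2 (Nat.succ_ne_zero _)
    have := h.hn
    revert hx
    norm_num
    intro hx
    have h4 := Int.eq_one_of_dvd_one (by positivity) hx
    have h5 : (2 : ℤ) ^ 0 < 2 ^ (n - 1) := pow_lt_pow_right₀ one_lt_two (by omega)
    have h6 : (2 : ℤ) ^ (n - 2) < 2 ^ (n - 1) := pow_lt_pow_right₀ one_lt_two (by omega)
    omega
  · exact noOddAut_congr Subgroup.topEquiv hno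

variable {G : Type*} [Group G] [Finite G]

/-- Simplicity: no proper closed subgroup and no automorphism of odd order on the Sylow subgroup. -/
theorem isSimple_of_noOddAut (S : Sylow 2 G) [Fact (Nat.Prime 2)] (hS : (S : Subgroup G) ≠ ⊥)
    (hcl : ClosedTrivial (S : Subgroup G)) (hA : NoOddAut ↥(S : Subgroup G)) :
    (groupFusionSystem (S : Subgroup G)).IsSimple 2 := by
  refine ⟨group_isSaturated S, hS, fun T E hE => ?_⟩
  obtain ⟨⟨hEsat, -, hsub, hT, -, hfr⟩, -⟩ := hE
  by_cases hT0 : T = ⊥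
  · exact Or.inl hT0
  have hTS : T = S := by
    refine hcl T hT.1 hT0 fun x hx g hg => ?_
    have hle : Subgroup.zpowers x ≤ T := Subgroup.zpowers_le.2 hx
    refine hT.2 _ hle _ (conjHom_mem_group (g := g) (hle.trans hT.1) ?_) ⟨x, Subgroup.mem_zpowers x⟩
    rw [MonoidHom.map_zpowers, Subgroup.zpowers_le]
    exact hg
  subst hTS
  refine Or.inr ⟨rfl, fun P => Set.Subset.antisymm (hsub P) fun φ hφ => ?_⟩
  set F := groupFusionSystem (S : Subgroup G) with hF
  have hAp : IsPGroup 2 (MulAut ↥(S : Subgroup G)) := isPGroup_mulAut_of_noOddAut hA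
  have hInn : F.autGroup (S : Subgroup G) ≤ Inn (S : Subgroup G) := by
    obtain ⟨⟨-, R, hR⟩, -⟩ := IsSaturated.automized_receptive S.isPGroup' (group_isSaturated S)
      (isFullyNormalized_top F)
    rw [autInducedBy_self] at hR
    intro α hα
    have hle : (⊤ : Subgroup (F.autGroup (S : Subgroup G))) ≤ (R : Subgroup _) :=
      (R.3 (Q := ⊤) ((hAp.to_subgroup _).to_subgroup ⊤) le_top).le
    have := hle (Subgroup.mem_top ⟨α, hα⟩)
    rw [hR] at this
    exact this
  have hPS := source_le hφ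
  obtain ⟨α, hα, φ₀, hφ₀, he⟩ := hfr P hPS φ hφ
  have hαE : autHom α ∈ E.Hom (S : Subgroup G) :=
    autHom_mem E le_rfl (inn_le_autGroup E le_rfl (hInn hα))
  have hm : ∀ y, φ₀ y ∈ (S : Subgroup G) := fun y => apply_mem hφ₀ y
  have e : φ = compose φ₀ (autHom α) hm := MonoidHom.ext fun x => he x (hm x)
  rw [e]
  exact compose_mem E hφ₀ hαE hm

variable (S : Sylow 2 G)

/-- A closed subgroup contains all involutions. -/
theorem invol_mem_closed (hS : Cfsg.IsQuasiDihedral (S : Subgroup G) ∨ Cfsg.IsWreathed (S : Subgroup G))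
    (hG : ∀ H : Subgroup G, H.index ≠ 2) {T : Subgroup G} (hT : T ≤ S) (hT0 : T ≠ ⊥)
    (hcl : ∀ x ∈ T, ∀ g : G, g * x * g⁻¹ ∈ (S : Subgroup G) → g * x * g⁻¹ ∈ T)
    {u : (S : Subgroup G)} (hu : orderOf u = 2) : u ∈ T.subgroupOf (S : Subgroup G) := by
  have : Fact (Nat.Prime 2) := ⟨Nat.prime_two⟩
  have hTp : IsPGroup 2 T := S.isPGroup'.to_le hT
  haveI : Nontrivial T := (Subgroup.nontrivial_iff_ne_bot T).2 hT0
  obtain ⟨k, hk, hc⟩ := hTp.nontrivial_iff_card.1 inferInstance
  obtain ⟨a, ha⟩ := exists_prime_orderOf_dvd_card' (G := T) 2 (hc ▸ dvd_pow_self 2 hk.ne')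
  obtain ⟨g, hg⟩ := isConj_iff.1 (invol_isConj S hS hG (a := (a : G)) (b := (u : G))
    (by rw [Subgroup.orderOf_coe, ha]) (by rw [Subgroup.orderOf_coe, hu]))
  rw [Subgroup.mem_subgroupOf]
  rw [← hg]
  exact hcl _ a.2 g (hg ▸ u.2)

theorem closedTrivial_qd (hS : Cfsg.IsQuasiDihedral (S : Subgroup G))
    (hG : ∀ H : Subgroup G, H.index ≠ 2) : ClosedTrivial (S : Subgroup G) := by
  intro T hT hT0 hcl
  obtain ⟨x, y, n, h⟩ := exists_qdGen hS
  have := h.finite
  set M := T.subgroupOf (S : Subgroup G) with hM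
  have hinv : ∀ u v : (S : Subgroup G), IsConj (u : G) (v : G) → u ∈ M → v ∈ M := by
    intro u v huv hu
    obtain ⟨g, hg⟩ := isConj_iff.1 huv
    rw [hM, Subgroup.mem_subgroupOf] at hu ⊢
    rw [← hg]
    exact hcl _ hu g (hg ▸ v.2)
  have hyM : ∀ i : ℤ, Even i → x ^ i * y ∈ M := fun i hi =>
    invol_mem_closed S (Or.inl hS) hG hT hT0 hcl (h.orderOf_y_even hi)
  have hle : h.halfSub 0 ≤ M := by
    rintro u ⟨k, rfl | rfl⟩
    · have h1 := mul_mem (hyM (2 * k) (even_two_mul k)) (hyM 0 Even.zero)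
      rwa [zpow_zero, one_mul, mul_assoc, invol_mul_self h.oy, mul_one] at h1
    · exact hyM _ (by rw [add_zero]; exact even_two_mul k)
  suffices hMt : M = ⊤ by
    exact le_antisymm hT (Subgroup.subgroupOf_eq_top.1 hMt)
  have hd := Subgroup.index_dvd_of_le hle
  rw [h.index_halfSub] at hd
  rcases (Nat.dvd_prime Nat.prime_two).1 hd with e | e
  · exact Subgroup.index_eq_one.1 e
  · obtain ⟨K, -, hK, -⟩ := QDFusion.exists_index_two_of_invariant S e hinv
    exact absurd hK (hG K)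

theorem closedTrivial_wr (hS : Cfsg.IsWreathed (S : Subgroup G))
    (hG : ∀ H : Subgroup G, H.index ≠ 2) : ClosedTrivial (S : Subgroup G) := by
  intro T hT hT0 hcl
  have : Fact (Nat.Prime 2) := ⟨Nat.prime_two⟩
  obtain ⟨x, y, z, n, h⟩ := exists_wrGen hS
  have := h.finite
  set M := T.subgroupOf (S : Subgroup G) with hM
  obtain ⟨t, h0, -, h2, -, -, hU26⟩ := WRFusion.exists_threeU S h
  have hU6 := hU26.resolve_left fun h₁ => by
    obtain ⟨φ, hel, -, hinv'⟩ := WRFusion.exists_invariant_hom S h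
    have hT := transfer_eq_pow_of_invariant S φ (hinv' h₁) (el x y 1 0)
    obtain ⟨H, hH⟩ := exists_index_two_of_hom (IsPGroup.of_card (n := n)
      (by rw [Nat.card_congr Multiplicative.toAdd, Nat.card_zmod])) (MonoidHom.transfer φ)
      (g := ((el x y 1 0 : (S : Subgroup G)) : G)) (by
        rw [hT, hel]
        intro he
        have h1 : orderOf (Multiplicative.ofAdd (((1 : ℤ) + 0 : ℤ) : ZMod (2 ^ n))) = 1 := by
          refine Nat.eq_one_of_dvd_coprimes
            ((Nat.coprime_two_right.2 (Nat.odd_iff.2 (Nat.two_dvd_ne_zero.1 S.not_dvd_index))).pow_right n)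
            (orderOf_dvd_of_pow_eq_one he) ?_
          have hd := orderOf_dvd_natCard (Multiplicative.ofAdd (((1 : ℤ) + 0 : ℤ) : ZMod (2 ^ n)))
          rwa [Nat.card_congr Multiplicative.toAdd, Nat.card_zmod] at hd
        rw [orderOf_eq_one_iff, ofAdd_eq_one, add_zero, Int.cast_one,
          ← Nat.cast_one, ZMod.natCast_eq_zero_iff] at h1
        have := h.hn
        have h4 : 2 ^ 2 ≤ 2 ^ n := Nat.pow_le_pow_right two_pos this
        have := Nat.le_of_dvd one_pos h1
        omega)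
    exact hG H hH
  have hinvol : ∀ u : (S : Subgroup G), orderOf u = 2 → u ∈ M := fun u hu =>
    invol_mem_closed S (Or.inr hS) hG hT hT0 hcl hu
  have hz : z ∈ M := hinvol _ h.oz
  have hanti : ∀ k : ℤ, el x y k (-k) ∈ M := fun k => by
    have h1 := mul_mem (hinvol _ (h.orderOf_el_z (i := k) (j := -k) (by simp))) hz
    rwa [mul_assoc, invol_mul_self h.oz, mul_one] at h1
  -- fusion in the base moves the element with exponents `(1, -1)` to one with exponent sum odd
  set q : ℤ := 2 ^ (n - 1) with hq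
  have hqq : (2 : ℤ) ^ n ∣ q + q := ⟨1, by rw [h.two_pow_eq.1]; ring⟩
  obtain ⟨⟨g, hg⟩, hgp⟩ := t.perm_surjective hU6 (Equiv.swap 2 0)
  have him := (t.img_eq_iff ⟨g, hg⟩ 2 0).1 (by
    rw [← Three.perm_apply, hgp, Equiv.swap_apply_left])
  rw [h0, h2] at him
  have hgc : g * WRFusion.eg S h q q * g⁻¹ = WRFusion.eg S h q 0 := by
    rcases him with e | e
    · exact e
    · rw [e, WRFusion.eg, ← Subgroup.coe_inv, h.el_inv]
      refine congrArg Subtype.val (h.el_eq_iff.2 ⟨⟨-1, ?_⟩, by simp⟩)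
      rw [h.two_pow_eq.1]; ring
  obtain ⟨a, b, hab⟩ := (WRFusion.mem_UG S h).1
    ((Subgroup.mem_set_normalizer_iff.1 hg (WRFusion.eg S h 1 (-1))).1
      ((WRFusion.mem_UG S h).2 ⟨1, -1, rfl⟩))
  have habM : el x y a b ∈ M := by
    have h1 := hanti 1
    rw [hM, Subgroup.mem_subgroupOf] at h1 ⊢
    have h2' := hcl _ h1 g
    rw [show g * ((el x y 1 (-1) : (S : Subgroup G)) : G) * g⁻¹ = WRFusion.eg S h a b from hab] at h2'
    exact h2' (el x y a b).2
  have hab' : (2 : ℤ) ^ n ∣ a * q - q ∧ (2 : ℤ) ^ n ∣ b * q := by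
    have hzp : ∀ p r k : ℤ, WRFusion.eg S h p r ^ k = WRFusion.eg S h (p * k) (r * k) := fun p r k => by
      rw [WRFusion.eg, WRFusion.eg, ← Subgroup.coe_zpow, h.el_zpow]
    have e1 : WRFusion.eg S h (a * q) (b * q) = WRFusion.eg S h q 0 := by
      rw [← hzp, ← hab, conj_zpow, hzp, ← hgc]
      refine congrArg (fun w => g * w * g⁻¹) (congrArg Subtype.val (h.el_eq_iff.2 ⟨⟨0, by ring⟩, ⟨-1, ?_⟩⟩))
      rw [h.two_pow_eq.1]; ring
    have e2 := h.el_eq_iff.1 (Subtype.ext e1)
    exact ⟨e2.1, by simpa using e2.2⟩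
  have hodd : Odd (a + b) := by
    obtain ⟨c, hc⟩ := hab'.1
    obtain ⟨d, hd⟩ := hab'.2
    rw [h.two_pow_eq.1] at hc hd
    have hq0 : q ≠ 0 := by positivity
    have h1 : a - 1 = 2 * c := mul_right_cancel₀ hq0 (by linear_combination hc)
    have h2 : b = 2 * d := mul_right_cancel₀ hq0 (by linear_combination hd)
    exact ⟨c + d, by omega⟩
  have hsum : el x y (a + b) 0 ∈ M := by
    have h1 := mul_mem habM (hanti b)
    rwa [h.el_mul, add_neg_cancel] at h1
  have hx : el x y 1 0 ∈ M := by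
    obtain ⟨m, hm⟩ := hodd
    obtain ⟨r, s, hrs⟩ : IsCoprime (2 * m + 1) ((2 : ℤ) ^ n) :=
      IsCoprime.pow_right ⟨1, -m, by ring⟩
    have h1 := zpow_mem hsum r
    rw [h.el_zpow, zero_mul] at h1
    rwa [show el x y ((a + b) * r) 0 = el x y 1 0 from
      h.el_eq_iff.2 ⟨⟨-s, by rw [hm]; linear_combination hrs⟩, by simp⟩] at h1
  have hall : ∀ i j, el x y i j ∈ M := by
    intro i j
    have hy : el x y 0 1 ∈ M := by
      have h1 := mul_mem hx (inv_mem (hanti 1))
      rw [h.el_inv, h.el_mul] at h1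
      simpa using h1
    have h1 := mul_mem (zpow_mem hx i) (zpow_mem hy j)
    rw [h.el_zpow, h.el_zpow, h.el_mul] at h1
    simpa using h1
  refine le_antisymm hT (Subgroup.subgroupOf_eq_top.1 (top_le_iff.1 fun u _ => ?_))
  obtain ⟨i, j, rfl | rfl⟩ := h.normal_form u
  · exact hall i j
  · exact mul_mem (hall i j) hz

/-- **The fusion system is simple.** -/
theorem isSimple_of_qd_or_wreathed [Fact (Nat.Prime 2)]
    (hS : Cfsg.IsQuasiDihedral (S : Subgroup G) ∨ Cfsg.IsWreathed (S : Subgroup G))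
    (hG : ∀ H : Subgroup G, H.index ≠ 2) :
    (groupFusionSystem (S : Subgroup G)).IsSimple 2 := by
  rcases hS with hQ | hW
  · obtain ⟨x, y, n, h⟩ := exists_qdGen hQ
    refine isSimple_of_noOddAut S (fun e => ?_) (closedTrivial_qd S hQ hG) (noOddAut_qd h)
    have h1 := h.card
    rw [e, Subgroup.card_bot] at h1
    exact (Nat.one_lt_two_pow (Nat.succ_ne_zero n)).ne h1
  · obtain ⟨x, y, z, n, h⟩ := exists_wrGen hW
    refine isSimple_of_noOddAut S (fun e => ?_) (closedTrivial_wr S hW hG) (noOddAut_wr h)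
    have h1 := h.card
    rw [e, Subgroup.card_bot] at h1
    exact (Nat.one_lt_two_pow (Nat.succ_ne_zero (2 * n))).ne h1

end Cfsg.Agent.Lib.Fusion
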