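import Cfsg.Agent.Lib.Fusion.RankTwoSimple
import Cfsg.Agent.S1217
import Cfsg.Agent.S1218
import Cfsg.Agent.S1219
import Cfsg.Agent.Lib.Classical.LinearSimple
import Cfsg.Agent.Lib.Classical.UnitarySimple

/-!
The Sylow `2`-subgroups of `PSL₃` and `PSU₃` in odd characteristic.
-/

set_option autoImplicit false
set_option linter.unusedSectionVars false

namespace Cfsg.Agent.Lib.Fusion

open Cfsg Cfsg.Agent.Lib.Involutions
open scoped MatrixGroups Matrix

/-- A homomorphism with kernel of odd order, between groups with the same `2`-part, identifies the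
Sylow `2`-subgroups. -/
theorem nonempty_sylow_equiv {H G : Type*} [Group H] [Group G] [Finite H] [Finite G] (f : H →* G)
    (hker : Odd (Nat.card f.ker)) {a b : ℕ} (hb : Odd b)
    (hcard : Nat.card G * a = Nat.card H * b) (S : Sylow 2 G) :
    ∃ P : Sylow 2 H, Nonempty ((P : Subgroup H) ≃* (S : Subgroup G)) := by
  have : Fact (Nat.Prime 2) := ⟨Nat.prime_two⟩
  obtain ⟨P⟩ : Nonempty (Sylow 2 H) := inferInstance
  have hinj : Function.Injective (f.comp (P : Subgroup H).subtype) := by
    rw [← MonoidHom.ker_eq_bot_iff]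
    refine (Subgroup.eq_bot_iff_forall _).2 fun x hx => ?_
    obtain ⟨k, hk⟩ := P.isPGroup' x
    have h1 : orderOf (x : H) ∣ Nat.card f.ker := Subgroup.orderOf_dvd_natCard f.ker hx
    have h2 : orderOf (x : H) ∣ 2 ^ k := orderOf_dvd_of_pow_eq_one (congrArg Subtype.val hk)
    exact Subtype.ext (orderOf_eq_one_iff.1
      (Nat.eq_one_of_dvd_coprimes ((Nat.coprime_two_right.2 hker).pow_right k) h1 h2))
  set Q := (f.comp (P : Subgroup H).subtype).range with hQ
  have hQp : IsPGroup 2 Q :=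
    P.isPGroup'.of_surjective _ (f.comp (P : Subgroup H).subtype).rangeRestrict_surjective
  obtain ⟨R, hR⟩ := hQp.exists_le_sylow
  have hQc : Nat.card Q = Nat.card (P : Subgroup H) :=
    Nat.card_congr (MonoidHom.ofInjective hinj).toEquiv.symm
  have hRQ : (R : Subgroup G) = Q := by
    refine (Subgroup.eq_of_le_of_card_ge hR ?_).symm
    rw [hQc]
    obtain ⟨r, hr⟩ := IsPGroup.iff_card.1 R.isPGroup'
    have h1 : Nat.card (R : Subgroup G) ∣ Nat.card H * b := by
      rw [← hcard]; exact dvd_mul_of_dvd_left (Subgroup.card_subgroup_dvd_card _) a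
    have h2 : Nat.card (R : Subgroup G) ∣ Nat.card H := by
      refine Nat.Coprime.dvd_of_dvd_mul_right ?_ h1
      rw [hr]
      exact ((Nat.coprime_two_right.2 hb).pow_right r).symm
    rw [← (P : Subgroup H).card_mul_index] at h2
    refine Nat.le_of_dvd Nat.card_pos (Nat.Coprime.dvd_of_dvd_mul_right ?_ h2)
    rw [hr]
    exact (Nat.Prime.coprime_iff_not_dvd Nat.prime_two).2 P.not_dvd_index |>.pow_left r
  exact ⟨P, ⟨(MonoidHom.ofInjective hinj).trans
    ((MulEquiv.subgroupCongr hRQ.symm).trans (R.equiv S))⟩⟩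

theorem shape_congr {A B : Type*} [Group A] [Group B] (e : A ≃* B)
    (h : Cfsg.IsQuasiDihedral A ∨ Cfsg.IsWreathed A) :
    Cfsg.IsQuasiDihedral B ∨ Cfsg.IsWreathed B := by
  rcases h with ⟨n, hn, hc, x, y, hx, hy, hxy⟩ | ⟨n, hn, hc, x, y, z, hx, hxy, hd, hz, hzx⟩
  · exact Or.inl ⟨n, hn, (Nat.card_congr e.toEquiv).symm.trans hc, e x, e y,
      by rw [e.orderOf_eq, hx], by rw [e.orderOf_eq, hy],
      by rw [← map_inv, ← map_mul, ← map_mul, ← map_pow, hxy]⟩
  · refine Or.inr ⟨n, hn, (Nat.card_congr e.toEquiv).symm.trans hc, e x, e y, e z,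
      by rw [e.orderOf_eq, hx], by rw [← map_mul, ← map_mul, hxy], ?_, by rw [e.orderOf_eq, hz],
      by rw [← map_inv, ← map_mul, ← map_mul, hzx]⟩
    rw [← MulEquiv.coe_toMonoidHom, ← MonoidHom.map_zpowers, ← MonoidHom.map_zpowers,
      ← Subgroup.map_inf _ _ _ e.injective, hd, Subgroup.map_bot]

variable {F : Type*} [Field F] [Fintype F]

theorem blockHom_injective : Function.Injective (S1219.blockHom (F := F)) := by
  intro A B h
  apply Units.ext
  ext i j
  have h' : ∀ a b, S1219.blockMat (A : Matrix (Fin 2) (Fin 2) F) a b =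
      S1219.blockMat (B : Matrix (Fin 2) (Fin 2) F) a b :=
    fun a b => congrFun (congrFun (congrArg Subtype.val h) a) b
  fin_cases i <;> fin_cases j
  · simpa [S1219.blockMat] using h' 1 1
  · simpa [S1219.blockMat] using h' 1 2
  · simpa [S1219.blockMat] using h' 2 1
  · simpa [S1219.blockMat] using h' 2 2

theorem odd_gcd_three (m : ℕ) : Odd (Nat.gcd 3 m) := by
  rcases (Nat.dvd_prime Nat.prime_three).1 (Nat.gcd_dvd_left 3 m) with e | e <;> rw [e] <;> decide

/-- The Sylow `2`-subgroups of `PSL₃(q)`, `q` odd. -/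
theorem pslThree_shape (hodd : Fintype.card F % 2 = 1)
    (S : Sylow 2 (Matrix.ProjectiveSpecialLinearGroup (Fin 3) F)) :
    Cfsg.IsQuasiDihedral (S : Subgroup (Matrix.ProjectiveSpecialLinearGroup (Fin 3) F)) ∨
      Cfsg.IsWreathed (S : Subgroup (Matrix.ProjectiveSpecialLinearGroup (Fin 3) F)) := by
  classical
  set f := (QuotientGroup.mk' (Subgroup.center (Matrix.SpecialLinearGroup (Fin 3) F))).comp
    (S1219.blockHom (F := F))
  have hker : Odd (Nat.card f.ker) := by
    refine Odd.of_dvd_nat (odd_gcd_three (Fintype.card F - 1)) ?_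
    have hc := Classical.card_center_SL (F := F) (n := Fin 3)
    rw [Fintype.card_fin] at hc
    rw [← hc, Nat.card_congr (Subgroup.equivMapOfInjective f.ker _ blockHom_injective).toEquiv]
    refine Subgroup.card_dvd_of_le ?_
    rintro _ ⟨A, hA, rfl⟩
    exact (QuotientGroup.eq_one_iff _).1 hA
  set q := Fintype.card F with hq
  obtain ⟨P, ⟨e⟩⟩ := nonempty_sylow_equiv f hker (a := Nat.gcd 3 (q - 1))
    (b := q ^ 2 * (q ^ 2 + q + 1)) (by
      have h1 : Odd q := Nat.odd_iff.2 hodd
      exact h1.pow.mul (Even.add_one ((h1.pow (n := 2)).add_odd h1))) (by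
    have h1 := Classical.card_center_mul_card_PSL (F := F) (n := Fin 3)
    rw [Classical.card_center_SL, Fintype.card_fin, Classical.card_SL_formula] at h1
    simp only [Finset.prod_range_succ, Finset.prod_range_zero, one_mul, ← hq] at h1
    rw [Classical.card_GL2, ← hq, mul_comm, h1]
    obtain ⟨r, hr⟩ : ∃ r, q = r + 1 := ⟨q - 1, (Nat.sub_add_cancel Fintype.card_pos).symm⟩
    rw [hr]
    have e2 : (r + 1) ^ 2 - 1 = r * (r + 2) := by
      refine Nat.sub_eq_of_eq_add ?_; ring
    have e3 : (r + 1) ^ 3 - 1 = r * ((r + 1) ^ 2 + (r + 1) + 1) := by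
      refine Nat.sub_eq_of_eq_add ?_; ring
    rw [e2, e3, Nat.add_sub_cancel]
    ring) S
  refine shape_congr e ?_
  have : q % 4 = 1 ∨ q % 4 = 3 := by omega
  rcases this with h | h
  · exact Or.inr ((S1217.result P).2 h)
  · exact Or.inl ((S1217.result P).1 h)

/-- A group with a non-trivial Sylow subgroup as above and simple has no subgroup of index two. -/
theorem index_ne_two_of_simple {G : Type*} [Group G] [Finite G] [IsSimpleGroup G] (S : Sylow 2 G)
    (hS : Cfsg.IsQuasiDihedral (S : Subgroup G) ∨ Cfsg.IsWreathed (S : Subgroup G)) :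
    ∀ H : Subgroup G, H.index ≠ 2 := by
  intro H hH
  haveI := Subgroup.normal_of_index_eq_two hH
  rcases IsSimpleGroup.eq_bot_or_eq_top_of_normal H inferInstance with e | e
  · rw [e, Subgroup.index_bot] at hH
    have h2 : Nat.card (S : Subgroup G) ∣ 2 := by
      have h3 := Subgroup.card_subgroup_dvd_card (S : Subgroup G)
      rwa [hH] at h3
    have h16 : 2 ^ 3 ≤ Nat.card (S : Subgroup G) := by
      rcases hS with ⟨n, hn, hc, -⟩ | ⟨n, hn, hc, -⟩
      · rw [hc]; exact Nat.pow_le_pow_right two_pos (by omega)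
      · rw [hc]; exact Nat.pow_le_pow_right two_pos (by omega)
    have := Nat.le_of_dvd two_pos h2
    omega
  · rw [e, Subgroup.index_top] at hH
    omega

variable {q : ℕ}

theorem blockHom_mem_SU (hF : Fintype.card F = q ^ 2) {A : GL (Fin 2) F} (hA : A ∈ Cfsg.GU 2 F q) :
    S1219.blockHom A ∈ Cfsg.SU 3 F q := by
  rw [Classical.mem_GU_iff hF] at hA
  rw [Classical.mem_SU_iff hF]
  have hd : (A : Matrix (Fin 2) (Fin 2) F).det *
      Classical.conjHom hF (A : Matrix (Fin 2) (Fin 2) F).det = 1 := by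
    have h1 := congrArg Matrix.det hA
    rw [Matrix.det_mul, Matrix.det_transpose, Matrix.det_one] at h1
    rw [RingHom.map_det, RingHom.mapMatrix_apply]
    exact h1
  have h := fun a b => congrFun (congrFun hA a) b
  have h00 := h 0 0
  have h01 := h 0 1
  have h10 := h 1 0
  have h11 := h 1 1
  simp [Matrix.mul_apply, Fin.sum_univ_two] at h00 h01 h10 h11
  show (S1219.blockMat (A : Matrix (Fin 2) (Fin 2) F))ᵀ *
    (S1219.blockMat (A : Matrix (Fin 2) (Fin 2) F)).map (Classical.conjHom hF) = 1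
  ext i j
  fin_cases i <;> fin_cases j <;>
    simp [S1219.blockMat, Matrix.mul_apply, Fin.sum_univ_succ, h00, h01, h10, h11,
      map_inv₀]
  rw [← mul_inv, hd, inv_one]

/-- The Sylow `2`-subgroups of `PSU₃(q)`, `q` odd. -/
theorem psuThree_shape (hF : Fintype.card F = q ^ 2) (hodd : q % 2 = 1)
    (S : Sylow 2 (Cfsg.PSU 3 F q)) :
    Cfsg.IsQuasiDihedral (S : Subgroup (Cfsg.PSU 3 F q)) ∨
      Cfsg.IsWreathed (S : Subgroup (Cfsg.PSU 3 F q)) := by
  classical
  let bU : Cfsg.GU 2 F q →* Cfsg.SU 3 F q :=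
    ((S1219.blockHom (F := F)).comp (Cfsg.GU 2 F q).subtype).codRestrict (Cfsg.SU 3 F q)
      fun A => blockHom_mem_SU hF A.2
  have hbU : Function.Injective bU := fun A B h =>
    Subtype.ext (blockHom_injective (congrArg Subtype.val h))
  set f := (QuotientGroup.mk' (Subgroup.center (Cfsg.SU 3 F q))).comp bU
  have hker : Odd (Nat.card f.ker) := by
    refine Odd.of_dvd_nat (odd_gcd_three (q + 1)) ?_
    rw [← Classical.card_center_SU hF (n := 3) (by norm_num),
      Nat.card_congr (Subgroup.equivMapOfInjective f.ker _ hbU).toEquiv]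
    refine Subgroup.card_dvd_of_le ?_
    rintro _ ⟨A, hA, rfl⟩
    exact (QuotientGroup.eq_one_iff _).1 hA
  obtain ⟨P, ⟨e⟩⟩ := nonempty_sylow_equiv f hker (a := Nat.gcd 3 (q + 1))
    (b := q ^ 2 * (q ^ 2 - q + 1)) (by
      have h1 : Odd q := Nat.odd_iff.2 hodd
      have h2 : q ≤ q ^ 2 := Nat.le_self_pow two_ne_zero q
      refine h1.pow.mul (Even.add_one ?_)
      rw [Nat.even_sub h2, Nat.even_pow]
      simp) (by
    have h1 := Classical.card_center_mul_card_PSU hF (n := 3) (by norm_num)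
    rw [Classical.card_GU hF] at h1
    simp only [Finset.prod_range_succ, Finset.prod_range_zero, one_mul] at h1
    rw [show Nat.card (Cfsg.GU 2 F q) = q * ((q + 1) * (q ^ 2 - 1)) from S1218.card_GU_two hF]
    generalize hN : Nat.card (Cfsg.PSU 3 F q) = N at h1 ⊢
    norm_num [Nat.even_iff] at h1
    have e3 : q ^ 3 + 1 = (q + 1) * (q ^ 2 - q + 1) := by
      obtain ⟨r, hr⟩ := Nat.exists_eq_add_of_le (Nat.le_self_pow two_ne_zero q)
      rw [hr, Nat.add_sub_cancel_left]
      nlinarith
    rw [e3] at h1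
    have h2 : q + 1 ≠ 0 := Nat.succ_ne_zero q
    apply mul_left_cancel₀ h2
    linear_combination h1) S
  refine shape_congr e ?_
  have : q % 4 = 1 ∨ q % 4 = 3 := by omega
  rcases this with h | h
  · exact Or.inl ((S1218.result q hF (Nat.odd_iff.2 hodd) P).1 h)
  · exact Or.inr ((S1218.result q hF (Nat.odd_iff.2 hodd) P).2 h)

end Cfsg.Agent.Lib.Fusion
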