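import Cfsg.Agent.Lib.Fusion.Solvable
import Cfsg.Agent.Lib.Fusion.ModelExists
import Cfsg.Agent.Lib.Fusion.PrimeIndex.ResidualLimit
import Cfsg.Agent.Lib.Fusion.PrimeIndex.IndexExists
import Cfsg.Agent.Lib.Fusion.PrimeIndex.CentralizerOfNormal
import Cfsg.Agent.Lib.Fusion.Realized
import Cfsg.Agent.Lib.PGroups.IsoByOrder
import Cfsg.Agent.Lib.FusionControl.FactorFrame
import Cfsg.Agent.Lib.Coprime.SylowNormalizes
import Cfsg.Agent.S5120
import Cfsg.Agent.S5140
import Cfsg.Agent.S5141

/-!
The alternating series of residual subsystems and the systems of `p`-soluble groups.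
-/

set_option autoImplicit false
set_option linter.unusedSectionVars false

namespace Cfsg.Agent.Lib.Fusion.ResidualSeries

open Cfsg Cfsg.FusionSystem Cfsg.Agent.Lib.Fusion
open scoped commutatorElement

universe u v

section Groups

variable {p : ℕ} [Fact p.Prime] {G : Type u} [Group G] [Finite G]

theorem psolv_of_quot (C : Subgroup G) [C.Normal]
    (hC : (∃ m, Nat.card C = p ^ m) ∨ (Nat.card C).Coprime p) (h : IsPSolvable p (G ⧸ C)) :
    IsPSolvable p G := by
  obtain ⟨n, H, h0, h1, hm, hn, hf⟩ := h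
  refine ⟨n + 1, Fin.cases ⊥ fun i => (H i).comap (QuotientGroup.mk' C), rfl, ?_, ?_, ?_, ?_⟩
  · simp only [← Fin.succ_last, Fin.cases_succ, h1, Subgroup.comap_top]
  · refine Fin.monotone_iff_le_succ.2 fun i => ?_
    cases i using Fin.cases with
    | zero => exact bot_le
    | succ j =>
      simp only [← Fin.succ_castSucc, Fin.cases_succ]
      exact Subgroup.comap_mono (hm (Fin.castSucc_lt_succ).le)
  · intro i
    cases i using Fin.cases with
    | zero => simp only [Fin.cases_zero]; infer_instance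
    | succ j =>
      simp only [Fin.cases_succ]
      have := hn j
      infer_instance
  · intro i
    cases i using Fin.cases with
    | zero =>
      simp only [Fin.castSucc_zero, Fin.cases_zero, Fin.cases_succ, h0, Subgroup.relIndex_bot_left,
        MonoidHom.comap_bot, QuotientGroup.ker_mk']
      exact hC
    | succ j =>
      simp only [← Fin.succ_castSucc, Fin.cases_succ]
      rw [Subgroup.relIndex_comap,
        Subgroup.map_comap_eq_self_of_surjective (QuotientGroup.mk'_surjective C)]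
      exact hf j

theorem psolv_of_subsingleton (A : Type v) [Group A] [Subsingleton A] : IsPSolvable p A :=
  ⟨0, fun _ => ⊥, rfl, Subsingleton.elim _ _, monotone_const, fun _ => inferInstance,
    fun i => i.elim0⟩

theorem psolv_of_equiv {A : Type v} [Group A] (e : G ≃* A) (h : IsPSolvable p G) :
    IsPSolvable p A :=
  Cfsg.Agent.Lib.PGroups.IsoByOrder.psolvable_of_surjective e.toMonoidHom e.surjective h

theorem psolv_of_index (N : Subgroup G) [N.Normal] (hN : IsPSolvable p N)
    (hi : (∃ m, N.index = p ^ m) ∨ N.index.Coprime p) : IsPSolvable p G := by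
  suffices key : ∀ (n : ℕ) (A : Type u) [Group A] [Finite A], Nat.card A = n →
      ∀ N : Subgroup A, N.Normal → IsPSolvable p N →
      ((∃ m, N.index = p ^ m) ∨ N.index.Coprime p) → IsPSolvable p A from
    key _ G rfl N inferInstance hN hi
  intro n
  induction n using Nat.strongRecOn with
  | ind n ih =>
    intro A _ _ hA N hNn hN hi
    by_cases hb : N = ⊥
    · subst hb
      rw [Subgroup.index_bot] at hi
      refine ⟨1, fun i => if i = 0 then ⊥ else ⊤, by simp, by simp, ?_, ?_, ?_⟩
      · refine Fin.monotone_iff_le_succ.2 fun i => ?_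
        fin_cases i
        simp
      · intro i
        dsimp only
        split_ifs <;> infer_instance
      · intro i
        fin_cases i
        simpa using hi
    · haveI := hNn
      haveI : Nontrivial N := (Subgroup.nontrivial_iff_ne_bot N).2 hb
      obtain ⟨C₀, hC₀n, hC₀, hC₀c⟩ :=
        Cfsg.Agent.Lib.Coprime.SylowNormalizes.exists_normal_chain_factor hN
      obtain ⟨C, hCc, hCb, hCf⟩ : ∃ C : Subgroup N, C.Characteristic ∧ C ≠ ⊥ ∧
          ((∃ m, Nat.card C = p ^ m) ∨ (Nat.card C).Coprime p) := by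
        rcases hC₀c with ⟨m, hm⟩ | hc
        · refine ⟨pCore p N, inferInstance, fun e => hC₀ ?_,
            Or.inl (IsPGroup.iff_card.1 (Cores.pCore_isPGroup p N))⟩
          exact le_bot_iff.1 (e ▸ Cores.le_pCore hC₀n (IsPGroup.of_card hm))
        · refine ⟨pPrimeCore p N, inferInstance, fun e => hC₀ ?_,
            Or.inr (Cores.pPrimeCore_coprime p N)⟩
          exact le_bot_iff.1 (e ▸ Cores.le_pPrimeCore hC₀n hc)
      set C' := C.map N.subtype with hC'
      haveI : C'.Normal := by
        haveI := hCc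
        infer_instance
      have hcard : Nat.card C' = Nat.card C :=
        Subgroup.card_map_of_injective N.subtype_injective
      have hlt : Nat.card (A ⧸ C') < n := by
        rw [← hA, Subgroup.card_eq_card_quotient_mul_card_subgroup C', hcard]
        exact lt_mul_of_one_lt_right Nat.card_pos (Subgroup.one_lt_card_iff_ne_bot C |>.2 hCb)
      have hC'N : C' ≤ N := Subgroup.map_subtype_le C
      refine psolv_of_quot C' (hcard.symm ▸ hCf) (ih _ hlt _ rfl (N.map (QuotientGroup.mk' C'))
        (hNn.map _ (QuotientGroup.mk'_surjective C')) ?_ ?_)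
      · exact Cfsg.Agent.Lib.PGroups.IsoByOrder.psolvable_of_surjective ((QuotientGroup.mk' C').subgroupMap N)
          ((QuotientGroup.mk' C').subgroupMap_surjective N) hN
      · rwa [Subgroup.index_map_eq N (QuotientGroup.mk'_surjective C')
          (by rwa [QuotientGroup.ker_mk'])]

theorem psolv_of_hom {A : Type v} [Group A] (f : G →* A) (hk : IsPGroup p f.ker)
    (hr : IsPSolvable p f.range) : IsPSolvable p G := by
  haveI : Finite f.range := Finite.of_surjective f.rangeRestrict f.rangeRestrict_surjective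
  exact psolv_of_quot f.ker (Or.inl (IsPGroup.iff_card.1 hk))
    (psolv_of_equiv (QuotientGroup.quotientKerEquivRange f).symm hr)

theorem psolv_of_le {X : Type u} [Group X] {A B : Subgroup X} [Finite B] (hAB : A ≤ B)
    (hB : IsPSolvable p B) : IsPSolvable p A :=
  psolv_of_equiv (Subgroup.subgroupOfEquivOfLe hAB)
    (Cfsg.Agent.Lib.FusionControl.FactorFrame.isPSolvable_subgroup (A.subgroupOf B) hB)

/-- A nilpotent perfect subgroup is trivial. -/
theorem eq_bot_of_perfect {A : Subgroup G} (hA : IsPGroup p A) (h : ⁅A, A⁆ = A) : A = ⊥ := by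
  obtain ⟨m, hm⟩ := (Subgroup.isNilpotent_iff_lowerCentralSeries A).1 hA.isNilpotent
  have : ∀ j, A.lowerCentralSeries j = A := by
    intro j
    induction j with
    | zero => exact Subgroup.lowerCentralSeries_zero ..
    | succ j ih => rw [Subgroup.lowerCentralSeries_succ, ih, h]
  rw [← this m, hm]

theorem conj_mem_closure_pEl (p : ℕ) :
    (Subgroup.closure {g : G | ∃ k : ℕ, orderOf g = p ^ k}).Normal := by
  refine ⟨fun x hx g => ?_⟩
  have h : Subgroup.closure {g : G | ∃ k : ℕ, orderOf g = p ^ k} ≤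
      (Subgroup.closure {g : G | ∃ k : ℕ, orderOf g = p ^ k}).comap (MulAut.conj g).toMonoidHom := by
    refine (Subgroup.closure_le _).2 ?_
    rintro y ⟨k, hk⟩
    refine Subgroup.subset_closure ⟨k, ?_⟩
    exact (orderOf_injective (MulAut.conj g).toMonoidHom (MulAut.conj g).injective y).trans hk
  exact h hx

/-- A group generated by elements of `p`-power order, nontrivial and `p`-soluble, is not
perfect. -/
theorem commutator_ne_of_pEl (h : IsPSolvable p G) {K : Subgroup G} (hK : K ≠ ⊥)
    (hgen : K = Subgroup.closure {g : G | ∃ k : ℕ, orderOf g = p ^ k}) : ⁅K, K⁆ ≠ K := by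
  intro hperf
  obtain ⟨n, H, h0, h1, hm, hn, hf⟩ := h
  obtain ⟨i, hi1, hi2⟩ : ∃ i : Fin n, K ≤ H i.succ ∧ ¬ K ≤ H i.castSucc := by
    by_contra hcon
    push Not at hcon
    have : ∀ i : Fin (n + 1), K ≤ H i → K ≤ H 0 := by
      intro i
      induction i using Fin.induction with
      | zero => exact id
      | succ j ih => exact fun hj => ih (hcon j hj)
    exact hK (le_bot_iff.1 (h0 ▸ this (Fin.last n) (h1 ▸ le_top)))
  have := hn i.castSucc
  set π := QuotientGroup.mk' (H i.castSucc)
  have hle : K.map π ≤ (H i.succ).map π := Subgroup.map_mono hi1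
  have hcard : Nat.card (K.map π) ∣ (H i.castSucc).relIndex (H i.succ) := by
    conv_rhs => rw [show H i.castSucc = π.ker from (QuotientGroup.ker_mk' _).symm]
    rw [Subgroup.relIndex_ker]
    exact Subgroup.card_dvd_of_le hle
  apply hi2
  refine le_trans ?_ (QuotientGroup.ker_mk' (H i.castSucc)).le
  change K ≤ π.ker
  rcases hf i with ⟨m, hm'⟩ | hc
  · rw [← Subgroup.map_eq_bot_iff]
    obtain ⟨j, -, hj⟩ := (Nat.dvd_prime_pow (Fact.out : p.Prime)).1 (hm' ▸ hcard)
    exact eq_bot_of_perfect (IsPGroup.of_card hj) (by rw [← Subgroup.map_commutator, hperf])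
  · conv_lhs => rw [hgen]
    refine (Subgroup.closure_le _).2 ?_
    rintro g ⟨k, hk⟩
    have hgK : g ∈ K := hgen.ge (Subgroup.subset_closure ⟨k, hk⟩)
    show π g = 1
    rw [← orderOf_eq_one_iff]
    have d1 : orderOf (π g) ∣ p ^ k := hk ▸ orderOf_map_dvd π g
    have d2 : orderOf (π g) ∣ Nat.card (K.map π) :=
      Subgroup.orderOf_dvd_natCard (K.map π) ⟨g, hgK, rfl⟩
    exact Nat.eq_one_of_dvd_coprimes ((hc.coprime_dvd_left hcard).pow_right k) d2 d1

end Groups

section Chains

variable {Ω : Type u} [Group Ω] {S T : Subgroup Ω} [Finite S] {F : FusionSystem S}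

/-- A chain of strongly closed subgroups with abelian factors from the trivial subgroup to `U`. -/
def ChainTo (F : FusionSystem S) (U : Subgroup Ω) : Prop :=
  ∃ (n : ℕ) (C : ℕ → Subgroup Ω), C 0 = ⊥ ∧ C n = U ∧ (∀ i, i < n → C i ≤ C (i + 1)) ∧
    (∀ i, i ≤ n → F.StronglyClosed (C i)) ∧ ∀ i, i < n → ⁅C (i + 1), C (i + 1)⁆ ≤ C i

theorem ChainTo.bot (F : FusionSystem S) : ChainTo F ⊥ :=
  ⟨0, fun _ => ⊥, rfl, rfl, fun i hi => absurd hi i.not_lt_zero,
    fun _ _ => stronglyClosed_bot F, fun i hi => absurd hi i.not_lt_zero⟩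

theorem ChainTo.step {U U' : Subgroup Ω} (h : ChainTo F U) (hcl : F.StronglyClosed U')
    (hle : U ≤ U') (hab : ⁅U', U'⁆ ≤ U) : ChainTo F U' := by
  obtain ⟨n, C, h0, hn, hm, hc, hcomm⟩ := h
  refine ⟨n + 1, fun i => if i ≤ n then C i else U', by simp [h0], by simp, fun i hi => ?_,
    fun i hi => ?_, fun i hi => ?_⟩
  · by_cases h : i + 1 ≤ n
    · simp only [if_pos h, if_pos (Nat.le_of_succ_le h)]
      exact hm i h
    · obtain rfl : i = n := by omega
      simp only [if_neg h, le_refl, if_true, hn]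
      exact hle
  · dsimp only
    split_ifs with h
    · exact hc i h
    · exact hcl
  · by_cases h : i + 1 ≤ n
    · simp only [if_pos h, if_pos (Nat.le_of_succ_le h)]
      exact hcomm i h
    · obtain rfl : i = n := by omega
      simp only [if_neg h, le_refl, if_true, hn]
      exact hab

theorem ChainTo.climb (f : ℕ → Subgroup Ω) : ∀ m : ℕ, ChainTo F (f m) →
    (∀ j, j < m → F.StronglyClosed (f j) ∧ f (j + 1) ≤ f j ∧ ⁅f j, f j⁆ ≤ f (j + 1)) →
    ChainTo F (f 0)
  | 0, h, _ => h
  | m + 1, h, hs => ChainTo.climb f m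
      (h.step (hs m m.lt_succ_self).1 (hs m m.lt_succ_self).2.1 (hs m m.lt_succ_self).2.2)
      fun j hj => hs j (by omega)

theorem ChainTo.hasSolvChain (h : ChainTo F S) : HasSolvChain F ⊥ := by
  obtain ⟨n, C, h0, hn, hm, hc, hcomm⟩ := h
  refine ⟨n, fun i => C (min i n), by simp [h0], by simp [hn],
    monotone_nat_of_le_succ fun i => ?_, fun i => hc _ (min_le_right _ _), fun i hi => ?_⟩
  · show C (min i n) ≤ C (min (i + 1) n)
    by_cases hi : i < n
    · rw [min_eq_left hi.le, min_eq_left (show i + 1 ≤ n from hi)]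
      exact hm i hi
    · rw [min_eq_right (not_lt.1 hi), min_eq_right (by omega : n ≤ i + 1)]
  · show ⁅C (min (i + 1) n), C (min (i + 1) n)⁆ ≤ C (min i n)
    rw [min_eq_left hi.le, min_eq_left (show i + 1 ≤ n from hi)]
    exact hcomm i hi

theorem ChainTo.restrict {D : FusionSystem T} (hsub : D.IsSubsystemOf F) (hTS : T ≤ S)
    [Finite T] (h : ChainTo F S) : ChainTo D T := by
  obtain ⟨n, C, h0, hn, hm, hc, hcomm⟩ := h
  refine ⟨n, fun i => C i ⊓ T, by simp [h0], by simp [hn, inf_eq_right.2 hTS],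
    fun i hi => inf_le_inf_right T (hm i hi),
    fun i hi => stronglyClosed_of_subsystem hsub (hc i hi), fun i hi => ?_⟩
  refine le_inf ((Subgroup.commutator_mono inf_le_left inf_le_left).trans (hcomm i hi))
    ((Subgroup.commutator_mono inf_le_right inf_le_right).trans
      (Subgroup.commutator_le.2 fun a ha b hb => ?_))
  exact T.mul_mem (T.mul_mem (T.mul_mem ha hb) (T.inv_mem ha)) (T.inv_mem hb)

theorem ChainTo.extend {D : FusionSystem T} [Finite T] (hD : D.IsInvariantIn F)
    (h : ChainTo D T) : ChainTo F T := by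
  obtain ⟨n, C, h0, hn, hm, hc, hcomm⟩ := h
  refine ⟨n, fun i => invariantPart F T (C i), ?_, ?_, fun i hi x hx => ?_,
    fun i hi => stronglyClosed_invariantPart hD (hc i hi), fun i hi => ?_⟩
  · rw [eq_bot_iff]
    intro x hx
    obtain ⟨hxT, h⟩ := mem_invariantPart.1 hx
    have := h 1 (Subgroup.one_mem _)
    rwa [h0] at this
  · exact le_antisymm inf_le_left fun x hx =>
      mem_invariantPart.2 ⟨hx, fun α _ => hn.ge (α ⟨x, hx⟩).2⟩
  · obtain ⟨hxT, h⟩ := mem_invariantPart.1 hx
    exact mem_invariantPart.2 ⟨hxT, fun α hα => hm i hi (h α hα)⟩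
  · refine Subgroup.commutator_le.2 fun x hx y hy => ?_
    obtain ⟨hxT, hx⟩ := mem_invariantPart.1 hx
    obtain ⟨hyT, hy⟩ := mem_invariantPart.1 hy
    have hxy : ⁅x, y⁆ ∈ T :=
      T.mul_mem (T.mul_mem (T.mul_mem hxT hyT) (T.inv_mem hxT)) (T.inv_mem hyT)
    refine mem_invariantPart.2 ⟨hxy, fun α hα => hcomm i hi ?_⟩
    rw [show (⟨⁅x, y⁆, hxy⟩ : T) = ⁅(⟨x, hxT⟩ : T), (⟨y, hyT⟩ : T)⁆ from
      Subtype.ext (map_commutatorElement T.subtype ⟨x, hxT⟩ ⟨y, hyT⟩).symm, map_commutatorElement]
    rw [show ((⁅α ⟨x, hxT⟩, α ⟨y, hyT⟩⁆ : T) : Ω) = ⁅((α ⟨x, hxT⟩ : T) : Ω), ((α ⟨y, hyT⟩ : T) : Ω)⁆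
      from map_commutatorElement T.subtype _ _]
    exact Subgroup.commutator_mem_commutator (hx α hα) (hy α hα)

theorem commutator_preimageAlong_le {Y : Type v} [Group Y] (θ : S →* Y) (A : Subgroup Y) :
    ⁅preimageAlong θ A, preimageAlong θ A⁆ ≤ preimageAlong θ ⁅A, A⁆ := by
  rw [preimageAlong, preimageAlong, ← Subgroup.map_commutator]
  refine Subgroup.map_mono (Subgroup.commutator_le.2 fun a ha b hb => ?_)
  rw [Subgroup.mem_comap, map_commutatorElement]
  exact Subgroup.commutator_mem_commutator ha hb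

/-- Climbing through a normal nilpotent subgroup. -/
theorem ChainTo.climb_map {Y : Type v} [Group Y] (θ : S →* Y) (M : Subgroup Y) [M.Normal]
    (hM : Group.IsNilpotent M)
    (hcl : ∀ R : Subgroup Y, R.Normal → F.StronglyClosed (preimageAlong θ R))
    (h : ChainTo F (preimageAlong θ ⊥)) : ChainTo F (preimageAlong θ M) := by
  obtain ⟨m, hm⟩ := (Subgroup.isNilpotent_iff_lowerCentralSeries M).1 hM
  have hn : ∀ j, (M.lowerCentralSeries j).Normal := by
    intro j
    induction j with
    | zero => rw [Subgroup.lowerCentralSeries_zero]; infer_instance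
    | succ j ih =>
      rw [Subgroup.lowerCentralSeries_succ]
      haveI := ih
      infer_instance
  have := ChainTo.climb (F := F) (fun j => preimageAlong θ (M.lowerCentralSeries j)) m
    (by rwa [hm]) fun j _ => ⟨hcl _ (hn j),
      Subgroup.map_mono (Subgroup.comap_mono (M.lowerCentralSeries_antitone j.le_succ)),
      (commutator_preimageAlong_le θ _).trans (Subgroup.map_mono (Subgroup.comap_mono (by
        rw [Subgroup.lowerCentralSeries_succ]
        exact Subgroup.commutator_mono le_rfl (M.lowerCentralSeries_le_self j))))⟩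
  simpa [Subgroup.lowerCentralSeries_zero] using this

end Chains

section Realized

variable {Ω : Type u} [Group Ω] {S : Subgroup Ω} [Finite S] {p : ℕ} [Fact p.Prime]
  {F : FusionSystem S} {G : Type u} [Group G] [Finite G] {ι : S →* G}

theorem closed_of_normal (h : F.IsRealizedBy ι) {Y : Type v} [Group Y] (π : G →* Y)
    (hπ : Function.Surjective π) (R : Subgroup Y) (hR : R.Normal) :
    F.StronglyClosed (preimageAlong (π.comp ι) R) := by
  refine ⟨Subgroup.map_subtype_le _, fun P hP φ hφ x => ?_⟩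
  obtain ⟨g, hg⟩ := IsRealizedBy.exists_conj h hφ
  obtain ⟨⟨z, hzS⟩, hz, hzx⟩ := hP x.2
  obtain rfl : z = x := hzx
  refine ⟨⟨φ x, apply_mem hφ x⟩, ?_, rfl⟩
  show π (ι ⟨φ x, apply_mem hφ x⟩) ∈ R
  rw [hg, map_mul, map_mul, map_inv]
  exact hR.conj_mem _ hz _

/-- The chain of a `p`-soluble group. -/
theorem chain_of_realized (hS : IsPGroup p S) (h : F.IsRealizedBy ι) (hG : IsPSolvable p G) :
    ChainTo F S := by
  obtain ⟨n, H, h0, h1, hm, hn, hf⟩ := hG
  suffices key : ∀ i, ChainTo F (preimageAlong ι (H i)) by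
    have := key (Fin.last n)
    rwa [h1, preimageAlong, Subgroup.comap_top, ← MonoidHom.range_eq_map, Subgroup.range_subtype]
      at this
  intro i
  induction i using Fin.induction with
  | zero =>
    rw [h0, preimageAlong, MonoidHom.comap_bot, (MonoidHom.ker_eq_bot_iff ι).2 h.1, Subgroup.map_bot]
    exact ChainTo.bot F
  | succ i ih =>
    haveI := hn i.castSucc
    haveI := hn i.succ
    set π := QuotientGroup.mk' (H i.castSucc) with hπ
    have hb : preimageAlong (π.comp ι) ⊥ = preimageAlong ι (H i.castSucc) := by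
      rw [preimageAlong, preimageAlong, ← Subgroup.comap_comap, MonoidHom.comap_bot,
        QuotientGroup.ker_mk']
    have ht : preimageAlong (π.comp ι) ((H i.succ).map π) = preimageAlong ι (H i.succ) := by
      rw [preimageAlong, preimageAlong, ← Subgroup.comap_comap, Subgroup.comap_map_eq,
        QuotientGroup.ker_mk', sup_eq_left.2 (hm (Fin.castSucc_lt_succ).le)]
    haveI : ((H i.succ).map π).Normal :=
      (hn i.succ).map π (QuotientGroup.mk'_surjective _)
    have hcard : Nat.card ((H i.succ).map π) = (H i.castSucc).relIndex (H i.succ) := by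
      conv_rhs => rw [← QuotientGroup.ker_mk' (H i.castSucc)]
      exact (Subgroup.relIndex_ker _ _).symm
    rw [← ht]
    rcases hf i with ⟨m, hm'⟩ | hc
    · exact ChainTo.climb_map (π.comp ι) _
        (IsPGroup.of_card (hcard.trans hm')).isNilpotent
        (fun R hR => closed_of_normal h π (QuotientGroup.mk'_surjective _) R hR) (hb ▸ ih)
    · have e : preimageAlong (π.comp ι) ((H i.succ).map π) = preimageAlong (π.comp ι) ⊥ := by
        refine le_antisymm ?_ (Subgroup.map_mono (Subgroup.comap_mono bot_le))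
        rintro _ ⟨s, hs, rfl⟩
        refine ⟨s, ?_, rfl⟩
        obtain ⟨k, hk⟩ := hS s
        rw [SetLike.mem_coe, Subgroup.mem_comap, Subgroup.mem_bot, ← orderOf_eq_one_iff]
        refine Nat.eq_one_of_dvd_coprimes ((hcard ▸ hc : (Nat.card ((H i.succ).map π)).Coprime p).pow_right k)
          (Subgroup.orderOf_dvd_natCard _ hs) ?_
        exact orderOf_dvd_of_pow_eq_one (by rw [← map_pow, hk, map_one])
      rw [e, hb]
      exact ih

/-- The automizers in the system of a `p`-soluble group. -/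
theorem aut_of_realized (h : F.IsRealizedBy ι) (hG : IsPSolvable p G) {P : Subgroup Ω}
    (hP : P ≤ S) : IsPSolvable p (F.autGroup P) := by
  have := finite_mulAut hP
  set P' := imageAlong ι P
  have hle : autInducedBy ⊤ P' ≤ P'.normalizerMonoidHom.range := by
    intro β hβ
    obtain ⟨g, -, hg⟩ := mem_autInducedBy.1 hβ
    refine ⟨⟨g, mem_normalizer_of_finite fun y hy => ?_⟩, MulEquiv.ext fun y => Subtype.ext ?_⟩
    · rw [← hg ⟨y, hy⟩]
      exact SetLike.coe_mem _
    · exact (hg y).symm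
  have hN : IsPSolvable p P'.normalizerMonoidHom.range :=
    Cfsg.Agent.Lib.PGroups.IsoByOrder.psolvable_of_surjective _
      P'.normalizerMonoidHom.rangeRestrict_surjective
      (Cfsg.Agent.Lib.FusionControl.FactorFrame.isPSolvable_subgroup _ hG)
  have h1 := psolv_of_le hle hN
  rw [← IsRealizedBy.autGroup h hP] at h1
  exact psolv_of_equiv (Subgroup.equivMapOfInjective _ _
    (MulEquiv.injective (MulAut.congr (pushEquiv h.1 hP)))).symm h1

theorem psolv_of_image (h : F.IsRealizedBy ι) {P : Subgroup Ω} (hP : P ≤ S)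
    [(imageAlong ι P).Normal] (hp : IsPGroup p (imageAlong ι P))
    (hc : Subgroup.centralizer (imageAlong ι P : Set G) ≤ imageAlong ι P)
    (ha : IsPSolvable p (F.autGroup P)) : IsPSolvable p G := by
  have := finite_mulAut hP
  refine psolv_of_hom (MulAut.conjNormal : G →* MulAut (imageAlong ι P)) (hp.to_le fun g hg => hc ?_) ?_
  · refine Subgroup.mem_centralizer_iff.2 fun y hy => ?_
    have := congrArg (fun e : MulAut (imageAlong ι P) => ((e ⟨y, hy⟩ : imageAlong ι P) : G))
      (MonoidHom.mem_ker.1 hg)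
    simp only [MulAut.conjNormal_apply, MulAut.one_apply] at this
    exact ((mul_inv_eq_iff_eq_mul).1 this).symm
  · have h1 := Cfsg.Agent.Lib.PGroups.IsoByOrder.psolvable_of_surjective _
      ((MulAut.congr (pushEquiv h.1 hP)).toMonoidHom.subgroupMap_surjective (F.autGroup P)) ha
    rw [IsRealizedBy.autGroup h hP] at h1
    refine psolv_of_le ?_ h1
    rintro _ ⟨g, rfl⟩
    exact mem_autInducedBy.2 ⟨g, trivial, fun y => MulAut.conjNormal_apply g y⟩

/-- A model is `p`-soluble when the automizer of its largest normal `p`-subgroup is. -/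
theorem model_psolv (h : F.IsModel p G ι)
    (ha : ∀ P : Subgroup Ω, P ≤ S → IsPSolvable p (F.autGroup P)) : IsPSolvable p G := by
  obtain ⟨-, hreal, ⟨T, hT⟩, hC⟩ := h
  have e : imageAlong ι (preimageAlong ι (pCore p G)) = pCore p G :=
    imageAlong_preimageAlong (hT ▸ Cores.pCore_le_sylow T)
  haveI : (imageAlong ι (preimageAlong ι (pCore p G))).Normal := by
    rw [e]; infer_instance
  refine psolv_of_image hreal (preimageAlong_le ι (pCore p G)) ?_ ?_
    (ha _ (preimageAlong_le ι (pCore p G)))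
  · rw [e]; exact Cores.pCore_isPGroup p G
  · rw [e]; exact hC

/-- The maps of `F` realized inside a subgroup. -/
def subgroupSystem (h : F.IsRealizedBy ι) (K : Subgroup G) (hK : ι.range ≤ K) :
    FusionSystem S where
  Hom P := {φ | ∃ hφ : φ ∈ F.Hom P, ∃ k ∈ K,
    ∀ x : P, ι ⟨φ x, apply_mem hφ x⟩ = k * ι ⟨x, source_le hφ x.2⟩ * k⁻¹}
  le_of_mem := fun hφ => F.le_of_mem hφ.choose
  injective_of_mem := fun hφ => F.injective_of_mem hφ.choose
  conj_mem := fun {P g} hP hg => ⟨F.conj_mem hP hg, ι ⟨g, hg⟩, hK ⟨_, rfl⟩, fun x => by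
    rw [← map_inv, ← map_mul, ← map_mul]
    rfl⟩
  comp_mem := fun {P Q φ ψ} hφ hψ hc => by
    obtain ⟨hφ, k, hk, hk'⟩ := hφ
    obtain ⟨hψ, l, hl, hl'⟩ := hψ
    refine ⟨F.comp_mem hφ hψ hc, l * k, K.mul_mem hl hk, fun x => ?_⟩
    refine (hl' ⟨φ x, hc x⟩).trans ?_
    rw [hk' x]
    group
  inv_mem := fun {P φ} hφ => by
    obtain ⟨hφ, k, hk, hk'⟩ := hφ
    obtain ⟨c, hc, -, hl, -⟩ := exists_inv F hφ rfl
    refine ⟨c, ⟨hc, k⁻¹, K.inv_mem hk, ?_⟩, fun x => hl x _⟩
    rintro ⟨_, x, rfl⟩
    rw [hk' x]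
    have e : (⟨c ⟨φ x, ⟨x, rfl⟩⟩, apply_mem hc _⟩ : S) = ⟨x, source_le hφ x.2⟩ :=
      Subtype.ext (hl x _)
    rw [e]
    group

/-- The hyperfocal subgroup of a `p'`-residual is proper. -/
theorem hyperfocal_ne (hS : IsPGroup p S) (hne : S ≠ ⊥) (hm : F.IsModel p G ι)
    (hG : IsPSolvable p G) {E : FusionSystem S} (hE : F.IsPPrimeResidual p E) :
    E.hyperfocalSubgroup p ≠ S := by
  obtain ⟨-, hreal, ⟨T, hT⟩, -⟩ := hm
  set K := Subgroup.closure {g : G | ∃ k : ℕ, orderOf g = p ^ k} with hKdef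
  haveI hKn : K.Normal := conj_mem_closure_pEl p
  have hιK : ι.range ≤ K := by
    rintro _ ⟨s, rfl⟩
    obtain ⟨k, hk⟩ := hS s
    obtain ⟨j, -, hj⟩ := (Nat.dvd_prime_pow (Fact.out : p.Prime)).1
      (orderOf_dvd_of_pow_eq_one (by rw [← map_pow, hk, map_one]) : orderOf (ι s) ∣ p ^ k)
    exact Subgroup.subset_closure ⟨j, hj⟩
  have hK : K ≠ ⊥ := by
    intro e
    apply hne
    rw [eq_bot_iff]
    intro x hx
    have : ι ⟨x, hx⟩ = 1 := by
      rw [← Subgroup.mem_bot, ← e]
      exact hιK ⟨_, rfl⟩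
    exact Subgroup.mem_bot.2 (congrArg Subtype.val (hreal.1 (this.trans (map_one ι).symm)))
  have hN := commutator_ne_of_pEl hG hK hKdef
  let D := subgroupSystem hreal K hιK
  have hDr : D.IsRealizedBy (ι.codRestrict K fun s => hιK ⟨s, rfl⟩) := by
    refine ⟨fun a b hab => hreal.1 (congrArg Subtype.val hab), fun P hP φ hφS => ⟨?_, ?_⟩⟩
    · rintro ⟨hφ, k, hk, hk'⟩
      exact ⟨⟨k, hk⟩, fun x => Subtype.ext (hk' x)⟩
    · rintro ⟨k, hk⟩
      exact ⟨(hreal.2 P hP φ hφS).2 ⟨k, fun x => congrArg Subtype.val (hk x)⟩, k, k.2,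
        fun x => congrArg Subtype.val (hk x)⟩
  have hTK : (T : Subgroup G) ≤ K := hT ▸ hιK
  have hDs : D.IsSaturated p := by
    refine IsRealizedBy.isSaturated hDr (T.subtype hTK) ?_
    ext x
    rw [Sylow.coe_subtype, Subgroup.mem_subgroupOf, hT]
    constructor
    · rintro ⟨s, hs⟩
      exact ⟨s, Subtype.ext hs⟩
    · rintro ⟨s, rfl⟩
      exact ⟨s, rfl⟩
  have hDi : D.HasPrimeToPIndexIn F p := by
    refine ⟨fun P φ hφ => hφ.choose, fun P hP => ?_⟩
    rw [Subgroup.map_le_iff_le_comap, Subgroup.closure_le]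
    rintro α ⟨k, hk⟩
    have hαF := autHom_mem F hP α.2
    obtain ⟨g, hg⟩ := IsRealizedBy.exists_conj hreal hαF
    have hpow : ∀ (j : ℕ) (x : P),
        ι ⟨((((α : MulAut P) ^ j) x : P) : Ω), hP (SetLike.coe_mem _)⟩ =
          g ^ j * ι ⟨x, hP x.2⟩ * (g ^ j)⁻¹ := by
      intro j
      induction j with
      | zero => intro x; simp
      | succ j ih =>
        intro x
        have h1 := hg (((α : MulAut P) ^ j) x)
        simp only [pow_succ', MulAut.mul_apply]
        refine h1.trans ?_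
        rw [ih]
        group
    set a := (orderOf g).factorization p
    set b := orderOf g / p ^ a with hbdef
    have hab : p ^ a * b = orderOf g := Nat.mul_div_cancel' (Nat.ordProj_dvd _ _)
    have hbp : Nat.Coprime b (orderOf (α : MulAut P)) := by
      rw [Subgroup.orderOf_coe, hk]
      exact ((Nat.coprime_ordCompl (Fact.out : p.Prime) (orderOf_pos g).ne').symm).pow_right k
    obtain ⟨j, hj⟩ := exists_pow_eq_self_of_coprime hbp
    have hmem : (g ^ b) ^ j ∈ K := by
      refine pow_mem (Subgroup.subset_closure ?_) j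
      have hd : orderOf (g ^ b) ∣ p ^ a := orderOf_dvd_of_pow_eq_one
        (by rw [← pow_mul, mul_comm, hab, pow_orderOf_eq_one])
      obtain ⟨i, -, hi⟩ := (Nat.dvd_prime_pow (Fact.out : p.Prime)).1 hd
      exact ⟨i, hi⟩
    refine mem_autGroup_of_hom D ⟨hαF, (g ^ b) ^ j, hmem, fun x => ?_⟩
    have h2 := hpow (b * j) x
    rw [← pow_mul]
    refine Eq.trans (congrArg ι (Subtype.ext ?_)) h2
    rw [pow_mul, hj]
    rfl
  intro hEq
  apply hN
  refine le_antisymm (Subgroup.commutator_le.2 fun x hx y hy =>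
    K.mul_mem (K.mul_mem (K.mul_mem hx hy) (K.inv_mem hx)) (K.inv_mem hy)) ?_
  have hhyp : E.hyperfocalSubgroup p ≤ preimageAlong ι ⁅K, K⁆ := by
    refine (Subgroup.closure_le _).2 ?_
    rintro _ ⟨P, α, x, hP, -, rfl⟩
    obtain ⟨hφ, k, hk, hk'⟩ := hE.2.2 D hDs hDi P (autHom_mem E hP α.2)
    refine ⟨(⟨x, hP x.2⟩ : S)⁻¹ * ⟨((α : MulAut P) x : P), hP (SetLike.coe_mem _)⟩, ?_, rfl⟩
    show ι _ ∈ ⁅K, K⁆
    rw [map_mul, map_inv]
    have h3 := hk' x
    simp only [autHom_apply] at h3
    rw [h3, inv_mul_conj_eq]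
    exact Subgroup.commutator_mem_commutator (K.inv_mem (hιK ⟨_, rfl⟩)) hk
  have hsyl : (T : Subgroup G) ≤ ⁅K, K⁆ := by
    rw [hT]
    rintro _ ⟨s, rfl⟩
    obtain ⟨z, hz, hze⟩ := hhyp (hEq.ge s.2)
    obtain rfl : z = s := Subtype.ext hze
    exact hz
  conv_lhs => rw [hKdef]
  refine (Subgroup.closure_le _).2 ?_
  rintro g ⟨k, hk⟩
  obtain ⟨Q, hQ⟩ := (IsPGroup.of_card (G := Subgroup.zpowers g)
    ((Nat.card_zpowers g).trans hk)).exists_le_sylow
  obtain ⟨c, hc⟩ := MulAction.exists_smul_eq G T Q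
  have h4 : g ∈ ((c • T : Sylow p G) : Subgroup G) := hc.symm ▸ hQ (Subgroup.mem_zpowers g)
  rw [Sylow.coe_subgroup_smul, Subgroup.mem_pointwise_smul_iff_inv_smul_mem] at h4
  have h5 := (inferInstance : (⁅K, K⁆).Normal).conj_mem _ (hsyl h4) c
  simpa [MulAut.smul_def, mul_assoc] using h5

end Realized

section Series

variable {Ω : Type u} [Group Ω]

/-- The properties propagated along the series. -/
def Good {S : Subgroup Ω} [Finite S] (p : ℕ) (F : FusionSystem S) : Prop :=
  ChainTo F S ∧ ∀ P : Subgroup Ω, P ≤ S → IsPSolvable p (F.autGroup P)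

/-- A subgroup normal in `S` containing the hyperfocal subgroup is strongly closed. -/
theorem closed_of_hyperfocal {S : Subgroup Ω} [Finite S] {p : ℕ} [Fact p.Prime]
    (hS : IsPGroup p S) {F : FusionSystem S} (hF : F.IsSaturated p) {H : Subgroup Ω} (hHS : H ≤ S)
    (hH : F.hyperfocalSubgroup p ≤ H) (hn : ∀ g ∈ S, ∀ x ∈ H, g * x * g⁻¹ ∈ H) :
    F.StronglyClosed H := by
  refine ⟨hHS, fun R hR φ hφ x => ?_⟩
  have hle : F ≤ preserveSystem F H hn :=
    le_of_residual hS hF _ fun P hn α hα => mem_autGroup_of_hom _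
      ⟨autHom_mem F hn.1 α.2, fun x => by
        have h1 := hH (hyperfocal_mem hn.1 hα x)
        refine ⟨fun h => ?_, fun h => ?_⟩
        · have := H.mul_mem h (H.inv_mem h1)
          rwa [autHom_apply, mul_inv_rev, inv_inv, mul_inv_cancel_left] at this
        · have := H.mul_mem h h1
          rwa [mul_inv_cancel_left] at this⟩
  exact ((hle R hφ).2 x).2 (hR x.2)

/-- From the `p`-residual to the system. -/
theorem good_of_pResidual {S : Subgroup Ω} [Finite S] {p : ℕ} [Fact p.Prime] (hS : IsPGroup p S)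
    {E : FusionSystem S} (hE : E.IsSaturated p) {D : FusionSystem (E.hyperfocalSubgroup p)}
    [Finite (E.hyperfocalSubgroup p)] (hD : E.IsPResidual p D) (hg : Good p D) : Good p E := by
  have hTS : (E.hyperfocalSubgroup p) ≤ S := hyperfocal_le E p
  haveI hTn : ((E.hyperfocalSubgroup p).subgroupOf S).Normal :=
    ⟨fun x hx g => conj_mem_hyperfocal E p g.2 hx⟩
  have hDn : D.IsNormalIn E p :=
    Cfsg.Agent.S5120.result p hS E hE (E.hyperfocalSubgroup p) hTS hTn le_rfl D hD.1 hD.2
  constructor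
  · have h1 : ChainTo E (E.hyperfocalSubgroup p) := ChainTo.extend hDn.1.2.2 hg.1
    set θ := QuotientGroup.mk' ((E.hyperfocalSubgroup p).subgroupOf S)
    have h2 := ChainTo.climb_map (F := E) θ ⊤
      (isPGroup_top_quotient hS ((E.hyperfocalSubgroup p).subgroupOf S)).isNilpotent (fun R hR => ?_) ?_
    · rwa [preimageAlong, Subgroup.comap_top, ← MonoidHom.range_eq_map, Subgroup.range_subtype] at h2
    · refine closed_of_hyperfocal hS hE (Subgroup.map_subtype_le _) (fun t ht => ?_) ?_
      · refine ⟨⟨t, hTS ht⟩, ?_, rfl⟩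
        show θ _ ∈ R
        rw [QuotientGroup.mk'_apply, (QuotientGroup.eq_one_iff _).2 (Subgroup.mem_subgroupOf.2 ht)]
        exact R.one_mem
      · rintro g hg _ ⟨x, hx, rfl⟩
        refine ⟨⟨g, hg⟩ * x * ⟨g, hg⟩⁻¹, ?_, rfl⟩
        show θ _ ∈ R
        rw [map_mul, map_mul, map_inv]
        exact hR.conj_mem _ hx _
    · rwa [preimageAlong, MonoidHom.comap_bot, QuotientGroup.ker_mk',
        Subgroup.map_subgroupOf_eq_of_le hTS]
  · intro P hP
    have := finite_mulAut hP
    have hTc := hDn.1.2.2.2.1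
    set R := P ⊓ (E.hyperfocalSubgroup p) with hRdef
    have := finite_of_le hP
    have := finite_mulAut (S := S) (P := R) (inf_le_left.trans hP)
    have hstab : ∀ a : E.autGroup P, ∀ x : R,
        (((a : MulAut P) ⟨x, x.2.1⟩ : P) : Ω) ∈ R := fun a x =>
      ⟨SetLike.coe_mem _, StronglyClosed.map_mem hTc (autHom_mem E hP a.2) ⟨x, x.2.1⟩ x.2.2⟩
    let toAut : E.autGroup P → MulAut R := fun a =>
      { toFun := fun x => ⟨_, hstab a x⟩
        invFun := fun x => ⟨_, hstab a⁻¹ x⟩
        left_inv := fun x => Subtype.ext (by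
          exact congrArg (fun z : P => (z : Ω)) ((a : MulAut P).symm_apply_apply ⟨x, x.2.1⟩))
        right_inv := fun x => Subtype.ext (by
          exact congrArg (fun z : P => (z : Ω)) ((a : MulAut P).apply_symm_apply ⟨x, x.2.1⟩))
        map_mul' := fun x y => Subtype.ext (by
          exact congrArg (fun z : P => (z : Ω)) (map_mul (a : MulAut P) ⟨x, x.2.1⟩ ⟨y, y.2.1⟩)) }
    let res : E.autGroup P →* MulAut R := MonoidHom.mk' toAut fun a b =>
      MulEquiv.ext fun x => Subtype.ext rfl
    have hres : ∀ a, res a ∈ E.autGroup R := fun a =>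
      mem_autGroup_of_hom E (restr_mem E (autHom_mem E hP a.2) (inf_le_left : R ≤ P))
    set O := pResidual p (E.autGroup P) with hO
    haveI : O.Normal := by rw [hO]; infer_instance
    refine psolv_of_index O ?_ (Or.inl Cores.index_pResidual)
    refine psolv_of_hom (res.comp O.subtype) ?_ ?_
    · obtain ⟨m, hm⟩ : ∃ m, Nat.card P = p ^ m := IsPGroup.iff_card.1 (hS.to_le hP)
      rintro ⟨a, ha⟩
      refine ⟨m, Subtype.ext (Subtype.ext (Subtype.ext (MulEquiv.ext fun x => ?_)))⟩
      show (((a : E.autGroup P) : MulAut P) ^ p ^ m) x = x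
      set d := x⁻¹ * ((a : E.autGroup P) : MulAut P) x
      have hd : (d : Ω) ∈ R := ⟨d.2, hyperfocal_mem hP a.2 x⟩
      have hfix : ((a : E.autGroup P) : MulAut P) d = d :=
        Subtype.ext (congrArg (fun z : ↥(P ⊓ E.hyperfocalSubgroup p) => (z : Ω))
          (DFunLike.congr_fun (MonoidHom.mem_ker.1 ha) (⟨(d : Ω), hd⟩ : R)))
      rw [PrimeIndex.pow_apply_of_fix hfix, ← hm, pow_card_eq_one', mul_one]
    · have hle : (res.comp O.subtype).range ≤ D.autGroup R := by
        rintro _ ⟨a, rfl⟩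
        refine hD.2.2.2 R inf_le_right ⟨(res.codRestrict (E.autGroup R) hres) a, ?_, rfl⟩
        exact Cores.map_pResidual_le (res.codRestrict (E.autGroup R) hres) ⟨_, a.2, rfl⟩
      exact psolv_of_le hle (hg.2 R inf_le_right)

/-- From the `p'`-residual to the system. -/
theorem good_of_pPrimeResidual {S : Subgroup Ω} [Finite S] {p : ℕ} [Fact p.Prime]
    (hS : IsPGroup p S) {F E : FusionSystem S} (hF : F.IsSaturated p)
    (hE : F.IsPPrimeResidual p E) (hg : Good p E) : Good p F := by
  have hEn : E.IsNormalIn F p := Cfsg.Agent.S5141.result p hS F hF F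
    (PrimeIndex.isNormalIn_self hS hF).1 E hE
  refine ⟨ChainTo.extend hEn.1.2.2 hg.1, fun P hP => ?_⟩
  have := finite_mulAut hP
  set K := Subgroup.closure {α : F.autGroup P | ∃ k : ℕ, orderOf α = p ^ k} with hK
  haveI : K.Normal := conj_mem_closure_pEl p
  refine psolv_of_index K (psolv_of_equiv
    (Subgroup.equivMapOfInjective K _ (F.autGroup P).subtype_injective).symm
    (psolv_of_le (hE.2.1.2 P hP) (hg.2 P hP))) (Or.inr ?_)
  obtain ⟨R⟩ : Nonempty (Sylow p (F.autGroup P)) := inferInstance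
  have hRK : (R : Subgroup (F.autGroup P)) ≤ K := fun a ha => by
    obtain ⟨k, hk⟩ := IsPGroup.iff_orderOf.1 R.isPGroup' ⟨a, ha⟩
    exact Subgroup.subset_closure ⟨k, by rwa [Subgroup.orderOf_mk] at hk⟩
  exact Nat.Coprime.symm ((Fact.out : p.Prime).coprime_iff_not_dvd.2 fun hd =>
    R.not_dvd_index (hd.trans (Subgroup.index_dvd_of_le hRK)))

theorem good_of_series {S : Subgroup Ω} {F : FusionSystem S} {p : ℕ}
    (h : F.HasTerminatingResidualSeries p) :
    Fact p.Prime → ∀ [Finite S], IsPGroup p S → F.IsSaturated p → Good p F := by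
  induction h with
  | trivial F p hS =>
    intro _ _ _ _
    subst hS
    refine ⟨ChainTo.bot F, fun P hP => ?_⟩
    obtain rfl := le_bot_iff.1 hP
    haveI : Subsingleton (MulAut (⊥ : Subgroup Ω)) :=
      ⟨fun a b => MulEquiv.ext fun _ => Subsingleton.elim _ _⟩
    exact psolv_of_subsingleton _
  | step F E p D hE hD _ ih =>
    intro hp hfin hS hF
    haveI := finite_of_le (hyperfocal_le E p)
    exact good_of_pPrimeResidual hS hF hE
      (good_of_pResidual hS hE.1 hD (ih hp (hS.to_le (hyperfocal_le E p)) hD.1))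

theorem series_of_good {S : Subgroup Ω} [Finite S] {p : ℕ} [Fact p.Prime] (hS : IsPGroup p S)
    (F : FusionSystem S) (hF : F.IsSaturated p) (hg : Good p F) :
    F.HasTerminatingResidualSeries p := by
  suffices key : ∀ n, ∀ {S : Subgroup Ω}, ∀ [Finite S], Nat.card S = n → IsPGroup p S →
      ∀ F : FusionSystem S, F.IsSaturated p → Good p F → F.HasTerminatingResidualSeries p from
    key _ rfl hS F hF hg
  intro n
  induction n using Nat.strong_induction_on with
  | _ n ih =>
  intro S _ hn hS F hF hg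
  by_cases hb : S = ⊥
  · exact .trivial F p hb
  obtain ⟨E, hE⟩ := Cfsg.Agent.S5140.result p hS F hF
  obtain ⟨G, _, ι, hm⟩ := exists_model hS
    (isConstrained_of_solvable hS hF (solvable_of_chain hS hF hg.1.hasSolvChain))
  haveI : Finite G := hm.1
  have hG := model_psolv hm hg.2
  have hne := hyperfocal_ne hS hb hm hG hE
  have hle := hyperfocal_le E p
  haveI := finite_of_le hle
  obtain ⟨D, hDs, hDi⟩ := PrimeIndex.exists_pPowerIndex hS E hE.1 hle le_rfl
  have hsub : D.IsSubsystemOf F := fun P φ h => hE.2.1.1 P (hDi.1 P h)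
  refine .step F E p D hE ⟨hDs, hDi⟩ (ih _ ?_ rfl (hS.to_le hle) D hDs
    ⟨hg.1.restrict hsub hle, fun P hP => ?_⟩)
  · rw [← hn]
    by_contra hge
    exact hne (Subgroup.eq_of_le_of_card_ge hle (not_lt.1 hge))
  · have := finite_mulAut (hP.trans hle)
    exact psolv_of_le (Fusion.autGroup_le_of_isSubsystemOf hsub P) (hg.2 P (hP.trans hle))

end Series

end Cfsg.Agent.Lib.Fusion.ResidualSeries
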