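import Cfsg.Agent.Lib.Classical.SLTwoSylow
import Cfsg.Agent.Lib.Involutions.OddAut

/-!
The Sylow `2`-subgroup of `SL₂` in odd characteristic: its elements of square `-1`, its centralizer
and its normalizer.
-/

set_option autoImplicit false
set_option linter.unusedSectionVars false

namespace Cfsg.Agent.Lib.Fusion.SpFour

open Matrix
open Cfsg.Agent.Lib.Involutions (fix_cyclic fix_of_moves_by_fixed)

variable {F : Type*} [Field F] [Fintype F]

set_option quotPrecheck false in
local notation "SL2" => Matrix.SpecialLinearGroup (Fin 2) F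
set_option quotPrecheck false in
local notation "M2" => Matrix (Fin 2) (Fin 2) F

instance factEvenTwo : Fact (Even (Fintype.card (Fin 2))) := ⟨by simp⟩

/-- The standard element of square `-1`. -/
def jStd : M2 := !![0, -1; 1, 0]

theorem trace_eq_zero_of_sq {a : SL2} (ha : a * a = -1) :
    (a : M2) 0 0 + (a : M2) 1 1 = 0 := by
  have hd := a.det_coe
  rw [Matrix.det_fin_two] at hd
  have hm : (a : M2) * (a : M2) = -1 := by
    rw [← Matrix.SpecialLinearGroup.coe_mul, ha]; simp
  have h00 := congrFun (congrFun hm 0) 0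
  have h11 := congrFun (congrFun hm 1) 1
  have h01 := congrFun (congrFun hm 0) 1
  have h10 := congrFun (congrFun hm 1) 0
  simp [Matrix.mul_apply, Fin.sum_univ_two] at h00 h01 h10 h11
  by_contra hne
  have ha0 : ((a : M2) 0 0 + (a : M2) 1 1) * (a : M2) 0 0 = 0 := by linear_combination h00 + hd
  have ha1 : ((a : M2) 0 0 + (a : M2) 1 1) * (a : M2) 1 1 = 0 := by linear_combination h11 + hd
  rw [mul_eq_zero] at ha0 ha1
  exact hne (by rw [ha0.resolve_left hne, ha1.resolve_left hne, add_zero])

/-- An element of order four squares to `-1`. -/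
theorem sq_eq_neg_one (h2 : (2 : F) ≠ 0) {a : SL2} (h4 : a * a * (a * a) = 1) (hn : a * a ≠ 1) :
    a * a = -1 := by
  set b := a * a with hb
  have hd := b.det_coe
  rw [Matrix.det_fin_two] at hd
  have hm : (b : M2) * (b : M2) = 1 := by
    rw [← Matrix.SpecialLinearGroup.coe_mul, h4]; simp
  have h00 := congrFun (congrFun hm 0) 0
  have h11 := congrFun (congrFun hm 1) 1
  have h01 := congrFun (congrFun hm 0) 1
  have h10 := congrFun (congrFun hm 1) 0
  simp [Matrix.mul_apply, Fin.sum_univ_two] at h00 h01 h10 h11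
  set τ := (b : M2) 0 0 + (b : M2) 1 1 with hτ
  have e0 : τ * (b : M2) 0 0 = 2 := by rw [hτ]; linear_combination h00 + hd
  have hτ0 : τ ≠ 0 := fun h => h2 (by rw [← e0, h, zero_mul])
  have e01 : (b : M2) 0 1 = 0 :=
    (mul_eq_zero.1 (show τ * (b : M2) 0 1 = 0 by rw [hτ]; linear_combination h01)).resolve_left hτ0
  have e10 : (b : M2) 1 0 = 0 :=
    (mul_eq_zero.1 (show τ * (b : M2) 1 0 = 0 by rw [hτ]; linear_combination h10)).resolve_left hτ0
  rw [e01, e10, mul_zero, sub_zero] at hd
  rw [e01, zero_mul, add_zero] at h00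
  rcases mul_self_eq_one_iff.1 h00 with e | e
  · exfalso
    refine hn (Subtype.ext ?_)
    rw [e, one_mul] at hd
    ext i j
    fin_cases i <;> fin_cases j <;> simp [e, e01, e10, hd]
  · refine Subtype.ext ?_
    rw [e] at hd
    have hd' : (b : M2) 1 1 = -1 := by linear_combination -hd
    ext i j
    fin_cases i <;> fin_cases j <;> simp [e, e01, e10, hd']

theorem mul_eq_neg_of_sq {a : SL2} (ha : a * a = -1) : (a : M2) * (a : M2) = -1 := by
  rw [← Matrix.SpecialLinearGroup.coe_mul, ha]; simp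

/-- The standard element inside `SL₂`. -/
def jSL : SL2 := ⟨jStd, by simp [jStd, Matrix.det_fin_two]⟩

/-- All elements of square `-1` are conjugate. -/
theorem exists_conj_jStd (h2 : (2 : F) ≠ 0) {a : SL2} (ha : a * a = -1) :
    ∃ g : SL2, a = g * jSL * g⁻¹ := by
  classical
  have htr := trace_eq_zero_of_sq ha
  have hsq := mul_eq_neg_of_sq ha
  obtain ⟨v, hv⟩ : ∃ v : Fin 2 → F, v 0 * ((a : M2) *ᵥ v) 1 - ((a : M2) *ᵥ v) 0 * v 1 ≠ 0 := by
    by_contra hcon
    push Not at hcon
    have e10 := hcon ![1, 0]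
    have e01 := hcon ![0, 1]
    have e11 := hcon ![1, 1]
    simp [Matrix.mulVec, dotProduct, Fin.sum_univ_two] at e10 e01 e11
    rw [e10, e01, zero_add, add_zero] at e11
    have hd := a.det_coe
    rw [Matrix.det_fin_two, e10, e01, mul_zero, sub_zero] at hd
    have h0 : (a : M2) 0 0 = 0 := (mul_eq_zero.1
      (show (2 : F) * (a : M2) 0 0 = 0 by linear_combination htr - e11)).resolve_left h2
    rw [h0, zero_mul] at hd
    exact zero_ne_one hd
  set d := v 0 * ((a : M2) *ᵥ v) 1 - ((a : M2) *ᵥ v) 0 * v 1 with hd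
  obtain ⟨x, y, hxy⟩ : ∃ x y : F, x ^ 2 + y ^ 2 = d⁻¹ := by
    have hodd : Fintype.card F % 2 = 1 := by
      by_contra h
      exact Ring.two_ne_zero (R := F) (fun hc => h2 (by
        haveI := ringChar.of_eq hc
        exact CharP.cast_eq_zero F 2)) (by
        have hc := FiniteField.even_card_iff_char_two.2 (by omega : Fintype.card F % 2 = 0)
        haveI := ringChar.of_eq hc
        exact CharP.cast_eq_zero F 2)
    obtain ⟨x, y, h⟩ := FiniteField.exists_root_sum_quadratic
      (f := (Polynomial.X ^ 2 : Polynomial F)) (g := Polynomial.X ^ 2 - Polynomial.C d⁻¹)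
      (Polynomial.degree_X_pow 2) (Polynomial.degree_X_pow_sub_C two_pos _) hodd
    simp only [Polynomial.eval_pow, Polynomial.eval_X, Polynomial.eval_sub, Polynomial.eval_C] at h
    exact ⟨x, y, by linear_combination h⟩
  let g₀ : M2 := !![v 0, ((a : M2) *ᵥ v) 0; v 1, ((a : M2) *ᵥ v) 1]
  let g : M2 := g₀ * !![x, -y; y, x]
  have hg : g.det = 1 := by
    simp only [g, g₀, Matrix.det_mul, Matrix.det_fin_two_of]
    rw [show x * x - -y * y = d⁻¹ by linear_combination hxy]
    exact mul_inv_cancel₀ hv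
  have hcomm : (a : M2) * g = g * jStd := by
    have e1 : (a : M2) * g₀ = g₀ * jStd := by
      have h00 := congrFun (congrFun hsq 0) 0
      have h11 := congrFun (congrFun hsq 1) 1
      have h01 := congrFun (congrFun hsq 0) 1
      have h10 := congrFun (congrFun hsq 1) 0
      simp [Matrix.mul_apply, Fin.sum_univ_two] at h00 h01 h10 h11
      ext i j
      fin_cases i <;> fin_cases j <;>
        simp [g₀, jStd, Matrix.mul_apply, Fin.sum_univ_two, Matrix.mulVec, dotProduct]
      · linear_combination v 0 * h00 + v 1 * h01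
      · linear_combination v 0 * h10 + v 1 * h11
    have e2 : (jStd : M2) * !![x, -y; y, x] = !![x, -y; y, x] * jStd := by
      simp [jStd, Matrix.mul_fin_two]
    simp only [g]
    rw [← Matrix.mul_assoc, e1, Matrix.mul_assoc, e2, ← Matrix.mul_assoc]
  exact ⟨⟨g, hg⟩, eq_mul_inv_of_mul_eq (Subtype.ext hcomm)⟩

/-- Two elements of square `-1` are conjugate. -/
theorem exists_conj (h2 : (2 : F) ≠ 0) {a c : SL2} (ha : a * a = -1) (hc : c * c = -1) :
    ∃ g : SL2, g * a * g⁻¹ = c := by
  obtain ⟨g, rfl⟩ := exists_conj_jStd h2 ha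
  obtain ⟨k, rfl⟩ := exists_conj_jStd h2 hc
  exact ⟨k * g⁻¹, by group⟩

/-- The centralizer of two anticommuting elements of square `-1` consists of `±1`. -/
theorem eq_one_or_neg_one_of_commute (h2 : (2 : F) ≠ 0) {i j A : SL2} (hi : i * i = -1)
    (hij : j * i = -(i * j)) (hAi : A * i = i * A) (hAj : A * j = j * A) : A = 1 ∨ A = -1 := by
  obtain ⟨g, rfl⟩ := exists_conj_jStd h2 hi
  set B := g⁻¹ * A * g with hB
  set c := g⁻¹ * j * g with hc
  have hBJ : B * jSL = jSL * B := by
    have := congrArg (fun z => g⁻¹ * z * g) hAi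
    simpa [hB, mul_assoc] using this
  have hBc : B * c = c * B := by
    have := congrArg (fun z => g⁻¹ * z * g) hAj
    simpa [hB, hc, mul_assoc] using this
  have hcJ : c * jSL = -(jSL * c) := by
    have := congrArg (fun z => g⁻¹ * z * g) hij
    apply Subtype.ext
    have h' := congrArg (fun z : SL2 => (z : M2)) this
    simp [hc, mul_assoc, Matrix.mul_assoc] at h' ⊢
    exact h'
  suffices hB1 : B = 1 ∨ B = -1 by
    have e : A = g * B * g⁻¹ := by rw [hB]; group
    rcases hB1 with h | h
    · exact Or.inl (by rw [e, h, mul_one, mul_inv_cancel])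
    · refine Or.inr (Subtype.ext ?_)
      rw [e, h]
      simp
  have m1 := congrArg (fun z : SL2 => (z : M2)) hBJ
  have m2 := congrArg (fun z : SL2 => (z : M2)) hBc
  have m3 := congrArg (fun z : SL2 => (z : M2)) hcJ
  simp only [Matrix.SpecialLinearGroup.coe_mul, Matrix.SpecialLinearGroup.coe_neg] at m1 m2 m3
  have a00 := congrFun (congrFun m1 0) 0
  have a01 := congrFun (congrFun m1 0) 1
  have c00 := congrFun (congrFun m3 0) 0
  have c01 := congrFun (congrFun m3 0) 1
  have b00 := congrFun (congrFun m2 0) 0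
  have b01 := congrFun (congrFun m2 0) 1
  simp [jSL, jStd, Matrix.mul_apply, Fin.sum_univ_two, Matrix.vecMul, dotProduct] at a00 a01 c00 c01 b00 b01
  have hdB := B.det_coe
  have hdc := c.det_coe
  rw [Matrix.det_fin_two] at hdB hdc
  have hy : (B : M2) 1 0 = 0 := by
    have e1 : (2 : F) * ((B : M2) 1 0 * (c : M2) 0 1) = 0 := by
      linear_combination (exp := 1) -b00 + (B : M2) 1 0 * c00 + (c : M2) 1 0 * a00
    have e2 : (2 : F) * ((B : M2) 1 0 * (c : M2) 0 0) = 0 := by
      linear_combination (exp := 1) b01 - (B : M2) 1 0 * c01 - (c : M2) 0 1 * a01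
        + ((c : M2) 0 0 - (c : M2) 1 1) * a00
    rcases mul_eq_zero.1 ((mul_eq_zero.1 e1).resolve_left h2) with h | h
    · exact h
    rcases mul_eq_zero.1 ((mul_eq_zero.1 e2).resolve_left h2) with h' | h'
    · exact h'
    exfalso
    rw [h'] at hdc
    rw [h] at hdc
    simp at hdc
  have hB01 : (B : M2) 0 1 = 0 := by linear_combination a00 - hy
  have hB11 : (B : M2) 1 1 = (B : M2) 0 0 := by linear_combination -a01
  rw [hy, hB01, hB11, mul_zero, sub_zero] at hdB
  rcases mul_self_eq_one_iff.1 hdB with h | h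
  · left
    apply Subtype.ext
    ext r s
    fin_cases r <;> fin_cases s <;> simp [hy, hB01, hB11, h]
  · right
    apply Subtype.ext
    ext r s
    fin_cases r <;> fin_cases s <;> simp [hy, hB01, hB11, h]

/-- What is used of the Sylow `2`-subgroup `Q` of `SL₂`. -/
structure QData (Q : Subgroup (Matrix.SpecialLinearGroup (Fin 2) F))
    (i j : Matrix.SpecialLinearGroup (Fin 2) F) : Prop where
  isPGroup : IsPGroup 2 Q
  maximal : ∀ R : Subgroup (Matrix.SpecialLinearGroup (Fin 2) F), IsPGroup 2 R → Q ≤ R → R ≤ Q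
  hi : i ∈ Q
  hj : j ∈ Q
  isq : i * i = -1
  jsq : j * j = -1
  anti : j * i = -(i * j)
  gen : ∀ u ∈ Q, ∃ a ∈ Q, ∃ c ∈ Q, a * a = -1 ∧ c * c = -1 ∧ u = c * a
  cases : (∀ φ : MulAut Q, Odd (orderOf φ) → φ = 1) ∨ Q ≤ Subgroup.closure {i, j}

theorem quat_odd_aut {k : ℕ} (hk : 2 ≤ k) (φ : MulAut (QuaternionGroup (2 ^ k)))
    (hodd : Odd (orderOf φ)) : φ = 1 := by
  haveI : NeZero (2 ^ k) := ⟨by positivity⟩
  have hp : IsPGroup 2 (QuaternionGroup (2 ^ k)) := IsPGroup.of_card (n := k + 2) (by
    rw [Nat.card_eq_fintype_card, QuaternionGroup.card]; ring)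
  have h8 : 2 * 2 ^ 2 ≤ 2 * 2 ^ k := Nat.mul_le_mul_left 2 (Nat.pow_le_pow_right two_pos hk)
  have hord : ∀ u, orderOf (φ u) = orderOf u := fun u =>
    orderOf_injective φ.toMonoidHom φ.injective u
  have hzp : ∀ s : ZMod (2 * 2 ^ k),
      (QuaternionGroup.a 1 : QuaternionGroup (2 ^ k)) ^ s.val = QuaternionGroup.a s := fun s => by
    rw [QuaternionGroup.a_one_pow, ZMod.natCast_zmod_val]
  have h1 : φ (QuaternionGroup.a 1) = QuaternionGroup.a 1 := by
    refine fix_cyclic hp hodd ?_
    rcases hφ : φ (QuaternionGroup.a 1) with s | s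
    · exact hzp s ▸ Subgroup.npow_mem_zpowers _ _
    · exfalso
      have := hord (QuaternionGroup.a 1)
      rw [hφ, QuaternionGroup.orderOf_xa, QuaternionGroup.orderOf_a_one] at this
      omega
  have hfix : ∀ s, φ (QuaternionGroup.a s) = QuaternionGroup.a s := fun s => by
    rw [← hzp s, map_pow, h1]
  have hx : φ (QuaternionGroup.xa 0) = QuaternionGroup.xa 0 := by
    rcases hφ : φ (QuaternionGroup.xa 0) with s | s
    · exact absurd (φ.injective (hφ.trans (hfix s).symm)) (by simp)
    · exact hφ.symm.trans (fix_of_moves_by_fixed hp hodd (hfix s)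
        (by rw [hφ, QuaternionGroup.xa_mul_a, zero_add]))
  ext u
  rcases u with s | s
  · rw [hfix]; rfl
  · rw [show QuaternionGroup.xa s = QuaternionGroup.xa 0 * QuaternionGroup.a s by
      rw [QuaternionGroup.xa_mul_a, zero_add], map_mul, hfix, hx]
    rfl

/-- The data exist for every Sylow `2`-subgroup. -/
theorem exists_qData (h2 : (2 : F) ≠ 0) (P : Sylow 2 SL2) :
    ∃ i j, QData (P : Subgroup SL2) i j := by
  classical
  obtain ⟨k, hk, ⟨e⟩⟩ := Cfsg.Agent.Lib.Classical.sylow_two_SL2_quaternion h2 P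
  haveI : NeZero (2 ^ k) := ⟨by positivity⟩
  let f : QuaternionGroup (2 ^ k) →* SL2 := (P : Subgroup SL2).subtype.comp e.symm.toMonoidHom
  have hfi : Function.Injective f := Subtype.coe_injective.comp e.symm.injective
  have hfP : ∀ u, f u ∈ (P : Subgroup SL2) := fun u => (e.symm u).2
  set n : ZMod (2 * 2 ^ k) := ((2 ^ k : ℕ) : ZMod (2 * 2 ^ k)) with hn
  set s₀ : ZMod (2 * 2 ^ k) := ((2 ^ (k - 1) : ℕ) : ZMod (2 * 2 ^ k)) with hs₀
  have hnn : n + n = 0 := by
    rw [hn, ← Nat.cast_add, ← two_mul, ZMod.natCast_self]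
  have hss : s₀ + s₀ = n := by
    rw [hs₀, hn, ← Nat.cast_add, ← two_mul]
    exact congrArg Nat.cast (by rw [← pow_succ', Nat.sub_add_cancel hk])
  have hn0 : n ≠ 0 := by
    rw [hn, Ne, ZMod.natCast_eq_zero_iff]
    intro hd
    have := Nat.le_of_dvd (by positivity) hd
    have := Nat.two_pow_pos k
    omega
  have han : f (QuaternionGroup.a n) = -1 := by
    have e1 : QuaternionGroup.a s₀ * QuaternionGroup.a s₀ = QuaternionGroup.a n := by
      rw [QuaternionGroup.a_mul_a, hss]
    rw [← e1, map_mul]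
    refine sq_eq_neg_one h2 ?_ ?_
    · rw [← map_mul, e1, ← map_mul, QuaternionGroup.a_mul_a, hnn, QuaternionGroup.a_zero, map_one]
    · rw [← map_mul, e1]
      intro hh
      rw [← map_one f] at hh
      have := hfi hh
      rw [QuaternionGroup.one_def] at this
      exact hn0 (QuaternionGroup.a.inj this)
  have hxa : ∀ s, f (QuaternionGroup.xa s) * f (QuaternionGroup.xa s) = -1 := fun s => by
    rw [← map_mul, QuaternionGroup.xa_mul_xa, show n + s - s = n from add_sub_cancel_right n s]
    exact han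
  refine ⟨f (QuaternionGroup.xa 0), f (QuaternionGroup.a s₀), ⟨P.isPGroup', fun R hR hle =>
    (P.3 hR hle).le, hfP _, hfP _, hxa 0, ?_, ?_, ?_, ?_⟩⟩
  · rw [← map_mul, QuaternionGroup.a_mul_a, hss, han]
  · apply Subtype.ext
    rw [Matrix.SpecialLinearGroup.coe_neg, ← map_mul, ← map_mul, QuaternionGroup.a_mul_xa,
      QuaternionGroup.xa_mul_a, zero_add, zero_sub]
    have e1 : QuaternionGroup.xa (-s₀) = QuaternionGroup.xa s₀ * QuaternionGroup.a n := by
      rw [QuaternionGroup.xa_mul_a]
      congr 1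
      linear_combination -hnn - hss
    rw [e1, map_mul, han]
    simp
  · intro u hu
    obtain ⟨q, rfl⟩ : ∃ q, f q = u := ⟨e ⟨u, hu⟩, by simp [f]⟩
    rcases q with s | s
    · refine ⟨_, hfP (QuaternionGroup.xa (s - n)), _, hfP (QuaternionGroup.xa 0), hxa _, hxa _, ?_⟩
      rw [← map_mul, QuaternionGroup.xa_mul_xa]
      congr 2
      ring
    · refine ⟨_, hfP (QuaternionGroup.a s₀), _, hfP (QuaternionGroup.xa (s - s₀)), ?_, hxa _, ?_⟩
      · rw [← map_mul, QuaternionGroup.a_mul_a, hss, han]
      · rw [← map_mul, QuaternionGroup.xa_mul_a, sub_add_cancel]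
  · rcases eq_or_lt_of_le hk with hk1 | hk2
    · refine Or.inr fun u hu => ?_
      obtain ⟨q, rfl⟩ : ∃ q, f q = u := ⟨e ⟨u, hu⟩, by simp [f]⟩
      have hs1 : s₀ = 1 := by rw [hs₀, ← hk1]; simp
      have ha : ∀ s, f (QuaternionGroup.a s) ∈
          Subgroup.closure {f (QuaternionGroup.xa 0), f (QuaternionGroup.a s₀)} := fun s => by
        have e1 : f (QuaternionGroup.a s) = f (QuaternionGroup.a 1) ^ s.val := by
          rw [← map_pow, QuaternionGroup.a_one_pow, ZMod.natCast_zmod_val]
        rw [e1, hs1]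
        have hm : f (QuaternionGroup.a 1) ∈
            Subgroup.closure ({f (QuaternionGroup.xa 0), f (QuaternionGroup.a 1)} : Set SL2) :=
          Subgroup.subset_closure (Set.mem_insert_of_mem _ rfl)
        exact Subgroup.pow_mem _ hm _
      rcases q with s | s
      · exact ha s
      · rw [show QuaternionGroup.xa s = QuaternionGroup.xa 0 * QuaternionGroup.a s by
          rw [QuaternionGroup.xa_mul_a, zero_add], map_mul]
        exact Subgroup.mul_mem _ (Subgroup.subset_closure (Or.inl rfl)) (ha s)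
    · refine Or.inl fun φ hφ => ?_
      have h1 := quat_odd_aut hk2 (MulAut.congr e φ) (by rwa [(MulAut.congr e).orderOf_eq φ])
      exact (MulAut.congr e).injective (h1.trans (map_one _).symm)

variable {Q : Subgroup (Matrix.SpecialLinearGroup (Fin 2) F)}
  {i j : Matrix.SpecialLinearGroup (Fin 2) F}

theorem QData.neg_one_mem (d : QData Q i j) : (-1 : SL2) ∈ Q := d.isq ▸ Q.mul_mem d.hi d.hi

/-- Elements normalizing the two axes lie in `Q`. -/
theorem QData.mem_of_axes (h2 : (2 : F) ≠ 0) (d : QData Q i j) {A : SL2}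
    (hAi : A * i = i * A ∨ A * i = -(i * A)) (hAj : A * j = j * A ∨ A * j = -(j * A)) : A ∈ Q := by
  have coe : ∀ {x y : SL2}, (x : M2) = (y : M2) → x = y := fun h => Subtype.ext h
  have hneg : ∀ B : SL2, B = 1 ∨ B = -1 → B ∈ Q := by
    rintro B (rfl | rfl)
    · exact Q.one_mem
    · exact d.neg_one_mem
  have key : ∀ {x y z : SL2}, y * x = -(x * y) → z * x = -(x * z) → y * z * x = x * (y * z) := by
    intro x y z h1 h2
    rw [mul_assoc, h2]
    apply coe
    have h1' := congrArg (fun w : SL2 => (w : M2)) h1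
    simp only [Matrix.SpecialLinearGroup.coe_mul, Matrix.SpecialLinearGroup.coe_neg] at h1' ⊢
    rw [Matrix.mul_neg, ← Matrix.mul_assoc, h1', Matrix.neg_mul, neg_neg, Matrix.mul_assoc]
  have keyC : ∀ {x y z : SL2}, y * x = x * y → z * x = x * z → y * z * x = x * (y * z) := by
    intro x y z h1 h2
    rw [mul_assoc, h2, ← mul_assoc, h1, mul_assoc]
  have anti' : i * j = -(j * i) := by
    apply coe
    rw [d.anti]
    simp
  have mixed : ∀ {x y z : SL2}, y * x = x * y → z * x = -(x * z) → y * z * x = -(x * (y * z)) := by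
    intro x y z h1 h2
    rw [mul_assoc, h2]
    apply coe
    have h1' := congrArg (fun w : SL2 => (w : M2)) h1
    simp only [Matrix.SpecialLinearGroup.coe_mul, Matrix.SpecialLinearGroup.coe_neg] at h1' ⊢
    rw [Matrix.mul_neg, ← Matrix.mul_assoc, h1', Matrix.mul_assoc]
  have mixed' : ∀ {x y z : SL2}, y * x = -(x * y) → z * x = x * z → y * z * x = -(x * (y * z)) := by
    intro x y z h1 h2
    rw [mul_assoc, h2, ← mul_assoc, h1]
    apply coe
    simp [Matrix.mul_assoc]
  rcases hAi with hi | hi <;> rcases hAj with hj | hj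
  · exact hneg _ (eq_one_or_neg_one_of_commute h2 d.isq d.anti hi hj)
  · -- multiply by `i`
    have e1 : A * i * i = i * (A * i) := keyC hi rfl
    have e2 : A * i * j = j * (A * i) := key hj anti'
    exact (Subgroup.mul_mem_cancel_right Q d.hi).1
      (hneg _ (eq_one_or_neg_one_of_commute h2 d.isq d.anti e1 e2))
  · have e1 : A * j * i = i * (A * j) := key hi d.anti
    have e2 : A * j * j = j * (A * j) := keyC hj rfl
    exact (Subgroup.mul_mem_cancel_right Q d.hj).1
      (hneg _ (eq_one_or_neg_one_of_commute h2 d.isq d.anti e1 e2))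
  · have e1 : A * (i * j) * i = i * (A * (i * j)) :=
      key hi (by
        have := mixed (x := i) (y := i) (z := j) rfl d.anti
        exact this)
    have e2 : A * (i * j) * j = j * (A * (i * j)) :=
      key hj (by
        have := mixed' (x := j) (y := i) (z := j) anti' rfl
        exact this)
    exact (Subgroup.mul_mem_cancel_right Q (Q.mul_mem d.hi d.hj)).1
      (hneg _ (eq_one_or_neg_one_of_commute h2 d.isq d.anti e1 e2))

/-- The matrix of order three attached to the axes. -/
noncomputable def hMat (i j : SL2) : M2 :=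
  (2 : F)⁻¹ • (-1 + (i : M2) + (j : M2) + (i : M2) * (j : M2))

theorem QData.hMat_det (h2 : (2 : F) ≠ 0) (d : QData Q i j) : (hMat i j).det = 1 := by
  have hii := mul_eq_neg_of_sq d.isq
  have hjj := mul_eq_neg_of_sq d.jsq
  have hji : (j : M2) * (i : M2) = -((i : M2) * (j : M2)) := by
    rw [← Matrix.SpecialLinearGroup.coe_mul, d.anti]; simp
  have hk : ((i * j : SL2) : M2) = (i : M2) * (j : M2) := by simp
  have tri := trace_eq_zero_of_sq d.isq
  have trj := trace_eq_zero_of_sq d.jsq
  have hksq : (i * j) * (i * j) = -1 := by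
    apply Subtype.ext
    simp only [Matrix.SpecialLinearGroup.coe_mul, Matrix.SpecialLinearGroup.coe_neg,
      Matrix.SpecialLinearGroup.coe_one]
    rw [Matrix.mul_assoc, ← Matrix.mul_assoc (j : M2) (i : M2) (j : M2), hji, Matrix.neg_mul,
      Matrix.mul_assoc (i : M2) (j : M2) (j : M2), hjj]
    simp [hii]
  have trk := trace_eq_zero_of_sq hksq
  rw [hk] at trk
  set h := hMat i j with hh
  have hadj : h.adjugate = -1 - h := by
    have t : h 0 0 + h 1 1 = -1 := by
      simp only [hh, hMat, Matrix.smul_apply, Matrix.add_apply, Matrix.neg_apply, Matrix.one_apply_eq,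
        smul_eq_mul]
      field_simp
      linear_combination tri + trj + trk
    ext r s
    fin_cases r <;> fin_cases s <;>
      simp [Matrix.adjugate_fin_two, Matrix.sub_apply] <;>
      linear_combination t
  have e := Matrix.mul_adjugate h
  rw [hadj] at e
  have e' : h * (-1 - h) = 1 := by
    have hki : (i : M2) * (j : M2) * (i : M2) = (j : M2) := by
      rw [Matrix.mul_assoc, hji, Matrix.mul_neg, ← Matrix.mul_assoc, hii, Matrix.neg_mul,
        Matrix.one_mul, neg_neg]
    have hik : (i : M2) * ((i : M2) * (j : M2)) = -(j : M2) := by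
      rw [← Matrix.mul_assoc, hii, Matrix.neg_mul, Matrix.one_mul]
    have hjk : (j : M2) * ((i : M2) * (j : M2)) = (i : M2) := by
      rw [← Matrix.mul_assoc, hji, Matrix.neg_mul, Matrix.mul_assoc, hjj, Matrix.mul_neg,
        Matrix.mul_one, neg_neg]
    have hkj : (i : M2) * (j : M2) * (j : M2) = -(i : M2) := by
      rw [Matrix.mul_assoc, hjj, Matrix.mul_neg, Matrix.mul_one]
    have hkk : (i : M2) * (j : M2) * ((i : M2) * (j : M2)) = -1 := by
      rw [← hk, ← Matrix.SpecialLinearGroup.coe_mul, hksq]; simp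
    set x := -1 + (i : M2) + (j : M2) + (i : M2) * (j : M2) with hx
    have hxx : x * x = -(2 : F) • x - (4 : F) • (1 : M2) := by
      simp only [hx, Matrix.add_mul, Matrix.mul_add, Matrix.neg_mul, Matrix.mul_neg, Matrix.one_mul,
        Matrix.mul_one, neg_neg, hii, hjj, hji, hki, hik, hjk, hkj, hkk]
      module
    rw [hh, hMat, ← hx]
    rw [Matrix.mul_sub, Matrix.mul_neg, Matrix.mul_one, Matrix.smul_mul, Matrix.mul_smul, hxx]
    match_scalars <;> field_simp <;> ring
  rw [e'] at e
  have := congrFun (congrFun e 0) 0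
  simpa using this.symm

/-- The element of order three. -/
noncomputable def QData.h (h2 : (2 : F) ≠ 0) (d : QData Q i j) : SL2 := ⟨hMat i j, d.hMat_det h2⟩

theorem QData.h_conj (h2 : (2 : F) ≠ 0) (d : QData Q i j) :
    d.h h2 * i = i * j * d.h h2 ∧ d.h h2 * j = i * d.h h2 := by
  have hii := mul_eq_neg_of_sq d.isq
  have hjj := mul_eq_neg_of_sq d.jsq
  have hji : (j : M2) * (i : M2) = -((i : M2) * (j : M2)) := by
    rw [← Matrix.SpecialLinearGroup.coe_mul, d.anti]; simp
  have hki : (i : M2) * (j : M2) * (i : M2) = (j : M2) := by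
    rw [Matrix.mul_assoc, hji, Matrix.mul_neg, ← Matrix.mul_assoc, hii, Matrix.neg_mul,
      Matrix.one_mul, neg_neg]
  have hkj : (i : M2) * (j : M2) * (j : M2) = -(i : M2) := by
    rw [Matrix.mul_assoc, hjj, Matrix.mul_neg, Matrix.mul_one]
  have hik : (i : M2) * ((i : M2) * (j : M2)) = -(j : M2) := by
    rw [← Matrix.mul_assoc, hii, Matrix.neg_mul, Matrix.one_mul]
  have hkk : (i : M2) * (j : M2) * ((i : M2) * (j : M2)) = -1 := by
    rw [← Matrix.mul_assoc, hki, hjj]
  refine ⟨Subtype.ext (?_ : hMat i j * (i : M2) = (i : M2) * (j : M2) * hMat i j),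
    Subtype.ext (?_ : hMat i j * (j : M2) = (i : M2) * hMat i j)⟩ <;>
    simp only [hMat, Matrix.smul_mul, Matrix.mul_smul, Matrix.add_mul, Matrix.mul_add, Matrix.neg_mul,
      Matrix.mul_neg, Matrix.one_mul, Matrix.mul_one, hii, hjj, hji, hki, hkj, hik, hkk] <;>
    module

variable (hQc : Q ≤ Subgroup.closure {i, j})

/-- Elements mapping `i` and `j` into `Q` normalize `Q`. -/
theorem QData.mem_normalizer (d : QData Q i j) (hQc : Q ≤ Subgroup.closure {i, j}) {A : SL2}
    (hi : A * i * A⁻¹ ∈ Q) (hj : A * j * A⁻¹ ∈ Q) : A ∈ Subgroup.normalizer (Q : Set SL2) := by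
  have hle : Q.map (MulAut.conj A).toMonoidHom ≤ Q := by
    rw [Subgroup.map_le_iff_le_comap]
    refine hQc.trans ((Subgroup.closure_le _).2 ?_)
    rintro u (rfl | rfl)
    · exact hi
    · exact hj
  have heq := Subgroup.eq_of_le_of_card_ge hle
    (by rw [Subgroup.card_map_of_injective (MulAut.conj A).injective])
  rw [Subgroup.mem_normalizer_iff]
  intro u
  constructor
  · exact fun hu => hle ⟨u, hu, rfl⟩
  · intro hu
    obtain ⟨w, hw, e⟩ := heq.ge hu
    rwa [← (MulAut.conj A).injective e]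

theorem QData.h_normalizer (h2 : (2 : F) ≠ 0) (d : QData Q i j)
    (hQc : Q ≤ Subgroup.closure {i, j}) : d.h h2 ∈ Subgroup.normalizer (Q : Set SL2) := by
  obtain ⟨e1, e2⟩ := d.h_conj h2
  refine d.mem_normalizer hQc ?_ ?_
  · rw [e1, mul_inv_cancel_right]; exact Q.mul_mem d.hi d.hj
  · rw [e2, mul_inv_cancel_right]; exact d.hi

/-- The normalizer of `Q`. -/
theorem QData.normalizer_le (h2 : (2 : F) ≠ 0) (d : QData Q i j) {A : SL2}
    (hA : A ∈ Subgroup.normalizer (Q : Set SL2)) :
    A ∈ Q ∨ (Q ≤ Subgroup.closure {i, j} ∧ A ∈ Subgroup.zpowers (d.h h2) ⊔ Q) := by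
  have hmax : ∀ B ∈ Subgroup.normalizer (Q : Set SL2), (∃ r : ℕ, B ^ 2 ^ r ∈ Q) → B ∈ Q := by
    rintro B hB ⟨r, hr⟩
    have hp : IsPGroup 2 (Subgroup.zpowers B) := by
      rintro ⟨x, hx⟩
      obtain ⟨m, rfl⟩ := Subgroup.mem_zpowers_iff.1 hx
      obtain ⟨s, hs⟩ := d.isPGroup ⟨_, hr⟩
      refine ⟨r + s, Subtype.ext ?_⟩
      have hs' : (B ^ 2 ^ r) ^ 2 ^ s = 1 := congrArg Subtype.val hs
      show (B ^ m) ^ 2 ^ (r + s) = 1
      rw [← zpow_natCast, zpow_comm, zpow_natCast, pow_add, pow_mul, hs', _root_.one_zpow]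
    exact d.maximal _ (IsPGroup.to_sup_of_normal_left' d.isPGroup hp (Subgroup.zpowers_le.2 hB))
      le_sup_left (Subgroup.mem_sup_right (Subgroup.mem_zpowers B))
  rcases d.cases with hodd | hQc
  · left
    obtain ⟨r, m, hm, hrm⟩ := Nat.exists_eq_two_pow_mul_odd (orderOf_pos A).ne'
    refine hmax A hA ⟨r, ?_⟩
    set B := A ^ 2 ^ r with hB
    have hBo : orderOf B = m := by
      rw [hB, orderOf_pow, hrm, Nat.gcd_mul_right_left, Nat.mul_div_cancel_left _ (by positivity)]
    have hBn : B ∈ Subgroup.normalizer (Q : Set SL2) := Subgroup.pow_mem _ hA _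
    let φ : MulAut Q := Q.normalizerMonoidHom ⟨B, hBn⟩
    have hφ : φ = 1 := hodd φ (by
      refine Odd.of_dvd_nat hm ?_
      rw [← hBo, ← Subgroup.orderOf_mk B hBn]
      exact orderOf_map_dvd _ _)
    have hc : ∀ u ∈ Q, B * u = u * B := fun u hu => by
      have h1 := congrArg (fun e : MulAut Q => ((e ⟨u, hu⟩ : Q) : SL2)) hφ
      have h2' : B * u * B⁻¹ = u := h1
      rwa [mul_inv_eq_iff_eq_mul] at h2'
    rcases eq_one_or_neg_one_of_commute h2 d.isq d.anti (hc i d.hi) (hc j d.hj) with e | e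
    · rw [e]; exact Q.one_mem
    · rw [e]; exact d.neg_one_mem
  refine Or.inr ⟨hQc, ?_⟩
  have hhn := d.h_normalizer h2 hQc
  obtain ⟨e1, e2⟩ := d.h_conj h2
  set h := d.h h2
  -- the elements of square `-1`
  have hcases : ∀ u ∈ Q, u * u = -1 → (∃ v ∈ ({i, j, i * j} : Set SL2), u = v ∨ u = -v) := by
    let E : Set SL2 := {1, -1, i, -i, j, -j, i * j, -(i * j)}
    have hE : ∀ u ∈ Q, u ∈ E := by
      suffices key : ∀ u ∈ Submonoid.closure ({i, j} : Set SL2), u ∈ E by
        intro u hu
        have hu' := hQc hu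
        rw [← Subgroup.mem_toSubmonoid, Subgroup.closure_toSubmonoid_of_finite] at hu'
        exact key u hu'
      intro u hu'
      have hii := d.isq
      have hjj := d.jsq
      induction hu' using Submonoid.closure_induction_left with
      | one => exact Or.inl rfl
      | mul_left x hx y _ ih =>
        have : ∀ z : SL2, -(-z) = z := fun z => Subtype.ext (by simp)
        have hn : ∀ y z : SL2, y * -z = -(y * z) := fun y z => Subtype.ext (by simp)
        have hn' : ∀ y z : SL2, -y * z = -(y * z) := fun y z => Subtype.ext (by simp)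
        have h3 : ∀ z : SL2, z * i * i = -z := fun z => by
          rw [mul_assoc, hii]; exact Subtype.ext (by simp)
        have h4 : ∀ z : SL2, z * j * j = -z := fun z => by
          rw [mul_assoc, hjj]; exact Subtype.ext (by simp)
        have h5 : ∀ z : SL2, z * j * i = -(z * i * j) := fun z => by
          rw [mul_assoc, d.anti]; exact Subtype.ext (by simp [Matrix.mul_assoc])
        rcases hx with rfl | rfl <;> rcases ih with rfl | rfl | rfl | rfl | rfl | rfl | rfl | rfl <;>
          simp only [E, Set.mem_insert_iff, Set.mem_singleton_iff, hn, hn', this, mul_one, hii, hjj,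
            ← mul_assoc, d.anti, one_mul, h3, h4, h5, true_or, or_true]
    intro u hu hu2
    have hne : ¬ (u = 1 ∨ u = -1) := by
      rintro (rfl | rfl)
      · have := congrArg (fun z : SL2 => (z : M2) 0 0) hu2
        simp at this
        exact h2 (by linear_combination this)
      · have := congrArg (fun z : SL2 => (z : M2) 0 0) hu2
        simp at this
        exact h2 (by linear_combination this)
    rcases hE u hu with h | h | h | h | h | h | h | h
    · exact absurd (Or.inl h) hne
    · exact absurd (Or.inr h) hne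
    · exact ⟨i, by simp, Or.inl h⟩
    · exact ⟨i, by simp, Or.inr h⟩
    · exact ⟨j, by simp, Or.inl h⟩
    · exact ⟨j, by simp, Or.inr h⟩
    · exact ⟨i * j, by simp, Or.inl h⟩
    · exact ⟨i * j, by simp, Or.inr h⟩
  -- some power of `h` corrects the image of `i`
  have himg : ∀ B ∈ Subgroup.normalizer (Q : Set SL2), ∀ u ∈ Q, u * u = -1 →
      B * u * B⁻¹ ∈ Q ∧ B * u * B⁻¹ * (B * u * B⁻¹) = -1 := by
    intro B hB u hu hu2
    refine ⟨(Subgroup.mem_normalizer_iff.1 hB u).1 hu, ?_⟩
    rw [show B * u * B⁻¹ * (B * u * B⁻¹) = B * (u * u) * B⁻¹ by group, hu2]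
    apply Subtype.ext
    simp
  obtain ⟨m, hm⟩ : ∃ m : ℕ, (h ^ m * A) * i = i * (h ^ m * A) ∨
      (h ^ m * A) * i = -(i * (h ^ m * A)) := by
    obtain ⟨h1, h1'⟩ := himg A hA i d.hi d.isq
    obtain ⟨v, hv, hAv⟩ := hcases _ h1 h1'
    obtain ⟨m, hmv⟩ : ∃ m : ℕ, h ^ m * v = i * h ^ m := by
      rcases hv with rfl | rfl | rfl
      · exact ⟨0, by simp⟩
      · exact ⟨1, by rw [pow_one]; exact e2⟩
      · refine ⟨2, ?_⟩
        have e3 : h * (i * j) = j * h := by
          rw [← mul_assoc, e1, mul_assoc, e2, ← mul_assoc]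
          congr 1
          apply Subtype.ext
          simp only [Matrix.SpecialLinearGroup.coe_mul]
          have hji : (j : M2) * (i : M2) = -((i : M2) * (j : M2)) := by
            rw [← Matrix.SpecialLinearGroup.coe_mul, d.anti]; simp
          rw [Matrix.mul_assoc, hji, Matrix.mul_neg, ← Matrix.mul_assoc, mul_eq_neg_of_sq d.isq,
            Matrix.neg_mul, Matrix.one_mul, neg_neg]
        rw [sq, mul_assoc, e3, ← mul_assoc, e2, mul_assoc]
    refine ⟨m, ?_⟩
    rcases hAv with h' | h'
    · left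
      rw [mul_inv_eq_iff_eq_mul] at h'
      rw [mul_assoc, h', ← mul_assoc, hmv, mul_assoc]
    · right
      rw [mul_inv_eq_iff_eq_mul] at h'
      rw [mul_assoc, h']
      apply Subtype.ext
      have hmv' := congrArg (fun z : SL2 => (z : M2)) hmv
      simp only [Matrix.SpecialLinearGroup.coe_mul, Matrix.SpecialLinearGroup.coe_neg] at hmv' ⊢
      rw [Matrix.neg_mul, Matrix.mul_neg, ← Matrix.mul_assoc, hmv', Matrix.mul_assoc]
  set B := h ^ m * A with hB
  have hBn : B ∈ Subgroup.normalizer (Q : Set SL2) :=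
    Subgroup.mul_mem _ (Subgroup.pow_mem _ hhn m) hA
  suffices hBQ : B ∈ Q by
    rw [show A = (h ^ m)⁻¹ * B by rw [hB, inv_mul_cancel_left]]
    exact Subgroup.mul_mem _ (Subgroup.inv_mem _ (Subgroup.pow_mem _
      (Subgroup.mem_sup_left (Subgroup.mem_zpowers h)) m)) (Subgroup.mem_sup_right hBQ)
  refine hmax B hBn ⟨1, ?_⟩
  rw [pow_one, sq]
  have coe : ∀ {x y : SL2}, (x : M2) = (y : M2) → x = y := fun h => Subtype.ext h
  -- `B²` fixes both axes
  have hsq : ∀ {u : SL2}, (B * u = u * B ∨ B * u = -(u * B)) →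
      B * B * u = u * (B * B) := by
    intro u hu
    rcases hu with hu | hu
    · rw [mul_assoc, hu, ← mul_assoc, hu, mul_assoc]
    · apply coe
      have hu' := congrArg (fun z : SL2 => (z : M2)) hu
      simp only [Matrix.SpecialLinearGroup.coe_mul, Matrix.SpecialLinearGroup.coe_neg] at hu' ⊢
      rw [Matrix.mul_assoc, hu', Matrix.mul_neg, ← Matrix.mul_assoc, hu', Matrix.neg_mul, neg_neg,
        Matrix.mul_assoc]
  refine d.mem_of_axes h2 (Or.inl (hsq hm)) ?_
  obtain ⟨h1, h1'⟩ := himg B hBn j d.hj d.jsq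
  obtain ⟨v, hv, hBv⟩ := hcases _ h1 h1'
  have hBj : B * j = v * B ∨ B * j = -(v * B) := by
    rcases hBv with e | e <;> rw [mul_inv_eq_iff_eq_mul] at e
    · exact Or.inl e
    · exact Or.inr (e.trans (coe (by simp)))
  have hii := mul_eq_neg_of_sq d.isq
  have hji : (j : M2) * (i : M2) = -((i : M2) * (j : M2)) := by
    rw [← Matrix.SpecialLinearGroup.coe_mul, d.anti]; simp
  rcases hv with rfl | rfl | rfl
  · -- `j` cannot go to `±i`
    exfalso
    have hiQ : B * j * B⁻¹ = B * v * B⁻¹ ∨ B * j * B⁻¹ = -(B * v * B⁻¹) := by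
      rcases hm with hm | hm <;> rcases hBj with hj | hj
      · exact Or.inl (by rw [hj, hm])
      · exact Or.inr (coe (by rw [hj, hm]; simp))
      · exact Or.inr (coe (by rw [hj, hm]; simp))
      · exact Or.inl (by rw [hj, hm])
    have hjv : j = v ∨ j = -v := by
      rcases hiQ with e | e
      · exact Or.inl (mul_left_cancel (mul_right_cancel e))
      · refine Or.inr (mul_left_cancel (a := B) (mul_right_cancel (b := B⁻¹) (e.trans ?_)))
        exact coe (by simp [Matrix.mul_assoc])
    have h3 : (j : M2) * (v : M2) = (v : M2) * (j : M2) := by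
      rcases hjv with rfl | rfl <;> simp
    rw [h3] at hji
    have h4 : (2 : F) • ((v : M2) * (j : M2)) = 0 := by rw [two_smul]; nth_rewrite 2 [hji]; simp
    rw [smul_eq_zero] at h4
    have h5 := h4.resolve_left h2
    have := congrArg Matrix.det h5
    simp [Matrix.det_mul] at this
  · exact Or.inl (hsq hBj)
  · -- `j ↦ ±ij`
    let Cm : M2 → M2 → M2 → Prop := fun X u w => X * u = w * X ∨ X * u = -(w * X)
    have cmul : ∀ {X u w u' w' : M2}, Cm X u w → Cm X u' w' → Cm X (u * u') (w * w') := by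
      intro X u w u' w' h h'
      show _ ∨ _
      rcases h with h | h <;> rcases h' with h' | h' <;>
        simp only [← Matrix.mul_assoc, h, Matrix.neg_mul] <;>
        simp only [Matrix.mul_assoc, h', Matrix.mul_neg, neg_neg] <;>
        simp
    have ccomp : ∀ {X Y u w z : M2}, Cm X u w → Cm Y w z → Cm (Y * X) u z := by
      intro X Y u w z h h'
      show _ ∨ _
      rcases h with h | h <;> rcases h' with h' | h' <;>
        simp only [Matrix.mul_assoc, h, Matrix.mul_neg] <;>
        simp only [← Matrix.mul_assoc, h', Matrix.neg_mul, neg_neg] <;>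
        simp
    have cneg : ∀ {X u w : M2}, Cm X u (-w) → Cm X u w := by
      intro X u w h
      rcases h with h | h
      · exact Or.inr (by rw [h, Matrix.neg_mul])
      · exact Or.inl (by rw [h, Matrix.neg_mul, neg_neg])
    have bi : Cm (B : M2) i i := by
      rcases hm with e | e
      · exact Or.inl (by simpa using congrArg (fun z : SL2 => (z : M2)) e)
      · exact Or.inr (by simpa using congrArg (fun z : SL2 => (z : M2)) e)
    have bj : Cm (B : M2) j ((i : M2) * j) := by
      rcases hBj with e | e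
      · exact Or.inl (by simpa using congrArg (fun z : SL2 => (z : M2)) e)
      · exact Or.inr (by simpa using congrArg (fun z : SL2 => (z : M2)) e)
    have bk : Cm (B : M2) ((i : M2) * j) j := by
      have h' := cmul bi bj
      rw [← Matrix.mul_assoc, mul_eq_neg_of_sq d.isq, Matrix.neg_mul, Matrix.one_mul] at h'
      exact cneg h'
    rcases ccomp bj bk with e | e
    · exact Or.inl (coe (by simpa using e))
    · exact Or.inr (coe (by simpa using e))

end Cfsg.Agent.Lib.Fusion.SpFour
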