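import Cfsg.Agent.S5118
import Cfsg.Agent.Lib.Fusion.Realized
import Cfsg.Agent.Lib.Fusion.Closed

/-!
A simple system realized by a group and the normal subgroups of that group.
-/

set_option autoImplicit false
set_option linter.unusedSectionVars false

namespace Cfsg.Agent.Lib.Fusion

open Cfsg Cfsg.FusionSystem

variable {Ω : Type*} [Group Ω] {S : Subgroup Ω} {G : Type*} [Group G] {ι : S →* G}

theorem autGroup_of_pushed {F : FusionSystem S} (h : F.IsRealizedBy ι) {P : Subgroup Ω} (hP : P ≤ S)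
    {n : G} (hn : n ∈ Subgroup.normalizer (imageAlong ι P : Set G)) :
    ∃ α ∈ F.autGroup P, ∀ x : P,
      ι ⟨(α x : P), hP (α x).2⟩ = n * ι ⟨x, hP x.2⟩ * n⁻¹ := by
  have h1 : conjAut hn ∈ autInducedBy (⊤ : Subgroup G) (imageAlong ι P) :=
    mem_autInducedBy.2 ⟨n, trivial, fun _ => rfl⟩
  rw [← IsRealizedBy.autGroup h hP] at h1
  obtain ⟨α, hα, he⟩ := h1
  refine ⟨α, hα, fun x => ?_⟩
  have h2 := congrArg (fun β : MulAut (imageAlong ι P) => ((β (pushEquiv h.1 hP x) : _) : G)) he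
  simp only [MulEquiv.coe_toMonoidHom] at h2
  change ((pushEquiv h.1 hP (α ((pushEquiv h.1 hP).symm (pushEquiv h.1 hP x))) :
      imageAlong ι P) : G) = ((conjAut hn (pushEquiv h.1 hP x) : imageAlong ι P) : G) at h2
  rw [MulEquiv.symm_apply_apply, conjAut_coe, pushEquiv_coe, pushEquiv_coe] at h2
  exact h2

/-- The maps of a realized system given by elements of `K`, on a subgroup `T` sent into `K`. -/
def innerPart (F : FusionSystem S) (h : F.IsRealizedBy ι) (K : Subgroup G) (T : Subgroup Ω)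
    (hT : T ≤ S) (hTK : ∀ (x : Ω) (hx : x ∈ T), ι ⟨x, hT hx⟩ ∈ K) : FusionSystem T where
  Hom P := {φ | φ ∈ F.Hom P ∧ P ≤ T ∧ (∀ x : P, φ x ∈ T) ∧ ∃ k ∈ K, ∀ (x : P) (hx : (x : Ω) ∈ S)
    (hφ : φ x ∈ S), ι ⟨φ x, hφ⟩ = k * ι ⟨x, hx⟩ * k⁻¹}
  le_of_mem hφ := ⟨hφ.2.1, hφ.2.2.1⟩
  injective_of_mem hφ := F.injective_of_mem hφ.1
  conj_mem := by
    intro P g hP hg
    refine ⟨F.conj_mem (hP.trans hT) (hT hg), hP, fun x => T.mul_mem (T.mul_mem hg (hP x.2))
      (T.inv_mem hg), ι ⟨g, hT hg⟩, hTK g hg, fun x hx hφ => ?_⟩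
    rw [← map_inv, ← map_mul, ← map_mul]
    rfl
  comp_mem := by
    rintro P Q φ ψ ⟨hφF, hP, hφT, a, ha, hφe⟩ ⟨hψF, hQ, hψT, b, hb, hψe⟩ hPQ
    refine ⟨F.comp_mem hφF hψF hPQ, hP, fun x => hψT _, b * a, K.mul_mem hb ha, fun x hx hf => ?_⟩
    have h1 := hψe ⟨φ x, hPQ x⟩ (hT (hφT x)) hf
    have h2 := hφe x hx (hT (hφT x))
    exact h1.trans (by rw [h2]; group)
  inv_mem := by
    rintro P φ ⟨hφF, hP, hφT, a, ha, hφe⟩
    obtain ⟨ψ, hψ, hl⟩ := F.inv_mem hφF
    refine ⟨ψ, ⟨hψ, ?_, ?_, a⁻¹, K.inv_mem ha, ?_⟩, hl⟩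
    · rintro _ ⟨x, rfl⟩
      exact hφT x
    · rintro ⟨_, x, rfl⟩
      rw [hl]
      exact hP x.2
    · rintro ⟨_, x, rfl⟩ hx hf
      simp only [hl]
      rw [hφe x (hT (hP x.2)) hx]
      group

variable {p : ℕ} [Fact p.Prime] [Finite G]

/-- In a simple realized system a normal subgroup either misses the Sylow image or realizes it. -/
theorem simple_normal_dichotomy {F : FusionSystem S} (h : F.IsRealizedBy ι) (R : Sylow p G)
    (hR : (R : Subgroup G) = ι.range) (hs : F.IsSimple p) (N : Subgroup G) [N.Normal] :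
    (R : Subgroup G) ⊓ N = ⊥ ∨ ((R : Subgroup G) ≤ N ∧ ∀ (P : Subgroup Ω) (φ : P →* Ω),
      φ ∈ F.Hom P → ∃ k ∈ N, ∀ (x : P) (hx : (x : Ω) ∈ S) (hφ : φ x ∈ S),
        ι ⟨φ x, hφ⟩ = k * ι ⟨x, hx⟩ * k⁻¹) := by
  classical
  have : Finite S := Finite.of_injective ι h.1
  set T := preimageAlong ι N with hTdef
  have hTS : T ≤ S := preimageAlong_le ι N
  have hTK : ∀ (x : Ω) (hx : x ∈ T), ι ⟨x, hTS hx⟩ ∈ N := fun x hx =>
    (mem_preimageAlong.1 hx).2
  have himg : imageAlong ι T = (R : Subgroup G) ⊓ N := by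
    ext y
    rw [hR, mem_imageAlong]
    constructor
    · rintro ⟨x, hx, hxT, rfl⟩
      exact ⟨⟨_, rfl⟩, hTK x hxT⟩
    · rintro ⟨⟨⟨x, hx⟩, rfl⟩, hy⟩
      exact ⟨x, hx, mem_preimageAlong.2 ⟨hx, hy⟩, rfl⟩
  set E := innerPart F h N T hTS hTK with hEdef
  let j : T →* N := (ι.comp (Subgroup.inclusion hTS)).codRestrict N fun x => hTK x x.2
  have hj : E.IsRealizedBy j := by
    refine ⟨fun a b hab => Subgroup.inclusion_injective hTS (h.1 (congrArg Subtype.val hab)),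
      fun P hP φ hφ => ⟨fun ⟨_, _, _, k, hk, he⟩ => ⟨⟨k, hk⟩, fun x => Subtype.ext
        (he x (hTS (hP x.2)) (hTS (hφ x)))⟩, fun ⟨k, hk⟩ => ⟨?_, hP, hφ, k, k.2, fun x _ _ =>
          congrArg Subtype.val (hk x)⟩⟩⟩
    exact (h.2 P (hP.trans hTS) φ fun x => hTS (hφ x)).2 ⟨k, fun x => congrArg Subtype.val (hk x)⟩
  obtain ⟨U, hU⟩ := exists_sylow_subgroupOf_normal R N
  have hjr : (U : Subgroup N) = j.range := by
    rw [hU]
    ext ⟨y, hy⟩
    rw [Subgroup.mem_subgroupOf]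
    constructor
    · intro hyR
      obtain ⟨x, hxS, hxT, hxy⟩ := mem_imageAlong.1 (himg.ge ⟨hyR, hy⟩)
      exact ⟨⟨x, hxT⟩, Subtype.ext hxy⟩
    · rintro ⟨x, hx⟩
      exact hR.ge ⟨Subgroup.inclusion hTS x, congrArg Subtype.val hx⟩
  have hsc : F.StronglyClosed T := by
    refine ⟨hTS, fun P hP φ hφ x => mem_preimageAlong.2 ⟨apply_mem hφ x, ?_⟩⟩
    obtain ⟨g, hg⟩ := IsRealizedBy.exists_conj h hφ
    rw [hg x]
    exact Subgroup.Normal.conj_mem inferInstance _ (hTK x (hP x.2)) g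
  have hnorm : E.IsNormalIn F p := by
    refine ⟨⟨IsRealizedBy.isSaturated hj U hjr, hs.1, fun P φ hφ => hφ.1, hsc, ?_, ?_⟩, ?_⟩
    · intro P hPT φ hφ α hα
      obtain ⟨hφF, -, hφT, k, hk, he⟩ := hφ
      have hαF := autHom_mem F hTS hα
      have hαF' := autHom_mem F hTS ((F.autGroup T).inv_mem hα)
      obtain ⟨g, hg⟩ := IsRealizedBy.exists_conj h hαF
      set P' := (P.subgroupOf T).map (T.subtype.comp α.toMonoidHom) with hP'
      have hP'T : P' ≤ T := by
        rintro _ ⟨x, -, rfl⟩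
        exact (α x).2
      have hback : ∀ y : P', restr hP'T (autHom α⁻¹) y ∈ P := by
        rintro ⟨_, x, hx, rfl⟩
        show ((α⁻¹ (α x) : T) : Ω) ∈ P
        rw [MulAut.inv_apply, MulEquiv.symm_apply_apply]
        exact hx
      let c := compose (restr hP'T (autHom α⁻¹)) φ hback
      let χ := compose c (autHom α) fun y => hφT _
      have hχ : χ ∈ F.Hom P' :=
        compose_mem F (compose_mem F (restr_mem F hαF' hP'T) hφF hback) hαF _
      have hval : ∀ (x : P) (hαx : ((α ⟨x, hPT x.2⟩ : T) : Ω) ∈ P'),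
          χ ⟨_, hαx⟩ = ((α ⟨φ x, hφT x⟩ : T) : Ω) := by
        intro x hαx
        show ((α ⟨φ ⟨((α⁻¹ ⟨((α ⟨x, hPT x.2⟩ : T) : Ω), _⟩ : T) : Ω), _⟩, _⟩ : T) : Ω) = _
        simp only [MulAut.inv_apply, Subtype.coe_eta, MulEquiv.symm_apply_apply]
      refine ⟨χ, ⟨hχ, hP'T, fun y => (α _).2, g * k * g⁻¹,
        Subgroup.Normal.conj_mem inferInstance k hk g, ?_⟩, fun x hφx hαx => hval x hαx⟩
      rintro ⟨_, ⟨⟨x, hxT⟩, hx, rfl⟩⟩ hxS hfS
      have h1 := hval ⟨x, hx⟩ ⟨⟨x, hxT⟩, hx, rfl⟩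
      have h2 := hg ⟨φ ⟨x, hx⟩, hφT _⟩
      have h3 := hg ⟨x, hxT⟩
      have h4 := he ⟨x, hx⟩ (hTS hxT) (hTS (hφT _))
      rw [show (⟨χ _, hfS⟩ : S) = ⟨((α ⟨φ ⟨x, hx⟩, hφT _⟩ : T) : Ω), hTS (α _).2⟩ from
        Subtype.ext h1]
      rw [show (⟨T.subtype.comp α.toMonoidHom ⟨x, hxT⟩, hxS⟩ : S) =
        ⟨autHom α ⟨x, hxT⟩, apply_mem hαF _⟩ from Subtype.ext rfl, h3]
      refine Eq.trans h2 ?_
      rw [h4]
      group
    · intro P hP φ hφ
      obtain ⟨g, hg⟩ := IsRealizedBy.exists_conj h hφ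
      have htop := Sylow.normalizer_sup_eq_top U
      have hgmem : g ∈ Subgroup.normalizer (imageAlong ι T : Set G) ⊔ N := by
        have hmap : ((U : Subgroup N).map N.subtype) = imageAlong ι T := by
          rw [himg, hU, Subgroup.subgroupOf_map_subtype]
        rw [hmap] at htop
        rw [htop]
        trivial
      rw [← SetLike.mem_coe, Subgroup.mul_normal] at hgmem
      obtain ⟨n, hn, k, hk, hnk⟩ := hgmem
      obtain ⟨α, hα, hαe⟩ := autGroup_of_pushed h hTS hn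
      have hαF' := autHom_mem F hTS ((F.autGroup T).inv_mem hα)
      have hφT : ∀ x, φ x ∈ T := hsc.2 P hP φ hφ
      let φ₀ := compose φ (autHom α⁻¹) hφT
      refine ⟨α, hα, φ₀, ⟨compose_mem F hφ hαF' hφT, hP, fun x => (α⁻¹ _).2, k, hk,
        fun x hx hf => ?_⟩, fun x hx => ?_⟩
      · have h1 := hαe (α⁻¹ ⟨φ x, hφT x⟩)
        simp only [MulAut.inv_apply, MulEquiv.apply_symm_apply] at h1
        have h2 := hg x
        rw [← show n * k = g from hnk, h1] at h2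
        have h3 := congrArg (fun z => n⁻¹ * z * n) h2
        simp only [mul_assoc, inv_mul_cancel_left, mul_inv_rev, inv_mul_cancel, mul_one] at h3
        rw [show (⟨φ₀ x, hf⟩ : S) = ⟨((α⁻¹ ⟨φ x, hφT x⟩ : T) : Ω), hTS (α⁻¹ _).2⟩ from rfl]
        simpa [MulAut.inv_apply, mul_assoc] using h3
      · show φ x = ((α ⟨((α⁻¹ ⟨φ x, hφT x⟩ : T) : Ω), hx⟩ : T) : Ω)
        simp [MulAut.inv_apply]
    · intro α hα
      obtain ⟨-, -, -, k, hk, he⟩ := autHom_mem E le_rfl hα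
      have hkn : k ∈ Subgroup.normalizer (imageAlong ι T : Set G) := by
        refine mem_normalizer_of_finite fun y hy => ?_
        obtain ⟨x, hxS, hxT, rfl⟩ := mem_imageAlong.1 hy
        exact mem_imageAlong.2 ⟨_, hTS (α ⟨x, hxT⟩).2, (α _).2,
          he ⟨x, hxT⟩ hxS (hTS (α _).2)⟩
      set T' := (R : Subgroup G) ⊓ N with hT'
      rw [himg] at hkn
      have hα' : conjAut hkn ∈
          (fusionSystemOfSubgroup N T' inf_le_right).autGroup T' :=
        mem_autGroup_of_hom _ ⟨le_rfl, fun x => conj_mem_of_mem_normalizer hkn x.2, k, hk,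
          fun _ => rfl⟩
      obtain ⟨β', hβ', hb1, hb2⟩ := (Cfsg.Agent.S5118.result p R N).2 _ hα'
      set U₀ := T ⊔ centralizerIn S T with hU₀
      have hU₀S : U₀ ≤ S := sup_le hTS (centralizerIn_le _ _)
      have hcent : ∀ (c : Ω) (hc : c ∈ centralizerIn S T),
          ι ⟨c, hc.1⟩ ∈ centralizerIn (R : Subgroup G) T' := by
        intro c hc
        refine ⟨hR.ge ⟨_, rfl⟩, Subgroup.mem_centralizer_iff.2 fun y hy => ?_⟩
        obtain ⟨x, hxS, hxT, rfl⟩ := mem_imageAlong.1 (himg.ge hy)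
        rw [← map_mul, ← map_mul]
        exact congrArg ι (Subtype.ext (hc.2 x hxT))
      have himg₀ : imageAlong ι U₀ = T' ⊔ centralizerIn (R : Subgroup G) T' := by
        refine le_antisymm ?_ (sup_le ?_ ?_)
        · rintro _ ⟨x, hx, rfl⟩
          have : U₀.subgroupOf S ≤ (T' ⊔ centralizerIn (R : Subgroup G) T').comap ι := by
            rw [hU₀, Subgroup.subgroupOf_sup hTS (centralizerIn_le _ _)]
            refine sup_le (fun y hy => Subgroup.mem_sup_left (himg.le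
              (apply_mem_imageAlong ι y hy))) fun y hy => Subgroup.mem_sup_right (hcent y hy)
          exact this hx
        · rw [← himg]
          exact Subgroup.map_mono fun y hy => Subgroup.mem_sup_left hy
        · rintro y ⟨hyR, hyc⟩
          obtain ⟨⟨c, hcS⟩, rfl⟩ := hR.le hyR
          refine apply_mem_imageAlong ι ⟨c, hcS⟩ (Subgroup.mem_sup_right ⟨hcS,
            Subgroup.mem_centralizer_iff.2 fun x hx => ?_⟩)
          have h1 := Subgroup.mem_centralizer_iff.1 hyc _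
            (himg.le (apply_mem_imageAlong ι ⟨x, hTS hx⟩ hx))
          rw [← map_mul, ← map_mul] at h1
          exact congrArg Subtype.val (h.1 h1)
      rw [autGroup_group (sup_le inf_le_left (centralizerIn_le _ _))] at hβ'
      obtain ⟨g, -, hg⟩ := mem_autInducedBy.1 hβ'
      have hgn : g ∈ Subgroup.normalizer (imageAlong ι U₀ : Set G) := by
        rw [himg₀]
        exact mem_normalizer_of_finite fun y hy => hg ⟨y, hy⟩ ▸ (β' ⟨y, hy⟩).2
      obtain ⟨β, hβ, hβe⟩ := autGroup_of_pushed h hU₀S hgn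
      refine ⟨β, hβ, fun x => ?_, fun c hc => ?_⟩
      · refine congrArg Subtype.val (h.1 (a₂ := ⟨_, hTS (α x).2⟩)
          ((hβe _).trans (Eq.trans ?_ (he x (hTS x.2) (hTS (α x).2)).symm)))
        have hx' := himg.le (apply_mem_imageAlong ι ⟨x, hTS x.2⟩ x.2)
        exact (hg _).symm.trans (hb1 ⟨_, hx'⟩)
      · have hc' := hcent c hc
        have h1 := hb2 ⟨_, Subgroup.mem_sup_right hc'⟩ hc'
        rw [hg] at h1
        have h2 : ι (⟨c, hc.1⟩⁻¹ * ⟨((β c : U₀) : Ω), hU₀S (β c).2⟩) ∈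
            T' ⊓ Subgroup.centralizer (T' : Set G) := by
          rw [map_mul, map_inv, hβe c]
          exact h1
        refine ⟨(apply_mem_imageAlong_iff h.1).1 (himg.ge h2.1),
          Subgroup.mem_centralizer_iff.2 fun x hx => ?_⟩
        have h3 := Subgroup.mem_centralizer_iff.1 h2.2 _
          (himg.le (apply_mem_imageAlong ι ⟨x, hTS hx⟩ hx))
        rw [← map_mul ι, ← map_mul ι] at h3
        exact congrArg Subtype.val (h.1 h3)
  rcases hs.2.2 T E hnorm with hT | ⟨hT, hall⟩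
  · left
    rw [← himg, hT, imageAlong, Subgroup.bot_subgroupOf, Subgroup.map_bot]
  · refine Or.inr ⟨?_, fun P φ hφ => ?_⟩
    · rw [hR, ← imageAlong_top ι]
      exact (congrArg (imageAlong ι) hT).ge.trans (himg.le.trans inf_le_right)
    · obtain ⟨-, -, -, hk⟩ := (hall P).ge hφ
      exact hk

/-- A group with trivial core, minimal among those realizing a simple system, is simple. -/
theorem isSimpleGroup_of_realized {F : FusionSystem S} (h : F.IsRealizedBy ι) (R : Sylow p G)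
    (hR : (R : Subgroup G) = ι.range) (hs : F.IsSimple p) (hcore : pPrimeCore p G = ⊥)
    (hmin : ∀ H : Subgroup G, (R : Subgroup G) ≤ H →
      (∀ (P : Subgroup Ω) (φ : P →* Ω), φ ∈ F.Hom P → ∃ k ∈ H, ∀ (x : P) (hx : (x : Ω) ∈ S)
        (hφ : φ x ∈ S), ι ⟨φ x, hφ⟩ = k * ι ⟨x, hx⟩ * k⁻¹) → H = ⊤) :
    IsSimpleGroup G := by
  have hne : Nontrivial G := by
    by_contra hG
    rw [not_nontrivial_iff_subsingleton] at hG
    exact hs.2.1 (Subgroup.eq_bot_iff_forall _ |>.2 fun x hx =>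
      congrArg Subtype.val (h.1 (Subsingleton.elim (ι ⟨x, hx⟩) (ι 1))))
  refine { exists_pair_ne := hne.exists_pair_ne, eq_bot_or_eq_top_of_normal := fun N hN => ?_ }
  rcases simple_normal_dichotomy h R hR hs N with h1 | ⟨h1, h2⟩
  · left
    refine eq_bot_iff.2 (hcore ▸ le_sSup ⟨hN, ?_⟩)
    obtain ⟨U, hU⟩ := exists_sylow_subgroupOf_normal R N
    have hUbot : (U : Subgroup N) = ⊥ := by
      rw [hU, ← Subgroup.inf_subgroupOf_right, h1, Subgroup.bot_subgroupOf]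
    refine (((Fact.out : p.Prime).coprime_iff_not_dvd).2 fun hd => ?_).symm
    have := U.not_dvd_index
    rw [hUbot, Subgroup.index_bot] at this
    exact this hd
  · exact Or.inr (hmin N h1 h2)

end Cfsg.Agent.Lib.Fusion
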