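import Cfsg.Agent.Lib.Fusion.Tate
import Cfsg.Agent.Lib.Fusion.NormalCriteria

/-!
Saturated systems on a `p`-group whose centre has index `p²`: abelian subgroups of index `p`
whose automorphism group moves the centre.
-/

set_option autoImplicit false
set_option linter.unusedSectionVars false

namespace Cfsg.Agent.Lib.Fusion

open Cfsg Cfsg.FusionSystem
open scoped commutatorElement

variable {Ω : Type*} [Group Ω] {S : Subgroup Ω} [Finite S] {F : FusionSystem S} {p : ℕ}
  [Fact p.Prime]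

/-- The centre of `S`, in the ambient group. -/
abbrev ctr (S : Subgroup Ω) : Subgroup Ω := centralizerIn S S

/-- The data of a `p`-group with centre of index `p²` and derived subgroup generated by `c`. -/
structure SmallCenter (F : FusionSystem S) (p : ℕ) (c : Ω) : Prop where
  pgroup : IsPGroup p S
  sat : F.IsSaturated p
  c_mem : c ∈ ctr S
  c_order : orderOf c = p
  comm : ∀ a ∈ S, ∀ b ∈ S, ⁅a, b⁆ ∈ Subgroup.zpowers c
  card : Nat.card S = p ^ 2 * Nat.card (ctr S)

/-- A subgroup of index `p` containing the centre, with an automorphism moving the centre. -/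
structure MovesCenter (F : FusionSystem S) (p : ℕ) (A : Subgroup Ω) : Prop where
  le : A ≤ S
  ctr_le : ctr S ≤ A
  card : Nat.card A = p * Nat.card (ctr S)
  moves : ∃ g ∈ F.autGroup A, ∃ a : A, (a : Ω) ∈ ctr S ∧ ((g a : A) : Ω) ∉ ctr S

theorem mem_zpowers_of_mem {c t : Ω} (hc : orderOf c = p) (ht : t ∈ Subgroup.zpowers c)
    (ht1 : t ≠ 1) : c ∈ Subgroup.zpowers t := by
  have h1 : Nat.card (Subgroup.zpowers c) = p := (Nat.card_zpowers c).trans hc
  have hfin : Finite (Subgroup.zpowers c) :=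
    Nat.finite_of_card_ne_zero (h1 ▸ (Fact.out : p.Prime).ne_zero)
  have hle : Subgroup.zpowers t ≤ Subgroup.zpowers c := Subgroup.zpowers_le.2 ht
  have h2 := Subgroup.card_dvd_of_le hle
  rw [h1] at h2
  rcases (Nat.dvd_prime (Fact.out : p.Prime)).1 h2 with h | h
  · exact absurd (Subgroup.zpowers_eq_bot.1 (Subgroup.card_eq_one.1 h)) ht1
  · rw [Subgroup.eq_of_le_of_card_ge hle (le_of_eq (h1.trans h.symm))]
    exact Subgroup.mem_zpowers c

theorem lt_eq_of_card {A B : Subgroup Ω} [Finite B] (hlt : A < B) {n : ℕ}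
    (hB : Nat.card B = p * n) (hA : n ∣ Nat.card A) : Nat.card A = n := by
  have hAB := Subgroup.card_dvd_of_le hlt.le
  obtain ⟨k, hk⟩ := hA
  rw [hB, hk, mul_comm p n] at hAB
  have hn : 0 < n := by
    have := Nat.card_pos (α := B)
    rw [hB] at this
    exact Nat.pos_of_mul_pos_left this
  have hk' : k ∣ p := Nat.dvd_of_mul_dvd_mul_left hn hAB
  rcases (Nat.dvd_prime (Fact.out : p.Prime)).1 hk' with rfl | rfl
  · rw [hk, mul_one]
  · exact absurd (Subgroup.eq_of_le_of_card_ge hlt.le (by rw [hB, hk, mul_comm n]) ) hlt.ne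

namespace SmallCenter

variable {c : Ω} (h : SmallCenter F p c)
include h

theorem c_mem_S : c ∈ S := h.c_mem.1

theorem ctr_comm {z s : Ω} (hz : z ∈ ctr S) (hs : s ∈ S) : s * z = z * s :=
  (mem_centralizerIn.1 hz).2 s hs

theorem conj_eq {s a : Ω} (hs : s ∈ S) (ha : a ∈ S) :
    ∃ t ∈ Subgroup.zpowers c, s * a * s⁻¹ = t * a :=
  ⟨⁅s, a⁆, h.comm s hs a ha, by rw [commutatorElement_def]; group⟩

theorem ctr_finite : Finite (ctr S) := finite_of_le (centralizerIn_le S S)

variable {A : Subgroup Ω} (hA : MovesCenter F p A)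
include hA

theorem cA_mem : c ∈ A := hA.ctr_le h.c_mem

theorem normalizer_eq : normalizerIn S A = S := by
  refine le_antisymm (normalizerIn_le S A) fun s hs => ?_
  have := finite_of_le hA.le
  refine mem_normalizerIn.2 ⟨hs, mem_normalizer_of_finite fun a ha => ?_⟩
  obtain ⟨t, ht, e⟩ := h.conj_eq hs (hA.le ha)
  rw [e]
  exact A.mul_mem (Subgroup.zpowers_le.2 (h.cA_mem hA) ht) ha

theorem fullyNormalized : F.IsFullyNormalized A :=
  ⟨hA.le, fun Q _ => by rw [h.normalizer_eq hA]; exact Subgroup.card_le_of_le (normalizerIn_le S Q)⟩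

theorem exists_not_mem : ∃ d ∈ A, d ∉ ctr S := by
  obtain ⟨g, -, a, -, ha⟩ := hA.moves
  exact ⟨_, (g a).2, ha⟩

theorem sup_zpowers_eq {d : Ω} (hd : d ∈ A) (hdc : d ∉ ctr S) :
    ctr S ⊔ Subgroup.zpowers d = A := by
  have hle : ctr S ⊔ Subgroup.zpowers d ≤ A := sup_le hA.ctr_le (Subgroup.zpowers_le.2 hd)
  have := finite_of_le hA.le
  by_contra hne
  have h1 := lt_eq_of_card (lt_of_le_of_ne hle hne) hA.card (Subgroup.card_dvd_of_le le_sup_left)
  have : Finite ↥(ctr S ⊔ Subgroup.zpowers d : Subgroup Ω) := finite_of_le (hle.trans hA.le)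
  exact hdc ((Subgroup.eq_of_le_of_card_ge (le_sup_left : ctr S ≤ _) h1.le).symm.le
    (Subgroup.mem_sup_right (Subgroup.mem_zpowers d)))

theorem decomp {d : Ω} (hd : d ∈ A) (hdc : d ∉ ctr S) {a : Ω} (ha : a ∈ A) :
    ∃ z ∈ ctr S, ∃ k : ℤ, a = z * d ^ k := by
  have hle : A ≤ ctr S ⊔ Subgroup.zpowers d := (h.sup_zpowers_eq hA hd hdc).ge
  have hn : Subgroup.zpowers d ≤ Subgroup.normalizer (ctr S : Set Ω) := by
    rw [Subgroup.zpowers_le]
    have := h.ctr_finite
    refine mem_normalizer_of_finite fun z hz => ?_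
    rw [h.ctr_comm hz (hA.le hd), mul_inv_cancel_right]
    exact hz
  have := hle ha
  rw [← SetLike.mem_coe, Subgroup.coe_mul_of_right_le_normalizer_left _ _ hn] at this
  obtain ⟨z, hz, w, hw, e⟩ := this
  obtain ⟨k, rfl⟩ := hw
  exact ⟨z, hz, k, e.symm⟩

theorem commute {a b : Ω} (ha : a ∈ A) (hb : b ∈ A) : a * b = b * a := by
  obtain ⟨d, hd, hdc⟩ := h.exists_not_mem hA
  obtain ⟨z, hz, k, rfl⟩ := h.decomp hA hd hdc ha
  obtain ⟨w, hw, l, rfl⟩ := h.decomp hA hd hdc hb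
  have hd' := hA.le hd
  have e1 : Commute z w := (h.ctr_comm hz hw.1).symm
  have e2 : Commute z d := (h.ctr_comm hz hd').symm
  have e3 : Commute d w := h.ctr_comm hw hd'
  exact ((e1.mul_right (e2.zpow_right l)).mul_left
    ((e3.zpow_left k).mul_right (Commute.zpow_zpow (Commute.refl d) k l))).eq

theorem fix_centralizer {s : Ω} (hs : s ∈ S) (hsA : s ∉ A) {a : Ω} (ha : a ∈ A)
    (hsa : s * a = a * s) : a ∈ ctr S := by
  set C := centralizerIn S (Subgroup.zpowers a)
  have mem : ∀ g : Ω, g ∈ S → g * a = a * g → g ∈ C := fun g hg e => by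
    refine mem_centralizerIn.2 ⟨hg, ?_⟩
    rintro _ ⟨k, rfl⟩
    exact ((show Commute g a from e).zpow_right k).symm.eq
  have hle : A < C := lt_of_le_not_ge (fun b hb => mem b (hA.le hb) (h.commute hA hb ha))
    fun hge => hsA (hge (mem s hs hsa))
  have hCS : C = S := by
    by_contra hne
    have hlt : C < S := lt_of_le_of_ne (centralizerIn_le _ _) hne
    have := finite_of_le hlt.le
    have h1 := lt_eq_of_card (n := p * Nat.card (ctr S)) hlt
      (by rw [h.card]; ring) (hA.card ▸ Subgroup.card_dvd_of_le hle.le)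
    exact hle.ne (Subgroup.eq_of_le_of_card_ge hle.le (by rw [h1, hA.card]))
  refine mem_centralizerIn.2 ⟨hA.le ha, fun g hg => ?_⟩
  exact ((mem_centralizerIn.1 (hCS.ge hg)).2 a (Subgroup.mem_zpowers a)).symm

theorem centralizer_eq : centralizerIn S A = A := by
  refine le_antisymm (fun s hs => ?_) fun a ha =>
    mem_centralizerIn.2 ⟨hA.le ha, fun b hb => h.commute hA hb ha⟩
  by_contra hsA
  obtain ⟨d, hd, hdc⟩ := h.exists_not_mem hA
  exact hdc (h.fix_centralizer hA hs.1 hsA hd ((mem_centralizerIn.1 hs).2 d hd).symm)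

theorem card_induced : Nat.card (autInducedBy S A) = p := by
  have h1 := card_normalizerIn S A
  rw [h.normalizer_eq hA, h.centralizer_eq hA, h.card, hA.card] at h1
  have : 0 < p * Nat.card (ctr S) := hA.card ▸ (have := finite_of_le hA.le; Nat.card_pos)
  refine (Nat.eq_of_mul_eq_mul_left this ?_).symm
  rw [← h1]; ring

theorem exists_induced : ∃ r ∈ autInducedBy S A, r ≠ 1 := by
  by_contra hc
  push Not at hc
  have h1 : autInducedBy S A = ⊥ := (Subgroup.eq_bot_iff_forall _).2 hc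
  have h2 := h.card_induced hA
  rw [h1, Subgroup.card_bot] at h2
  exact (Fact.out : p.Prime).one_lt.ne h2

variable {r : MulAut A} (hr : r ∈ autInducedBy S A)
include hr

theorem induced_move (a : A) : ((r a : A) : Ω) * (a : Ω)⁻¹ ∈ Subgroup.zpowers c := by
  obtain ⟨s, hs, hv⟩ := mem_autInducedBy.1 hr
  obtain ⟨t, ht, e⟩ := h.conj_eq hs (hA.le a.2)
  rw [hv a, e, mul_inv_cancel_right]
  exact ht

theorem induced_fix {a : A} (ha : (a : Ω) ∈ ctr S) : r a = a := by
  obtain ⟨s, hs, hv⟩ := mem_autInducedBy.1 hr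
  exact Subtype.ext (by rw [hv a, h.ctr_comm ha hs, mul_inv_cancel_right])

theorem induced_fix_iff (hr1 : r ≠ 1) {a : A} (ha : r a = a) : (a : Ω) ∈ ctr S := by
  obtain ⟨s, hs, hv⟩ := mem_autInducedBy.1 hr
  refine h.fix_centralizer hA hs (fun hsA => hr1 (MulEquiv.ext fun b => Subtype.ext ?_)) a.2 ?_
  · rw [hv b, h.commute hA hsA b.2, mul_inv_cancel_right]; rfl
  · have := hv a
    rw [ha] at this
    exact mul_inv_eq_iff_eq_mul.1 this.symm

omit hr in
theorem eq_zpowers {r : MulAut A} (hr : r ∈ autInducedBy S A) (hr1 : r ≠ 1) :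
    autInducedBy S A = Subgroup.zpowers r := by
  have := finite_mulAut hA.le
  refine (Subgroup.eq_of_le_of_card_ge (Subgroup.zpowers_le.2 hr) ?_).symm
  rw [h.card_induced hA, Nat.card_zpowers]
  refine Nat.le_of_dvd (orderOf_pos r) ?_
  have h1 := Subgroup.card_dvd_of_le (Subgroup.zpowers_le.2 hr)
  rw [h.card_induced hA, Nat.card_zpowers] at h1
  rcases (Nat.dvd_prime (Fact.out : p.Prime)).1 h1 with h2 | h2
  · exact absurd (orderOf_eq_one_iff.1 h2) hr1
  · exact h2 ▸ dvd_rfl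

omit hr in
/-- A conjugate commuting with an induced automorphism is induced. -/
theorem conj_mem_of_commute {r : MulAut A} (hr : r ∈ autInducedBy S A) (hr1 : r ≠ 1)
    {g : MulAut A} (hg : g ∈ F.autGroup A) (hc : Commute r (g * r * g⁻¹)) :
    g * r * g⁻¹ ∈ autInducedBy S A := by
  have hfin := finite_mulAut hA.le
  obtain ⟨hfa, -⟩ := IsSaturated.automized_receptive h.pgroup h.sat (h.fullyNormalized hA)
  obtain ⟨-, T, hT⟩ := hfa
  set q := g * r * g⁻¹
  have hrG : r ∈ F.autGroup A := autInducedBy_le_autGroup F hA.le hr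
  have hq : q ∈ F.autGroup A := mul_mem (mul_mem hg hrG) (inv_mem hg)
  set rG : F.autGroup A := ⟨r, hrG⟩
  set qG : F.autGroup A := ⟨q, hq⟩
  have hTr : (T : Subgroup (F.autGroup A)) = Subgroup.zpowers rG := by
    apply Subgroup.map_injective (F.autGroup A).subtype_injective
    rw [hT, Subgroup.map_subgroupOf_eq_of_le (autInducedBy_le_autGroup F hA.le),
      MonoidHom.map_zpowers]
    exact h.eq_zpowers hA hr hr1
  have hcomm : Commute rG qG := Subtype.ext hc
  have hn : Subgroup.zpowers qG ≤ Subgroup.normalizer ((T : Subgroup (F.autGroup A)) : Set _) := by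
    rw [Subgroup.zpowers_le, Subgroup.mem_normalizer_iff]
    intro w
    rw [hTr]
    constructor
    · rintro ⟨k, rfl⟩
      exact ⟨k, by rw [(hcomm.zpow_left k).symm.eq, mul_inv_cancel_right]⟩
    · rintro ⟨k, hk⟩
      refine ⟨k, mul_left_cancel (a := qG) (mul_right_cancel (b := qG⁻¹) ?_)⟩
      show qG * rG ^ k * qG⁻¹ = _
      rw [(hcomm.zpow_left k).symm.eq, mul_inv_cancel_right]
      exact hk
  have hqp : IsPGroup p (Subgroup.zpowers qG) := by
    have hTp := T.isPGroup'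
    obtain ⟨m, hm⟩ := IsPGroup.iff_orderOf.1 hTp ⟨rG, hTr.ge (Subgroup.mem_zpowers rG)⟩
    rw [Subgroup.orderOf_mk] at hm
    refine IsPGroup.of_card (n := m) ?_
    rw [Nat.card_zpowers, ← hm]
    set gG : F.autGroup A := ⟨g, hg⟩
    rw [show qG = gG * rG * gG⁻¹ from rfl]
    exact MulEquiv.orderOf_eq (MulAut.conj gG) rG
  have hmax := T.3 (hqp.to_sup_of_normal_right' T.isPGroup' hn) le_sup_right
  have hqT : qG ∈ Subgroup.zpowers rG := by
    have := hmax.le (Subgroup.mem_sup_left (Subgroup.mem_zpowers qG))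
    rwa [hTr] at this
  obtain ⟨k, hk⟩ := hqT
  have hk' : r ^ k = q := congrArg Subtype.val hk
  have hqR : q ∈ autInducedBy S A := hk' ▸ Subgroup.zpow_mem _ hr k
  exact hqR

omit hr in
/-- Two commuting conjugates: the conjugating element preserves the centre and `⟨c⟩`. -/
theorem preserves_of_commute {r : MulAut A} (hr : r ∈ autInducedBy S A) (hr1 : r ≠ 1)
    {g : MulAut A} (hg : g ∈ F.autGroup A) (hc : Commute r (g * r * g⁻¹)) :
    (∀ a : A, (a : Ω) ∈ ctr S → ((g a : A) : Ω) ∈ ctr S) ∧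
      ((g ⟨c, h.cA_mem hA⟩ : A) : Ω) ∈ Subgroup.zpowers c := by
  set q := g * r * g⁻¹
  have hqR : q ∈ autInducedBy S A := h.conj_mem_of_commute hA hr hr1 hg hc
  have hq1 : q ≠ 1 := fun e => hr1 (conj_eq_one_iff.1 e)
  have hgq : ∀ a : A, q (g a) = g (r a) := fun a => by
    show g (r (g⁻¹ (g a))) = g (r a)
    rw [MulAut.inv_apply, MulEquiv.symm_apply_apply]
  refine ⟨fun a ha => h.induced_fix_iff hA hqR hq1 (a := g a) ?_, ?_⟩
  · rw [hgq, h.induced_fix hA hr ha]
  · obtain ⟨d, hd, hdc⟩ := h.exists_not_mem hA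
    set t : Ω := ((r ⟨d, hd⟩ : A) : Ω) * d⁻¹
    have ht : t ∈ Subgroup.zpowers c := h.induced_move hA hr ⟨d, hd⟩
    have ht1 : t ≠ 1 := fun e => hdc (h.induced_fix_iff hA hr hr1 (a := ⟨d, hd⟩)
      (Subtype.ext (mul_inv_eq_one.1 e)))
    have h1 := h.induced_move hA hqR (g ⟨d, hd⟩)
    rw [hgq] at h1
    obtain ⟨j, hj⟩ := mem_zpowers_of_mem h.c_order ht ht1
    have e : (⟨c, h.cA_mem hA⟩ : A) = (r ⟨d, hd⟩ * (⟨d, hd⟩ : A)⁻¹) ^ j :=
      Subtype.ext (by rw [SubgroupClass.coe_zpow]; exact hj.symm)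
    rw [e, map_zpow, map_mul, map_inv, SubgroupClass.coe_zpow]
    exact Subgroup.zpow_mem _ h1 j

omit hr

theorem commute_of_fix {u v : MulAut A} {cu cv : A}
    (hu : ∀ a, ∃ k : ℤ, u a = a * cu ^ k) (hv : ∀ a, ∃ k : ℤ, v a = a * cv ^ k)
    (huv : u cv = cv) (hvu : v cu = cu) : Commute u v := by
  refine MulEquiv.ext fun a => ?_
  obtain ⟨k, hk⟩ := hu a
  obtain ⟨l, hl⟩ := hv a
  show u (v a) = v (u a)
  rw [hk, hl, map_mul, map_mul, map_zpow, map_zpow, huv, hvu, hk, hl]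
  exact Subtype.ext (by
    simp only [Subgroup.coe_mul, SubgroupClass.coe_zpow, mul_assoc]
    rw [h.commute hA (A.zpow_mem cu.2 k) (A.zpow_mem cv.2 l)])

theorem conj_transvection {r : MulAut A} (hr : r ∈ autInducedBy S A) (g : MulAut A) (a : A) :
    ∃ k : ℤ, (g * r * g⁻¹) a = a * g ⟨c, h.cA_mem hA⟩ ^ k := by
  obtain ⟨k, hk⟩ := h.induced_move hA hr (g⁻¹ a)
  refine ⟨k, ?_⟩
  have e : r (g⁻¹ a) = g⁻¹ a * (⟨c, h.cA_mem hA⟩ : A) ^ k := by
    refine Subtype.ext ?_
    simp only [Subgroup.coe_mul, SubgroupClass.coe_zpow]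
    rw [h.commute hA (g⁻¹ a).2 (A.zpow_mem (h.cA_mem hA) k)]
    exact mul_inv_eq_iff_eq_mul.1 hk.symm
  show g (r (g⁻¹ a)) = _
  rw [e, map_mul, map_zpow, MulAut.apply_inv_self]

theorem moves_inv {g : MulAut A} (hg : ∃ a : A, (a : Ω) ∈ ctr S ∧ ((g a : A) : Ω) ∉ ctr S) :
    ∃ a : A, (a : Ω) ∈ ctr S ∧ ((g⁻¹ a : A) : Ω) ∉ ctr S := by
  by_contra hc
  push Not at hc
  obtain ⟨a, ha, hga⟩ := hg
  have := finite_of_le hA.le
  have hK : ((ctr S).subgroupOf A).map (g⁻¹ : MulAut A).toMonoidHom = (ctr S).subgroupOf A :=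
    Subgroup.eq_of_le_of_card_ge (by rintro _ ⟨b, hb, rfl⟩; exact hc b hb)
      (Nat.card_congr (((ctr S).subgroupOf A).equivMapOfInjective _
        (g⁻¹ : MulAut A).injective).toEquiv).le
  obtain ⟨b, hb, e⟩ := hK.ge (show a ∈ (ctr S).subgroupOf A from ha)
  have e' : g a = b := by rw [← e]; exact MulAut.apply_inv_self A g b
  exact hga (by rw [e']; exact hb)

/-- An automorphism moving the centre moves `c` out of it. -/
theorem moves_c {g : MulAut A} (hg : g ∈ F.autGroup A)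
    (hmv : ∃ a : A, (a : Ω) ∈ ctr S ∧ ((g a : A) : Ω) ∉ ctr S) :
    ((g ⟨c, h.cA_mem hA⟩ : A) : Ω) ∉ ctr S := by
  intro hgc
  obtain ⟨r, hr, hr1⟩ := h.exists_induced hA
  set cA : A := ⟨c, h.cA_mem hA⟩
  set t := g⁻¹ with ht
  have htG : t ∈ F.autGroup A := inv_mem hg
  have hrG : r ∈ F.autGroup A := autInducedBy_le_autGroup F hA.le hr
  obtain ⟨a₀, ha₀, hmv₀⟩ := h.moves_inv hA hmv
  set q := t * r * t⁻¹
  have hqc : q cA = cA := by
    show t (r (t⁻¹ cA)) = cA
    rw [ht, inv_inv, h.induced_fix hA hr hgc]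
    exact MulEquiv.symm_apply_apply g cA
  have hrc : r cA = cA := h.induced_fix hA hr h.c_mem
  have hr' : ∀ a, ∃ k : ℤ, r a = a * cA ^ k := fun a => by
    have := h.conj_transvection hA hr 1 a
    simpa using this
  by_cases hc1 : ((t cA : A) : Ω) ∈ ctr S
  · exact hmv₀ ((h.preserves_of_commute hA hr hr1 htG (h.commute_of_fix hA hr'
      (h.conj_transvection hA hr t) (h.induced_fix hA hr hc1) hqc)).1 a₀ ha₀)
  · obtain ⟨k, hk⟩ := hr' (t cA)
    have hk1 : (cA : Ω) ^ k ≠ 1 := fun e => hc1 (h.induced_fix_iff hA hr hr1 (a := t cA) (by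
      rw [hk]
      exact mul_eq_left.2 (Subtype.ext (by rw [SubgroupClass.coe_zpow]; exact e))))
    have hqt : q (t cA) = t cA := by
      show t (r (t⁻¹ (t cA))) = t cA
      rw [MulAut.inv_apply_self, hrc]
    have h1 : (r * t) cA = t cA * cA ^ k := hk
    have h2 : q ((r * t) cA) = (r * t) cA := by
      rw [h1, map_mul, map_zpow, hqc, hqt]
    have h3 : ((r * t) * r * (r * t)⁻¹) (t cA) = t cA := by
      obtain ⟨j, hj⟩ := hr' (t cA)
      have e : r⁻¹ (t cA) = t cA * cA ^ (-j) := by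
        rw [MulAut.inv_apply, MulEquiv.symm_apply_eq, map_mul, map_zpow, hrc, hj,
          zpow_neg, mul_inv_cancel_right]
      show r (t (r (t⁻¹ (r⁻¹ (t cA))))) = t cA
      rw [e, map_mul t⁻¹, map_zpow t⁻¹, MulAut.inv_apply_self, map_mul r, hrc]
      have e2 : r ((t⁻¹ cA) ^ (-j)) = (t⁻¹ cA) ^ (-j) := by
        rw [map_zpow]
        congr 1
        refine h.induced_fix hA hr ?_
        show (((g⁻¹)⁻¹ cA : A) : Ω) ∈ ctr S
        rw [inv_inv]
        exact hgc
      rw [e2, map_mul t, map_zpow t, MulAut.apply_inv_self, map_mul r, map_zpow r, hrc, hj,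
        zpow_neg, mul_inv_cancel_right]
    have hcm : Commute r ((t⁻¹ * r * t) * r * (t⁻¹ * r * t)⁻¹) := by
      have h4 := h.commute_of_fix hA (h.conj_transvection hA hr t)
        (h.conj_transvection hA hr (r * t)) h2 h3
      have h5 := h4.map (MulAut.conj t⁻¹).toMonoidHom
      have e1 : (MulAut.conj t⁻¹).toMonoidHom q = r := by
        simp only [q, MulEquiv.coe_toMonoidHom, MulAut.conj_apply]
        group
      have e2 : (MulAut.conj t⁻¹).toMonoidHom ((r * t) * r * (r * t)⁻¹) =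
          (t⁻¹ * r * t) * r * (t⁻¹ * r * t)⁻¹ := by
        simp only [MulEquiv.coe_toMonoidHom, MulAut.conj_apply]
        group
      rwa [e1, e2] at h5
    obtain ⟨-, h6⟩ := h.preserves_of_commute hA hr hr1
      (mul_mem (mul_mem (inv_mem htG) hrG) htG) hcm
    have h7 : (t⁻¹ * r * t) cA = cA * (g cA) ^ k := by
      show t⁻¹ (r (t cA)) = _
      rw [hk, map_mul, map_zpow, ht, inv_inv]
      congr 1
      exact MulAut.apply_inv_self A g cA
    change (((t⁻¹ * r * t) cA : A) : Ω) ∈ Subgroup.zpowers c at h6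
    rw [h7, Subgroup.coe_mul, SubgroupClass.coe_zpow,
      Subgroup.mul_mem_cancel_left _ (Subgroup.mem_zpowers c)] at h6
    -- `g c` lies in `⟨c⟩`
    have hn : ((g cA : A) : Ω) ^ k ≠ 1 := fun e => hk1 (by
      have h8 : g (cA ^ k) = 1 := by
        rw [map_zpow]; exact Subtype.ext (by rw [SubgroupClass.coe_zpow]; exact e)
      rw [MulEquiv.map_eq_one_iff] at h8
      rw [← SubgroupClass.coe_zpow, h8]; rfl)
    obtain ⟨i, hi⟩ := mem_zpowers_of_mem h.c_order h6 hn
    have e : (cA : A) = (g cA) ^ (k * i) :=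
      Subtype.ext (by rw [SubgroupClass.coe_zpow, zpow_mul]; exact hi.symm)
    have e3 : t cA = cA ^ (k * i) := by
      conv_lhs => rw [e]
      rw [map_zpow, ht]
      congr 1
      exact MulEquiv.symm_apply_apply g cA
    exact hc1 (by rw [e3, SubgroupClass.coe_zpow]; exact Subgroup.zpow_mem _ h.c_mem _)

/-- For an automorphism moving the centre: an automorphism of `S` inverting `c`, and the way it
acts on the centre. -/
theorem exists_flip {g : MulAut A} (hg : g ∈ F.autGroup A)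
    (hmv : ∃ a : A, (a : Ω) ∈ ctr S ∧ ((g a : A) : Ω) ∉ ctr S) :
    ∃ γ ∈ F.autGroup S, ((γ ⟨c, h.c_mem_S⟩ : S) : Ω) = c⁻¹ ∧
      ∀ z : S, (z : Ω) ∈ ctr S → ∃ k : ℤ, ((γ z : S) : Ω) = (z : Ω) * c ^ (2 * k) ∧
        ∃ hz : (z : Ω) * c ^ k ∈ A, ((g⁻¹ ⟨_, hz⟩ : A) : Ω) ∈ ctr S := by
  obtain ⟨r₀, hr₀, hr₀1⟩ := h.exists_induced hA
  set cA : A := ⟨c, h.cA_mem hA⟩
  set d := g cA
  have hd : (d : Ω) ∉ ctr S := h.moves_c hA hg hmv
  have hd' : ((g⁻¹ cA : A) : Ω) ∉ ctr S := h.moves_c hA (inv_mem hg) (h.moves_inv hA hmv)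
  have hco : ∀ t : Ω, t ∈ Subgroup.zpowers c → t ≠ 1 → ∃ i : ℤ, t ^ i = c := fun t ht ht1 =>
    mem_zpowers_of_mem h.c_order ht ht1
  have hr' : ∀ a, ∃ k : ℤ, r₀ a = a * cA ^ k := fun a => by
    have := h.conj_transvection hA hr₀ 1 a
    simpa using this
  have hpow : ∀ (u : MulAut A) (a e : A) (k : ℤ), u a = a * e ^ k → u e = e → ∀ n : ℕ,
      (u ^ n) a = a * (e ^ k) ^ n := by
    intro u a e k hua hue n
    induction n with
    | zero => simp
    | succ n ih =>
      rw [pow_succ', MulAut.mul_apply, ih, map_mul, map_pow, map_zpow, hue, hua, pow_succ',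
        mul_assoc]
  have hfixpow : ∀ (u : MulAut A) (e : A), u e = e → ∀ n : ℕ, (u ^ n) e = e := by
    intro u e hue n
    induction n with
    | zero => simp
    | succ n ih => rw [pow_succ', MulAut.mul_apply, ih, hue]
  have hnat : ∀ (t : Ω), t ∈ Subgroup.zpowers c → t ≠ 1 → ∀ w ∈ Subgroup.zpowers c,
      ∃ n : ℕ, t ^ n = w := by
    intro t ht ht1 w hw
    obtain ⟨i, hi⟩ := hco t ht ht1
    obtain ⟨m, rfl⟩ := hw
    have hfin : IsOfFinOrder t := by
      refine orderOf_pos_iff.1 (Nat.pos_of_ne_zero fun h0 => ?_)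
      have h1 := orderOf_dvd_of_pow_eq_one (show t ^ p = 1 by
        obtain ⟨l, rfl⟩ := ht
        rw [← zpow_natCast, ← zpow_mul, mul_comm, zpow_mul, zpow_natCast, ← h.c_order,
          pow_orderOf_eq_one, one_zpow])
      rw [h0, zero_dvd_iff] at h1
      exact (Fact.out : p.Prime).ne_zero h1
    exact Submonoid.mem_powers_iff _ _ |>.1 (hfin.mem_powers_iff_mem_zpowers.2
      ⟨i * m, by show t ^ (i * m) = _; rw [zpow_mul, hi]⟩)
  obtain ⟨k₀, hk₀⟩ := hr' d
  have hk₀1 : c ^ k₀ ≠ 1 := fun e => hd (h.induced_fix_iff hA hr₀ hr₀1 (a := d) (by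
    rw [hk₀]; exact mul_eq_left.2 (Subtype.ext (by rw [SubgroupClass.coe_zpow]; exact e))))
  obtain ⟨i, hi⟩ := hnat _ ⟨k₀, rfl⟩ hk₀1 c (Subgroup.mem_zpowers c)
  have hrc : r₀ cA = cA := h.induced_fix hA hr₀ h.c_mem
  set x := r₀ ^ i with hx
  have hxR : x ∈ autInducedBy S A := Subgroup.pow_mem _ hr₀ i
  have hxd : x d = d * cA := by
    rw [hx, hpow r₀ d cA k₀ hk₀ hrc i]
    exact congrArg (d * ·) (Subtype.ext (by simpa using hi))
  have hxc : x cA = cA := hfixpow r₀ cA hrc i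
  set q := g * r₀ * g⁻¹ with hq
  obtain ⟨l, hl⟩ := h.conj_transvection hA hr₀ g cA
  change q cA = cA * d ^ l at hl
  have hqd : q d = d := by
    show g (r₀ (g⁻¹ (g cA))) = g cA
    rw [MulAut.inv_apply_self, hrc]
  have hl1 : c ^ l ≠ 1 := by
    intro e
    refine hd' (h.induced_fix_iff hA hr₀ hr₀1 (a := g⁻¹ cA) ?_)
    have h1 : q cA = cA := by
      rw [hl, show d ^ l = g (cA ^ l) from (map_zpow g cA l).symm,
        show cA ^ l = 1 from Subtype.ext (by rw [SubgroupClass.coe_zpow]; exact e), map_one, mul_one]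
    have h2 := congrArg (g⁻¹ : MulAut A) h1
    rwa [show q cA = g (r₀ (g⁻¹ cA)) from rfl, MulAut.inv_apply_self] at h2
  obtain ⟨j, hj⟩ := hnat _ ⟨l, rfl⟩ hl1 c⁻¹ (inv_mem (Subgroup.mem_zpowers c))
  set y := q ^ j with hy
  have hyd : y d = d := hfixpow q d hqd j
  have hyc : y cA = cA * d⁻¹ := by
    rw [hy, hpow q cA d l hl hqd j, show d ^ l = g (cA ^ l) from (map_zpow g cA l).symm, ← map_pow,
      ← map_inv]
    exact congrArg (cA * g ·) (Subtype.ext (by simpa using hj))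
  have hAc : ∀ a b : A, a * b = b * a := fun a b => Subtype.ext (h.commute hA a.2 b.2)
  set ω := x * y * x with hω
  have hωc : ω cA = d⁻¹ := by
    show x (y (x cA)) = d⁻¹
    rw [hxc, hyc, map_mul, map_inv, hxd, hxc, mul_inv_rev, ← mul_assoc, mul_inv_cancel, one_mul]
  have hωd : ω d = cA := by
    show x (y (x d)) = cA
    rw [hxd, map_mul, hyd, hyc, hAc cA, ← mul_assoc, mul_inv_cancel, one_mul, hxc]
  set β := ω * ω with hβ
  have hβc : β cA = cA⁻¹ := by
    show ω (ω cA) = cA⁻¹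
    rw [hωc, map_inv, hωd]
  have hβd : β d = d⁻¹ := by
    show ω (ω d) = d⁻¹
    rw [hωd, hωc]
  have hyq : y = g * r₀ ^ j * g⁻¹ := by rw [hy, hq, conj_pow]
  have hz : ∀ z : A, (z : Ω) ∈ ctr S → ∃ k : ℤ, β z = z * cA ^ (2 * k) ∧
      ((g⁻¹ (z * cA ^ k) : A) : Ω) ∈ ctr S := by
    intro z hz
    obtain ⟨m, hm⟩ := h.conj_transvection hA (Subgroup.pow_mem _ hr₀ j) g z
    rw [← hyq] at hm
    change y z = z * d ^ m at hm
    set u := z * cA ^ m
    have hyu : y u = u := by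
      show y (z * cA ^ m) = z * cA ^ m
      rw [map_mul, map_zpow, hm, hyc, (show Commute cA d⁻¹ from hAc _ _).mul_zpow,
        hAc (cA ^ m), ← mul_assoc, mul_assoc z, inv_zpow, mul_inv_cancel, mul_one]
    have hu : (u : Ω) ∈ ctr S := by
      rw [Subgroup.coe_mul, SubgroupClass.coe_zpow]
      exact mul_mem hz (Subgroup.zpow_mem _ h.c_mem m)
    have hxu : x u = u := h.induced_fix hA hxR hu
    have hβu : β u = u := by
      show x (y (x (x (y (x u))))) = u
      rw [hxu, hyu, hxu, hxu, hyu, hxu]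
    refine ⟨m, ?_, ?_⟩
    · have : z = u * (cA ^ m)⁻¹ := (mul_inv_cancel_right z _).symm
      rw [this, map_mul, map_inv, map_zpow, hβu, hβc, two_mul, zpow_add, inv_zpow, inv_inv,
        ← mul_assoc, inv_mul_cancel_right]
    · refine h.induced_fix_iff hA (Subgroup.pow_mem _ hr₀ j) (fun e => ?_) ?_
      · rw [hyq, e, mul_one, mul_inv_cancel] at hyc
        have h1 : d = 1 := by
          have h2 : cA * d⁻¹ = cA := hyc.symm
          exact inv_eq_one.1 (mul_eq_left.1 h2)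
        exact hd (by rw [h1]; exact one_mem _)
      · have h1 := congrArg (g⁻¹ : MulAut A) hyu
        rw [hyq] at h1
        rwa [show (g * r₀ ^ j * g⁻¹) u = g ((r₀ ^ j) (g⁻¹ u)) from rfl, MulAut.inv_apply_self] at h1
  have hrG : r₀ ∈ F.autGroup A := autInducedBy_le_autGroup F hA.le hr₀
  have hqG : q ∈ F.autGroup A := mul_mem (mul_mem hg hrG) (inv_mem hg)
  have hωG : ω ∈ F.autGroup A :=
    mul_mem (mul_mem (Subgroup.pow_mem _ hrG i) (Subgroup.pow_mem _ hqG j)) (Subgroup.pow_mem _ hrG i)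
  have hβG : β ∈ F.autGroup A := mul_mem hωG hωG
  -- `β` centralizes the automorphisms induced by `S`
  have hcomm : ∀ r ∈ autInducedBy S A, r * β = β * r := by
    intro r hr
    refine MulEquiv.ext fun a => ?_
    show r (β a) = β (r a)
    obtain ⟨z, hzc, k, hk⟩ := h.decomp hA d.2 hd a.2
    have e : a = ⟨z, hA.ctr_le hzc⟩ * d ^ k :=
      Subtype.ext (by rw [Subgroup.coe_mul, SubgroupClass.coe_zpow]; exact hk)
    set z' : A := ⟨z, hA.ctr_le hzc⟩
    obtain ⟨m, hm, -⟩ := hz z' hzc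
    have h1 : r z' = z' := h.induced_fix hA hr hzc
    have h2 : r cA = cA := h.induced_fix hA hr h.c_mem
    obtain ⟨n, hn⟩ : ∃ n : ℤ, r d = d * cA ^ n := by
      have := h.conj_transvection hA hr 1 d
      simpa using this
    have hL : r (β (z' * d ^ k)) = z' * cA ^ (2 * m) * ((d * cA ^ n)⁻¹) ^ k := by
      simp only [map_mul, map_zpow, hm, hβd, h1, h2, map_inv, hn]
    have hR : β (r (z' * d ^ k)) = z' * cA ^ (2 * m) * (d⁻¹ * (cA⁻¹) ^ n) ^ k := by
      simp only [map_mul, map_zpow, hm, hβd, h1, hn, hβc]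
    rw [e, hL, hR, inv_zpow cA n, mul_inv_rev, hAc (cA ^ n)⁻¹]
  obtain ⟨hfa, hrec⟩ := IsSaturated.automized_receptive h.pgroup h.sat (h.fullyNormalized hA)
  have hi' := F.injective_of_mem (autHom_mem F hA.le hβG)
  obtain ⟨ψ, hψ, hext⟩ := hrec.2 A (autHom β) (autHom_mem F hA.le hβG) (range_autHom _)
  have hN : extender S A (autHom β) = S := by
    refine le_antisymm (extender_le _ _ _) fun s hs => ?_
    have hsN : s ∈ normalizerIn S A := by rw [h.normalizer_eq hA]; exact hs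
    rw [mem_extender_iff_congr hi' (range_autHom _) hsN,
      show isoOf (autHom β) hi' (range_autHom _) = β from MulEquiv.ext fun _ => rfl]
    have h1 := conjAut_mem_autInducedBy (K := S) hsN.1 hsN.2
    show β * conjAut hsN.2 * β⁻¹ ∈ autInducedBy S A
    rw [← hcomm _ h1, mul_inv_cancel_right]
    exact h1
  have hψS : ψ.range ≤ S := range_le hψ
  have hle : S ≤ extender S A (autHom β) := hN.ge
  set ψ' := restr hle ψ
  have hψ' : ψ' ∈ F.Hom S := restr_mem F hψ hle
  have hrange : ψ'.range = S := Subgroup.eq_of_le_of_card_ge (range_le hψ')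
    (card_range_eq (F.injective_of_mem hψ')).ge
  refine ⟨isoOf ψ' (F.injective_of_mem hψ') hrange, mem_autGroup_of_hom F hψ', ?_, fun z hzc => ?_⟩
  · exact (hext c (h.cA_mem hA) _).trans (congrArg Subtype.val hβc)
  · obtain ⟨k, hk, hk'⟩ := hz ⟨z, hA.ctr_le hzc⟩ hzc
    refine ⟨k, (hext (z : Ω) (hA.ctr_le hzc) _).trans ?_, ?_⟩
    · exact (congrArg Subtype.val hk).trans (by simp only [Subgroup.coe_mul, SubgroupClass.coe_zpow]; rfl)
    · refine ⟨A.mul_mem (hA.ctr_le hzc) (A.zpow_mem (h.cA_mem hA) k), ?_⟩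
      exact hk'

end SmallCenter

end Cfsg.Agent.Lib.Fusion
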