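import Cfsg.Agent.Lib.Fusion.SmallCenterIndex
import Cfsg.Agent.Lib.Fusion.Inner

/-!
Core-free saturated systems on a `p`-group whose centre has index `p²`: the abelian subgroups of
index `p` with moving automorphisms, and the case of odd `p`.
-/

set_option autoImplicit false
set_option linter.unusedSectionVars false

namespace Cfsg.Agent.Lib.Fusion

open Cfsg Cfsg.FusionSystem
open scoped commutatorElement

variable {Ω : Type*} [Group Ω] {S : Subgroup Ω} [Finite S] {F : FusionSystem S} {p : ℕ}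
  [Fact p.Prime]

theorem ctr_eq_map_center (S : Subgroup Ω) : ctr S = (Subgroup.center ↥S).map S.subtype := by
  ext z
  rw [Subgroup.mem_map, mem_centralizerIn]
  refine ⟨fun hz => ⟨⟨z, hz.1⟩, Subgroup.mem_center_iff.2 fun s => Subtype.ext ?_, rfl⟩, ?_⟩
  · exact hz.2 s s.2
  · rintro ⟨w, hw, rfl⟩
    exact ⟨w.2, fun s hs => congrArg Subtype.val (Subgroup.mem_center_iff.1 hw ⟨s, hs⟩)⟩

/-- A core-free system on a `p`-group with centre of index at most `p²` has `SmallCenter` data. -/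
theorem exists_smallCenter (hS : IsPGroup p S) (hF : F.IsSaturated p) (hS1 : S ≠ ⊥)
    (hcore : F.core = ⊥) (hZ : (Subgroup.center ↥S).index ≤ p ^ 2) :
    ∃ c, SmallCenter F p c := by
  have hp := (Fact.out : p.Prime)
  have hnab : ¬∀ x ∈ S, ∀ y ∈ S, x * y = y * x := fun hab =>
    hS1 (le_bot_iff.1 (hcore ▸ le_core (isNormal_top_of_abelian hS hF hab)))
  set Z := Subgroup.center ↥S
  have hcyc : ¬IsCyclic (↥S ⧸ Z) := fun hc => hnab fun x hx y hy =>
    congrArg Subtype.val ((commutative_of_cyclic_center_quotient (QuotientGroup.mk' Z)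
      (QuotientGroup.ker_mk' Z).le) ⟨x, hx⟩ ⟨y, hy⟩)
  obtain ⟨n, hn⟩ := hS.index Z
  have hn2 : n = 2 := by
    have h1 : n ≤ 2 := (Nat.pow_le_pow_iff_right hp.one_lt).1 (hn ▸ hZ)
    interval_cases n
    · exact absurd (by
        have : Subsingleton (↥S ⧸ Z) := (Nat.card_eq_one_iff_unique.1 (by
          rw [← Subgroup.index_eq_card, hn, pow_zero])).1
        infer_instance) hcyc
    · exact absurd (isCyclic_of_prime_card (by
        rw [← Subgroup.index_eq_card, hn, pow_one])) hcyc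
    · rfl
  subst hn2
  have hab : ∀ a b : ↥S ⧸ Z, a * b = b * a :=
    IsPGroup.commutative_of_card_eq_prime_sq (p := p) (by rw [← Subgroup.index_eq_card, hn])
  have hcard : Nat.card S = p ^ 2 * Nat.card (ctr S) := by
    rw [ctr_eq_map_center, Nat.card_congr (Subgroup.equivMapOfInjective _ _
      S.subtype_injective).symm.toEquiv, ← hn, Subgroup.index_mul_card]
  have hcc : ∀ a b : ↥S, ⁅a, b⁆ ∈ Z := fun a b => by
    rw [← QuotientGroup.eq_one_iff]
    show QuotientGroup.mk' Z ⁅a, b⁆ = 1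
    rw [map_commutatorElement, commutatorElement_eq_one_iff_mul_comm]
    exact hab _ _
  have hc' : ∀ a ∈ S, ∀ b ∈ S, ⁅a, b⁆ ∈ ctr S := fun a ha b hb => by
    rw [ctr_eq_map_center]
    exact ⟨_, hcc ⟨a, ha⟩ ⟨b, hb⟩, by simp [commutatorElement_def]⟩
  have hcm : ∀ {z s : Ω}, z ∈ ctr S → s ∈ S → Commute s z := fun hz hs =>
    (mem_centralizerIn.1 hz).2 _ hs
  obtain ⟨x, hx, y, hy, hxy⟩ : ∃ x ∈ S, ∃ y ∈ S, x * y ≠ y * x := by
    by_contra h; push Not at h; exact hnab h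
  set c := ⁅x, y⁆ with hcdef
  have hzc : c ∈ ctr S := hc' x hx y hy
  have hc1 : c ≠ 1 := fun e => hxy (commutatorElement_eq_one_iff_mul_comm.1 e)
  -- commutators are multiplicative in each variable
  have hmul : ∀ a ∈ S, ∀ b ∈ S, ∀ d ∈ S, ⁅a * b, d⁆ = ⁅a, d⁆ * ⁅b, d⁆ := by
    intro a ha b hb d hd
    have e : ⁅a * b, d⁆ = a * ⁅b, d⁆ * a⁻¹ * ⁅a, d⁆ := by
      simp only [commutatorElement_def]; group
    rw [e, (hcm (hc' b hb d hd) ha).eq, mul_inv_cancel_right,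
      ((hcm (hc' b hb d hd)) (hc' a ha d hd).1).eq]
  have hswap : ∀ a b : Ω, ⁅a, b⁆⁻¹ = ⁅b, a⁆ := commutatorElement_inv
  have hone : ∀ a ∈ S, ∀ z ∈ ctr S, ⁅z, a⁆ = 1 := fun a ha z hz =>
    commutatorElement_eq_one_iff_mul_comm.2 (hcm hz ha).symm.eq
  have hxp : x ^ p ∈ ctr S := by
    have hN : Z.Normal := inferInstance
    have h1 : ((⟨x, hx⟩ : S) : ↥S ⧸ Z) ^ p = 1 := by
      by_contra hne
      have hord : orderOf ((⟨x, hx⟩ : S) : ↥S ⧸ Z) = p ^ 2 := by
        have h2 : orderOf ((⟨x, hx⟩ : S) : ↥S ⧸ Z) ∣ p ^ 2 := by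
          rw [← hn, Subgroup.index_eq_card]; exact orderOf_dvd_natCard _
        obtain ⟨i, hi, hi'⟩ := (Nat.dvd_prime_pow hp).1 h2
        rcases Nat.lt_or_ge i 2 with hlt | hge
        · exact absurd (orderOf_dvd_iff_pow_eq_one.1
            (hi' ▸ (pow_dvd_pow p (Nat.le_of_lt_succ hlt)).trans (pow_one p).dvd)) hne
        · rw [hi', le_antisymm hi hge]
      exact hcyc (isCyclic_of_orderOf_eq_card _ (by rw [hord, ← Subgroup.index_eq_card, hn]))
    rw [← QuotientGroup.mk_pow, QuotientGroup.eq_one_iff] at h1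
    rw [ctr_eq_map_center]
    exact ⟨_, h1, rfl⟩
  have hcp : c ^ p = 1 := by
    have : ∀ k : ℕ, ⁅x ^ k, y⁆ = c ^ k := by
      intro k
      induction k with
      | zero => simp
      | succ k ih => rw [pow_succ, hmul _ (pow_mem hx k) x hx y hy, ih, pow_succ]
    rw [← this, hone y hy _ hxp]
  -- the elements whose commutator with a fixed one lies in `⟨c⟩`
  let L : S → Subgroup S := fun b =>
    { carrier := {a : S | ⁅(a : Ω), (b : Ω)⁆ ∈ Subgroup.zpowers c}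
      one_mem' := by simp
      mul_mem' := fun {a a'} ha ha' => by
        show ⁅((a * a' : S) : Ω), (b : Ω)⁆ ∈ Subgroup.zpowers c
        rw [Subgroup.coe_mul, hmul _ a.2 _ a'.2 _ b.2]
        exact mul_mem ha ha'
      inv_mem' := fun {a} ha => by
        show ⁅((a⁻¹ : S) : Ω), (b : Ω)⁆ ∈ Subgroup.zpowers c
        have h1 := hmul _ (a⁻¹ : S).2 _ a.2 _ b.2
        rw [Subgroup.coe_inv, inv_mul_cancel, commutatorElement_one_left] at h1
        rw [Subgroup.coe_inv, eq_inv_of_mul_eq_one_left h1.symm]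
        exact inv_mem ha }
  set x' : S := ⟨x, hx⟩
  set y' : S := ⟨y, hy⟩
  have hgen : ∀ T : Subgroup S, Z ≤ T → x' ∈ T → y' ∈ T → T = ⊤ := by
    intro T hZT hxT hyT
    let X := Z ⊔ Subgroup.zpowers x'
    have hXT : X ≤ T := sup_le hZT (Subgroup.zpowers_le.2 hxT)
    have hXC : X ≤ Subgroup.centralizer {x'} := sup_le (Subgroup.center_le_centralizer _)
      (Subgroup.zpowers_le.2 fun a ha => by rw [Set.mem_singleton_iff.1 ha])
    have hxZ : x' ∉ Z := fun hm => hxy (congrArg Subtype.val (Subgroup.mem_center_iff.1 hm y')).symm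
    have hyX : y' ∉ X := fun hm => hxy (congrArg Subtype.val (hXC hm x' rfl))
    have hZi : Z.index = p ^ 2 := hn
    have hmul1 := Subgroup.relIndex_mul_index (le_sup_left : Z ≤ X)
    have hmul2 := Subgroup.relIndex_mul_index hXT
    have h1 : Z.relIndex X ≠ 1 := fun e => hxZ
      (Subgroup.relIndex_eq_one.1 e (Subgroup.mem_sup_right (Subgroup.mem_zpowers x')))
    have h2 : X.relIndex T ≠ 1 := fun e => hyX (Subgroup.relIndex_eq_one.1 e hyT)
    rw [← Subgroup.index_eq_one]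
    rw [← hmul2] at hmul1
    rw [hZi] at hmul1
    obtain ⟨i, hi, hi'⟩ := (Nat.dvd_prime_pow hp).1 (Dvd.intro _ hmul1)
    obtain ⟨j, hj, hj'⟩ := (Nat.dvd_prime_pow hp).1 (Dvd.intro_left _ hmul1)
    have hi0 : i ≠ 0 := fun e => h1 (by rw [hi', e, pow_zero])
    rw [hi', hj', ← pow_add] at hmul1
    have hij := Nat.pow_right_injective hp.two_le hmul1
    have hj1 : j = 1 ∨ j = 0 := by omega
    rcases hj1 with rfl | rfl
    · rw [pow_one] at hj'
      rcases (Nat.dvd_prime hp).1 (Dvd.intro _ hj') with e | e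
      · exact absurd e h2
      · rw [e] at hj'
        exact (mul_eq_left₀ hp.ne_zero).1 hj'
    · rw [pow_zero] at hj'
      exact absurd (Nat.eq_one_of_mul_eq_one_right hj') h2
  have hcx : ∀ b : S, ⁅x, (b : Ω)⁆ ∈ Subgroup.zpowers c := by
    intro b
    have hT : L x' = ⊤ := hgen _ (fun a ha => by
        show ⁅(a : Ω), x⁆ ∈ Subgroup.zpowers c
        rw [hone x hx _ (by rw [ctr_eq_map_center]; exact ⟨a, ha, rfl⟩)]
        exact one_mem _)
      (by show ⁅x, x⁆ ∈ Subgroup.zpowers c; rw [commutatorElement_self]; exact one_mem _)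
      (by show ⁅y, x⁆ ∈ Subgroup.zpowers c; rw [← hswap x y]; exact inv_mem (Subgroup.mem_zpowers _))
    have := hT.ge (Subgroup.mem_top b)
    rw [← hswap (b : Ω) x]
    exact inv_mem this
  have hcy : ∀ b : S, ⁅y, (b : Ω)⁆ ∈ Subgroup.zpowers c := by
    intro b
    have hT : L y' = ⊤ := hgen _ (fun a ha => by
        show ⁅(a : Ω), y⁆ ∈ Subgroup.zpowers c
        rw [hone y hy _ (by rw [ctr_eq_map_center]; exact ⟨a, ha, rfl⟩)]
        exact one_mem _)
      (Subgroup.mem_zpowers _) (by show ⁅y, y⁆ ∈ Subgroup.zpowers c; rw [commutatorElement_self]; exact one_mem _)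
    have := hT.ge (Subgroup.mem_top b)
    rw [← hswap (b : Ω) y]
    exact inv_mem this
  refine ⟨c, hS, hF, hzc, orderOf_eq_prime hcp hc1, fun a ha b hb => ?_, hcard⟩
  have hT : L ⟨b, hb⟩ = ⊤ := hgen _ (fun a' ha' => by
      show ⁅(a' : Ω), b⁆ ∈ Subgroup.zpowers c
      rw [hone b hb _ (by rw [ctr_eq_map_center]; exact ⟨a', ha', rfl⟩)]
      exact one_mem _)
    (hcx ⟨b, hb⟩) (hcy ⟨b, hb⟩)
  exact hT.ge (Subgroup.mem_top ⟨a, ha⟩)

/-- Invariance in the weak sense suffices for normality. -/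
theorem normal_of_mapsTo (hS : IsPGroup p S) (hF : F.IsSaturated p) {Q : Subgroup Ω}
    (h : ∀ P : Subgroup Ω, (P = S ∨ F.IsEssential p P) →
      Q ≤ P ∧ ∀ α ∈ F.autGroup P, ∀ x : P, (x : Ω) ∈ Q → ((α x : P) : Ω) ∈ Q) :
    F.IsNormal Q := by
  refine normal_of_invariant hS hF fun P hP => ⟨(h P hP).1, fun α hα => le_antisymm ?_ ?_⟩
  · rintro _ ⟨x, hx, rfl⟩
    exact (h P hP).2 α hα x hx
  · intro x hx
    exact ⟨α⁻¹ x, (h P hP).2 _ (inv_mem hα) x hx, MulAut.apply_inv_self _ α x⟩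

/-- In a fully automized top the induced automorphisms have index prime to `p`. -/
theorem mem_of_pow_mem_top (hS : IsPGroup p S) (hF : F.IsSaturated p)
    {K : Subgroup (F.autGroup S)} [K.Normal] (hK : (Inn S).subgroupOf (F.autGroup S) ≤ K)
    {g : F.autGroup S} {k : ℕ} (hg : g ^ (p ^ k) ∈ K) : g ∈ K := by
  have hn : F.IsFullyNormalized S := ⟨le_rfl, fun Q _ => by
    rw [normalizerIn_self]; exact Subgroup.card_le_of_le (normalizerIn_le S Q)⟩
  obtain ⟨⟨-, T, hT⟩, -⟩ := IsSaturated.automized_receptive hS hF hn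
  rw [autInducedBy_self] at hT
  have := finite_mulAut (le_refl S)
  have hidx : ¬p ∣ K.index := fun hd => T.not_dvd_index
    (hd.trans (Subgroup.index_dvd_of_le (hT.le.trans hK)))
  have h1 : (g : F.autGroup S ⧸ K) ^ (p ^ k) = 1 := by
    rwa [← QuotientGroup.mk_pow, QuotientGroup.eq_one_iff]
  rw [← QuotientGroup.eq_one_iff, ← orderOf_eq_one_iff]
  exact Nat.eq_one_of_dvd_coprimes
    ((((Fact.out : p.Prime).coprime_iff_not_dvd).2 hidx).pow_left k)
    (orderOf_dvd_of_pow_eq_one h1) (by rw [Subgroup.index_eq_card]; exact orderOf_dvd_natCard _)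

/-- The part of the centre which the automorphisms of `A` keep central. -/
def ctrCore (F : FusionSystem S) (A : Subgroup Ω) : Subgroup Ω where
  carrier := {u | u ∈ ctr S ∧ ∃ hu : u ∈ A, ∀ g ∈ F.autGroup A, ((g ⟨u, hu⟩ : A) : Ω) ∈ ctr S}
  one_mem' := ⟨one_mem _, A.one_mem, fun g _ => by
    rw [show (⟨1, A.one_mem⟩ : A) = 1 from rfl, map_one]; exact one_mem _⟩
  mul_mem' := fun {a b} ha hb => ⟨mul_mem ha.1 hb.1, A.mul_mem ha.2.1 hb.2.1, fun g hg => by
    rw [show (⟨a * b, A.mul_mem ha.2.1 hb.2.1⟩ : A) = ⟨a, ha.2.1⟩ * ⟨b, hb.2.1⟩ from rfl, map_mul]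
    exact mul_mem (ha.2.2 g hg) (hb.2.2 g hg)⟩
  inv_mem' := fun {a} ha => ⟨inv_mem ha.1, A.inv_mem ha.2.1, fun g hg => by
    rw [show (⟨a⁻¹, A.inv_mem ha.2.1⟩ : A) = (⟨a, ha.2.1⟩)⁻¹ from rfl, map_inv]
    exact inv_mem (ha.2.2 g hg)⟩

theorem ctrCore_map {A : Subgroup Ω} {g : MulAut A} (hg : g ∈ F.autGroup A) {u : A}
    (hu : (u : Ω) ∈ ctrCore F A) : ((g u : A) : Ω) ∈ ctrCore F A :=
  ⟨hu.2.2 g hg, (g u).2, fun g' hg' => hu.2.2 (g' * g) (mul_mem hg' hg)⟩

namespace SmallCenter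

variable {c : Ω} (h : SmallCenter F p c)
include h

omit h in
theorem aut_ctr {γ : MulAut S} {z : S} (hz : (z : Ω) ∈ ctr S) : ((γ z : S) : Ω) ∈ ctr S := by
  refine mem_centralizerIn.2 ⟨(γ z).2, fun s hs => ?_⟩
  have h1 : (γ⁻¹ ⟨s, hs⟩) * z = z * (γ⁻¹ ⟨s, hs⟩) :=
    Subtype.ext ((mem_centralizerIn.1 hz).2 _ (γ⁻¹ ⟨s, hs⟩).2)
  have h2 := congrArg γ h1
  rw [map_mul, map_mul, MulAut.apply_inv_self] at h2
  exact congrArg Subtype.val h2

theorem exists_commutator : ∃ a ∈ S, ∃ b ∈ S, ⁅a, b⁆ ≠ 1 := by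
  by_contra hc
  push Not at hc
  have hle : S ≤ ctr S := fun s hs => mem_centralizerIn.2 ⟨hs, fun t ht =>
    commutatorElement_eq_one_iff_mul_comm.1 (hc t ht s hs)⟩
  have h1 := h.card
  rw [show Nat.card (ctr S) = Nat.card S from
    congrArg (fun H : Subgroup Ω => Nat.card H) (le_antisymm (centralizerIn_le S S) hle)] at h1
  have h2 : p ^ 2 = 1 := (Nat.mul_eq_right (Nat.card_pos.ne')).1 h1.symm
  exact (Fact.out : p.Prime).one_lt.ne' ((pow_eq_one_iff_left two_ne_zero).1 h2)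

theorem aut_zpowers {γ : MulAut S} {t : S} (ht : (t : Ω) ∈ Subgroup.zpowers c) :
    ((γ t : S) : Ω) ∈ Subgroup.zpowers c := by
  obtain ⟨a, ha, b, hb, hab⟩ := h.exists_commutator
  obtain ⟨i, hi⟩ := mem_zpowers_of_mem h.c_order (h.comm a ha b hb) hab
  obtain ⟨k, hk⟩ := ht
  have e : t = ⁅(⟨a, ha⟩ : S), ⟨b, hb⟩⁆ ^ (i * k) := Subtype.ext (by
    rw [SubgroupClass.coe_zpow, zpow_mul, ← hk]
    show c ^ k = _
    rw [← show ⁅a, b⁆ ^ i = c from hi]
    rfl)
  rw [e, map_zpow, map_commutatorElement, SubgroupClass.coe_zpow]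
  exact zpow_mem (h.comm _ (γ ⟨a, ha⟩).2 _ (γ ⟨b, hb⟩).2) _

theorem movesCenter_of_essential {P : Subgroup Ω} (hP : F.IsEssential p P) :
    MovesCenter F p P := by
  have hc := hP.1
  have hPS := hc.1
  have hlt := IsEssential.lt h.sat h.pgroup hP
  have := finite_of_le hPS
  have := finite_mulAut hPS
  have hCP : centralizerIn S P ≤ P := hc.2 P (isConj_refl F hPS)
  have hZP : ctr S ≤ P := fun z hz => hCP (mem_centralizerIn.2
    ⟨hz.1, fun s hs => h.ctr_comm hz (hPS hs)⟩)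
  have hdvd := Subgroup.card_dvd_of_le hZP
  have hcard : Nat.card P = p * Nat.card (ctr S) := by
    have hne : ctr S < P := lt_of_le_of_ne hZP fun e => hlt.not_ge fun s hs =>
      hCP (mem_centralizerIn.2 ⟨hs, fun t ht => (h.ctr_comm (e.ge ht) hs).symm⟩)
    obtain ⟨k, hk⟩ := hdvd
    have h1 := Subgroup.card_dvd_of_le hPS
    rw [h.card, hk, mul_comm (p ^ 2)] at h1
    have := h.ctr_finite
    obtain ⟨i, hi, rfl⟩ := (Nat.dvd_prime_pow (Fact.out : p.Prime)).1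
      (Nat.dvd_of_mul_dvd_mul_left Nat.card_pos h1)
    interval_cases i
    · exact absurd (Subgroup.eq_of_le_of_card_ge hne.le (by rw [hk, pow_zero, mul_one])) hne.ne
    · rw [hk, pow_one, mul_comm]
    · exact absurd (Subgroup.eq_of_le_of_card_ge hlt.le (by rw [hk, h.card, mul_comm])) hlt.ne
  refine ⟨hPS, hZP, hcard, ?_⟩
  by_contra hmv
  push Not at hmv
  have hcP : c ∈ P := hZP h.c_mem
  obtain ⟨s, hs, hsP⟩ := SetLike.exists_of_lt hlt
  have hsN : s ∈ Subgroup.normalizer (P : Set Ω) := mem_normalizer_of_finite fun a ha => by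
    obtain ⟨t, ht, e⟩ := h.conj_eq hs (hPS ha)
    rw [e]
    exact P.mul_mem (Subgroup.zpowers_le.2 hcP ht) ha
  let W : ℕ → Subgroup P
    | 0 => ⊥
    | 1 => (ctr S).subgroupOf P
    | _ + 2 => ⊤
  have hmem := stab_mem_pCore (IsPGroup.to_le h.pgroup hPS) (F.autGroup P) W 2 rfl rfl
    (fun α hα i x hx => by
      match i, hx with
      | 0, hx => rw [Subgroup.mem_bot.1 hx, map_one]; exact one_mem _
      | 1, hx => exact hmv α hα x hx
      | _ + 2, _ => exact Subgroup.mem_top _)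
    (conjAut_mem_autGroup F hPS hs hsN) (fun i hi x hx => by
      match i, hi, hx with
      | 0, _, hx =>
        refine Subgroup.mem_bot.2 (Subtype.ext ?_)
        show (x : Ω)⁻¹ * (s * (x : Ω) * s⁻¹) = 1
        rw [h.ctr_comm (z := (x : Ω)) hx hs, mul_inv_cancel_right, inv_mul_cancel]
      | 1, _, _ =>
        show (x : Ω)⁻¹ * (s * (x : Ω) * s⁻¹) ∈ ctr S
        rw [inv_mul_conj_eq]
        exact Subgroup.zpowers_le.2 h.c_mem (h.comm _ (S.inv_mem (hPS x.2)) _ hs))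
  rw [(IsEssential.radical h.pgroup h.sat hP).2] at hmem
  exact hsP (mem_of_conjAut_inn hc ⟨hs, hsN⟩ hmem)

/-- Automorphisms of `S` permute the subgroups moving the centre. -/
theorem transport {A : Subgroup Ω} (hA : MovesCenter F p A) {γ : MulAut S}
    (hγ : γ ∈ F.autGroup S) :
    MovesCenter F p (img (autHom γ) A) ∧
      ∀ u : S, (u : Ω) ∈ ctrCore F A → ((γ u : S) : Ω) ∈ ctrCore F (img (autHom γ) A) := by
  set φ := restr hA.le (autHom γ)
  have hγ' := autHom_mem F le_rfl hγ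
  have hφ : φ ∈ F.Hom A := restr_mem F hγ' hA.le
  have hrange : φ.range = img (autHom γ) A := range_restr _ _
  set A' := img (autHom γ) A
  have hA'S : A' ≤ S := hrange ▸ range_le hφ
  set e := isoOf φ (F.injective_of_mem hφ) hrange
  have hcongr := map_congr_autGroup F hφ hrange
  have he : ∀ a : A, ((e a : A') : Ω) = ((γ ⟨a, hA.le a.2⟩ : S) : Ω) := fun a => rfl
  have hpull : ∀ z : Ω, z ∈ ctr S → ∃ w : S, (w : Ω) ∈ ctr S ∧ ((γ w : S) : Ω) = z :=
    fun z hz => ⟨γ⁻¹ ⟨z, hz.1⟩, aut_ctr hz, by rw [MulAut.apply_inv_self]⟩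
  refine ⟨⟨hA'S, fun z hz => ?_, ?_, ?_⟩, fun u hu => ?_⟩
  · obtain ⟨w, hw, hw'⟩ := hpull z hz
    rw [← hw']
    exact apply_mem_img (autHom γ) w (hA.ctr_le hw)
  · rw [← hA.card]
    exact (Nat.card_congr e.toEquiv).symm
  · obtain ⟨g, hg, a, ha, hga⟩ := hA.moves
    refine ⟨MulAut.congr e g, hcongr.le ⟨g, hg, rfl⟩, e a, ?_, ?_⟩
    · rw [he]; exact aut_ctr ha
    · intro hmem
      have h1 : MulAut.congr e g (e a) = e (g a) := by
        show e (g (e.symm (e a))) = _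
        rw [MulEquiv.symm_apply_apply]
      rw [h1, he] at hmem
      have h2 := aut_ctr (γ := γ⁻¹) hmem
      rw [MulAut.inv_apply_self] at h2
      exact hga h2
  · obtain ⟨huz, huA, hu'⟩ := hu
    have hmem : ((γ u : S) : Ω) ∈ A' := apply_mem_img (autHom γ) u huA
    refine ⟨aut_ctr huz, hmem, fun g' hg' => ?_⟩
    obtain ⟨g, hg, rfl⟩ := hcongr.ge hg'
    have h1 : (⟨_, hmem⟩ : A') = e ⟨u, huA⟩ := Subtype.ext (he ⟨u, huA⟩).symm
    have h2 : (MulAut.congr e).toMonoidHom g (e ⟨u, huA⟩) = e (g ⟨u, huA⟩) := by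
      show e (g (e.symm (e _))) = _
      rw [MulEquiv.symm_apply_apply]
    rw [h1, h2, he]
    exact aut_ctr (hu' g hg)

variable (hcore : F.core = ⊥)
include hcore

omit h in
theorem eq_bot_of_normal {Q : Subgroup Ω} (hQ : F.IsNormal Q) : Q = ⊥ :=
  le_bot_iff.1 (hcore ▸ le_core hQ)

/-- There are two subgroups moving the centre. -/
theorem exists_pair : ∃ A B, MovesCenter F p A ∧ MovesCenter F p B ∧ A ≠ B := by
  have hc1 : c ≠ 1 := fun e => (Fact.out : p.Prime).one_lt.ne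
    (by rw [← h.c_order, e, orderOf_one])
  have hne : S ≠ ⊥ := fun e => hc1 (Subgroup.mem_bot.1 (e ▸ h.c_mem_S))
  obtain ⟨P, hP⟩ : ∃ P, F.IsEssential p P := by
    by_contra hno
    push Not at hno
    refine hne (eq_bot_of_normal hcore (normal_of_mapsTo h.pgroup h.sat fun P hP => ?_))
    rcases hP with rfl | hP
    · exact ⟨le_rfl, fun α _ x _ => (α x).2⟩
    · exact absurd hP (hno P)
  have hA := h.movesCenter_of_essential hP
  by_contra hno
  push Not at hno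
  have hbot := eq_bot_of_normal hcore (normal_of_mapsTo (Q := P) h.pgroup h.sat fun R hR => by
    rcases hR with rfl | hR
    · refine ⟨hA.le, fun α hα x hx => ?_⟩
      rw [hno P _ hA (h.transport hA hα).1]
      exact apply_mem_img (autHom α) x hx
    · cases hno P R hA (h.movesCenter_of_essential hR)
      exact ⟨le_rfl, fun α _ x _ => (α x).2⟩)
  exact hc1 (Subgroup.mem_bot.1 (hbot ▸ hA.ctr_le h.c_mem))

omit hcore in
theorem exists_decomp {A : Subgroup Ω} (hA : MovesCenter F p A) :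
    ∃ d : A, orderOf (d : Ω) = p ∧ (d : Ω) ∉ ctr S := by
  obtain ⟨g, hg, hmv⟩ := hA.moves
  refine ⟨g ⟨c, h.cA_mem hA⟩, ?_, h.moves_c hA hg hmv⟩
  rw [Subgroup.orderOf_coe, MulEquiv.orderOf_eq, Subgroup.orderOf_mk,
    h.c_order]

theorem ctr_pow {z : Ω} (hz : z ∈ ctr S) : z ^ p = 1 := by
  let U : Subgroup Ω :=
    { carrier := {u | ∃ z ∈ ctr S, z ^ p = u}
      one_mem' := ⟨1, one_mem _, one_pow _⟩
      mul_mem' := by
        rintro _ _ ⟨a, ha, rfl⟩ ⟨b, hb, rfl⟩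
        exact ⟨a * b, mul_mem ha hb, Commute.mul_pow (h.ctr_comm hb ha.1) _⟩
      inv_mem' := by
        rintro _ ⟨a, ha, rfl⟩
        exact ⟨a⁻¹, inv_mem ha, inv_pow _ _⟩ }
  have hU : F.IsNormal U := normal_of_mapsTo h.pgroup h.sat fun P hP => by
    rcases hP with rfl | hP
    · refine ⟨?_, fun α _ x hx => ?_⟩
      · rintro _ ⟨a, ha, rfl⟩; exact pow_mem ha.1 _
      · obtain ⟨a, ha, e⟩ := hx
        have e' : x = (⟨a, ha.1⟩ : P) ^ p := Subtype.ext e.symm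
        exact ⟨_, aut_ctr (γ := α) (z := ⟨a, ha.1⟩) ha, by rw [e', map_pow]; rfl⟩
    · have hA := h.movesCenter_of_essential hP
      refine ⟨?_, fun α _ x hx => ?_⟩
      · rintro _ ⟨a, ha, rfl⟩; exact pow_mem (hA.ctr_le ha) _
      · obtain ⟨a, ha, e⟩ := hx
        obtain ⟨d, hd, hdc⟩ := h.exists_decomp hA
        have e' : x = (⟨a, hA.ctr_le ha⟩ : P) ^ p := Subtype.ext e.symm
        obtain ⟨w, hw, k, hk⟩ := h.decomp hA d.2 hdc (α ⟨a, hA.ctr_le ha⟩).2
        refine ⟨w, hw, ?_⟩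
        rw [e', map_pow, SubmonoidClass.coe_pow, hk,
          Commute.mul_pow (h.ctr_comm hw (hA.le (P.zpow_mem d.2 k))).symm, ← zpow_natCast (_ ^ k), ← zpow_mul, mul_comm, zpow_mul,
          zpow_natCast, ← hd, pow_orderOf_eq_one, one_zpow, mul_one]
  exact Subgroup.mem_bot.1 (eq_bot_of_normal hcore hU ▸ (⟨z, hz, rfl⟩ : z ^ p ∈ U))

theorem moves_pow {A : Subgroup Ω} (hA : MovesCenter F p A) {a : Ω} (ha : a ∈ A) : a ^ p = 1 := by
  obtain ⟨d, hd, hdc⟩ := h.exists_decomp hA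
  obtain ⟨w, hw, k, rfl⟩ := h.decomp hA d.2 hdc ha
  rw [Commute.mul_pow (h.ctr_comm hw (hA.le (A.zpow_mem d.2 k))).symm, h.ctr_pow hcore hw,
    ← zpow_natCast (_ ^ k), ← zpow_mul, mul_comm, zpow_mul,
    zpow_natCast, ← hd, pow_orderOf_eq_one, one_zpow, mul_one]

omit hcore

theorem eq_top_of_lt {A H : Subgroup Ω} (hA : MovesCenter F p A) (hlt : A < H) (hH : H ≤ S) :
    H = S := by
  by_contra hne
  have hlt' : H < S := lt_of_le_of_ne hH hne
  have := finite_of_le hH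
  have h1 := lt_eq_of_card (n := p * Nat.card (ctr S)) hlt' (by rw [h.card]; ring)
    (hA.card ▸ Subgroup.card_dvd_of_le hlt.le)
  exact hlt.ne (Subgroup.eq_of_le_of_card_ge hlt.le (by rw [h1, hA.card]))

theorem inf_eq {A B : Subgroup Ω} (hA : MovesCenter F p A) (hB : MovesCenter F p B) (hne : A ≠ B)
    {a : Ω} (haA : a ∈ A) (haB : a ∈ B) : a ∈ ctr S := by
  by_contra ha
  exact hne ((h.sup_zpowers_eq hA haA ha).symm.trans (h.sup_zpowers_eq hB haB ha))

theorem exists_mul {A B : Subgroup Ω} (hA : MovesCenter F p A) (hB : MovesCenter F p B)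
    (hne : A ≠ B) {s : Ω} (hs : s ∈ S) : ∃ a ∈ A, ∃ b ∈ B, s = a * b := by
  have hlt : A < A ⊔ B := lt_of_le_of_ne le_sup_left fun e => by
    have := finite_of_le hA.le
    exact hne (Subgroup.eq_of_le_of_card_ge (e ▸ le_sup_right : B ≤ A)
      (by rw [hA.card, hB.card])).symm
  have hn : A ≤ Subgroup.normalizer (B : Set Ω) := fun a ha => by
    have := finite_of_le hB.le
    refine mem_normalizer_of_finite fun b hb => ?_
    obtain ⟨t, ht, e⟩ := h.conj_eq (hA.le ha) (hB.le hb)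
    rw [e]
    exact B.mul_mem (Subgroup.zpowers_le.2 (h.cA_mem hB) ht) hb
  have hs' : s ∈ A ⊔ B := (h.eq_top_of_lt hA hlt (sup_le hA.le hB.le)).ge hs
  rw [← SetLike.mem_coe, Subgroup.coe_mul_of_left_le_normalizer_right _ _ hn] at hs'
  obtain ⟨a, ha, b, hb, e⟩ := hs'
  exact ⟨a, ha, b, hb, e.symm⟩

/-- An automorphism of `S` inverting `c` and moving the centre along `⟨c⟩`. -/
def IsFlip (F : FusionSystem S) (c : Ω) (γ : MulAut S) : Prop :=
  γ ∈ F.autGroup S ∧ (∀ t : S, (t : Ω) = c → ((γ t : S) : Ω) = c⁻¹) ∧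
    ∀ z : S, (z : Ω) ∈ ctr S → ((γ z : S) : Ω) * (z : Ω)⁻¹ ∈ Subgroup.zpowers c

theorem flips_agree {γ₁ γ₂ : MulAut S} (h₁ : IsFlip F c γ₁) (h₂ : IsFlip F c γ₂) {z : S}
    (hz : (z : Ω) ∈ ctr S) : γ₁ z = γ₂ z := by
  let K : Subgroup (F.autGroup S) :=
    { carrier := {α | ∀ w : S, (w : Ω) ∈ ctr S → (α : MulAut S) w = w}
      one_mem' := fun w _ => rfl
      mul_mem' := fun {a b} ha hb w hw => by
        show (a : MulAut S) ((b : MulAut S) w) = w
        rw [hb w hw, ha w hw]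
      inv_mem' := fun {a} ha w hw => by
        show (a : MulAut S)⁻¹ w = w
        conv_lhs => rw [← ha w hw]
        rw [MulAut.inv_apply_self] }
  have : K.Normal := ⟨fun k hk g w hw => by
    show (g : MulAut S) ((k : MulAut S) ((g : MulAut S)⁻¹ w)) = w
    rw [hk _ (aut_ctr hw), MulAut.apply_inv_self]⟩
  have hInn : (Inn S).subgroupOf (F.autGroup S) ≤ K := by
    intro α hα w hw
    rw [Subgroup.mem_subgroupOf, ← autInducedBy_self, mem_autInducedBy] at hα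
    obtain ⟨g, hg, hgv⟩ := hα
    exact Subtype.ext (by rw [hgv w, h.ctr_comm hw hg, mul_inv_cancel_right])
  let δ : F.autGroup S := ⟨γ₂⁻¹ * γ₁, mul_mem (inv_mem h₂.1) h₁.1⟩
  suffices hδ : δ ∈ K by
    have := congrArg γ₂ (hδ z hz)
    rwa [show (δ : MulAut S) z = γ₂⁻¹ (γ₁ z) from rfl, MulAut.apply_inv_self] at this
  refine mem_of_pow_mem_top h.pgroup h.sat hInn (k := 1) ?_
  intro w hw
  set cS : S := ⟨c, h.c_mem_S⟩
  have hf : ∀ γ, IsFlip F c γ → γ cS = cS⁻¹ ∧ ∀ u : S, (u : Ω) ∈ ctr S →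
      ∃ k : ℤ, γ u = u * cS ^ k := by
    intro γ hγ
    refine ⟨Subtype.ext (hγ.2.1 cS rfl), fun u hu => ?_⟩
    obtain ⟨k, hk⟩ := hγ.2.2 u hu
    refine ⟨k, Subtype.ext ?_⟩
    rw [Subgroup.coe_mul, SubgroupClass.coe_zpow]
    show _ = (u : Ω) * c ^ k
    rw [← h.ctr_comm hu (zpow_mem h.c_mem_S k), show c ^ k = _ from hk, inv_mul_cancel_right]
  obtain ⟨hc1, hz1⟩ := hf γ₁ h₁
  obtain ⟨hc2, hz2⟩ := hf γ₂ h₂
  have hδc : (δ : MulAut S) cS = cS := by
    show γ₂⁻¹ (γ₁ cS) = cS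
    rw [hc1, ← hc2, MulAut.inv_apply_self]
  obtain ⟨k, hk⟩ := hz1 w hw
  obtain ⟨l, hl⟩ := hz2 w hw
  have hδw : (δ : MulAut S) w = w * cS ^ (l - k) := by
    apply (γ₂ : MulAut S).injective
    show γ₂ (γ₂⁻¹ (γ₁ w)) = _
    rw [MulAut.apply_inv_self, hk, map_mul, map_zpow, hc2, hl, inv_zpow, ← zpow_neg, mul_assoc,
      ← zpow_add]
    congr 2
    ring
  have hn : ∀ n : ℕ, ((δ : MulAut S) ^ n) w = w * (cS ^ (l - k)) ^ n := by
    intro n
    induction n with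
    | zero => simp
    | succ n ih =>
      rw [pow_succ', MulAut.mul_apply, ih, map_mul, map_pow, map_zpow, hδc, hδw, pow_succ',
        mul_assoc]
  rw [pow_one, SubmonoidClass.coe_pow, hn, ← zpow_natCast (_ ^ _), ← zpow_mul, mul_comm (l - k),
    zpow_mul, zpow_natCast, show cS ^ p = 1 from Subtype.ext (by
      rw [SubmonoidClass.coe_pow, ← h.c_order]; exact pow_orderOf_eq_one c), one_zpow, mul_one]

theorem isFlip_conj {γ α : MulAut S} (hγ : IsFlip F c γ) (hα : α ∈ F.autGroup S) :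
    IsFlip F c (α * γ * α⁻¹) := by
  refine ⟨mul_mem (mul_mem hα hγ.1) (inv_mem hα), fun t ht => ?_, fun z hz => ?_⟩
  · obtain ⟨i, hi⟩ := h.aut_zpowers (γ := α⁻¹) (t := t) (ht.symm ▸ Subgroup.mem_zpowers c)
    have e : α⁻¹ t = (⟨c, h.c_mem_S⟩ : S) ^ i :=
      Subtype.ext (by rw [SubgroupClass.coe_zpow]; exact hi.symm)
    have e2 : γ (α⁻¹ t) = (α⁻¹ t)⁻¹ := by
      rw [e, map_zpow, ← inv_zpow,
        show γ ⟨c, h.c_mem_S⟩ = (⟨c, h.c_mem_S⟩ : S)⁻¹ from Subtype.ext (hγ.2.1 _ rfl)]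
    show ((α (γ (α⁻¹ t)) : S) : Ω) = _
    rw [e2, map_inv, MulAut.apply_inv_self, Subgroup.coe_inv, ht]
  · have h1 := h.aut_zpowers (γ := α) (t := γ (α⁻¹ z) * (α⁻¹ z)⁻¹) (hγ.2.2 _ (aut_ctr hz))
    rwa [map_mul, map_inv, MulAut.apply_inv_self] at h1

theorem exists_isFlip {A : Subgroup Ω} (hA : MovesCenter F p A) {g : MulAut A}
    (hg : g ∈ F.autGroup A) (hmv : ∃ a : A, (a : Ω) ∈ ctr S ∧ ((g a : A) : Ω) ∉ ctr S) :
    ∃ γ, IsFlip F c γ ∧ ∀ z : S, (z : Ω) ∈ ctr S → ∃ k : ℤ,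
      ((γ z : S) : Ω) = (z : Ω) * c ^ (2 * k) ∧
        ∃ hz : (z : Ω) * c ^ k ∈ A, ((g⁻¹ ⟨_, hz⟩ : A) : Ω) ∈ ctr S := by
  obtain ⟨γ, hγ, hγc, hγz⟩ := h.exists_flip hA hg hmv
  refine ⟨γ, ⟨hγ, fun t ht => ?_, fun z hz => ?_⟩, hγz⟩
  · rwa [show t = ⟨c, h.c_mem_S⟩ from Subtype.ext ht]
  · obtain ⟨k, hk, -⟩ := hγz z hz
    rw [hk, ← h.ctr_comm hz (zpow_mem h.c_mem_S _), mul_inv_cancel_right]
    exact Subgroup.zpow_mem _ (Subgroup.mem_zpowers c) _

theorem ctrCore_eq_fixed (hp2 : p ≠ 2) {γ : MulAut S} (hγ : IsFlip F c γ) {A : Subgroup Ω}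
    (hA : MovesCenter F p A) {u : S} (hu : (u : Ω) ∈ ctr S) :
    γ u = u ↔ (u : Ω) ∈ ctrCore F A := by
  have hp := (Fact.out : p.Prime)
  have hhalf : ∀ k : ℤ, c ^ (2 * k) = 1 → c ^ k = 1 := fun k hk => by
    rw [← orderOf_dvd_iff_zpow_eq_one, h.c_order] at hk ⊢
    rcases Int.Prime.dvd_mul' hp hk with hd | hd
    · exact absurd ((Nat.prime_dvd_prime_iff_eq hp Nat.prime_two).1 (by exact_mod_cast hd)) hp2
    · exact hd
  constructor
  · intro hfix
    refine ⟨hu, hA.ctr_le hu, fun g hg => ?_⟩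
    by_contra hmem
    obtain ⟨γ', hγ', hz⟩ := h.exists_isFlip hA (inv_mem hg) (h.moves_inv hA ⟨_, hu, hmem⟩)
    obtain ⟨k, hk, hz', hgk⟩ := hz u hu
    rw [← h.flips_agree hγ hγ' hu, hfix] at hk
    have e : (⟨(u : Ω) * c ^ k, hz'⟩ : A) = ⟨u, hA.ctr_le hu⟩ := Subtype.ext (by
      show (u : Ω) * c ^ k = u
      rw [hhalf k (mul_eq_left.1 hk.symm), mul_one])
    rw [e, inv_inv] at hgk
    exact hmem hgk
  · intro hu'
    obtain ⟨g, hg, hmv⟩ := hA.moves
    obtain ⟨γ', hγ', hz⟩ := h.exists_isFlip hA hg hmv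
    rw [h.flips_agree hγ hγ' hu]
    obtain ⟨k, hk, hz', hgk⟩ := hz u hu
    refine Subtype.ext (hk.trans ?_)
    have hck : c ^ k = 1 := by
      by_contra hne
      refine h.moves_c hA (inv_mem hg) (h.moves_inv hA hmv) ?_
      obtain ⟨i, hi⟩ := mem_zpowers_of_mem h.c_order ⟨k, rfl⟩ hne
      have hm : ((g⁻¹ (⟨c ^ k, A.zpow_mem (h.cA_mem hA) k⟩ : A) : A) : Ω) ∈ ctr S := by
        have e : (⟨c ^ k, A.zpow_mem (h.cA_mem hA) k⟩ : A) =
            (⟨u, hA.ctr_le hu⟩ : A)⁻¹ * ⟨_, hz'⟩ :=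
          Subtype.ext (inv_mul_cancel_left (u : Ω) (c ^ k)).symm
        rw [e, map_mul, map_inv, Subgroup.coe_mul, Subgroup.coe_inv]
        exact mul_mem (inv_mem (hu'.2.2 _ (inv_mem hg))) hgk
      have e : (⟨c, h.cA_mem hA⟩ : A) = (⟨c ^ k, A.zpow_mem (h.cA_mem hA) k⟩ : A) ^ i :=
        Subtype.ext (by rw [SubgroupClass.coe_zpow]; exact hi.symm)
      rw [e, map_zpow, SubgroupClass.coe_zpow]
      exact zpow_mem hm i
    rw [mul_comm 2 k, zpow_mul, hck, one_zpow, mul_one]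

include hcore in
theorem ctr_eq_zpowers (hp2 : p ≠ 2) : ctr S = Subgroup.zpowers c := by
  obtain ⟨A, -, hA, -, -⟩ := h.exists_pair hcore
  obtain ⟨g, hg, hmv⟩ := hA.moves
  obtain ⟨γ, hγ, hz⟩ := h.exists_isFlip hA hg hmv
  let U : Subgroup Ω :=
    { carrier := {u | u ∈ ctr S ∧ ∀ t : S, (t : Ω) = u → γ t = t}
      one_mem' := ⟨one_mem _, fun t ht => by
        rw [show t = 1 from Subtype.ext ht, map_one]⟩
      mul_mem' := fun {a b} ha hb => ⟨mul_mem ha.1 hb.1, fun t ht => by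
        rw [show t = ⟨a, ha.1.1⟩ * ⟨b, hb.1.1⟩ from Subtype.ext ht, map_mul, ha.2 _ rfl,
          hb.2 _ rfl]⟩
      inv_mem' := fun {a} ha => ⟨inv_mem ha.1, fun t ht => by
        rw [show t = ⟨a, ha.1.1⟩⁻¹ from Subtype.ext ht, map_inv, ha.2 _ rfl]⟩ }
  have hU : F.IsNormal U := normal_of_mapsTo h.pgroup h.sat fun P hP => by
    rcases hP with rfl | hP
    · refine ⟨fun u hu => hu.1.1, fun α hα x hx => ?_⟩
      refine ⟨aut_ctr hx.1, fun t ht => ?_⟩
      obtain rfl : t = α x := Subtype.ext ht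
      rw [h.flips_agree hγ (h.isFlip_conj hγ hα) (aut_ctr hx.1)]
      show α (γ (α⁻¹ (α x))) = α x
      rw [MulAut.inv_apply_self, hx.2 x rfl]
    · have hB := h.movesCenter_of_essential hP
      refine ⟨fun u hu => hB.ctr_le hu.1, fun α hα x hx => ?_⟩
      have hx' := (h.ctrCore_eq_fixed hp2 hγ hB (u := ⟨x, hB.le x.2⟩) hx.1).1 (hx.2 _ rfl)
      have hαx := ctrCore_map hα hx'
      refine ⟨hαx.1, fun t ht => ?_⟩
      exact (h.ctrCore_eq_fixed hp2 hγ hB (u := t) (ht ▸ hαx.1)).2 (ht ▸ hαx)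
  refine le_antisymm (fun z hzc => ?_) (Subgroup.zpowers_le.2 h.c_mem)
  obtain ⟨k, hk, -, -⟩ := hz ⟨z, hzc.1⟩ hzc
  have hw : z * c ^ k ∈ U := by
    refine ⟨mul_mem hzc (zpow_mem h.c_mem k), fun t ht => ?_⟩
    rw [show t = ⟨z, hzc.1⟩ * (⟨c, h.c_mem_S⟩ : S) ^ k from Subtype.ext (by
      rw [ht, Subgroup.coe_mul, SubgroupClass.coe_zpow]), map_mul, map_zpow]
    refine Subtype.ext ?_
    rw [Subgroup.coe_mul, SubgroupClass.coe_zpow, hk, hγ.2.1 ⟨c, h.c_mem_S⟩ rfl,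
      Subgroup.coe_mul, SubgroupClass.coe_zpow, inv_zpow, ← zpow_neg, mul_assoc, ← zpow_add]
    congr 2
    ring
  rw [eq_bot_of_normal hcore hU, Subgroup.mem_bot] at hw
  rw [eq_inv_of_mul_eq_one_left hw]
  exact inv_mem ⟨k, rfl⟩

include hcore in
/-- For odd `p` every element has order dividing `p`. -/
theorem pow_eq_one (hp2 : p ≠ 2) {s : Ω} (hs : s ∈ S) : s ^ p = 1 := by
  obtain ⟨A, B, hA, hB, hne⟩ := h.exists_pair hcore
  obtain ⟨a, ha, b, hb, rfl⟩ := h.exists_mul hA hB hne hs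
  set t := ⁅b, a⁆ with ht
  have htc : t ∈ Subgroup.zpowers c := h.comm b (hB.le hb) a (hA.le ha)
  have htz : t ∈ ctr S := Subgroup.zpowers_le.2 h.c_mem htc
  have hta : Commute t a := (h.ctr_comm htz (hA.le ha)).symm
  have htb : Commute t b := (h.ctr_comm htz (hB.le hb)).symm
  have hswap : ∀ n : ℕ, b ^ n * a = t ^ n * a * b ^ n := by
    intro n
    induction n with
    | zero => simp
    | succ n ih =>
      calc b ^ (n + 1) * a = b ^ n * (b * a) := by rw [pow_succ, mul_assoc]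
        _ = b ^ n * (t * (a * b)) := by rw [ht, commutatorElement_def]; group
        _ = t * (b ^ n * a) * b := by
          rw [← mul_assoc, ← (htb.pow_right n).eq]; simp only [mul_assoc]
        _ = t ^ (n + 1) * a * b ^ (n + 1) := by
          rw [ih, pow_succ', pow_succ]; simp only [mul_assoc]
  have hpow : ∀ n : ℕ, (a * b) ^ n = t ^ n.choose 2 * (a ^ n * b ^ n) := by
    intro n
    induction n with
    | zero => simp
    | succ n ih =>
      calc (a * b) ^ (n + 1) = t ^ n.choose 2 * a ^ n * (b ^ n * a) * b := by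
            rw [pow_succ, ih]; simp only [mul_assoc]
        _ = t ^ n.choose 2 * a ^ n * (t ^ n * a * b ^ n) * b := by rw [hswap]
        _ = t ^ n.choose 2 * (t ^ n * a ^ n) * (a * b ^ n) * b := by
            rw [← ((hta.pow_left n).pow_right n).symm.eq]; simp only [mul_assoc]
        _ = t ^ (n + 1).choose 2 * (a ^ (n + 1) * b ^ (n + 1)) := by
            rw [Nat.choose_succ_succ', Nat.choose_one_right, add_comm n, pow_add, pow_succ,
              pow_succ]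
            simp only [mul_assoc]
  rw [hpow, h.moves_pow hcore hA ha, h.moves_pow hcore hB hb, mul_one, mul_one]
  obtain ⟨q, hq⟩ := (Fact.out : p.Prime).dvd_choose_self (k := 2) (by norm_num)
    (lt_of_le_of_ne (Fact.out : p.Prime).two_le hp2.symm)
  rw [hq, pow_mul]
  obtain ⟨i, hi⟩ := htc
  rw [show t = c ^ i from hi.symm, ← zpow_natCast (c ^ i), ← zpow_mul, mul_comm, zpow_mul,
    zpow_natCast, ← h.c_order,
    pow_orderOf_eq_one, one_zpow, one_pow]

end SmallCenter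

end Cfsg.Agent.Lib.Fusion
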