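import Cfsg.Agent.Lib.Fusion.SmallCenterSetup

/-!
Core-free saturated systems on a 2-group whose centre has index 4 and whose hyperfocal subgroup is
the whole group: the group has order 8.
-/

set_option autoImplicit false
set_option linter.unusedSectionVars false

namespace Cfsg.Agent.Lib.Fusion

open Cfsg Cfsg.FusionSystem
open scoped commutatorElement

variable {Ω : Type*} [Group Ω] {S : Subgroup Ω} [Finite S] [Fact (Nat.Prime 2)]
  {F : FusionSystem S} {c : Ω}

theorem mul_self_of_pow {x : Ω} (h : x ^ 2 = 1) : x * x = 1 := by rwa [← pow_two]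

namespace SmallCenter

variable (h : SmallCenter F 2 c)
include h

theorem c_sq : c * c = 1 := mul_self_of_pow (by rw [← h.c_order]; exact pow_orderOf_eq_one c)

theorem c_ne_one : c ≠ 1 := fun e => by have := h.c_order; rw [e, orderOf_one] at this; omega

theorem mem_two {t : Ω} (ht : t ∈ Subgroup.zpowers c) : t = 1 ∨ t = c := by
  obtain ⟨k, rfl⟩ := ht
  show c ^ k = 1 ∨ c ^ k = c
  rw [← zpow_mod_orderOf, h.c_order]
  rcases Int.emod_two_eq_zero_or_one k with e | e
  · left; simp [e]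
  · right; simp [e]

variable {A : Subgroup Ω} (hA : MovesCenter F 2 A)
include hA

theorem invol_apply {x : MulAut A} (hx : x ∈ autInducedBy S A) (hx1 : x ≠ 1) (a : A) :
    ((a : Ω) ∈ ctr S → x a = a) ∧ ((a : Ω) ∉ ctr S → x a = a * ⟨c, h.cA_mem hA⟩) := by
  refine ⟨fun ha => h.induced_fix hA hx ha, fun ha => ?_⟩
  rcases h.mem_two (h.induced_move hA hx a) with e | e
  · exact absurd (h.induced_fix_iff hA hx hx1 (Subtype.ext (mul_inv_eq_one.1 e))) ha
  · refine Subtype.ext ?_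
    rw [mul_inv_eq_iff_eq_mul.1 e, Subgroup.coe_mul]
    exact h.commute hA (h.cA_mem hA) a.2

theorem induced_eq {x r : MulAut A} (hx : x ∈ autInducedBy S A) (hx1 : x ≠ 1)
    (hr : r ∈ autInducedBy S A) (hr1 : r ≠ 1) : r = x := by
  refine MulEquiv.ext fun a => ?_
  by_cases ha : (a : Ω) ∈ ctr S
  · rw [(h.invol_apply hA hx hx1 a).1 ha, (h.invol_apply hA hr hr1 a).1 ha]
  · rw [(h.invol_apply hA hx hx1 a).2 ha, (h.invol_apply hA hr hr1 a).2 ha]

theorem invol_sq {x : MulAut A} (hx : x ∈ autInducedBy S A) (hx1 : x ≠ 1) : x * x = 1 := by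
  have hc : ∀ a : A, x (x a) = a := fun a => by
    by_cases ha : (a : Ω) ∈ ctr S
    · rw [(h.invol_apply hA hx hx1 a).1 ha, (h.invol_apply hA hx hx1 a).1 ha]
    · rw [(h.invol_apply hA hx hx1 a).2 ha, map_mul, (h.invol_apply hA hx hx1 a).2 ha,
        (h.invol_apply hA hx hx1 ⟨c, h.cA_mem hA⟩).1 h.c_mem, mul_assoc]
      exact mul_eq_left.2 (Subtype.ext h.c_sq)
  exact MulEquiv.ext hc

/-- Two distinct conjugates of the induced involution move each other's centres. -/
theorem conj_move {x : MulAut A} (hx : x ∈ autInducedBy S A) (hx1 : x ≠ 1) {g₁ g₂ : MulAut A}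
    (h₁ : g₁ ∈ F.autGroup A) (h₂ : g₂ ∈ F.autGroup A) (hne : g₁ * x * g₁⁻¹ ≠ g₂ * x * g₂⁻¹) :
    (g₁ * x * g₁⁻¹) (g₂ ⟨c, h.cA_mem hA⟩) =
      g₂ ⟨c, h.cA_mem hA⟩ * g₁ ⟨c, h.cA_mem hA⟩ := by
  set cA : A := ⟨c, h.cA_mem hA⟩
  set g := g₁⁻¹ * g₂ with hg
  have hgG : g ∈ F.autGroup A := mul_mem (inv_mem h₁) h₂
  have hgx : g * x * g⁻¹ ≠ x := fun e => hne (by
    have := congrArg (fun t => g₁ * t * g₁⁻¹) e
    simp only [hg] at this
    rw [← this]
    group)
  have hmv : ∃ a : A, (a : Ω) ∈ ctr S ∧ ((g a : A) : Ω) ∉ ctr S := by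
    by_contra hno
    push Not at hno
    have hno' : ∀ a : A, (a : Ω) ∈ ctr S → ((g⁻¹ a : A) : Ω) ∈ ctr S := fun a ha => by
      by_contra hm
      obtain ⟨b, hb, hgb⟩ := h.moves_inv hA ⟨a, ha, hm⟩
      rw [inv_inv] at hgb
      exact hgb (hno b hb)
    have h1 : ∀ a, ∃ k : ℤ, x a = a * cA ^ k := fun a => by
      have := h.conj_transvection hA hx 1 a
      simpa using this
    have hc := h.commute_of_fix hA h1 (h.conj_transvection hA hx g)
      (h.induced_fix hA hx (hno cA h.c_mem)) (by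
        show g (x (g⁻¹ cA)) = cA
        rw [h.induced_fix hA hx (hno' cA h.c_mem), MulAut.apply_inv_self])
    exact hgx (h.induced_eq hA hx hx1 (h.conj_mem_of_commute hA hx hx1 hgG hc)
      fun e => hx1 (conj_eq_one_iff.1 e))
  have h2 : x (g cA) = g cA * cA := (h.invol_apply hA hx hx1 _).2 (h.moves_c hA hgG hmv)
  show g₁ (x (g cA)) = _
  rw [h2, map_mul]
  show g₁ (g₁⁻¹ (g₂ cA)) * g₁ cA = _
  rw [MulAut.apply_inv_self]

/-- The structure of the automorphisms of `A`: modulo automorphisms extending to `S`, they move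
elements along `⟨c, d⟩` and fix the core of the centre pointwise. -/
theorem aut_two : ∃ d : A, (d : Ω) ∉ ctr S ∧
    (∀ z : Ω, z ∈ ctr S → z ∈ ctrCore F A ∨ z * c ∈ ctrCore F A) ∧
    ∀ g ∈ F.autGroup A, ∃ n : MulAut A, ∃ γ ∈ F.autGroup S,
      (∀ a : A, ((n⁻¹ (g a) : A) : Ω) = ((γ ⟨a, hA.le a.2⟩ : S) : Ω)) ∧
      (∀ a : A, (a : Ω)⁻¹ * ((n a : A) : Ω) ∈ Subgroup.closure {c, (d : Ω)}) ∧
      ∀ a : A, (a : Ω) ∈ ctrCore F A → n a = a := by
  obtain ⟨x, hx, hx1⟩ := h.exists_induced hA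
  obtain ⟨g₀, hg₀, hmv⟩ := hA.moves
  set cA : A := ⟨c, h.cA_mem hA⟩
  set d := g₀ cA with hd
  have hdc : (d : Ω) ∉ ctr S := h.moves_c hA hg₀ hmv
  have hxG : x ∈ F.autGroup A := autInducedBy_le_autGroup F hA.le hx
  have hx2 := h.invol_sq hA hx hx1
  have hxinv : x⁻¹ = x := inv_eq_of_mul_eq_one_left hx2
  have hcA1 : cA ≠ 1 := fun e => h.c_ne_one (congrArg Subtype.val e)
  have hAc : ∀ a b : A, a * b = b * a := fun a b => Subtype.ext (h.commute hA a.2 b.2)
  set y := g₀ * x * g₀⁻¹ with hy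
  have hyd : y d = d := by
    show g₀ (x (g₀⁻¹ (g₀ cA))) = g₀ cA
    rw [MulAut.inv_apply_self, h.induced_fix hA hx h.c_mem]
  have hxy : x ≠ y := fun e => hdc (h.induced_fix_iff hA hx hx1 (by rw [e]; exact hyd))
  have hyG : y ∈ F.autGroup A := mul_mem (mul_mem hg₀ hxG) (inv_mem hg₀)
  have hy2 : y * y = 1 := by
    rw [hy, show g₀ * x * g₀⁻¹ * (g₀ * x * g₀⁻¹) = g₀ * (x * x) * g₀⁻¹ by group, hx2]
    group
  set w := x * y * x with hw
  have hwe : (x * g₀) * x * (x * g₀)⁻¹ = w := by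
    rw [hw, hy, mul_inv_rev, hxinv]; simp only [mul_assoc]
  have hdd : d * d = 1 := by
    rw [hd, ← map_mul, show cA * cA = 1 from Subtype.ext h.c_sq, map_one]
  have hxd : x d = d * cA := (h.invol_apply hA hx hx1 d).2 hdc
  -- only three conjugates
  have hthree : ∀ g ∈ F.autGroup A, g * x * g⁻¹ = x ∨ g * x * g⁻¹ = y ∨ g * x * g⁻¹ = w := by
    intro g hg
    by_contra hno
    push Not at hno
    obtain ⟨hn1, hn2, hn3⟩ := hno
    set z := g * x * g⁻¹
    have e1 : z cA = cA * g cA := by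
      exact h.conj_move hA hx hx1 hg (Subgroup.one_mem _) (by simpa using hn1)
    have e2 : z d = d * g cA := h.conj_move hA hx hx1 hg hg₀ hn2
    have e3 := h.conj_move hA hx hx1 hg (mul_mem hxG hg₀) (by rw [hwe]; exact hn3)
    change z (x (g₀ cA)) = x (g₀ cA) * g cA at e3
    have hge : g cA * g cA = 1 := by
      rw [← map_mul, show cA * cA = 1 from Subtype.ext h.c_sq, map_one]
    rw [← hd, hxd, map_mul, e1, e2, mul_assoc d, ← mul_assoc (g cA), hAc (g cA) cA,
      mul_assoc cA, hge, mul_one, left_eq_mul] at e3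
    exact hcA1 ((MulEquiv.map_eq_one_iff g).1 e3)
  have hyxy : y * x * y = w := by
    have e : y * x * y = y * x * y⁻¹ := by rw [inv_eq_of_mul_eq_one_left hy2]
    rcases hthree y hyG with h1 | h1 | h1
    · -- commuting conjugates coincide
      have hc : Commute x (g₀ * x * g₀⁻¹) := (mul_inv_eq_iff_eq_mul.1 h1).symm
      exact absurd (h.induced_eq hA hx hx1 (h.conj_mem_of_commute hA hx hx1 hg₀ hc)
        fun e => hx1 (conj_eq_one_iff.1 e)).symm hxy
    · exact absurd (mul_left_cancel (mul_inv_eq_iff_eq_mul.1 h1)) hxy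
    · rw [e]; exact h1
  -- fixed points in the centre
  have hcore : ∀ a : A, (a : Ω) ∈ ctr S → y a = a → (a : Ω) ∈ ctrCore F A := by
    intro a ha hya
    refine ⟨ha, a.2, fun g hg => h.induced_fix_iff hA hx hx1 ?_⟩
    have hfix : (g⁻¹ * x * g) a = a := by
      have hxa : x a = a := h.induced_fix hA hx ha
      rcases hthree _ (inv_mem hg) with h1 | h1 | h1 <;> rw [inv_inv] at h1 <;> rw [h1]
      · exact hxa
      · exact hya
      · show x (y (x a)) = a
        rw [hxa, hya, hxa]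
    have := congrArg g hfix
    rwa [show (g⁻¹ * x * g) a = g⁻¹ (x (g a)) from rfl, MulAut.apply_inv_self] at this
  have hfixcore : ∀ a : A, (a : Ω) ∈ ctrCore F A → x a = a ∧ y a = a := by
    intro a ha
    refine ⟨h.induced_fix hA hx ha.1, ?_⟩
    show g₀ (x (g₀⁻¹ a)) = a
    rw [h.induced_fix hA hx (ha.2.2 _ (inv_mem hg₀)), MulAut.apply_inv_self]
  have hyc : y cA = cA * d := by
    exact h.conj_move hA hx hx1 hg₀ (Subgroup.one_mem _)
      (fun e => hxy (by simpa using e.symm))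
  refine ⟨d, hdc, fun z hz => ?_, fun g hg => ?_⟩
  · set a : A := ⟨z, hA.ctr_le hz⟩
    by_cases hya : y a = a
    · exact Or.inl (hcore a hz hya)
    · refine Or.inr (hcore (a * cA) (mul_mem hz h.c_mem) ?_)
      have hga : ((g₀⁻¹ a : A) : Ω) ∉ ctr S := fun hm => hya (by
        show g₀ (x (g₀⁻¹ a)) = a
        rw [h.induced_fix hA hx hm, MulAut.apply_inv_self])
      have : y a = a * d := by
        show g₀ (x (g₀⁻¹ a)) = a * d
        rw [(h.invol_apply hA hx hx1 _).2 hga, map_mul, MulAut.apply_inv_self, hd]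
      rw [map_mul, this, hyc, mul_assoc, ← mul_assoc d, hAc d cA, mul_assoc cA, hdd, mul_one]
  · let D : Subgroup Ω := Subgroup.closure {c, (d : Ω)}
    let N : Subgroup (MulAut A) :=
      { carrier := {n | (∀ a : A, (a : Ω)⁻¹ * ((n a : A) : Ω) ∈ D) ∧
          ∀ a : A, (a : Ω) ∈ ctrCore F A → n a = a}
        one_mem' := ⟨fun a => by simp, fun a _ => rfl⟩
        mul_mem' := fun {m n} hm hn => ⟨fun a => by
            have := D.mul_mem (hn.1 a) (hm.1 (n a))
            rwa [mul_assoc, mul_inv_cancel_left] at this,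
          fun a ha => by show m (n a) = a; rw [hn.2 a ha, hm.2 a ha]⟩
        inv_mem' := fun {n} hn => ⟨fun a => by
            have := D.inv_mem (hn.1 (n⁻¹ a))
            rwa [MulAut.apply_inv_self, mul_inv_rev, inv_inv] at this,
          fun a ha => by
            conv_lhs => rw [← hn.2 a ha]
            exact MulAut.inv_apply_self _ n a⟩ }
    have hxN : x ∈ N := ⟨fun a => by
      by_cases ha : (a : Ω) ∈ ctr S
      · rw [h.induced_fix hA hx ha, inv_mul_cancel]; exact D.one_mem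
      · rw [(h.invol_apply hA hx hx1 a).2 ha, Subgroup.coe_mul, inv_mul_cancel_left]
        exact Subgroup.subset_closure (Or.inl rfl), fun a ha => (hfixcore a ha).1⟩
    have hyN : y ∈ N := ⟨fun a => by
      show (a : Ω)⁻¹ * ((g₀ (x (g₀⁻¹ a)) : A) : Ω) ∈ D
      by_cases ha : ((g₀⁻¹ a : A) : Ω) ∈ ctr S
      · rw [h.induced_fix hA hx ha, MulAut.apply_inv_self, inv_mul_cancel]; exact D.one_mem
      · rw [(h.invol_apply hA hx hx1 _).2 ha, map_mul, MulAut.apply_inv_self, Subgroup.coe_mul,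
          inv_mul_cancel_left]
        exact Subgroup.subset_closure (Or.inr rfl), fun a ha => (hfixcore a ha).2⟩
    obtain ⟨n, hn, hnG, hnx⟩ : ∃ n ∈ N, n ∈ F.autGroup A ∧ n * x * n⁻¹ = g * x * g⁻¹ := by
      rcases hthree g hg with h1 | h1 | h1 <;> rw [h1]
      · exact ⟨1, N.one_mem, Subgroup.one_mem _, by simp⟩
      · refine ⟨w, mul_mem (mul_mem hxN hyN) hxN, mul_mem (mul_mem hxG hyG) hxG, ?_⟩
        calc w * x * w⁻¹ = x * (y * x * y⁻¹) * x⁻¹ := by rw [hw]; group
          _ = x * (x * y * x) * x := by rw [inv_eq_of_mul_eq_one_left hy2, hyxy, hxinv, hw]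
          _ = (x * x) * y * (x * x) := by simp only [mul_assoc]
          _ = y := by rw [hx2, one_mul, mul_one]
      · exact ⟨y, hyN, hyG, by rw [inv_eq_of_mul_eq_one_left hy2]; exact hyxy⟩
    set k := n⁻¹ * g with hk
    have hkG : k ∈ F.autGroup A := mul_mem (inv_mem hnG) hg
    have hkx : k * x * k⁻¹ = x := by
      rw [hk, show n⁻¹ * g * x * (n⁻¹ * g)⁻¹ = n⁻¹ * (g * x * g⁻¹) * n by group, ← hnx]
      group
    obtain ⟨-, hrec⟩ := IsSaturated.automized_receptive h.pgroup h.sat (h.fullyNormalized hA)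
    have hi := F.injective_of_mem (autHom_mem F hA.le hkG)
    obtain ⟨ψ, hψ, hext⟩ := hrec.2 A (autHom k) (autHom_mem F hA.le hkG) (range_autHom _)
    have hle : S ≤ extender S A (autHom k) := fun s hs => by
      have hsN : s ∈ normalizerIn S A := by rw [h.normalizer_eq hA]; exact hs
      rw [mem_extender_iff_congr hi (range_autHom _) hsN,
        show isoOf (autHom k) hi (range_autHom _) = k from MulEquiv.ext fun _ => rfl]
      have h1 := conjAut_mem_autInducedBy (K := S) hsN.1 hsN.2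
      show k * conjAut hsN.2 * k⁻¹ ∈ autInducedBy S A
      by_cases he : conjAut hsN.2 = 1
      · rw [he, mul_one, mul_inv_cancel]; exact Subgroup.one_mem _
      · rw [h.induced_eq hA hx hx1 h1 he, hkx]; exact hx
    have hψ' : restr hle ψ ∈ F.Hom S := restr_mem F hψ hle
    have hrange : (restr hle ψ).range = S := Subgroup.eq_of_le_of_card_ge (range_le hψ')
      (card_range_eq (F.injective_of_mem hψ')).ge
    refine ⟨n, isoOf _ (F.injective_of_mem hψ') hrange, mem_autGroup_of_hom F hψ', fun a => ?_,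
      hn.1, hn.2⟩
    exact (hext (a : Ω) a.2 _).symm

omit hA

variable (hcore : F.core = ⊥)
include hcore

theorem only_two {A B C : Subgroup Ω} (hA : MovesCenter F 2 A) (hB : MovesCenter F 2 B)
    (hne : A ≠ B) (hC : MovesCenter F 2 C) : C = A ∨ C = B := by
  by_contra hno
  push Not at hno
  obtain ⟨a, ha, hac⟩ := h.exists_not_mem hA
  obtain ⟨b, hb, hbc⟩ := h.exists_not_mem hB
  have hpar : ∀ {e : Ω}, e * e = 1 → ∀ j : ℤ, e ^ j = 1 ∨ e ^ j = e := by
    intro e he j
    rcases Int.even_or_odd' j with ⟨i, rfl | rfl⟩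
    · left; rw [zpow_mul, zpow_two, he, one_zpow]
    · right; rw [zpow_add, zpow_mul, zpow_two, he, one_zpow, one_mul, zpow_one]
  have ha2 := mul_self_of_pow (h.moves_pow hcore hA ha)
  have hb2 := mul_self_of_pow (h.moves_pow hcore hB hb)
  have hform : ∀ s ∈ S, s ∈ A ∨ s ∈ B ∨ ∃ z ∈ ctr S, s = z * (a * b) := by
    intro s hs
    obtain ⟨u, hu, v, hv, rfl⟩ := h.exists_mul hA hB hne hs
    obtain ⟨z, hz, i, rfl⟩ := h.decomp hA ha hac hu
    obtain ⟨z', hz', j, rfl⟩ := h.decomp hB hb hbc hv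
    rcases hpar ha2 i with e | e <;> rw [e]
    · exact Or.inr (Or.inl (B.mul_mem (B.mul_mem (hB.ctr_le hz) B.one_mem)
        (B.mul_mem (hB.ctr_le hz') (B.zpow_mem hb j))))
    · rcases hpar hb2 j with e' | e' <;> rw [e']
      · exact Or.inl (A.mul_mem (A.mul_mem (hA.ctr_le hz) ha)
          (A.mul_mem (hA.ctr_le hz') A.one_mem))
      · refine Or.inr (Or.inr ⟨z * z', mul_mem hz hz', ?_⟩)
        calc z * a * (z' * b) = z * (a * z') * b := by simp only [mul_assoc]
          _ = z * (z' * a) * b := by rw [h.ctr_comm hz' (hA.le ha)]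
          _ = z * z' * (a * b) := by simp only [mul_assoc]
  have hab : a * b ∈ C := by
    obtain ⟨e, he, hec⟩ := h.exists_not_mem hC
    rcases hform e (hC.le he) with he' | he' | ⟨z, hz, he'⟩
    · exact absurd (h.inf_eq hC hA hno.1 he he') hec
    · exact absurd (h.inf_eq hC hB hno.2 he he') hec
    · have := C.mul_mem (C.inv_mem (hC.ctr_le hz)) he
      rwa [he', inv_mul_cancel_left] at this
  have hsq : ∀ s ∈ S, s * s = 1 := fun s hs => mul_self_of_pow (by
    rcases hform s hs with hs' | hs' | ⟨z, hz, rfl⟩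
    · exact h.moves_pow hcore hA hs'
    · exact h.moves_pow hcore hB hs'
    · exact h.moves_pow hcore hC (C.mul_mem (hC.ctr_le hz) hab))
  obtain ⟨u, hu, v, hv, huv⟩ := h.exists_commutator
  apply huv
  rw [commutatorElement_def, inv_eq_of_mul_eq_one_left (hsq u hu),
    inv_eq_of_mul_eq_one_left (hsq v hv), mul_assoc (u * v), hsq _ (S.mul_mem hu hv)]

/-- With hyperfocal subgroup everything, the order is 8. -/
theorem card_eq_eight (hhyp : F.hyperfocalSubgroup 2 = S) : Nat.card S = 8 ∧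
    ∃ A B, MovesCenter F 2 A ∧ MovesCenter F 2 B ∧ A ≠ B := by
  obtain ⟨A, B, hA, hB, hne⟩ := h.exists_pair hcore
  refine ⟨?_, A, B, hA, hB, hne⟩
  obtain ⟨dA, hdA, hidxA, hautA⟩ := h.aut_two hA
  obtain ⟨dB, hdB, hidxB, hautB⟩ := h.aut_two hB
  have himg : ∀ {γ : MulAut S}, γ ∈ F.autGroup S → ∀ C, MovesCenter F 2 C →
      img (autHom γ) C = A ∨ img (autHom γ) C = B := fun hγ C hC =>
    h.only_two hcore hA hB hne (h.transport hC hγ).1
  have hinj : ∀ {γ : MulAut S}, img (autHom γ) A ≠ img (autHom γ) B := by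
    intro γ e
    refine hne (le_antisymm ?_ ?_)
    · intro a ha
      obtain ⟨b, hbS, hb, hb'⟩ := mem_img.1 (e.le (apply_mem_img (autHom γ) ⟨a, hA.le ha⟩ ha))
      cases γ.injective (Subtype.ext hb' : γ ⟨b, hbS⟩ = γ ⟨a, hA.le ha⟩)
      exact hb
    · intro a ha
      obtain ⟨b, hbS, hb, hb'⟩ := mem_img.1 (e.ge (apply_mem_img (autHom γ) ⟨a, hB.le ha⟩ ha))
      cases γ.injective (Subtype.ext hb' : γ ⟨b, hbS⟩ = γ ⟨a, hB.le ha⟩)
      exact hb
  -- the common core is normal
  have hperm : ∀ {γ : MulAut S}, γ ∈ F.autGroup S → ∀ u : S, (u : Ω) ∈ ctrCore F A ⊓ ctrCore F B →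
      ((γ u : S) : Ω) ∈ ctrCore F A ⊓ ctrCore F B := by
    intro γ hγ u hu
    have h1 := (h.transport hA hγ).2 u hu.1
    have h2 := (h.transport hB hγ).2 u hu.2
    rcases himg hγ A hA with e | e <;> rcases himg hγ B hB with e' | e'
    · exact absurd (e.trans e'.symm) hinj
    · exact ⟨e ▸ h1, e' ▸ h2⟩
    · exact ⟨e' ▸ h2, e ▸ h1⟩
    · exact absurd (e.trans e'.symm) hinj
  have hV : ctrCore F A ⊓ ctrCore F B = ⊥ := by
    refine eq_bot_of_normal hcore (normal_of_mapsTo h.pgroup h.sat fun P hP => ?_)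
    rcases hP with rfl | hP
    · exact ⟨fun u hu => hu.1.1.1, fun α hα x hx => hperm hα x hx⟩
    · have hPM := h.movesCenter_of_essential hP
      refine ⟨fun u hu => hPM.ctr_le hu.1.1, fun g hg x hx => ?_⟩
      rcases h.only_two hcore hA hB hne hPM with e | e <;> subst e
      · obtain ⟨n, γ, hγ, hgγ, -, hnfix⟩ := hautA g hg
        have h1 := hperm hγ ⟨x, hA.le x.2⟩ hx
        rw [← hgγ x] at h1
        have h2 := hnfix _ h1.1
        rw [MulAut.apply_inv_self] at h2
        rwa [h2]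
      · obtain ⟨n, γ, hγ, hgγ, -, hnfix⟩ := hautB g hg
        have h1 := hperm hγ ⟨x, hB.le x.2⟩ hx
        rw [← hgγ x] at h1
        have h2 := hnfix _ h1.2
        rw [MulAut.apply_inv_self] at h2
        rwa [h2]
  have hsmall : ∀ u₁ u₂ : Ω, u₁ ∈ ctrCore F A → u₂ ∈ ctrCore F A → u₁ ≠ 1 → u₂ ≠ 1 → u₁ = u₂ := by
    intro u₁ u₂ h₁ h₂ n₁ n₂
    have key : ∀ u, u ∈ ctrCore F A → u ≠ 1 → u * c ∈ ctrCore F B := fun u hu hu1 =>
      (hidxB u hu.1).resolve_left fun hb => hu1 (Subgroup.mem_bot.1 (hV.le ⟨hu, hb⟩))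
    have hm := mul_mem (key u₁ h₁ n₁) (key u₂ h₂ n₂)
    rw [show u₁ * c * (u₂ * c) = u₁ * u₂ by
      rw [mul_assoc u₁, ← mul_assoc c, h.ctr_comm h₂.1 h.c_mem_S, mul_assoc u₂, h.c_sq,
        mul_one]] at hm
    have h3 : u₁ * u₂ = 1 := Subgroup.mem_bot.1 (hV.le ⟨mul_mem h₁ h₂, hm⟩)
    rw [eq_inv_of_mul_eq_one_left h3,
      inv_eq_of_mul_eq_one_left (mul_self_of_pow (h.ctr_pow hcore h₂.1))]
  -- automorphisms of `S` are inner
  have hfixc : ∀ (γ : MulAut S) (t : S), (t : Ω) = c → γ t = t := by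
    intro γ t ht
    rcases h.mem_two (h.aut_zpowers (γ := γ) (t := t) (ht.symm ▸ Subgroup.mem_zpowers c)) with e | e
    · have h1 : t = 1 := (MulEquiv.map_eq_one_iff γ).1 (Subtype.ext e)
      rw [h1] at ht
      exact absurd ht.symm h.c_ne_one
    · exact Subtype.ext (e.trans ht.symm)
  have hsq : ∀ {γ : MulAut S}, γ ∈ F.autGroup S → img (autHom γ) A = A → γ * γ = 1 := by
    intro γ hγ hγA
    have hγB : img (autHom γ) B = B := (himg hγ B hB).resolve_left fun e =>
      hinj (hγA.trans e.symm)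
    have hfixcore : ∀ u : S, (u : Ω) ∈ ctrCore F A → γ u = u := by
      intro u hu
      by_cases hu1 : (u : Ω) = 1
      · rw [show u = 1 from Subtype.ext hu1, map_one]
      · have h1 := (h.transport hA hγ).2 u hu
        rw [hγA] at h1
        exact Subtype.ext (hsmall _ _ h1 hu (fun e => hu1 (congrArg Subtype.val
          ((MulEquiv.map_eq_one_iff γ).1 (Subtype.ext e)))) hu1)
    have hfixZ : ∀ z : S, (z : Ω) ∈ ctr S → γ z = z := by
      intro z hz
      rcases hidxA z hz with e | e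
      · exact hfixcore z e
      · have h1 := hfixcore ⟨(z : Ω) * c, S.mul_mem z.2 h.c_mem_S⟩ e
        rw [show (⟨(z : Ω) * c, S.mul_mem z.2 h.c_mem_S⟩ : S) = z * ⟨c, h.c_mem_S⟩ from rfl,
          map_mul, hfixc γ ⟨c, h.c_mem_S⟩ rfl] at h1
        exact mul_right_cancel h1
    have hfix2 : ∀ {C : Subgroup Ω}, MovesCenter F 2 C → img (autHom γ) C = C →
        ∀ a : S, (a : Ω) ∈ C → γ (γ a) = a := by
      intro C hC hγC a ha
      by_cases hac : (a : Ω) ∈ ctr S
      · rw [hfixZ a hac, hfixZ a hac]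
      · have h1 : ((γ a : S) : Ω) ∈ C := hγC.le (apply_mem_img (autHom γ) a ha)
        obtain ⟨z, hz, k, hk⟩ := h.decomp hC ha hac h1
        have ha2 := mul_self_of_pow (h.moves_pow hcore hC ha)
        rcases Int.even_or_odd' k with ⟨i, rfl | rfl⟩
        · rw [zpow_mul, zpow_two, ha2, one_zpow, mul_one] at hk
          have := aut_ctr (γ := γ⁻¹) (z := γ a) (hk ▸ hz)
          rw [MulAut.inv_apply_self] at this
          exact absurd this hac
        · rw [zpow_add, zpow_mul, zpow_two, ha2, one_zpow, one_mul, zpow_one] at hk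
          have e : γ a = ⟨z, hz.1⟩ * a := Subtype.ext hk
          rw [e, map_mul, hfixZ _ hz, e, ← mul_assoc]
          exact mul_eq_right.2 (Subtype.ext (mul_self_of_pow (h.ctr_pow hcore hz)))
    refine MulEquiv.ext fun s => ?_
    obtain ⟨a, ha, b, hb, hs⟩ := h.exists_mul hA hB hne s.2
    show γ (γ s) = s
    rw [show s = ⟨a, hA.le ha⟩ * ⟨b, hB.le hb⟩ from Subtype.ext hs, map_mul, map_mul,
      hfix2 hA hγA _ ha, hfix2 hB hγB _ hb]
  have htop : ∀ α ∈ F.autGroup S, ∀ s : S, (s : Ω)⁻¹ * ((α s : S) : Ω) ∈ Subgroup.zpowers c := by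
    intro α hα s
    have h2 : img (autHom (α * α)) A = A := by
      have hcomp : ∀ C, img (autHom (α * α)) C = img (autHom α) (img (autHom α) C) := by
        intro C
        ext t
        rw [mem_img, mem_img]
        constructor
        · rintro ⟨u, hu, huC, rfl⟩
          exact ⟨α ⟨u, hu⟩, (α ⟨u, hu⟩).2, apply_mem_img (autHom α) ⟨u, hu⟩ huC, rfl⟩
        · rintro ⟨u, hu, hu', rfl⟩
          obtain ⟨v, hv, hvC, e⟩ := mem_img.1 hu'
          subst e
          exact ⟨v, hv, hvC, rfl⟩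
      rw [hcomp]
      rcases himg hα A hA with e | e <;> rw [e]
      · exact e
      · rcases himg hα B hB with e' | e'
        · exact e'
        · exact absurd (e.trans e'.symm) hinj
    have h4 := hsq (mul_mem hα hα) h2
    have hin : (⟨α, hα⟩ : F.autGroup S) ∈ (Inn S).subgroupOf (F.autGroup S) :=
      mem_of_pow_mem_top h.pgroup h.sat le_rfl (k := 2) (by
        rw [show (⟨α, hα⟩ : F.autGroup S) ^ (2 ^ 2) = 1 from Subtype.ext (by
          show α ^ (2 ^ 2) = 1
          rw [show (2 : ℕ) ^ 2 = 2 + 2 from rfl, pow_add, pow_two]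
          exact h4)]
        exact Subgroup.one_mem _)
    rw [Subgroup.mem_subgroupOf, ← autInducedBy_self, mem_autInducedBy] at hin
    obtain ⟨g, hg, hgv⟩ := hin
    rw [hgv s, inv_mul_conj_eq]
    exact h.comm _ (S.inv_mem s.2) _ hg
  -- the focal subgroup
  set M := Subgroup.closure ({c, (dA : Ω), (dB : Ω)} : Set Ω)
  have hcM : Subgroup.zpowers c ≤ M := Subgroup.zpowers_le.2 (Subgroup.subset_closure (Or.inl rfl))
  have hSM : ⁅S, S⁆ ≤ M := Subgroup.commutator_le.2 fun a ha b hb => hcM (h.comm a ha b hb)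
  have hle : F ≤ cosetSystem F M hSM := alperin h.pgroup h.sat _ fun P hP α hα => by
    rcases hP with rfl | hP
    · exact mem_autGroup_of_hom _ ⟨autHom_mem F le_rfl hα, fun x => hcM (htop α hα x)⟩
    · have hPM := h.movesCenter_of_essential hP
      refine mem_autGroup_of_hom _ ⟨autHom_mem F hPM.le hα, fun x => ?_⟩
      rcases h.only_two hcore hA hB hne hPM with e | e <;> subst e
      · obtain ⟨n, γ, hγ, hgγ, hn, -⟩ := hautA α hα
        have h1 := hcM (htop γ hγ ⟨x, hA.le x.2⟩)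
        rw [← hgγ x] at h1
        have h2 := M.mul_mem h1 (Subgroup.closure_mono (by
          intro t ht; rcases ht with rfl | rfl <;> simp) (hn (n⁻¹ (α x))))
        rw [MulAut.apply_inv_self, mul_assoc, mul_inv_cancel_left] at h2
        exact h2
      · obtain ⟨n, γ, hγ, hgγ, hn, -⟩ := hautB α hα
        have h1 := hcM (htop γ hγ ⟨x, hB.le x.2⟩)
        rw [← hgγ x] at h1
        have h2 := M.mul_mem h1 (Subgroup.closure_mono (by
          intro t ht; rcases ht with rfl | rfl <;> simp) (hn (n⁻¹ (α x))))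
        rw [MulAut.apply_inv_self, mul_assoc, mul_inv_cancel_left] at h2
        exact h2
  have hSleM : S ≤ M := hhyp ▸ (hyperfocal_le_focal F 2).trans ((Subgroup.closure_le _).2 (by
    rintro _ ⟨P, φ, x, hφ, rfl⟩
    exact (hle P hφ).2 x))
  have hc2 : ∀ {C : Subgroup Ω}, MovesCenter F 2 C → ∀ {e : Ω}, e ∈ C →
      Nat.card (Subgroup.zpowers e) ≤ 2 := fun hC e he => by
    rw [Nat.card_zpowers]
    exact Nat.le_of_dvd two_pos (orderOf_dvd_of_pow_eq_one (h.moves_pow hcore hC he))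
  set T₁ := Subgroup.zpowers c ⊔ Subgroup.zpowers (dA : Ω) with hT1
  have hT1A : T₁ ≤ A := sup_le (Subgroup.zpowers_le.2 (h.cA_mem hA))
    (Subgroup.zpowers_le.2 dA.2)
  have := finite_of_le (hT1A.trans hA.le)
  have hn1 : Subgroup.zpowers (dA : Ω) ≤ Subgroup.normalizer (Subgroup.zpowers c : Set Ω) := by
    have := finite_of_le (Subgroup.zpowers_le.2 h.c_mem_S)
    refine Subgroup.zpowers_le.2 (mem_normalizer_of_finite fun t ht => ?_)
    rw [h.ctr_comm (Subgroup.zpowers_le.2 h.c_mem ht) (hA.le dA.2), mul_inv_cancel_right]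
    exact ht
  have hn2 : Subgroup.zpowers (dB : Ω) ≤ Subgroup.normalizer (T₁ : Set Ω) := by
    refine Subgroup.zpowers_le.2 (mem_normalizer_of_finite fun t ht => ?_)
    obtain ⟨u, hu, e⟩ := h.conj_eq (hB.le dB.2) (hA.le (hT1A ht))
    rw [e]
    exact T₁.mul_mem (le_sup_left (a := Subgroup.zpowers c) hu) ht
  have hcard1 : Nat.card T₁ ≤ 4 := by
    rw [← SetLike.coe_sort_coe, hT1, Subgroup.coe_mul_of_right_le_normalizer_left _ _ hn1]
    exact Set.natCard_mul_le.trans
      (Nat.mul_le_mul (hc2 hA (h.cA_mem hA)) (hc2 hA dA.2) : _ ≤ 2 * 2)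
  have hMle : M ≤ T₁ ⊔ Subgroup.zpowers (dB : Ω) := by
    refine (Subgroup.closure_le _).2 ?_
    rintro _ (rfl | rfl | rfl)
    · exact Subgroup.mem_sup_left (Subgroup.mem_sup_left (Subgroup.mem_zpowers _))
    · exact Subgroup.mem_sup_left (Subgroup.mem_sup_right (Subgroup.mem_zpowers _))
    · exact Subgroup.mem_sup_right (Subgroup.mem_zpowers _)
  have hX : T₁ ⊔ Subgroup.zpowers (dB : Ω) ≤ S :=
    sup_le (hT1A.trans hA.le) (Subgroup.zpowers_le.2 (hB.le dB.2))
  have hSX : S = T₁ ⊔ Subgroup.zpowers (dB : Ω) := le_antisymm (hSleM.trans hMle) hX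
  have hle8 : Nat.card S ≤ 8 := by
    rw [← SetLike.coe_sort_coe, congrArg (SetLike.coe) hSX,
      Subgroup.coe_mul_of_right_le_normalizer_left _ _ hn2]
    exact Set.natCard_mul_le.trans (Nat.mul_le_mul hcard1 (hc2 hB dB.2) : _ ≤ 4 * 2)
  have h2 : 2 ≤ Nat.card (ctr S) := by
    have := h.ctr_finite
    have h3 := Subgroup.card_le_of_le (Subgroup.zpowers_le.2 h.c_mem)
    rwa [Nat.card_zpowers, h.c_order] at h3
  have := h.card
  omega

end SmallCenter

end Cfsg.Agent.Lib.Fusion
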