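import Cfsg.Agent.Lib.Fusion.NormalCriteria
import Cfsg.Prelude.Def_PLocal
import Cfsg.Agent.Lib.PGroups.Subnormal
import Mathlib.RingTheory.Nilpotent.Basic
import Mathlib.Algebra.Group.Subgroup.Finite

/-!
Powers of the centre in systems on `p`-groups of small nilpotency class.
-/

set_option autoImplicit false
set_option linter.unusedSectionVars false

namespace Cfsg.Agent.Lib.Fusion

open Cfsg Cfsg.FusionSystem
open scoped commutatorElement IsMulCommutative

/-- A unipotent element of order `p` is trivial on `p^n`-multiples when its class is small. -/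
theorem prime_pow_mul_eq_zero {R : Type*} [Ring R] {p : ℕ} (hp : p.Prime) (D : R) {n : ℕ}
    (h1 : (1 + D) ^ p = 1) (hD : D ^ (n * (p - 1) + 1) = 0) : (p : R) ^ n * D = 0 := by
  obtain ⟨q, rfl⟩ : ∃ q, p = q + 2 := ⟨p - 2, by have := hp.two_le; omega⟩
  set r : R := ∑ i ∈ Finset.range q, D ^ i * (((q + 2).choose (i + 2) / (q + 2) : ℕ) : R)
  have hexp : (1 + D) ^ (q + 2) = 1 + ((q + 2 : ℕ) : R) * D * (1 + D * r) + D ^ (q + 2) := by
    rw [add_comm 1 D, (Commute.one_right D).add_pow, Finset.sum_range_succ,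
      Finset.sum_range_succ', Finset.sum_range_succ']
    simp only [one_pow, mul_one, pow_zero, Nat.choose_zero_right, Nat.cast_one, Nat.choose_self,
      zero_add, pow_one, Nat.choose_one_right]
    have hterm : ∀ i ∈ Finset.range q, D ^ (i + 1 + 1) * (((q + 2).choose (i + 1 + 1) : ℕ) : R) =
        ((q + 2 : ℕ) : R) * D * (D * (D ^ i * (((q + 2).choose (i + 2) / (q + 2) : ℕ) : R))) := by
      intro i hi
      rw [Finset.mem_range] at hi
      obtain ⟨k, hk⟩ := hp.dvd_choose_self (k := i + 2) (by omega) (by omega)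
      rw [show i + 1 + 1 = i + 2 from rfl, hk, Nat.mul_div_cancel_left _ (by omega), Nat.cast_mul,
        ← mul_assoc, ← (Nat.cast_commute (q + 2) (D ^ (i + 2))).eq, mul_assoc,
        show i + 2 = 2 + i by omega, pow_add, pow_two]
      simp only [mul_assoc]
    rw [Finset.sum_congr rfl hterm, ← Finset.mul_sum, ← Finset.mul_sum,
      (Nat.cast_commute (q + 2) D).eq, mul_add, mul_one]
    abel
  have hu : IsUnit (1 + D * r) := by
    refine IsNilpotent.isUnit_one_add ((Commute.sum_right _ _ _ fun i _ => ?_).isNilpotent_mul_right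
      ⟨_, hD⟩)
    exact ((Commute.refl D).pow_right i).mul_right (Nat.cast_commute _ D).symm
  obtain ⟨u, hu⟩ := hu
  have hstep : ((q + 2 : ℕ) : R) * D = D ^ (q + 2) * (-(u⁻¹ : Rˣ) : R) := by
    rw [h1, add_assoc, left_eq_add, ← hu] at hexp
    calc ((q + 2 : ℕ) : R) * D = ((q + 2 : ℕ) : R) * D * u * (u⁻¹ : Rˣ) := by
          rw [mul_assoc, Units.mul_inv, mul_one]
      _ = -(D ^ (q + 2)) * (u⁻¹ : Rˣ) := by rw [eq_neg_of_add_eq_zero_left hexp]
      _ = _ := by rw [neg_mul, mul_neg]
  have key : ∀ k : ℕ, ∃ v : R, ((q + 2 : ℕ) : R) ^ k * D = D ^ (k * (q + 1) + 1) * v := by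
    intro k
    induction k with
    | zero => exact ⟨1, by simp⟩
    | succ k ih =>
      obtain ⟨v, hv⟩ := ih
      refine ⟨(-(u⁻¹ : Rˣ) : R) * v, ?_⟩
      rw [pow_succ', mul_assoc, hv, ← mul_assoc, pow_succ, ← mul_assoc,
        (Nat.cast_commute (q + 2) (D ^ (k * (q + 1)))).eq, mul_assoc (D ^ (k * (q + 1))), hstep,
        ← mul_assoc (D ^ (k * (q + 1))), ← pow_add, mul_assoc]
      congr 2
      ring
  obtain ⟨v, hv⟩ := key n
  rw [hv, show n * (q + 1) + 1 = n * (q + 2 - 1) + 1 by rw [show q + 2 - 1 = q + 1 from rfl], hD,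
    zero_mul]

/-- The same for automorphisms of abelian groups. -/
theorem fix_pow_of_unipotent {A : Type*} [CommGroup A] {p : ℕ} (hp : p.Prime) (g : MulAut A)
    {n : ℕ} (hg : g ^ p = 1)
    (hnil : ∀ a : A, (fun b => g b / b)^[n * (p - 1) + 1] a = 1) (a : A) :
    g (a ^ p ^ n) = a ^ p ^ n := by
  let e : AddMonoid.End (Additive A) := MonoidHom.toAdditive g.toMonoidHom
  set D : AddMonoid.End (Additive A) := e - 1
  have hpow : ∀ (k : ℕ) (x : A), Additive.toMul ((e ^ k) (Additive.ofMul x)) = (g ^ k) x := by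
    intro k
    induction k with
    | zero => exact fun x => rfl
    | succ k ih =>
      intro x
      rw [pow_succ', pow_succ', MulAut.mul_apply, ← ih]
      rfl
  have h1 : (1 + D) ^ p = 1 := by
    rw [add_sub_cancel]
    refine DFunLike.ext _ _ fun x => ?_
    obtain ⟨x, rfl⟩ := Additive.ofMul.surjective x
    refine Additive.toMul.injective ?_
    rw [hpow, hg]
    rfl
  have hDk : ∀ (k : ℕ) (x : A),
      Additive.toMul ((D ^ k) (Additive.ofMul x)) = (fun b => g b / b)^[k] x := by
    intro k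
    induction k with
    | zero => exact fun x => rfl
    | succ k ih =>
      intro x
      rw [pow_succ', Function.iterate_succ_apply', ← ih]
      rfl
  have hD : D ^ (n * (p - 1) + 1) = 0 := by
    refine DFunLike.ext _ _ fun x => ?_
    obtain ⟨x, rfl⟩ := Additive.ofMul.surjective x
    refine Additive.toMul.injective ?_
    rw [hDk, hnil]
    rfl
  have h2 := congrArg (fun f : AddMonoid.End (Additive A) => f (Additive.ofMul a))
    (prime_pow_mul_eq_zero hp D h1 hD)
  simp only [← Nat.cast_pow] at h2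
  change (p ^ n : ℕ) • D (Additive.ofMul a) = 0 at h2
  have h3 : (g a / a) ^ p ^ n = 1 := congrArg Additive.toMul h2
  rw [map_pow]
  rwa [div_pow, div_eq_one] at h3

variable {Ω : Type*} [Group Ω] {S : Subgroup Ω}

theorem map_lowerCentralSeries_top (S : Subgroup Ω) (k : ℕ) :
    (Subgroup.lowerCentralSeries (⊤ : Subgroup ↥S) k).map S.subtype =
      Subgroup.lowerCentralSeries S k := by
  induction k with
  | zero => rw [Subgroup.lowerCentralSeries_zero, Subgroup.lowerCentralSeries_zero,
      ← MonoidHom.range_eq_map, Subgroup.range_subtype]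
  | succ k ih => rw [Subgroup.lowerCentralSeries_succ, Subgroup.lowerCentralSeries_succ,
      Subgroup.map_commutator, ih, ← MonoidHom.range_eq_map, Subgroup.range_subtype]

variable [Finite S] {F : FusionSystem S} {p : ℕ} [Fact p.Prime]

/-- The automorphism induced on the centre. -/
def centerAut (P : Subgroup Ω) : MulAut P →* MulAut (Subgroup.center P) where
  toFun α :=
    { toFun := fun a => ⟨α a, Subgroup.mem_center_iff.2 fun x => by
        have := Subgroup.mem_center_iff.1 a.2 (α.symm x)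
        have h := congrArg α this
        rwa [map_mul, map_mul, MulEquiv.apply_symm_apply] at h⟩
      invFun := fun a => ⟨α.symm a, Subgroup.mem_center_iff.2 fun x => by
        have := Subgroup.mem_center_iff.1 a.2 (α x)
        have h := congrArg α.symm this
        rwa [map_mul, map_mul, MulEquiv.symm_apply_apply] at h⟩
      left_inv := fun a => Subtype.ext (α.symm_apply_apply _)
      right_inv := fun a => Subtype.ext (α.apply_symm_apply _)
      map_mul' := fun a b => Subtype.ext (map_mul α (a : P) b) }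
  map_one' := rfl
  map_mul' _ _ := rfl

/-- For small class the `p^n`-th powers of central elements form a normal subgroup. -/
theorem isNormal_powerClosure_center (hS : IsPGroup p S) (hF : F.IsSaturated p) (n : ℕ)
    (hcl : Subgroup.lowerCentralSeries S (n * (p - 1) + 1) = ⊥) :
    F.IsNormal (powerClosure p n (S ⊓ Subgroup.centralizer (S : Set Ω))) := by
  have hp := (Fact.out : p.Prime)
  set V := powerClosure p n (S ⊓ Subgroup.centralizer (S : Set Ω))
  have hVz : V ≤ S ⊓ Subgroup.centralizer (S : Set Ω) := (Subgroup.closure_le _).2 (by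
    rintro _ ⟨x, hx, rfl⟩
    exact Subgroup.pow_mem _ hx _)
  have hVS : V ≤ S := hVz.trans inf_le_left
  have := finite_of_le hVS
  have hcm : ∀ v ∈ V, ∀ s ∈ S, s * v = v * s := fun v hv s hs => (hVz hv).2 s hs
  have hN : normalizerIn S V = S := by
    refine le_antisymm (normalizerIn_le S V) fun s hs => ⟨hs, mem_normalizer_of_finite fun v hv => ?_⟩
    rw [hcm v hv s hs, mul_inv_cancel_right]
    exact hv
  have hpre : ∀ α : MulAut S, ∀ v : S, (v : Ω) ∈ V → ((α v : S) : Ω) ∈ V := by
    intro α v hv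
    have h1 : V ≤ ((V.subgroupOf S).comap α.toMonoidHom).map S.subtype := by
      refine (Subgroup.closure_le _).2 ?_
      rintro _ ⟨x, hx, rfl⟩
      refine ⟨⟨x, hx.1⟩ ^ p ^ n, ?_, rfl⟩
      show α (⟨x, hx.1⟩ ^ p ^ n) ∈ V.subgroupOf S
      rw [map_pow]
      refine Subgroup.subset_closure ⟨(α ⟨x, hx.1⟩ : S), ⟨(α ⟨x, hx.1⟩).2, fun s hs => ?_⟩,
        SubmonoidClass.coe_pow _ _⟩
      have h2 : α.symm ⟨s, hs⟩ * ⟨x, hx.1⟩ = ⟨x, hx.1⟩ * α.symm ⟨s, hs⟩ :=
        Subtype.ext (hx.2 _ (α.symm ⟨s, hs⟩).2)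
      have h3 := congrArg α h2
      rw [map_mul, map_mul, MulEquiv.apply_symm_apply] at h3
      exact congrArg Subtype.val h3
    obtain ⟨w, hw, hwv⟩ := h1 hv
    rwa [show w = v from Subtype.ext hwv] at hw
  let E := recast (normalizerSystem F V hVS) hN
  have hmk : ∀ {P : Subgroup Ω}, P ≤ S → V ≤ P → ∀ α ∈ F.autGroup P,
      (∀ v : P, (v : Ω) ∈ V → ((α v : P) : Ω) ∈ V) → α ∈ E.autGroup P := by
    intro P hPS hVP α hα hinv
    have hα' := autHom_mem F hPS hα
    refine mem_autGroup_of_hom E ⟨hα', hN.symm ▸ hPS, fun x => hN.symm ▸ apply_mem hα' x,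
      restr (sup_le le_rfl hVP) (autHom α), restr_mem F hα' _, fun x => rfl, ?_⟩
    show img (restr (sup_le le_rfl hVP) (autHom α)) V = V
    rw [img_restr (sup_le le_rfl hVP) _ le_sup_right]
    refine Subgroup.eq_of_le_of_card_ge ?_ (card_img (F.injective_of_mem hα') hVP).ge
    intro y hy
    obtain ⟨z, hzP, hz, rfl⟩ := mem_img.1 hy
    exact hinv ⟨z, hzP⟩ hz
  have hle : F ≤ E := by
    refine alperin_ind hS hF E (fun α hα => hmk le_rfl hVS α hα fun v hv => hpre α v hv) ?_
    intro P hP hbig α hα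
    obtain ⟨hPc, hPn, -⟩ := id hP
    have hPS := hPc.1
    have := finite_mulAut hPS
    have hVP : V ≤ P := fun v hv => hPc.2 P (isConj_refl F hPS)
      (mem_centralizerIn.2 ⟨hVS hv, fun s hs => hcm v hv s (hPS hs)⟩)
    refine hmk hPS hVP α hα ?_
    obtain ⟨hfa, hrec⟩ := IsSaturated.automized_receptive hS hF hPn
    obtain ⟨-, T, hT⟩ := hfa
    let act : (F.autGroup P) →* MulAut (Subgroup.center P) := (centerAut P).comp (F.autGroup P).subtype
    let K : Subgroup (F.autGroup P) :=
      { carrier := {g | ∀ a, act g (a ^ p ^ n) = a ^ p ^ n}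
        one_mem' := fun a => rfl
        mul_mem' := fun {g h} hg hh a => by rw [map_mul, MulAut.mul_apply, hh, hg]
        inv_mem' := fun {g} hg a => by
          rw [map_inv]
          conv_lhs => rw [← hg a]
          exact MulAut.inv_apply_self _ (act g) _ }
    have : K.Normal := ⟨fun k hk g a => by
      rw [map_mul, map_mul, map_inv, MulAut.mul_apply, MulAut.mul_apply, map_pow (act g)⁻¹, hk,
        ← map_pow (act g)⁻¹, MulAut.apply_inv_self]⟩
    -- an element of `T ∩ K` outside `Inn P`
    have hlt := IsEssential.lt hF hS hP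
    obtain ⟨t, htT, htK, htI⟩ : ∃ t : (F.autGroup P), t ∈ (T : Subgroup (F.autGroup P)) ∧ t ∈ K ∧ (t : MulAut P) ∉ Inn P := by
      obtain ⟨s, hs, hsP⟩ := SetLike.exists_of_lt (lt_normalizerIn hS hlt)
      set t₀ : (F.autGroup P) := ⟨conjAut hs.2, conjAut_mem_autGroup F hPS hs.1 hs.2⟩
      have ht₀ : t₀ ∈ (T : Subgroup (F.autGroup P)) := by
        rw [hT]
        exact Subgroup.mem_subgroupOf.2 (conjAut_mem_autInducedBy (K := S) hs.1 hs.2)
      have ht₀I : (t₀ : MulAut P) ∉ Inn P := fun h => hsP (mem_of_conjAut_inn hPc hs h)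
      have hinn : ∀ t : (F.autGroup P), (t : MulAut P) ∈ Inn P → act t = 1 := by
        rintro t ⟨q, hq⟩
        refine MulEquiv.ext fun a => Subtype.ext ?_
        show (t : MulAut P) (a : P) = a
        rw [← hq]
        show q * (a : P) * q⁻¹ = a
        rw [Subgroup.mem_center_iff.1 a.2 q, mul_inv_cancel_right]
      by_cases hact : act t₀ = 1
      · exact ⟨t₀, ht₀, fun a => by rw [hact]; rfl, ht₀I⟩
      classical
      obtain ⟨k, hk⟩ := T.isPGroup' ⟨t₀, ht₀⟩
      have hk' : act (t₀ ^ p ^ k) = 1 := by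
        rw [show t₀ ^ p ^ k = 1 from congrArg Subtype.val hk, map_one]
      have hex : ∃ j, act (t₀ ^ p ^ j) = 1 := ⟨k, hk'⟩
      set j := Nat.find hex
      have hj0 : j ≠ 0 := fun e => hact (by
        have := Nat.find_spec hex
        rwa [show Nat.find hex = 0 from e, pow_zero, pow_one] at this)
      obtain ⟨i, hi⟩ : ∃ i, j = i + 1 := ⟨j - 1, by omega⟩
      have hi' : act (t₀ ^ p ^ i) ≠ 1 := Nat.find_min hex (by omega)
      have hspec : act (t₀ ^ p ^ i) ^ p = 1 := by
        rw [← map_pow, ← pow_mul, ← pow_succ, ← hi]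
        exact Nat.find_spec hex
      set t := t₀ ^ p ^ i
      have htT : t ∈ (T : Subgroup (F.autGroup P)) := Subgroup.pow_mem _ ht₀ _
      refine ⟨t, htT, fun a => fix_pow_of_unipotent hp (act t) hspec ?_ a, fun h => hi' (hinn t h)⟩
      rw [hT, Subgroup.mem_subgroupOf, mem_autInducedBy] at htT
      obtain ⟨g, hg, hgv⟩ := htT
      intro b
      suffices key : ∀ m, (((fun x => act t x / x)^[m] b : Subgroup.center P) : Ω) ∈
          Subgroup.lowerCentralSeries S m by
        exact Subtype.ext (Subtype.ext (Subgroup.mem_bot.1 (hcl ▸ key _)))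
      intro m
      induction m with
      | zero => exact hPS (b : P).2
      | succ m ih =>
        rw [Function.iterate_succ_apply', Subgroup.lowerCentralSeries_succ]
        generalize (fun x => act t x / x)^[m] b = w at ih ⊢
        rw [Subgroup.coe_div, div_eq_mul_inv, Subgroup.coe_mul, Subgroup.coe_inv,
          show (((act t w : Subgroup.center P) : P) : Ω) = g * ((w : P) : Ω) * g⁻¹ from hgv w,
          show g * ((w : P) : Ω) * g⁻¹ * ((w : P) : Ω)⁻¹ = ⁅g, ((w : P) : Ω)⁆ from rfl,
          Subgroup.commutator_comm]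
        exact Subgroup.commutator_mem_commutator hg ih
    -- Frattini argument
    let Q : Subgroup Ω :=
      { carrier := {s | ∃ hs : s ∈ normalizerIn S P,
          (⟨conjAut hs.2, conjAut_mem_autGroup F hPS hs.1 hs.2⟩ : (F.autGroup P)) ∈ K}
        one_mem' := ⟨one_mem _, by
          convert K.one_mem using 1
          refine Subtype.ext (MulEquiv.ext fun x => Subtype.ext ?_)
          show (1 : Ω) * x * (1 : Ω)⁻¹ = x
          group⟩
        mul_mem' := by
          rintro a b ⟨ha, ha'⟩ ⟨hb, hb'⟩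
          refine ⟨mul_mem ha hb, ?_⟩
          convert K.mul_mem ha' hb' using 1
          refine Subtype.ext (MulEquiv.ext fun x => Subtype.ext ?_)
          show a * b * x * (a * b)⁻¹ = a * (b * x * b⁻¹) * a⁻¹
          group
        inv_mem' := by
          rintro a ⟨ha, ha'⟩
          refine ⟨inv_mem ha, ?_⟩
          convert K.inv_mem ha' using 1
          refine eq_inv_of_mul_eq_one_left (Subtype.ext (MulEquiv.ext fun x => Subtype.ext ?_))
          show a⁻¹ * (a * x * a⁻¹) * a⁻¹⁻¹ = x
          group }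
    have hQN : Q ≤ normalizerIn S P := fun s hs => hs.1
    set TK := (T : Subgroup (F.autGroup P)) ⊓ K
    obtain ⟨TS, hTS⟩ : ∃ TS : Sylow p K, (TS : Subgroup K) = TK.subgroupOf K := by
      have hp' : IsPGroup p (TK.subgroupOf K) :=
        (T.isPGroup'.to_le inf_le_left).of_equiv (Subgroup.subgroupOfEquivOfLe inf_le_right).symm
      refine ⟨hp'.toSylow ?_, rfl⟩
      intro hdvd
      have h1 : (TK.subgroupOf K).index = TK.relIndex K := rfl
      rw [h1, show TK = (T : Subgroup (F.autGroup P)) ⊓ K from rfl, Subgroup.inf_relIndex_right] at hdvd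
      exact T.not_dvd_index (hdvd.trans (Lib.PGroups.relIndex_dvd_index_of_normal_right K _))
    have hmap : (TS : Subgroup K).map K.subtype = TK := by
      rw [hTS, Subgroup.map_subgroupOf_eq_of_le inf_le_right]
    have hfr := Sylow.normalizer_sup_eq_top TS
    rw [hmap] at hfr
    intro v hv
    obtain ⟨m, hm, k, hk, hmk'⟩ : ∃ m ∈ Subgroup.normalizer ((TK : Subgroup (F.autGroup P)) : Set (F.autGroup P)),
        ∃ k ∈ K, m * k = ⟨α, hα⟩ := by
      have h1 : (⟨α, hα⟩ : (F.autGroup P)) ∈ Subgroup.normalizer ((TK : Subgroup (F.autGroup P)) : Set (F.autGroup P)) ⊔ K :=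
        hfr.ge (Subgroup.mem_top _)
      rw [← SetLike.mem_coe, Subgroup.mul_normal] at h1
      obtain ⟨m, hm, k, hk, e⟩ := h1
      exact ⟨m, hm, k, hk, e⟩
    have hkfix : (k : MulAut P) v = v := by
      let Fx : Subgroup P :=
        { carrier := {w | (k : MulAut P) w = w}
          one_mem' := map_one _
          mul_mem' := fun {a b} ha hb => by show _ = _; rw [map_mul, ha, hb]
          inv_mem' := fun {a} ha => by show _ = _; rw [map_inv, ha] }
      have h1 : V ≤ Fx.map P.subtype := by
        refine (Subgroup.closure_le _).2 ?_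
        rintro _ ⟨x, hx, rfl⟩
        have hxP : x ∈ P := hPc.2 P (isConj_refl F hPS)
          (mem_centralizerIn.2 ⟨hx.1, fun s hs => hx.2 s (hPS hs)⟩)
        refine ⟨⟨x, hxP⟩ ^ p ^ n, ?_, rfl⟩
        exact congrArg Subtype.val (hk ⟨⟨x, hxP⟩, Subgroup.mem_center_iff.2 fun y =>
          Subtype.ext (hx.2 y (hPS y.2))⟩)
      obtain ⟨w, hw, hwv⟩ := h1 hv
      rwa [show w = v from Subtype.ext hwv] at hw
    rw [show α = ((m * k : (F.autGroup P)) : MulAut P) from (congrArg Subtype.val hmk').symm]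
    show (((m : MulAut P) ((k : MulAut P) v) : P) : Ω) ∈ V
    rw [hkfix]
    have hi := F.injective_of_mem (autHom_mem F hPS m.2)
    obtain ⟨ψ, hψ, hext⟩ := hrec.2 P (autHom (m : MulAut P)) (autHom_mem F hPS m.2) (range_autHom _)
    have hQext : Q ≤ extender S P (autHom (m : MulAut P)) := by
      rintro s ⟨hs, hsK⟩
      rw [mem_extender_iff_congr hi (range_autHom _) hs,
        show isoOf (autHom (m : MulAut P)) hi (range_autHom _) = (m : MulAut P) from
          MulEquiv.ext fun y => rfl]
      have h1 : (⟨conjAut hs.2, conjAut_mem_autGroup F hPS hs.1 hs.2⟩ : (F.autGroup P)) ∈ TK :=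
        ⟨by rw [SetLike.mem_coe, hT]
            exact Subgroup.mem_subgroupOf.2 (conjAut_mem_autInducedBy (K := S) hs.1 hs.2), hsK⟩
      have h2 := ((Subgroup.mem_normalizer_iff.1 hm _).1 h1).1
      rw [SetLike.mem_coe, hT] at h2
      exact Subgroup.mem_subgroupOf.1 h2
    have hPQ : P < Q := by
      have hQP : P ≤ Q := fun x hx => by
        have hxN : x ∈ normalizerIn S P := le_normalizerIn hPS hx
        refine ⟨hxN, fun a => Subtype.ext (Subtype.ext ?_)⟩
        show x * (((a ^ p ^ n : Subgroup.center P) : P) : Ω) * x⁻¹ = _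
        have h := congrArg Subtype.val (Subgroup.mem_center_iff.1 (a ^ p ^ n).2 ⟨x, hx⟩)
        rw [show x * (((a ^ p ^ n : Subgroup.center P) : P) : Ω) = _ from h]
        exact mul_inv_cancel_right _ _
      refine lt_of_le_of_ne hQP fun e => htI ?_
      rw [hT, Subgroup.mem_subgroupOf] at htT
      obtain ⟨g, hgn, hg, hgt⟩ := mem_autInducedBy_iff_conjAut.1 htT
      have hgQ : g ∈ Q := ⟨⟨hg, hgn⟩, by convert htK using 1; exact Subtype.ext hgt⟩
      have hgP : g ∈ P := e.ge hgQ
      rw [← hgt, inn_eq_autInducedBy]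
      exact conjAut_mem_autInducedBy (K := P) hgP hgn
    have hQS : Q ≤ S := hQN.trans (normalizerIn_le S P)
    have hcard : Nat.card P < Nat.card Q := by
      have := finite_of_le hQS
      by_contra hge
      exact hPQ.ne (Subgroup.eq_of_le_of_card_ge hPQ.le (not_lt.1 hge))
    obtain ⟨-, -, -, ψ', hψ', hψe, hψV⟩ := hbig Q hcard _ (restr_mem F hψ hQext)
    have h1 := hψV.le ⟨⟨(v : Ω), Subgroup.mem_sup_right hv⟩, hv, rfl⟩
    have h2 := hψe ⟨v, hPQ.le v.2⟩
    rw [show ψ' ⟨(v : Ω), Subgroup.mem_sup_right hv⟩ = ψ ⟨v, hQext (hPQ.le v.2)⟩ from h2,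
      hext (v : Ω) v.2 (hQext (hPQ.le v.2))] at h1
    exact h1
  refine ⟨hVS, fun P φ hφ => ?_⟩
  obtain ⟨-, -, -, hψ⟩ := hle P hφ
  exact hψ

/-- If the centre has exponent dividing `p^n`, the exponent grows by at most this in each step of
the upper central series. -/
theorem pow_eq_one_of_center_pow {G : Type*} [Group G] {m : ℕ}
    (hZ : ∀ z ∈ Subgroup.center G, z ^ m = 1) :
    ∀ (k : ℕ) (x : G), x ∈ Subgroup.upperCentralSeries G k → x ^ (m ^ k) = 1 := by
  have hstep : ∀ (k : ℕ) (x : G), x ∈ Subgroup.upperCentralSeries G (k + 1) →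
      x ^ m ∈ Subgroup.upperCentralSeries G k := by
    intro k
    induction k with
    | zero =>
      intro x hx
      rw [Subgroup.upperCentralSeries_zero, Subgroup.mem_bot]
      rw [Subgroup.upperCentralSeries_one] at hx
      exact hZ x hx
    | succ k ih =>
      intro x hx y
      haveI hNn : (Subgroup.upperCentralSeries G k).Normal := inferInstance
      show ⁅x ^ m, y⁆ ∈ Subgroup.upperCentralSeries G k
      let q := QuotientGroup.mk' (Subgroup.upperCentralSeries G k)
      have hd : ⁅x, y⁆ ∈ Subgroup.upperCentralSeries G (k + 1) := hx y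
      have hcq : ∀ w : G, q w * q ⁅x, y⁆ = q ⁅x, y⁆ * q w := fun w => by
        have := (QuotientGroup.eq_one_iff (N := Subgroup.upperCentralSeries G k) (⁅⁅x, y⁆, w⁆ : G)).2 (hd w)
        change q ⁅⁅x, y⁆, w⁆ = 1 at this
        rw [map_commutatorElement, commutatorElement_eq_one_iff_mul_comm] at this
        exact this.symm
      have hpow : ∀ j : ℕ, q ⁅x ^ j, y⁆ = q ⁅x, y⁆ ^ j := by
        intro j
        induction j with
        | zero => simp
        | succ j ihj =>
          rw [show ⁅x ^ (j + 1), y⁆ = x ^ j * ⁅x, y⁆ * (x ^ j)⁻¹ * ⁅x ^ j, y⁆ by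
            rw [pow_succ]; simp only [commutatorElement_def]; group, map_mul, map_mul, map_mul,
            hcq, map_inv, mul_inv_cancel_right, ihj, pow_succ']
      rw [← QuotientGroup.eq_one_iff]
      show q ⁅x ^ m, y⁆ = 1
      rw [hpow, ← map_pow]
      exact (QuotientGroup.eq_one_iff _).2 (ih _ hd)
  intro k
  induction k with
  | zero =>
    intro x hx
    rw [Subgroup.upperCentralSeries_zero, Subgroup.mem_bot] at hx
    rw [pow_zero, pow_one, hx]
  | succ k ih =>
    intro x hx
    rw [pow_succ', pow_mul]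
    exact ih _ (hstep k x hx)

/-- In a core-free system on a group of small class the exponent is bounded. -/
theorem exponent_dvd_of_core_eq_bot (hS : IsPGroup p S) (hF : F.IsSaturated p) (n : ℕ)
    (hcl : Subgroup.lowerCentralSeries S (n * (p - 1) + 1) = ⊥) (hcore : F.core = ⊥) :
    Monoid.exponent ↥S ∣ p ^ (n ^ 2 * (p - 1) + n) := by
  have hV := le_core (isNormal_powerClosure_center hS hF n hcl)
  rw [hcore, le_bot_iff] at hV
  have hZ : ∀ z ∈ Subgroup.center ↥S, z ^ p ^ n = 1 := fun z hz => Subtype.ext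
    (Subgroup.mem_bot.1 (hV.le (Subgroup.subset_closure ⟨z, ⟨z.2, fun s hs =>
      congrArg Subtype.val (Subgroup.mem_center_iff.1 hz ⟨s, hs⟩)⟩, SubmonoidClass.coe_pow z _⟩)))
  have htop : Subgroup.upperCentralSeries ↥S (n * (p - 1) + 1) = ⊤ := by
    rw [← Subgroup.lowerCentralSeries_eq_bot_iff_upperCentralSeries_eq_top]
    apply Subgroup.map_injective S.subtype_injective
    rw [map_lowerCentralSeries_top, hcl, Subgroup.map_bot]
  refine Monoid.exponent_dvd_of_forall_pow_eq_one fun x => ?_
  rw [show n ^ 2 * (p - 1) + n = n * (n * (p - 1) + 1) by ring, pow_mul]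
  exact pow_eq_one_of_center_pow hZ _ x (htop.ge (Subgroup.mem_top x))

end Cfsg.Agent.Lib.Fusion
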