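import Cfsg.Agent.Lib.Fusion.SmallExponent

/-!
Coprime automorphisms seen on cyclic subgroups of small order.
-/

set_option autoImplicit false
set_option linter.unusedSectionVars false

namespace Cfsg.Agent.Lib.Fusion

open Cfsg Cfsg.FusionSystem Cfsg.Agent.Lib.Involutions

variable {Ω : Type*} [Group Ω] {S : Subgroup Ω} [Finite S]

/-- The restriction of an automorphism to an invariant subgroup of a finite group. -/
noncomputable def restrictAut {G : Type*} [Group G] [Finite G] (β : MulAut G) (K : Subgroup G)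
    (h : ∀ x ∈ K, β x ∈ K) : MulAut K :=
  MulEquiv.ofBijective
    ({ toFun := fun x => ⟨β x, h x x.2⟩
       map_one' := Subtype.ext (map_one β)
       map_mul' := fun x y => Subtype.ext (map_mul β _ _) } : K →* K)
    (Finite.injective_iff_bijective.1 fun _ _ hab =>
      Subtype.ext (β.injective (congrArg Subtype.val hab)))

@[simp] theorem restrictAut_coe {G : Type*} [Group G] [Finite G] (β : MulAut G) (K : Subgroup G)
    (h : ∀ x ∈ K, β x ∈ K) (x : K) : (restrictAut β K h x : G) = β x := rfl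

theorem orderOf_restrictAut_dvd {G : Type*} [Group G] [Finite G] (β : MulAut G) (K : Subgroup G)
    (h : ∀ x ∈ K, β x ∈ K) : orderOf (restrictAut β K h) ∣ orderOf β := by
  refine orderOf_dvd_of_pow_eq_one ?_
  have hk : ∀ (k : ℕ) (x : K), (((restrictAut β K h) ^ k) x : G) = (β ^ k) x := by
    intro k
    induction k with
    | zero => exact fun x => rfl
    | succ k ih =>
      intro x
      rw [pow_succ', pow_succ', MulAut.mul_apply, MulAut.mul_apply, restrictAut_coe, ih x]
  ext x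
  rw [hk, pow_orderOf_eq_one, MulAut.one_apply, MulAut.one_apply]

variable {p : ℕ} [Fact p.Prime] {H : Subgroup Ω}

/-- A coprime automorphism of `P` moving within `H` and pushing the small elements of `P ∩ H` down
a series is trivial. -/
theorem eq_one_of_series_on (hS : IsPGroup p S) {P : Subgroup Ω} (hP : P ≤ S) (β : MulAut P)
    (hco : (orderOf β).Coprime p) (hmove : ∀ x : P, (x : Ω)⁻¹ * ((β x : P) : Ω) ∈ H)
    (U : ℕ → Subgroup Ω) (hU0 : U 0 = ⊥) (n : ℕ)
    (htop : ∀ x : P, (x : Ω) ∈ H → SmallOrder p (x : Ω) → (x : Ω) ∈ U n)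
    (hstep : ∀ x : P, (x : Ω) ∈ H → SmallOrder p (x : Ω) → ∀ i, (x : Ω) ∈ U (i + 1) →
      ((β x : P) : Ω) * (x : Ω)⁻¹ ∈ U i) : β = 1 := by
  classical
  have := finite_of_le hP
  have hPp : IsPGroup p P := isPGroup_of_le hS hP
  set N := H.subgroupOf P
  have hinv : ∀ x ∈ N, β x ∈ N := fun x hx => by
    have h1 : (x : Ω) * ((x : Ω)⁻¹ * ((β x : P) : Ω)) ∈ H := H.mul_mem hx (hmove x)
    rw [mul_inv_cancel_left] at h1
    exact h1
  have hsm : ∀ x : N, SmallOrder p x → SmallOrder p ((x : P) : Ω) := fun x hx => by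
    rw [smallOrder_iff] at hx ⊢
    exact congrArg (fun z : N => ((z : P) : Ω)) hx
  have h1 : restrictAut β N hinv = 1 := by
    refine mulAut_eq_one_of_series (hPp.to_subgroup N) _
      (hco.coprime_dvd_left (orderOf_restrictAut_dvd β N hinv))
      (fun i => ((U i).subgroupOf P).subgroupOf N) ?_ n (fun x hx => htop x x.2 (hsm x hx))
      fun x hx i hi => hstep x x.2 (hsm x hx) i hi
    simp [hU0]
  refine mulAut_eq_one_of_move hPp β hco N (fun x hx => ?_) fun x => hmove x
  exact congrArg (fun a : MulAut N => ((a ⟨x, hx⟩ : N) : P)) h1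

variable {F : FusionSystem S}

/-- If coprime automorphisms fix nothing but are trivial, the system is inner. -/
theorem eq_inner_of_small_cyclic (hS : IsPGroup p S) (hF : F.IsSaturated p)
    (h : ∀ (P : Subgroup Ω) (β : MulAut P), P ≤ S → β ∈ F.autGroup P →
      ∀ x : P, (x : Ω) ∈ F.hyperfocalSubgroup p → SmallOrder p (x : Ω) →
        ∃ s ∈ S, ((β x : P) : Ω) = s * (x : Ω) * s⁻¹) :
    F = innerFusionSystem S := by
  refine le_antisymm_hom (le_of_residual hS hF _ fun P hn α hα => ?_) (inner_le F)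
  have hP := hn.1
  suffices hk : pResidual p (F.autGroup P) ≤
      ((innerFusionSystem S).autGroup P).subgroupOf (F.autGroup P) from hk hα
  refine (Subgroup.closure_le _).2 ?_
  rintro ⟨β, hβ⟩ hco
  simp only [Set.mem_setOf_eq, Subgroup.orderOf_mk] at hco
  show β ∈ (innerFusionSystem S).autGroup P
  have hnil : Group.IsNilpotent S := hS.isNilpotent
  have h1 : β = 1 := by
    refine eq_one_of_series_on hS hP β hco (fun x => move_hyperfocal hP hβ hco x)
      (fun i => (Subgroup.upperCentralSeries S i).map S.subtype)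
      (by simp [Subgroup.upperCentralSeries_zero]) (Group.nilpotencyClass S)
      (fun x _ _ => ⟨⟨x, hP x.2⟩, ?_, rfl⟩) fun x hxH hx i hi => ?_
    · rw [Subgroup.upperCentralSeries_nilpotencyClass]
      exact Subgroup.mem_top _
    · obtain ⟨y, hy, hyx⟩ := hi
      obtain ⟨s, hs, he⟩ := h P β hP hβ x hxH hx
      have h2 := (Subgroup.mem_upperCentralSeries_succ_iff).1 hy ⟨s, hs⟩
      refine ⟨⟨s, hs⟩ * y * ⟨s, hs⟩⁻¹ * y⁻¹, ?_, ?_⟩
      · have h3 := Subgroup.inv_mem _ h2
        simpa [commutatorElement_def, mul_assoc] using h3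
      · rw [he, ← hyx]
        rfl
  rw [h1]
  exact Subgroup.one_mem _

theorem commute_of_normal_of_pow (hS : IsPGroup p S) {x s : Ω} (hs : s ∈ S)
    (h : s * x * s⁻¹ ∈ Subgroup.zpowers x) (hx : x ^ p = 1) : s * x * s⁻¹ = x := by
  obtain ⟨k, hk⟩ := Subgroup.mem_zpowers_iff.1 h
  obtain ⟨n, hn⟩ := IsPGroup.iff_orderOf.1 hS ⟨s, hs⟩
  have hit : ∀ m : ℕ, s ^ m * x * (s ^ m)⁻¹ = x ^ (k ^ m) := by
    intro m
    induction m with
    | zero => simp
    | succ m ih =>
      calc s ^ (m + 1) * x * (s ^ (m + 1))⁻¹ = s * (s ^ m * x * (s ^ m)⁻¹) * s⁻¹ := by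
            rw [pow_succ', mul_inv_rev]; simp only [mul_assoc]
        _ = x ^ (k ^ (m + 1)) := by rw [ih, ← conj_zpow, ← hk, ← zpow_mul, pow_succ']
  have h1 := hit (p ^ n)
  rw [← hn, ← Subgroup.orderOf_coe, pow_orderOf_eq_one, one_mul, inv_one, mul_one] at h1
  rw [Subgroup.orderOf_coe, hn] at h1
  have hd : (p : ℤ) ∣ k ^ (p ^ n) - k := by
    rw [← ZMod.intCast_zmod_eq_zero_iff_dvd]
    simp [ZMod.pow_card_pow]
  obtain ⟨c, hc⟩ := hd
  have h2 : x ^ (k ^ (p ^ n)) = x ^ k := by
    rw [show (k ^ (p ^ n) : ℤ) = (p : ℤ) * c + k by omega, zpow_add, zpow_mul, zpow_natCast, hx,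
      one_zpow, one_mul]
  rw [← hk, ← h2, ← h1]

/-- If the small elements of the focal subgroup generate normal subgroups of `S`, then `S` is
normal. -/
theorem normal_top_of_small_focal (hS : IsPGroup p S) (hF : F.IsSaturated p)
    (hnorm : ∀ x ∈ F.focalSubgroup, SmallOrder p x → ∀ s ∈ S, s * x * s⁻¹ ∈ Subgroup.zpowers x) :
    F.IsNormal S := by
  classical
  refine normal_of_stronglyClosed_of_le hS hF
    ⟨le_rfl, fun R _ φ hφ x => apply_mem hφ x⟩ fun P hP => ?_
  exfalso
  have hlt := IsEssential.lt hF hS hP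
  have hPS : P ≤ S := hlt.le
  have hrad := (IsEssential.radical hS hF hP).2
  have := finite_of_le hPS
  have := finite_mulAut hPS
  set H := F.focalSubgroup
  have hHS : H ≤ S := (Subgroup.closure_le _).2 (by
    rintro _ ⟨Q, φ, y, hφ, rfl⟩
    exact S.mul_mem (S.inv_mem (source_le hφ y.2)) (apply_mem hφ y))
  have hcent : ∀ {a : Ω}, a ∈ H → a ^ p = 1 → ∀ s ∈ S, s * a * s⁻¹ = a := fun {a} ha hap s hs =>
    commute_of_normal_of_pow hS hs (hnorm a ha (Or.inl hap) s hs) hap
  have hcomm : ∀ {a b : Ω}, a ∈ H → a ^ p = 1 → b ∈ S → Commute b a := fun {a b} ha hap hb =>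
    mul_inv_eq_iff_eq_mul.1 (hcent ha hap b hb)
  have hmem : ∀ β ∈ F.autGroup P, ∀ x : P, (x : Ω) ∈ H → ((β x : P) : Ω) ∈ H := fun β hβ x hx => by
    have h1 := H.mul_mem hx (focal_mem (autHom_mem F hPS hβ) x)
    rwa [mul_inv_cancel_left] at h1
  have hsmall : ∀ (β : MulAut P) (x : P), SmallOrder p (x : Ω) → SmallOrder p ((β x : P) : Ω) :=
    fun β x hx => by
      rw [smallOrder_iff] at hx ⊢
      have h1 : x ^ (if p = 2 then 4 else p) = 1 := Subtype.ext hx
      rw [← Subgroup.coe_pow, ← map_pow, h1, map_one, Subgroup.coe_one]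
  have hpow : ∀ (β : MulAut P) (x : P), (x : Ω) ^ p = 1 → ((β x : P) : Ω) ^ p = 1 := fun β x hx => by
    have h1 : x ^ p = 1 := Subtype.ext hx
    rw [← Subgroup.coe_pow, ← map_pow, h1, map_one, Subgroup.coe_one]
  let K : Subgroup (F.autGroup P) :=
    { carrier := {g | (∀ x : P, (x : Ω) ∈ H → (x : Ω) ^ p = 1 → (g : MulAut P) x = x) ∧
        ∀ x : P, (x : Ω) ∈ H → SmallOrder p (x : Ω) →
          ((((g : MulAut P) x : P) : Ω) * (x : Ω)⁻¹) ^ p = 1}
      one_mem' := ⟨fun _ _ _ => rfl, fun x _ _ => by simp⟩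
      mul_mem' := by
        rintro g h ⟨hg1, hg2⟩ ⟨hh1, hh2⟩
        refine ⟨fun x hx hxp => ?_, fun x hx hxs => ?_⟩
        · show (g : MulAut P) ((h : MulAut P) x) = x
          rw [hh1 x hx hxp, hg1 x hx hxp]
        · show ((((g : MulAut P) ((h : MulAut P) x) : P) : Ω) * (x : Ω)⁻¹) ^ p = 1
          set y := (h : MulAut P) x * x⁻¹ with hy
          have hyH : (y : Ω) ∈ H := H.mul_mem (hmem _ h.2 x hx) (H.inv_mem hx)
          have hyp : (y : Ω) ^ p = 1 := hh2 x hx hxs
          have e : (h : MulAut P) x = y * x := by rw [hy, inv_mul_cancel_right]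
          rw [e, map_mul, hg1 y hyH hyp, Subgroup.coe_mul, mul_assoc,
            ((hcomm hyH hyp (S.mul_mem (hPS ((g : MulAut P) x).2)
              (S.inv_mem (hPS x.2)))).symm).mul_pow, hyp, hg2 x hx hxs, one_mul]
      inv_mem' := by
        rintro g ⟨hg1, hg2⟩
        have h1 : ∀ x : P, (x : Ω) ∈ H → (x : Ω) ^ p = 1 →
            ((g⁻¹ : F.autGroup P) : MulAut P) x = x := fun x hx hxp => by
          show (g : MulAut P).symm x = x
          conv_lhs => rw [← hg1 x hx hxp]
          exact MulEquiv.symm_apply_apply _ x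
        refine ⟨h1, fun x hx hxs => ?_⟩
        set y := (g : MulAut P) x * x⁻¹ with hy
        have hyH : (y : Ω) ∈ H := H.mul_mem (hmem _ g.2 x hx) (H.inv_mem hx)
        have hyp : (y : Ω) ^ p = 1 := hg2 x hx hxs
        show ((((g : MulAut P).symm x : P) : Ω) * (x : Ω)⁻¹) ^ p = 1
        have e : (g : MulAut P).symm x = y⁻¹ * x := by
          refine (g : MulAut P).injective ?_
          rw [MulEquiv.apply_symm_apply, map_mul, map_inv, hg1 y hyH hyp, hy, mul_inv_rev, inv_inv,
            mul_assoc, inv_mul_cancel, mul_one]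
        rw [e, Subgroup.coe_mul, mul_inv_cancel_right, Subgroup.coe_inv, inv_pow, hyp, inv_one] }
  have hKn : K.Normal := by
    refine ⟨fun g ⟨hg1, hg2⟩ c => ⟨fun x hx hxp => ?_, fun x hx hxs => ?_⟩⟩
    · show (c : MulAut P) ((g : MulAut P) ((c : MulAut P).symm x)) = x
      have h1 : (g : MulAut P) ((c : MulAut P).symm x) = (c : MulAut P).symm x :=
        hg1 _ (hmem _ (inv_mem c.2) x hx) (hpow (c : MulAut P).symm x hxp)
      rw [h1, MulEquiv.apply_symm_apply]
    · show ((((c : MulAut P) ((g : MulAut P) ((c : MulAut P).symm x)) : P) : Ω) * (x : Ω)⁻¹) ^ p = 1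
      have h1 := hg2 _ (hmem _ (inv_mem c.2) x hx) (hsmall (c : MulAut P).symm x hxs)
      have h2 := hpow (c : MulAut P)
        ((g : MulAut P) ((c : MulAut P).symm x) * ((c : MulAut P).symm x)⁻¹) h1
      rw [map_mul, map_inv, MulEquiv.apply_symm_apply] at h2
      exact h2
  have hKp : IsPGroup p K := by
    rw [IsPGroup.iff_orderOf]
    intro g
    obtain ⟨k, m, hm, hN⟩ := Nat.exists_eq_pow_mul_and_not_dvd (orderOf_pos g).ne' p
      (Fact.out : p.Prime).ne_one
    refine ⟨k, ?_⟩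
    set b := g ^ p ^ k with hb
    have hbm : b ^ m = 1 := by rw [hb, ← pow_mul, ← hN, pow_orderOf_eq_one]
    have hbm' : ((b : F.autGroup P) : MulAut P) ^ m = 1 := by
      rw [← Subgroup.coe_pow, ← Subgroup.coe_pow, hbm, Subgroup.coe_one, Subgroup.coe_one]
    have hco : (orderOf ((b : F.autGroup P) : MulAut P)).Coprime p :=
      (((Fact.out : p.Prime).coprime_iff_not_dvd.2 hm).symm).coprime_dvd_left
        (orderOf_dvd_of_pow_eq_one hbm')
    have hb1 : ((b : F.autGroup P) : MulAut P) = 1 := by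
      obtain ⟨hb1, hb2⟩ := b.2
      refine eq_one_of_series_on (H := H) hS hPS _ hco
        (fun x => focal_mem (autHom_mem F hPS (b : F.autGroup P).2) x)
        (fun i => if i = 0 then ⊥ else if i = 1 then
          Subgroup.closure {a | a ∈ H ∧ a ^ p = 1} else ⊤)
        (if_pos rfl) 2 (fun x _ _ => by simp) fun x hx hxs i hi => ?_
      rcases i with _ | _ | i
      · simp only [zero_add, one_ne_zero, if_false, if_true] at hi
        have h3 : (x : Ω) ^ p = 1 := by
          refine (Subgroup.closure_induction (k := {a | a ∈ H ∧ a ^ p = 1})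
            (p := fun a _ => a ∈ H ∧ a ^ p = 1) (fun a ha => ha) ⟨H.one_mem, one_pow p⟩
            (fun a c _ _ ha hc => ⟨H.mul_mem ha.1 hc.1, by
              rw [(hcomm ha.1 ha.2 (hHS hc.1)).symm.mul_pow, ha.2, hc.2, one_mul]⟩)
            (fun a _ ha => ⟨H.inv_mem ha.1, by rw [inv_pow, ha.2, inv_one]⟩) hi).2
        simp [hb1 x hx h3]
      · simp only [Nat.zero_add, one_ne_zero, if_false, if_true]
        exact Subgroup.subset_closure
          ⟨H.mul_mem (hmem _ (b : F.autGroup P).2 x hx) (H.inv_mem hx), hb2 x hx hxs⟩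
      · simp
    have : b = 1 := Subtype.ext (Subtype.ext hb1)
    have h1 : orderOf g ∣ p ^ k := orderOf_dvd_of_pow_eq_one this
    exact Nat.dvd_antisymm h1 ⟨m, hN⟩
  have hTK : ∀ g ∈ normalizerIn S P, g ∈ P := by
    intro g hg
    refine mem_of_conjAut_inn hP.1 hg ?_
    have hgF := conjAut_mem_autGroup F hPS hg.1 hg.2
    have hin : (⟨conjAut hg.2, hgF⟩ : F.autGroup P) ∈ K := by
      refine ⟨fun x hx hxp => Subtype.ext (hcent hx hxp g hg.1), fun x hx hxs => ?_⟩
      show (g * (x : Ω) * g⁻¹ * (x : Ω)⁻¹) ^ p = 1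
      by_cases hxp : (x : Ω) ^ p = 1
      · rw [hcent hx hxp g hg.1, mul_inv_cancel, one_pow]
      obtain ⟨hp2, hx4⟩ := hxs.resolve_left hxp
      obtain ⟨k, hk⟩ := Subgroup.mem_zpowers_iff.1 (hnorm _ hx hxs g hg.1)
      rw [← hk]
      rcases Int.even_or_odd k with ⟨j, hj⟩ | ⟨j, hj⟩
      · exfalso
        apply hxp
        have h1 : (g * (x : Ω) * g⁻¹) ^ p = 1 := by
          rw [← hk, hp2, ← zpow_natCast, ← zpow_mul, hj,
            show ((j + j) * ((2 : ℕ) : ℤ)) = (4 : ℕ) * j by push_cast; ring, zpow_mul, zpow_natCast,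
            hx4, one_zpow]
        rw [conj_pow] at h1
        calc (x : Ω) ^ p = g⁻¹ * (g * (x : Ω) ^ p * g⁻¹) * g := by group
          _ = 1 := by rw [h1]; group
      · rw [← zpow_neg_one, ← zpow_add, hp2, ← zpow_natCast, ← zpow_mul, hj,
          show ((2 * j + 1 + -1) * ((2 : ℕ) : ℤ)) = (4 : ℕ) * j by push_cast; ring, zpow_mul,
          zpow_natCast, hx4, one_zpow]
    rw [← hrad]
    exact ⟨_, le_pCore_of_normal hKp hin, rfl⟩
  exact (lt_normalizerIn hS hlt).not_ge hTK

end Cfsg.Agent.Lib.Fusion
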