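import Cfsg.Agent.Lib.Fusion.SmallExponentBasic
import Cfsg.Agent.Lib.Fusion.KNormalizer
import Cfsg.Agent.Lib.Fusion.Hyperfocal
import Cfsg.Agent.Lib.Fusion.NormalCriteria

/-!
Small abelian subgroups control fusion (Benson–Grodal–Henke), relative to a strongly closed
subgroup catching the coprime automorphisms.
-/

set_option autoImplicit false
set_option linter.unusedSectionVars false

namespace Cfsg.Agent.Lib.Fusion

open Cfsg Cfsg.FusionSystem Cfsg.Agent.Lib.Involutions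

variable {Ω : Type*} [Group Ω] {S : Subgroup Ω} [Finite S]

/-- An abelian subgroup of `H` all of whose elements have small order. -/
def IsSmallAb (p : ℕ) (H A : Subgroup Ω) : Prop :=
  A ≤ H ∧ IsMulCommutative A ∧ ∀ a ∈ A, SmallOrder p a

/-- The maps extending over `A` by an element of `L`. -/
def localSystem (F : FusionSystem S) {A : Subgroup Ω} (hA : A ≤ S) (L : Subgroup (MulAut A))
    (T : Subgroup Ω) (hTS : T ≤ S)
    (hT : ∀ g ∈ T, ∃ l ∈ L, ∀ x : A, ((l x : A) : Ω) = g * (x : Ω) * g⁻¹) : FusionSystem T where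
  Hom P := {φ | φ ∈ F.Hom P ∧ P ≤ T ∧ (∀ x, φ x ∈ T) ∧
    ∃ ψ ∈ F.Hom (P ⊔ A), (∀ x : P, ψ (Subgroup.inclusion le_sup_left x) = φ x) ∧ ActsIn L ψ}
  le_of_mem h := ⟨h.2.1, h.2.2.1⟩
  injective_of_mem h := F.injective_of_mem h.1
  conj_mem {P g} hP hg := by
    refine ⟨F.conj_mem (hP.trans hTS) (hTS hg), hP,
      fun x => T.mul_mem (T.mul_mem hg (hP x.2)) (T.inv_mem hg), conjHom _ g,
      F.conj_mem (sup_le (hP.trans hTS) hA) (hTS hg), fun x => rfl, ?_⟩
    obtain ⟨l, hl, he⟩ := hT g hg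
    exact ⟨l, hl, fun x hxA hxP => (he ⟨x, hxA⟩).symm⟩
  comp_mem {P R φ ψ} hφ hψ h := by
    obtain ⟨hφF, hP, hφT, φ', hφ', hext, hact⟩ := hφ
    obtain ⟨hψF, hR, hψT, ψ', hψ', hext', hact'⟩ := hψ
    refine ⟨F.comp_mem hφF hψF h, hP, fun x => hψT _, ?_⟩
    obtain ⟨l, hl, hle⟩ := hact
    obtain ⟨l', hl', hle'⟩ := hact'
    have hmem : P ⊔ A ≤ Subgroup.map (P ⊔ A).subtype ((R ⊔ A).comap φ') := by
      refine sup_le (fun x hx => ?_) (fun x hx => ?_)
      · refine ⟨⟨x, Subgroup.mem_sup_left hx⟩, ?_, rfl⟩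
        show φ' _ ∈ R ⊔ A
        rw [show φ' ⟨x, Subgroup.mem_sup_left hx⟩ = φ ⟨x, hx⟩ from hext ⟨x, hx⟩]
        exact Subgroup.mem_sup_left (h _)
      · refine ⟨⟨x, Subgroup.mem_sup_right hx⟩, ?_, rfl⟩
        show φ' _ ∈ R ⊔ A
        rw [hle x hx]
        exact Subgroup.mem_sup_right (l ⟨x, hx⟩).2
    have h' : ∀ x, φ' x ∈ R ⊔ A := by
      intro x
      obtain ⟨y, hy, hyx⟩ := hmem x.2
      rw [← Subtype.ext (a1 := y) (a2 := x) hyx]
      exact hy
    refine ⟨compose φ' ψ' h', compose_mem F hφ' hψ' h', fun x => ?_,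
      l' * l, L.mul_mem hl' hl, fun x hxA hxP => ?_⟩
    · have e : (⟨φ' (Subgroup.inclusion le_sup_left x), h' _⟩ : ↥(R ⊔ A)) =
          Subgroup.inclusion le_sup_left ⟨φ x, h x⟩ := Subtype.ext (hext x)
      rw [compose_apply, e, hext']
      rfl
    · rw [compose_apply, MulAut.mul_apply]
      have e : (⟨φ' ⟨x, hxP⟩, h' _⟩ : ↥(R ⊔ A)) =
          ⟨((l ⟨x, hxA⟩ : A) : Ω), Subgroup.mem_sup_right (l _).2⟩ := Subtype.ext (hle x hxA hxP)
      rw [e]
      exact hle' _ (l _).2 _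
  inv_mem {P φ} hφ := by
    obtain ⟨hφF, hP, hφT, φ', hφ', hext, l, hl, hle⟩ := hφ
    obtain ⟨ψ, hψ, hlψ⟩ := F.inv_mem hφF
    obtain ⟨ψ', hψ', -, hl', -⟩ := exists_inv F hφ' rfl
    have hrange : φ.range ⊔ A ≤ φ'.range := by
      refine sup_le ?_ fun y hy => ?_
      · rintro _ ⟨x, rfl⟩
        exact ⟨Subgroup.inclusion le_sup_left x, hext x⟩
      · refine ⟨⟨(l⁻¹ ⟨y, hy⟩ : A), Subgroup.mem_sup_right (l⁻¹ _).2⟩, ?_⟩
        rw [hle _ (l⁻¹ _).2]
        exact congrArg Subtype.val (MulEquiv.apply_symm_apply l _)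
    refine ⟨ψ, ⟨hψ, ?_, ?_, restr hrange ψ', restr_mem F hψ' _, ?_, l⁻¹, L.inv_mem hl, ?_⟩, hlψ⟩
    · rintro _ ⟨x, rfl⟩
      exact hφT x
    · rintro ⟨_, x, rfl⟩
      rw [hlψ]
      exact hP x.2
    · rintro ⟨_, x, rfl⟩
      rw [hlψ, restr_apply]
      have e : φ' (Subgroup.inclusion le_sup_left x) = φ x := hext x
      have := hl' (Subgroup.inclusion le_sup_left x) ⟨_, rfl⟩
      simp only [e] at this
      exact this
    · intro y hyA hy
      rw [restr_apply]
      have h2 : φ' ⟨(l⁻¹ ⟨y, hyA⟩ : A), Subgroup.mem_sup_right (l⁻¹ _).2⟩ = y := by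
        rw [hle _ (l⁻¹ _).2]
        exact congrArg Subtype.val (MulEquiv.apply_symm_apply l _)
      have := hl' ⟨(l⁻¹ ⟨y, hyA⟩ : A), Subgroup.mem_sup_right (l⁻¹ _).2⟩ ⟨_, rfl⟩
      simp only [h2] at this
      exact this

variable {p : ℕ} [Fact p.Prime] {F E : FusionSystem S} {H : Subgroup Ω}

theorem isSmallAb_img {A : Subgroup Ω} (hH : F.StronglyClosed H) {φ : A →* Ω} (hφ : φ ∈ F.Hom A)
    (hA : IsSmallAb p H A) : IsSmallAb p H φ.range := by
  obtain ⟨hAH, hcomm, hpow⟩ := hA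
  refine ⟨?_, ⟨⟨?_⟩⟩, ?_⟩
  · rintro _ ⟨x, rfl⟩
    exact hH.2 A hAH φ hφ x
  · rintro ⟨_, x, rfl⟩ ⟨_, y, rfl⟩
    exact Subtype.ext (by simp only [Subgroup.coe_mul, ← map_mul, hcomm.is_comm.comm x y])
  · rintro _ ⟨x, rfl⟩
    have h1 := (smallOrder_iff p _).1 (hpow x x.2)
    rw [smallOrder_iff, ← map_pow, ← map_one φ]
    exact congrArg φ (Subtype.ext (by rw [Subgroup.coe_pow, h1, Subgroup.coe_one]))

theorem exists_pow_eq_prime_pow (p : ℕ) : ∃ n, (if p = 2 then 4 else p) = p ^ n ∧ p ^ n ≠ 2 := by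
  by_cases h : p = 2
  · exact ⟨2, by subst h; rfl, by subst h; decide⟩
  · exact ⟨1, by rw [if_neg h, pow_one], by rwa [pow_one]⟩

/-- The coprime automorphisms of a subgroup containing `A` and fixing it, knowing the systems at
the larger subgroups. -/
theorem aut_mem_of_step (hS : IsPGroup p S) (hF : F.IsSaturated p) (hE : E.IsSaturated p)
    (hEF : E ≤ F) (hH : F.StronglyClosed H)
    (hmove : ∀ (P : Subgroup Ω) (β : MulAut P), P ≤ S → β ∈ F.autGroup P →
      (orderOf β).Coprime p → ∀ x : P, (x : Ω)⁻¹ * ((β x : P) : Ω) ∈ H)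
    (hsmall : ∀ (R : Subgroup Ω), IsSmallAb p H R → ∀ φ ∈ F.Hom R, φ ∈ E.Hom R)
    {A X : Subgroup Ω} (hA : IsSmallAb p H A) (hX : X ≤ normalizerIn S A) (hAX : A ≤ X)
    (hnext : ∀ B : Subgroup Ω, IsSmallAb p H B → F.IsFullyNormalized B → Nat.card A < Nat.card B →
      ∀ (P : Subgroup Ω) (φ : P →* Ω), φ ∈ F.Hom P → P ≤ normalizerIn S B →
        (∀ x, φ x ∈ normalizerIn S B) → B ≤ P → (∀ (b : Ω) (hb : b ∈ P), b ∈ B → φ ⟨b, hb⟩ = b) →
        φ ∈ E.Hom P)
    {β : MulAut X} (hβ : β ∈ F.autGroup X) (hco : (orderOf β).Coprime p)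
    (hfix : ∀ x : X, (x : Ω) ∈ A → β x = x) : β ∈ E.autGroup X := by
  classical
  have hXS : X ≤ S := hX.trans (normalizerIn_le S A)
  have := finite_of_le hXS
  have hXp : IsPGroup p X := isPGroup_of_le hS hXS
  set N₀ := H.subgroupOf X with hN₀
  have hHn : ∀ g ∈ S, ∀ x ∈ H, g * x * g⁻¹ ∈ H := fun g hg x hx => by
    have h1 := hH.2 (Subgroup.zpowers x) (Subgroup.zpowers_le.2 hx) _
      (F.conj_mem (Subgroup.zpowers_le.2 (hH.1 hx)) hg) ⟨x, Subgroup.mem_zpowers x⟩
    exact h1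
  have hN₀n : N₀.Normal := ⟨fun x hx g => hHn g (hXS g.2) _ hx⟩
  set A₀ := A.subgroupOf X with hA₀
  have hA₀n : A₀.Normal := ⟨fun x hx g => conj_mem_of_mem_normalizer (hX g.2).2 hx⟩
  obtain ⟨n, hq, hn⟩ := exists_pow_eq_prime_pow p
  have hA₀c : IsMulCommutative A₀ := ⟨⟨fun a b => by
    refine Subtype.ext (Subtype.ext ?_)
    have h1 := hA.2.1.is_comm.comm (⟨((a : X) : Ω), a.2⟩ : A) ⟨((b : X) : Ω), b.2⟩
    show ((a : X) : Ω) * ((b : X) : Ω) = ((b : X) : Ω) * ((a : X) : Ω)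
    exact congrArg Subtype.val h1⟩⟩
  have hA₀e : ∀ a ∈ A₀, a ^ p ^ n = 1 := fun a ha => Subtype.ext (by
    have h1 := (smallOrder_iff p ((a : X) : Ω)).1 (hA.2.2 _ ha)
    rw [← hq, Subgroup.coe_pow, h1, Subgroup.coe_one])
  obtain ⟨B₀, hB₀⟩ := Set.Finite.exists_maximal
    (s := {B : Subgroup X | B.Normal ∧ IsMulCommutative B ∧ (∀ b ∈ B, b ^ p ^ n = 1) ∧ A₀ ≤ B ∧
      B ≤ N₀})
    (Set.toFinite _) ⟨A₀, hA₀n, hA₀c, hA₀e, le_rfl, fun x hx => hA.1 hx⟩
  obtain ⟨hBn, hBc, hBe, hAB, hBN⟩ := hB₀.prop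
  rcases hAB.eq_or_lt with heq | hlt
  · -- everything small in the centralizer of `A` is fixed
    have hone : β = 1 := by
      subst heq
      let C : Subgroup X := Subgroup.centralizer (A₀ : Set X) ⊓ N₀
      have hβN : ∀ x ∈ N₀, β x ∈ N₀ := fun x hx => by
        have h1 : (x : Ω) * ((x : Ω)⁻¹ * ((β x : X) : Ω)) ∈ H :=
          H.mul_mem hx (hmove X β hXS hβ hco x)
        rw [mul_inv_cancel_left] at h1
        exact h1
      have hβC : ∀ x ∈ C, β x ∈ C := fun x hx =>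
        ⟨Subgroup.mem_centralizer_iff.2 fun a ha => by
          have h1 := congrArg β (Subgroup.mem_centralizer_iff.1 hx.1 a ha)
          rwa [map_mul, map_mul, hfix a ha] at h1, hβN x hx.2⟩
      have hpow : ∀ {K : Subgroup X}, (∀ x ∈ K, β x ∈ K) → ∀ (k : ℕ) (x : X), x ∈ K →
          (β ^ k) x ∈ K := fun {K} h k => by
        induction k with
        | zero => exact fun x hx => hx
        | succ k ih => exact fun x hx => by
                        rw [pow_succ', MulAut.mul_apply]; exact h _ (ih x hx)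
      have hsymm : ∀ {K : Subgroup X}, (∀ x ∈ K, β x ∈ K) → ∀ x ∈ K, β.symm x ∈ K := by
        intro K h x hx
        have := finite_mulAut hXS
        have e : β⁻¹ = β ^ (orderOf β - 1) := by
          refine inv_eq_of_mul_eq_one_right ?_
          rw [← pow_succ', Nat.sub_add_cancel (orderOf_pos β), pow_orderOf_eq_one]
        show β⁻¹ x ∈ K
        rw [e]
        exact hpow h _ x hx
      let res : ∀ K : Subgroup X, (∀ x ∈ K, β x ∈ K) → MulAut K := fun K h =>
        { toFun := fun x => ⟨β x, h x x.2⟩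
          invFun := fun x => ⟨β.symm x, hsymm h x x.2⟩
          left_inv := fun x => Subtype.ext (β.symm_apply_apply x)
          right_inv := fun x => Subtype.ext (β.apply_symm_apply x)
          map_mul' := fun x y => Subtype.ext (map_mul β _ _) }
      have hresco : ∀ K h, (orderOf (res K h)).Coprime p := by
        intro K h
        refine hco.coprime_dvd_left (orderOf_dvd_of_pow_eq_one ?_)
        have hk : ∀ (k : ℕ) (x : K), (((res K h) ^ k) x : X) = (β ^ k) x := by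
          intro k
          induction k with
          | zero => exact fun x => rfl
          | succ k ih =>
            intro x
            rw [pow_succ', pow_succ', MulAut.mul_apply, MulAut.mul_apply]
            exact congrArg β (ih x)
        ext x
        rw [hk, pow_orderOf_eq_one, MulAut.one_apply, MulAut.one_apply]
      have hC : res C hβC = 1 := by
        refine mulAut_eq_one_of_fixes_small (hXp.to_subgroup C) _ (hresco C hβC) fun x hx => ?_
        have hx' : (x : X) ^ p ^ n = 1 := by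
          have h1 := (smallOrder_iff p x).1 hx
          rw [← hq]
          exact congrArg Subtype.val h1
        have hxA : (x : X) ∈ A₀ := maximal_in_normal hXp n hn N₀ A₀ hBN hA₀c hA₀e
          (fun B h1 h2 h3 h4 h5 => le_antisymm (hB₀.le_of_ge ⟨h1, h2, h3, h4, h5⟩ h4) h4)
          (x : X) x.2.1 hx' x.2.2
        exact Subtype.ext (hfix _ hxA)
      have hCfix : ∀ x ∈ C, β x = x := fun x hx =>
        congrArg Subtype.val (DFunLike.congr_fun hC ⟨x, hx⟩)
      have hA₀C : A₀ ≤ C := fun a ha => ⟨Subgroup.mem_centralizer_iff.2 fun b hb =>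
        congrArg Subtype.val (hA₀c.is_comm.comm ⟨b, hb⟩ ⟨a, ha⟩), hBN ha⟩
      have hCn : C.Normal := inferInstance
      have hN : res N₀ hβN = 1 := by
        refine mulAut_eq_one_of_move (hXp.to_subgroup N₀) _ (hresco N₀ hβN) (C.subgroupOf N₀)
          (fun x hx => Subtype.ext (hCfix _ hx)) fun x => ?_
        show (x : X)⁻¹ * β x ∈ C
        refine ⟨?_, N₀.mul_mem (N₀.inv_mem x.2) (hβN x x.2)⟩
        refine Subgroup.mem_centralizer_iff.2 fun a ha => ?_
        have hb : (x : X) * a * (x : X)⁻¹ ∈ C := hCn.conj_mem a (hA₀C ha) x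
        have h1 := hCfix _ hb
        rw [map_mul, map_mul, map_inv, hfix a ha] at h1
        have h2 := congrArg (fun z => (x : X)⁻¹ * z * β x) h1
        simp only [mul_assoc, inv_mul_cancel_left, mul_inv_cancel_left, inv_mul_cancel, mul_one] at h2
        calc a * ((x : X)⁻¹ * β x) = (x : X)⁻¹ * (β x * a) := by
              rw [h2]
          _ = (x : X)⁻¹ * β x * a := (mul_assoc _ _ _).symm
      refine mulAut_eq_one_of_move hXp β hco N₀ (fun x hx =>
        congrArg Subtype.val (DFunLike.congr_fun hN ⟨x, hx⟩)) fun x => hmove X β hXS hβ hco x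
    rw [hone]
    exact Subgroup.one_mem _
  · set B := B₀.map X.subtype with hB
    have hBX : B ≤ X := Subgroup.map_subtype_le _
    have hBsmall : IsSmallAb p H B := by
      refine ⟨?_, ⟨⟨?_⟩⟩, ?_⟩
      · rintro _ ⟨b, hb, rfl⟩
        exact hBN hb
      · rintro ⟨_, a, ha, rfl⟩ ⟨_, b, hb, rfl⟩
        have h1 : a * b = b * a :=
          congrArg Subtype.val (hBc.is_comm.comm ⟨a, ha⟩ ⟨b, hb⟩)
        refine Subtype.ext ?_
        show X.subtype a * X.subtype b = X.subtype b * X.subtype a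
        rw [← map_mul, ← map_mul, h1]
      · rintro _ ⟨b, hb, rfl⟩
        rw [smallOrder_iff, hq, ← map_pow, hBe b hb, map_one]
    have hcard : Nat.card A < Nat.card B := by
      rw [hB, Subgroup.card_map_of_injective X.subtype_injective,
        ← Nat.card_congr (Subgroup.subgroupOfEquivOfLe hAX).toEquiv]
      exact lt_of_le_of_ne (Subgroup.card_le_of_le hlt.le) fun e =>
        hlt.ne (Subgroup.eq_of_le_of_card_ge hlt.le e.ge)
    have hβh := autHom_mem F hXS hβ
    set gB := img (autHom β) B with hgB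
    have hgBr : (restr hBX (autHom β)).range = gB := range_restr hBX _
    have hgBsmall : IsSmallAb p H gB :=
      hgBr ▸ isSmallAb_img hH (restr_mem F hβh hBX) hBsmall
    have hgBS : gB ≤ S := hgBsmall.1.trans hH.1
    obtain ⟨B', hB'c, hB'n⟩ := exists_fullyNormalized F hgBS
    obtain ⟨ψ, hψ, hψN, hψi⟩ := IsSaturated.exists_normalizer_map hS hF hB'n hB'c
    have hgBN : gB ≤ normalizerIn S gB := le_normalizerIn hgBS
    have hψr : (restr hgBN ψ).range = B' := (range_restr hgBN ψ).trans hψi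
    have hψB : restr hgBN ψ ∈ E.Hom gB := hsmall gB hgBsmall _ (restr_mem F hψ hgBN)
    have hB'E : E.IsFullyCentralized B' :=
      ⟨hB'n.1, fun Q ⟨χ, hχ, hr⟩ =>
        (IsSaturated.fullyCentralized hS hF hB'n).2 Q ⟨χ, hEF _ hχ, hr⟩⟩
    have hrec := IsSaturated.receptive hS hE hB'E
    obtain ⟨ψE, hψE, hψEx, hψEN⟩ := IsReceptive.extend hrec hψB hψr
    have hNex : normalizerIn S gB ≤ extender S gB (restr hgBN ψ) := fun g hg =>
      mem_extender.2 ⟨hg.1, hg.2, ψ ⟨g, hg⟩, apply_mem hψ _, fun x hx => by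
        rw [restr_apply, restr_apply, ← map_inv, ← map_mul, ← map_mul]
        rfl⟩
    have hXN : X ≤ normalizerIn S B := fun g hg => ⟨hXS hg, mem_normalizer_iff'.2
      ⟨fun b ⟨y, hy, hyb⟩ => hyb ▸ ⟨_, hBn.conj_mem y hy ⟨g, hg⟩, rfl⟩,
       fun b ⟨y, hy, hyb⟩ => hyb ▸ ⟨_, hBn.conj_mem y hy ⟨g, hg⟩⁻¹, by simp⟩⟩⟩
    have himgN : ∀ x : X, autHom β x ∈ normalizerIn S gB := by
      intro x
      have := finite_of_le hgBS
      refine ⟨apply_mem hβh x, mem_normalizer_of_finite ?_⟩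
      intro y hy
      obtain ⟨z, hzX, hzB, rfl⟩ := mem_img.1 hy
      refine mem_img.2 ⟨(x : Ω) * z * (x : Ω)⁻¹, X.mul_mem (X.mul_mem x.2 hzX) (X.inv_mem x.2),
        conj_mem_of_mem_normalizer (hXN x.2).2 hzB, ?_⟩
      rw [← map_inv, ← map_mul, ← map_mul]
      rfl
    let ψE' := restr hNex ψE
    have hψE' : ψE' ∈ E.Hom (normalizerIn S gB) := restr_mem E hψE hNex
    let γ := compose (autHom β) ψE' himgN
    have hγ : γ ∈ F.Hom X := compose_mem F hβh (hEF _ hψE') himgN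
    have hγr : (restr hBX γ).range = B' := by
      rw [range_restr, img_img, ← hgB, ← hψi]
      refine le_antisymm ?_ ?_ <;> intro y hy <;> obtain ⟨z, hz, hzg, rfl⟩ := mem_img.1 hy
      · exact mem_img.2 ⟨z, hz, hzg, (hψEx z hzg (hNex hz)).symm⟩
      · exact mem_img.2 ⟨z, hz, hzg, hψEx z hzg (hNex hz)⟩
    have hγE : restr hBX γ ∈ E.Hom B := hsmall B hBsmall _ (restr_mem F hγ hBX)
    obtain ⟨β', hβ', hβ'x, hβ'N⟩ := IsReceptive.extend hrec hγE hγr
    have hXex : X ≤ extender S B (restr hBX γ) := fun g hg =>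
      mem_extender.2 ⟨hXS hg, (hXN hg).2, γ ⟨g, hg⟩, apply_mem hγ _, fun x hx => by
        rw [restr_apply, restr_apply, ← map_inv, ← map_mul, ← map_mul]
        rfl⟩
    let β₁ := restr hXex β'
    have hβ₁ : β₁ ∈ E.Hom X := restr_mem E hβ' hXex
    obtain ⟨ι, hι, hιr, hι1, -⟩ := exists_inv E hβ₁ rfl
    let θ := compose ι γ fun y => hιr.le ⟨y, rfl⟩
    have hθval : ∀ (x : X) (hx : β₁ x ∈ β₁.range), θ ⟨β₁ x, hx⟩ = γ x := fun x hx =>
      congrArg γ (Subtype.ext (hι1 x hx))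
    have hθ : θ ∈ E.Hom β₁.range := by
      refine hnext B' ?_ hB'n (lt_of_lt_of_eq hcard ?_) _ θ
        (compose_mem F (hEF _ hι) hγ _) ?_ ?_ ?_ ?_
      · exact hψr ▸ isSmallAb_img hH (restr_mem F hψ hgBN) hgBsmall
      · rw [← hγr, card_range_eq (F.injective_of_mem (restr_mem F hγ hBX))]
      · rintro _ ⟨x, rfl⟩
        exact hβ'N _
      · rintro ⟨_, x, rfl⟩
        exact (hθval x _).symm ▸ hψEN _
      · intro y hy
        obtain ⟨⟨b, hb⟩, rfl⟩ := hγr.ge hy
        exact ⟨⟨b, hBX hb⟩, hβ'x b hb _⟩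
      · intro y hy hyB
        obtain ⟨⟨b, hb⟩, hby⟩ := hγr.ge hyB
        have e : β₁ ⟨b, hBX hb⟩ = y := (hβ'x b hb _).trans hby
        subst e
        exact (hθval ⟨b, hBX hb⟩ _).trans hby
    have hγE' : γ ∈ E.Hom X :=
      mem_of_comp E hβ₁ hθ (fun x => ⟨x, rfl⟩) fun x => (hθval x _).symm
    obtain ⟨κ, hκ, -, hκ1, -⟩ := exists_inv E hψE' rfl
    refine mem_autGroup_of_hom E (mem_of_comp E hγE' hκ (fun x => ⟨_, rfl⟩) fun x => ?_)
    exact (hκ1 ⟨autHom β x, himgN x⟩ _).symm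

/-- Small abelian subgroups of `H` control fusion. -/
theorem le_of_small_abelian (hS : IsPGroup p S) (hF : F.IsSaturated p) (hE : E.IsSaturated p)
    (hEF : E ≤ F) (hH : F.StronglyClosed H)
    (hmove : ∀ (P : Subgroup Ω) (β : MulAut P), P ≤ S → β ∈ F.autGroup P →
      (orderOf β).Coprime p → ∀ x : P, (x : Ω)⁻¹ * ((β x : P) : Ω) ∈ H)
    (hsmall : ∀ (R : Subgroup Ω), IsSmallAb p H R → ∀ φ ∈ F.Hom R, φ ∈ E.Hom R) : F ≤ E := by
  classical
  suffices key : ∀ (m : ℕ) (A : Subgroup Ω), IsSmallAb p H A → F.IsFullyNormalized A →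
      Nat.card S ≤ Nat.card A + m → ∀ (P : Subgroup Ω) (φ : P →* Ω), φ ∈ F.Hom P →
      P ≤ normalizerIn S A → (∀ x, φ x ∈ normalizerIn S A) → A ≤ P →
      (∀ (a : Ω) (ha : a ∈ P), a ∈ A → φ ⟨a, ha⟩ = a) → φ ∈ E.Hom P by
    intro P φ hφ
    have hbot : IsSmallAb p H (⊥ : Subgroup Ω) :=
      ⟨bot_le, inferInstance, fun a ha => by rw [Subgroup.mem_bot.1 ha]; exact Or.inl (one_pow p)⟩
    have hN : normalizerIn S (⊥ : Subgroup Ω) = S :=
      le_antisymm (normalizerIn_le _ _) fun g hg => ⟨hg, mem_normalizer_iff'.2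
        ⟨fun x hx => by simp [Subgroup.mem_bot.1 hx], fun x hx => by simp [Subgroup.mem_bot.1 hx]⟩⟩
    have hfn : F.IsFullyNormalized (⊥ : Subgroup Ω) := by
      refine ⟨bot_le, fun Q ⟨χ, hχ, hQ⟩ => ?_⟩
      rw [hN]
      exact Subgroup.card_le_of_le (normalizerIn_le _ _)
    exact key (Nat.card S) ⊥ hbot hfn (Nat.le_add_left _ _) P φ hφ (hN.symm ▸ source_le hφ)
      (fun x => hN.symm ▸ apply_mem hφ x) bot_le fun a ha haA => by
        obtain rfl := Subgroup.mem_bot.1 haA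
        exact map_one φ
  intro m
  induction m using Nat.strong_induction_on with | _ m ih => ?_
  intro A hA hAn hm
  have hAS : A ≤ S := hAn.1
  set T := normalizerIn S A with hTdef
  set L := autInducedBy S A with hL
  have hT : ∀ g, g ∈ T ↔ g ∈ S ∧ ∃ l ∈ L, ∀ x : A, ((l x : A) : Ω) = g * (x : Ω) * g⁻¹ := by
    intro g
    constructor
    · intro hg
      exact ⟨hg.1, conjAut hg.2, mem_autInducedBy.2 ⟨g, hg.1, fun _ => rfl⟩, fun _ => rfl⟩
    · rintro ⟨hgS, l, -, hl⟩
      have := finite_of_le hAS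
      refine ⟨hgS, mem_normalizer_of_finite fun x hx => ?_⟩
      rw [← hl ⟨x, hx⟩]
      exact SetLike.coe_mem _
  set F₁ := localSystem F hAS L T (normalizerIn_le _ _) (fun g hg => ((hT g).1 hg).2) with hF₁
  have hF₁s : F₁.IsSaturated p := by
    refine kSystem_isSaturated hT hS hF hAS (fun Q₁ f hf hfr V hV hVl hVN => ?_) F₁ fun P φ => Iff.rfl
    obtain ⟨χ, hχ, hext, -⟩ :=
      IsReceptive.extend (IsSaturated.automized_receptive hS hF hAn).2 hf hfr
    have hle : V ⊔ Q₁ ≤ extender S Q₁ f := by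
      refine sup_le (fun g hg => ?_) (le_extender (source_le hf) (apply_mem hf))
      obtain ⟨l, hl, hlx⟩ := hVl g hg
      obtain ⟨h, hhS, hh⟩ := mem_autInducedBy.1 hl
      exact mem_extender.2 ⟨hV hg, hVN g hg, h, hhS, fun x hx => by
        rw [hlx x hx (hfr ▸ ⟨x, rfl⟩), hh]⟩
    exact ⟨restr hle χ, restr_mem F hχ hle, 1, Subgroup.one_mem _, fun x hfx => hext x x.2 _⟩
  let E₁ : FusionSystem T :=
    { Hom := fun P => {φ | φ ∈ F₁.Hom P ∧ φ ∈ E.Hom P}
      le_of_mem := fun h => F₁.le_of_mem h.1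
      injective_of_mem := fun h => F₁.injective_of_mem h.1
      conj_mem := fun hP hg =>
        ⟨F₁.conj_mem hP hg, E.conj_mem (hP.trans (normalizerIn_le _ _)) hg.1⟩
      comp_mem := fun hφ hψ h => ⟨F₁.comp_mem hφ.1 hψ.1 h, E.comp_mem hφ.2 hψ.2 h⟩
      inv_mem := fun {P φ} hφ => by
        obtain ⟨ψ, hψ, hl⟩ := F₁.inv_mem hφ.1
        obtain ⟨ψ', hψ', hl'⟩ := E.inv_mem hφ.2
        refine ⟨ψ, ⟨hψ, ?_⟩, hl⟩
        convert hψ' using 1
        ext ⟨_, x, rfl⟩
        rw [hl, hl'] }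
  have hTp : IsPGroup p T := isPGroup_of_le hS (normalizerIn_le _ _)
  have : Finite T := finite_of_le (normalizerIn_le S A)
  have hle : F₁ ≤ E₁ := by
    refine le_of_residual hTp hF₁s E₁ fun P hPn α hα => ?_
    have hP := hPn.1
    suffices h : pResidual p (F₁.autGroup P) ≤ (E₁.autGroup P).subgroupOf (F₁.autGroup P) from h hα
    refine (Subgroup.closure_le _).2 ?_
    rintro ⟨a, ha⟩ hco
    simp only [Set.mem_setOf_eq, Subgroup.orderOf_mk] at hco
    show a ∈ E₁.autGroup P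
    obtain ⟨haF, -, -, χ, hχ, hχx, hact⟩ := autHom_mem F₁ hP ha
    refine mem_autGroup_of_hom E₁ ⟨autHom_mem F₁ hP ha, ?_⟩
    let X := P ⊔ A
    have hXT : X ≤ T := sup_le hP (le_normalizerIn hAS)
    have hXS : X ≤ S := hXT.trans (normalizerIn_le _ _)
    have := finite_of_le hXS
    have := finite_mulAut hXS
    have hrange : χ.range = X := by
      refine eq_of_le_of_card ?_ (card_range_eq (F.injective_of_mem hχ)).ge
      rintro _ ⟨y, rfl⟩
      have hXle : X ≤ Subgroup.map X.subtype (X.comap χ) := by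
        refine sup_le (fun x hx => ⟨⟨x, Subgroup.mem_sup_left hx⟩, ?_, rfl⟩)
          (fun x hx => ⟨⟨x, Subgroup.mem_sup_right hx⟩, ?_, rfl⟩)
        · show χ _ ∈ X
          rw [show χ ⟨x, Subgroup.mem_sup_left hx⟩ = autHom a ⟨x, hx⟩ from hχx ⟨x, hx⟩]
          exact Subgroup.mem_sup_left (a _).2
        · show χ _ ∈ X
          obtain ⟨l, -, hl⟩ := hact
          rw [hl x hx]
          exact Subgroup.mem_sup_right (l _).2
      obtain ⟨z, hz, hzy⟩ := hXle y.2
      rw [← Subtype.ext (a1 := z) (a2 := y) hzy]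
      exact hz
    set δ : MulAut X := isoOf χ (F.injective_of_mem hχ) hrange with hδ
    have hδF : δ ∈ F.autGroup X := mem_autGroup_of_hom F (by
      convert hχ using 1
      ext x
      rfl)
    have hδP : ∀ (k : ℕ) (x : P), ((δ ^ k) (Subgroup.inclusion le_sup_left x) : Ω) =
        ((a ^ k) x : P) := by
      intro k
      induction k with
      | zero => exact fun x => rfl
      | succ k ihk =>
        intro x
        rw [pow_succ', pow_succ', MulAut.mul_apply, MulAut.mul_apply]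
        have e : (δ ^ k) (Subgroup.inclusion le_sup_left x) =
            Subgroup.inclusion le_sup_left ((a ^ k) x) := Subtype.ext (ihk x)
        rw [e, hδ, isoOf_coe]
        exact hχx _
    obtain ⟨l, hl, hlx⟩ := hact
    have hδA : ∀ (k : ℕ) (x : A), ((δ ^ k) (Subgroup.inclusion le_sup_right x) : Ω) =
        ((l ^ k) x : A) := by
      intro k
      induction k with
      | zero => exact fun x => rfl
      | succ k ihk =>
        intro x
        rw [pow_succ', pow_succ', MulAut.mul_apply, MulAut.mul_apply]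
        have e : (δ ^ k) (Subgroup.inclusion le_sup_right x) =
            Subgroup.inclusion le_sup_right ((l ^ k) x) := Subtype.ext (ihk x)
        rw [e, hδ, isoOf_coe]
        exact hlx _ _ _
    -- replace `δ` by a power of coprime order
    obtain ⟨k, m', hm', hN⟩ := Nat.exists_eq_pow_mul_and_not_dvd (orderOf_pos δ).ne' p
      (Fact.out : p.Prime).ne_one
    have hm'co : m'.Coprime p := ((Fact.out : p.Prime).coprime_iff_not_dvd.2 hm').symm
    obtain ⟨e, he⟩ : ∃ e, (p ^ k * e) % orderOf a = 1 % orderOf a := by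
      rcases eq_or_ne (orderOf a) 1 with h1 | h1
      · exact ⟨0, by rw [h1, Nat.mod_one, Nat.mod_one]⟩
      · have := finite_mulAut (hP.trans (normalizerIn_le _ _))
        obtain ⟨e, -, he⟩ := Nat.exists_mul_mod_eq_one_of_coprime
          (show (p ^ k).Coprime (orderOf a) from (hco.pow_right k).symm)
          (lt_of_le_of_ne (orderOf_pos a) (Ne.symm h1))
        exact ⟨e, by rw [he, Nat.one_mod_eq_one.2 h1]⟩
    set β := δ ^ (p ^ k * e) with hβ
    have hβpow : β ^ m' = 1 := by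
      rw [hβ, ← pow_mul, show p ^ k * e * m' = p ^ k * m' * e by ring, ← hN, pow_mul,
        pow_orderOf_eq_one, one_pow]
    have hβco : (orderOf β).Coprime p := hm'co.coprime_dvd_left (orderOf_dvd_of_pow_eq_one hβpow)
    have hβP : ∀ x : P, ((β (Subgroup.inclusion le_sup_left x) : X) : Ω) = (a x : P) := by
      intro x
      rw [hβ, hδP, ← pow_mod_orderOf, he, pow_mod_orderOf, pow_one]
    have hl1 : l ^ (p ^ k * e) = 1 := by
      have hLp : IsPGroup p L := by
        refine IsPGroup.of_surjective (hTp)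
          ({ toFun := fun g => ⟨conjAut g.2.2, mem_autInducedBy.2 ⟨g, g.2.1, fun _ => rfl⟩⟩
             map_one' := Subtype.ext (MulEquiv.ext fun x => Subtype.ext (by simp))
             map_mul' := fun g h => Subtype.ext (MulEquiv.ext fun x => Subtype.ext (by
               simp [MulAut.mul_apply, mul_assoc])) } : T →* L) ?_
        rintro ⟨α', hα'⟩
        obtain ⟨g, hg, hgS, rfl⟩ := mem_autInducedBy_iff_conjAut.1 hα'
        exact ⟨⟨g, hgS, hg⟩, rfl⟩
      have h1 : (l ^ (p ^ k * e)) ^ m' = 1 := by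
        ext x
        rw [← pow_mul, ← hδA, pow_mul, ← hβ, hβpow]
        rfl
      obtain ⟨j, hj⟩ := IsPGroup.iff_orderOf.1 hLp ⟨_, L.pow_mem hl (p ^ k * e)⟩
      rw [Subgroup.orderOf_mk] at hj
      exact orderOf_eq_one_iff.1 (Nat.eq_one_of_dvd_coprimes (hm'co.pow_right j)
        (orderOf_dvd_of_pow_eq_one h1) (hj ▸ dvd_rfl))
    have hβE : β ∈ E.autGroup X := by
      refine aut_mem_of_step hS hF hE hEF hH hmove hsmall hA hXT le_sup_right ?_
        ((F.autGroup X).pow_mem hδF _) hβco fun x hx => ?_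
      · intro B hB hBn hcard
        have hBc : Nat.card B ≤ Nat.card S := Subgroup.card_le_of_le hBn.1
        exact ih (Nat.card S - Nat.card B) (by omega) B hB hBn (by omega)
      · refine Subtype.ext ?_
        have h2 := hδA (p ^ k * e) ⟨x, hx⟩
        rw [hl1] at h2
        exact h2
    convert restr_mem E (autHom_mem E hXS hβE) (le_sup_left : P ≤ X) using 1
    ext x
    exact (hβP x).symm
  intro P φ hφ hPT hφT hAP hfix
  refine (hle P ⟨hφ, hPT, hφT, restr (sup_le le_rfl hAP) φ, restr_mem F hφ _, fun x => rfl,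
    1, L.one_mem, fun a ha haX => ?_⟩).2
  exact hfix a _ ha

theorem move_hyperfocal {P : Subgroup Ω} {β : MulAut P} (hP : P ≤ S)
    (hβ : β ∈ F.autGroup P) (hco : (orderOf β).Coprime p) (x : P) :
    (x : Ω)⁻¹ * ((β x : P) : Ω) ∈ F.hyperfocalSubgroup p :=
  hyperfocal_mem hP (α := ⟨β, hβ⟩)
    (Subgroup.subset_closure (by simpa only [Set.mem_setOf_eq, Subgroup.orderOf_mk])) x

/-- The form with the hypothesis split by the parity of the prime. -/
theorem eq_of_small_abelian (hS : IsPGroup p S) (hF : F.IsSaturated p) (hE : E.IsSaturated p)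
    (hEF : E ≤ F)
    (hodd : p ≠ 2 → ∀ A B : Subgroup Ω, A ≤ F.hyperfocalSubgroup p → B ≤ F.hyperfocalSubgroup p →
      IsElementaryAbelian p A → IsElementaryAbelian p B → E.homSet A B = F.homSet A B)
    (htwo : p = 2 → ∀ A B : Subgroup Ω, A ≤ F.hyperfocalSubgroup p → B ≤ F.hyperfocalSubgroup p →
      IsMulCommutative A → IsMulCommutative B → (∀ a ∈ A, a ^ 4 = 1) → (∀ b ∈ B, b ^ 4 = 1) →
      E.homSet A B = F.homSet A B) (P : Subgroup Ω) : E.Hom P = F.Hom P := by
  refine Set.Subset.antisymm (hEF P) (le_of_small_abelian hS hF hE hEF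
    (hyperfocal_stronglyClosed hS hF) (fun P β hP hβ hco x => move_hyperfocal hP hβ hco x) ?_ P)
  intro R hR φ hφ
  have hR' := isSmallAb_img (hyperfocal_stronglyClosed hS hF) hφ hR
  have hpow : ∀ {K : Subgroup Ω}, IsSmallAb p (F.hyperfocalSubgroup p) K →
      ∀ a ∈ K, a ^ (if p = 2 then 4 else p) = 1 := fun hK a ha => (smallOrder_iff p a).1 (hK.2.2 a ha)
  have h : φ ∈ F.homSet R φ.range := ⟨hφ, fun x => ⟨x, rfl⟩⟩
  by_cases hp : p = 2
  · rw [← htwo hp R φ.range hR.1 hR'.1 hR.2.1 hR'.2.1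
      (fun a ha => by have := hpow hR a ha; rwa [if_pos hp] at this)
      (fun a ha => by have := hpow hR' a ha; rwa [if_pos hp] at this)] at h
    exact h.1
  · rw [← hodd hp R φ.range hR.1 hR'.1
      ⟨hR.2.1, fun a ha => by have := hpow hR a ha; rwa [if_neg hp] at this⟩
      ⟨hR'.2.1, fun a ha => by have := hpow hR' a ha; rwa [if_neg hp] at this⟩] at h
    exact h.1

end Cfsg.Agent.Lib.Fusion
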