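import Cfsg.Agent.Lib.Fusion.SpFourSylow
import Cfsg.Agent.Lib.Fusion.SimpleCriterion

/-!
The `2`-fusion system of `PSp₄` in odd characteristic is simple.
-/

set_option autoImplicit false
set_option linter.unusedSectionVars false

namespace Cfsg.Agent.Lib.Fusion.SpFour

open Matrix
open Cfsg.Agent.Lib.Classical.AutPSp (pr pr_surjective pr_eq_one)

variable {F : Type*} [Field F] [Fintype F]

set_option quotPrecheck false in
local notation "SL2" => Matrix.SpecialLinearGroup (Fin 2) F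
set_option quotPrecheck false in
local notation "M2" => Matrix (Fin 2) (Fin 2) F
set_option quotPrecheck false in
local notation "Sp4" => Subtype (fun A => A ∈ Matrix.symplecticGroup (Fin 2) F)
set_option quotPrecheck false in
local notation "PSp4" => Cfsg.PSp 2 F

theorem neg_mul_SL (a b : SL2) : -a * b = -(a * b) := Subtype.ext (by simp)

theorem mul_neg_SL (a b : SL2) : a * -b = -(a * b) := Subtype.ext (by simp)

theorem neg_neg_SL (a : SL2) : -(-a) = a := Subtype.ext (by simp)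

theorem neg_ne_self (h2 : (2 : F) ≠ 0) (a : SL2) : -a ≠ a := by
  intro h
  have h' := congrArg (fun z : SL2 => (z : M2)) h
  simp only [Matrix.SpecialLinearGroup.coe_neg] at h'
  have h0 : (2 : F) • (a : M2) = 0 := by
    rw [two_smul]; nth_rewrite 1 [← h']; exact neg_add_cancel _
  rw [smul_eq_zero] at h0
  have h1 := congrArg Matrix.det (h0.resolve_left h2)
  simp at h1

theorem sq_one_cases (h2 : (2 : F) ≠ 0) {b : SL2} (h : b * b = 1) : b = 1 ∨ b = -1 := by
  have hd := b.det_coe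
  rw [Matrix.det_fin_two] at hd
  have hm : (b : M2) * (b : M2) = 1 := by
    rw [← Matrix.SpecialLinearGroup.coe_mul, h]; simp
  have h00 := congrFun (congrFun hm 0) 0
  have h01 := congrFun (congrFun hm 0) 1
  have h10 := congrFun (congrFun hm 1) 0
  simp [Matrix.mul_apply, Fin.sum_univ_two] at h00 h01 h10
  set τ := (b : M2) 0 0 + (b : M2) 1 1 with hτ
  have e0 : τ * (b : M2) 0 0 = 2 := by rw [hτ]; linear_combination h00 + hd
  have hτ0 : τ ≠ 0 := fun h => h2 (by rw [← e0, h, zero_mul])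
  have e01 : (b : M2) 0 1 = 0 :=
    (mul_eq_zero.1 (show τ * (b : M2) 0 1 = 0 by rw [hτ]; linear_combination h01)).resolve_left hτ0
  have e10 : (b : M2) 1 0 = 0 :=
    (mul_eq_zero.1 (show τ * (b : M2) 1 0 = 0 by rw [hτ]; linear_combination h10)).resolve_left hτ0
  rw [e01, e10, mul_zero, sub_zero] at hd
  rw [e01, zero_mul, add_zero] at h00
  rcases mul_self_eq_one_iff.1 h00 with e | e
  · left
    rw [e, one_mul] at hd
    apply Subtype.ext
    ext i j
    fin_cases i <;> fin_cases j <;> simp [e, e01, e10, hd]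
  · right
    rw [e] at hd
    have hd' : (b : M2) 1 1 = -1 := by linear_combination -hd
    apply Subtype.ext
    ext i j
    fin_cases i <;> fin_cases j <;> simp [e, e01, e10, hd']

/-- A non-trivial element of a `2`-subgroup has a power equal to `-1`. -/
theorem exists_pow_eq_neg_one (h2 : (2 : F) ≠ 0) {Q : Subgroup SL2} (hQ : IsPGroup 2 Q) {u : SL2}
    (hu : u ∈ Q) (h1 : u ≠ 1) : ∃ m : ℕ, u ^ m = -1 := by
  classical
  obtain ⟨k, hk⟩ := hQ ⟨u, hu⟩
  have hex : ∃ r : ℕ, u ^ 2 ^ r = 1 := ⟨k, congrArg Subtype.val hk⟩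
  have hr := Nat.find_spec hex
  cases h : Nat.find hex with
  | zero => rw [h, pow_zero, pow_one] at hr; exact absurd hr h1
  | succ r =>
    rw [h, pow_succ, pow_mul, sq] at hr
    exact ⟨2 ^ r, (sq_one_cases h2 hr).resolve_left fun e =>
      Nat.find_min hex (by omega : r < Nat.find hex) e⟩

theorem zEl_eq_mul (a b : SL2) : (bd (-a, -b) : Sp4) = zEl * bd (a, b) := by
  rw [zEl, ← map_mul]
  refine congrArg bd (Prod.ext ?_ ?_) <;> simp [neg_mul_SL]

theorem zEl_mem_center : (zEl : Sp4) ∈ Subgroup.center Sp4 :=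
  mem_center_iff.2 (Or.inr zEl_coe)

theorem pr_zEl_mul (x : Sp4) : pr (zEl * x) = (pr x : PSp4) := by
  rw [map_mul, pr_eq_one.2 zEl_mem_center, one_mul]

theorem pr_eq_cases {x y : Sp4} (h : (pr x : PSp4) = pr y) : x = y ∨ x = zEl * y := by
  have h1 : (pr (x * y⁻¹) : PSp4) = 1 := by rw [map_mul, map_inv, h, mul_inv_cancel]
  rcases center_cases (pr_eq_one.1 h1) with e | e
  · exact Or.inl (mul_inv_eq_one.1 e)
  · exact Or.inr (by rw [← e, inv_mul_cancel_right])

theorem tEl_wEl : (tEl : Sp4) * wEl = zEl * (wEl * tEl) := by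
  rw [tEl, wEl_bd, ← mul_assoc, zEl, ← map_mul]
  congr 2
  exact Prod.ext (by simp [neg_mul_SL, neg_neg_SL]) (by simp [neg_mul_SL, neg_neg_SL])

variable {Q : Subgroup (Matrix.SpecialLinearGroup (Fin 2) F)}
  {i j : Matrix.SpecialLinearGroup (Fin 2) F}

theorem mem_sylK_of_pr_mem (d : QData Q i j) {x : Sp4}
    (h : (pr x : PSp4) ∈ (sylK Q).map (pr : Sp4 →* PSp4)) : x ∈ sylK Q := by
  obtain ⟨y, hy, e⟩ := h
  rcases pr_eq_cases e.symm with rfl | rfl
  · exact hy
  · exact (sylK Q).mul_mem (center_le_sylK d.neg_one_mem zEl_mem_center) hy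

/-- Commuting with both axes up to a common sign. -/
theorem eq_pm_one_of_commute (h2 : (2 : F) ≠ 0) (d : QData Q i j) {a : SL2}
    (hi : a * i = i * a) (hj : a * j = j * a) : a = 1 ∨ a = -1 :=
  eq_one_or_neg_one_of_commute h2 d.isq d.anti hi hj

/-- The mixing element with left factor `i - j` or `i - k`. -/
noncomputable def mixMat : M2 := (2 : F)⁻¹ • !![1, 1; 1, -1]

theorem mixMat_mul_self (h2 : (2 : F) ≠ 0) : (mixMat : M2) * mixMat = (2 : F)⁻¹ • 1 := by
  ext r s
  fin_cases r <;> fin_cases s <;> simp [mixMat, Matrix.mul_apply, Fin.sum_univ_two] <;> field_simp <;> ring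

theorem mixMat_transpose : (mixMat : M2)ᵀ = mixMat := by
  ext r s
  fin_cases r <;> fin_cases s <;> simp [mixMat]

theorem mixMat_sgn : (mixMat : M2) * sgn = swp * mixMat ∧ (mixMat : M2) * swp = sgn * mixMat := by
  constructor <;> ext r s <;> fin_cases r <;> fin_cases s <;>
    simp [mixMat, sgn, swp, Matrix.mul_apply, Fin.sum_univ_two]

theorem closedTrivial_sylK (h2 : (2 : F) ≠ 0) (d : QData Q i j) :
    ClosedTrivial ((sylK Q).map (pr : Sp4 →* PSp4)) := by
  intro T' hT' hT0 hcl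
  set T : Subgroup Sp4 := T'.comap (pr : Sp4 →* PSp4) with hT
  have hTK : ∀ x ∈ T, x ∈ sylK Q := fun x hx => mem_sylK_of_pr_mem d (hT' hx)
  have hconj : ∀ x ∈ T, ∀ g : Sp4, g * x * g⁻¹ ∈ sylK Q → g * x * g⁻¹ ∈ T := by
    intro x hx g hg
    show pr (g * x * g⁻¹) ∈ T'
    rw [map_mul, map_mul, map_inv]
    refine hcl _ hx _ ?_
    rw [← map_inv, ← map_mul, ← map_mul]
    exact Subgroup.mem_map_of_mem _ hg
  have hnorm : ∀ x ∈ T, ∀ g ∈ sylK Q, g * x * g⁻¹ ∈ T := fun x hx g hg =>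
    hconj x hx g ((sylK Q).mul_mem ((sylK Q).mul_mem hg (hTK x hx)) ((sylK Q).inv_mem hg))
  have hcomm : ∀ x ∈ T, ∀ g ∈ sylK Q, x * g * x⁻¹ * g⁻¹ ∈ T := fun x hx g hg => by
    have := T.mul_mem hx (hnorm _ (T.inv_mem hx) g hg)
    simpa [mul_assoc] using this
  have hz : (zEl : Sp4) ∈ T := by
    show pr zEl ∈ T'
    rw [pr_eq_one.2 zEl_mem_center]; exact T'.one_mem
  have hw := wEl_mem_sylK Q
  -- an element of the base outside the centre
  obtain ⟨a, b, hab, hne⟩ : ∃ a b : SL2, bd (a, b) ∈ T ∧ ¬ (a = 1 ∧ b = 1 ∨ a = -1 ∧ b = -1) := by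
    obtain ⟨x', hx', hx1⟩ : ∃ x' ∈ T', x' ≠ 1 := by
      by_contra hcon
      push Not at hcon
      exact hT0 ((Subgroup.eq_bot_iff_forall T').2 hcon)
    obtain ⟨x, rfl⟩ := pr_surjective x'
    obtain ⟨a, ha, b, hb, rfl | rfl⟩ := hTK x hx'
    · refine ⟨a, b, hx', ?_⟩
      rintro (⟨rfl, rfl⟩ | ⟨rfl, rfl⟩)
      · exact hx1 (by rw [show ((1, 1) : SL2 × SL2) = 1 from rfl, map_one, map_one])
      · exact hx1 (pr_eq_one.2 zEl_mem_center)
    · refine ⟨i⁻¹, b * i * b⁻¹, ?_, ?_⟩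
      · have h1 := hcomm _ hx' _ (bd_mem_sylK d.hi Q.one_mem)
        have e : bd (a, b) * wEl * bd (i, 1) * (bd (a, b) * wEl)⁻¹ * (bd (i, 1))⁻¹ =
            bd (i⁻¹, b * i * b⁻¹) := by
          rw [mul_assoc (bd (a, b)) wEl, wEl_bd, _root_.mul_inv_rev, ← mul_assoc (bd (a, b)),
            ← map_inv bd (a, b), ← map_inv bd (i, 1), mul_assoc _ wEl, ← mul_assoc wEl wEl⁻¹,
            mul_inv_cancel, one_mul, ← map_mul, ← map_mul, ← map_mul]
          refine congrArg bd (Prod.ext ?_ ?_) <;> simp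
        rw [e] at h1
        exact h1
      · rintro (⟨h, -⟩ | ⟨h, -⟩)
        · rw [inv_eq_one] at h
          have := d.isq
          rw [h, mul_one] at this
          exact neg_ne_self h2 1 this.symm
        · have h' : i = -1 := by
            rw [← inv_inv i, h]
            exact inv_eq_of_mul_eq_one_right (Subtype.ext (by simp))
          have := d.isq
          rw [h', neg_mul_SL, mul_neg_SL, mul_one, neg_neg_SL] at this
          exact neg_ne_self h2 1 this.symm
  -- the sign `tEl`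
  have hleft : ∀ u : SL2, u ≠ 1 → bd (u, 1) ∈ T → tEl ∈ T := by
    intro u hu hmem
    obtain ⟨m, hm⟩ := exists_pow_eq_neg_one h2 d.isPGroup (mem_of_bd_mem_sylK (hTK _ hmem)).1 hu
    have h1 := T.mul_mem hz (T.pow_mem hmem m)
    rw [← map_pow, Prod.pow_mk, hm, one_pow, zEl, ← map_mul] at h1
    have e : (((-1 : SL2), (-1 : SL2)) * ((-1 : SL2), (1 : SL2)) : SL2 × SL2) = (1, -1) :=
      Prod.ext (by simp [neg_mul_SL, neg_neg_SL]) (by simp)
    rwa [e] at h1
  have ht : tEl ∈ T := by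
    have key : ∀ a b : SL2, bd (a, b) ∈ T → (a ≠ 1 ∧ a ≠ -1) → tEl ∈ T := by
      intro a b hab hna
      obtain ⟨c, hc, hcne⟩ : ∃ c ∈ Q, a * c ≠ c * a := by
        by_contra hcon
        push Not at hcon
        rcases eq_pm_one_of_commute h2 d (hcon i d.hi) (hcon j d.hj) with e | e
        exacts [hna.1 e, hna.2 e]
      have h1 := hcomm _ hab _ (bd_mem_sylK hc Q.one_mem)
      rw [← map_inv, ← map_inv, ← map_mul, ← map_mul, ← map_mul] at h1
      refine hleft (a * c * a⁻¹ * c⁻¹) (fun e => hcne ?_) ?_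
      · rw [mul_inv_eq_one, mul_inv_eq_iff_eq_mul] at e
        exact e
      · simpa using h1
    by_cases ha : a ≠ 1 ∧ a ≠ -1
    · exact key a b hab ha
    by_cases hb : b ≠ 1 ∧ b ≠ -1
    · refine key b a ?_ hb
      have := hnorm _ hab _ hw
      rwa [wEl_bd, mul_assoc, mul_inv_cancel, mul_one] at this
    have haor : a = 1 ∨ a = -1 := by tauto
    have hbor : b = 1 ∨ b = -1 := by tauto
    rcases haor with rfl | rfl <;> rcases hbor with rfl | rfl
    · exact absurd (Or.inl ⟨rfl, rfl⟩) hne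
    · exact hab
    · have h1 := T.mul_mem hz hab
      rw [← zEl_eq_mul, neg_neg_SL] at h1
      exact h1
    · exact absurd (Or.inr ⟨rfl, rfl⟩) hne
  -- the exchange of the pairs
  have hwT : wEl ∈ T := by
    let g : Sp4 := tensSp (!![(2 : F)⁻¹, 0; 0, 1]) !![1, 1; 1, -1] (by
      ext r s
      fin_cases r <;> fin_cases s <;>
        simp [Matrix.det_fin_two_of, Matrix.mul_apply, Fin.sum_univ_two, Matrix.vecMul, dotProduct] <;> field_simp <;> ring)
    have e : g * tEl = wEl * g := by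
      refine Subtype.ext ?_
      show tens _ _ * (tEl : Sp4).1 = tens (1 : M2) swp * tens _ _
      rw [tEl_coe, tens_mul, tens_mul, Matrix.mul_one, Matrix.one_mul]
      congr 1
      ext r s
      fin_cases r <;> fin_cases s <;> simp [sgn, swp, Matrix.mul_apply, Fin.sum_univ_two]
    have e' : g * tEl * g⁻¹ = wEl := mul_inv_eq_iff_eq_mul.2 e
    exact e' ▸ hconj _ ht g (e'.symm ▸ hw)
  -- the antidiagonal
  have hanti : ∀ a ∈ Q, bd (a⁻¹, a) ∈ T := by
    intro a ha
    have h1 := T.mul_mem hwT (hnorm _ hwT _ (bd_mem_sylK ha Q.one_mem))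
    have e : wEl * (bd (a, 1) * wEl * (bd (a, 1))⁻¹) = bd (a⁻¹, a) := by
      rw [← map_inv, ← mul_assoc, ← mul_assoc, wEl_bd, mul_assoc (bd (1, a)), wEl_mul_self,
        mul_one, ← map_mul]
      refine congrArg bd (Prod.ext ?_ ?_) <;> simp
    rwa [e] at h1
  have hinv : ∀ a : SL2, a * a = -1 → a⁻¹ = -a := fun a ha =>
    inv_eq_of_mul_eq_one_right (by rw [mul_neg_SL, ha, neg_neg_SL])
  have hleftQ : ∀ u ∈ Q, bd (u, 1) ∈ T := by
    intro u hu
    obtain ⟨a, ha, c, hc, ha2, hc2, rfl⟩ := d.gen u hu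
    obtain ⟨g, hg⟩ := exists_conj h2 (a := a⁻¹) (c := c)
      (by rw [← _root_.mul_inv_rev, ha2]; exact inv_eq_of_mul_eq_one_right (Subtype.ext (by simp)))
      hc2
    have h1 := hanti a ha
    have h2' := hconj _ h1 (bd (g, 1))
    rw [← map_inv, ← map_mul, ← map_mul] at h2'
    have e : (((g, 1) : SL2 × SL2) * (a⁻¹, a) * (g, 1)⁻¹) = (c, a) :=
      Prod.ext (by simpa using hg) (by simp)
    rw [e] at h2'
    have h3 := T.mul_mem (h2' (bd_mem_sylK hc ha)) (T.inv_mem h1)
    rw [← map_inv, ← map_mul] at h3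
    simpa using h3
  refine le_antisymm hT' ?_
  rintro _ ⟨x, hx, rfl⟩
  show x ∈ T
  obtain ⟨a, ha, b, hb, hx'⟩ := hx
  have hab : bd (a, b) ∈ T := by
    have h1 := hnorm _ (hleftQ b hb) _ hw
    rw [wEl_bd, mul_assoc, mul_inv_cancel, mul_one] at h1
    have h3 := T.mul_mem (hleftQ a ha) h1
    rw [← map_mul] at h3
    simpa using h3
  rcases hx' with rfl | rfl
  · exact hab
  · exact T.mul_mem hab hwT

/-- The elementary abelian subgroup of order sixteen of `PSp₄`, upstairs. -/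
def eSub (Q : Subgroup SL2) : Subgroup Sp4 := Subgroup.closure
  ({x | ∃ a ∈ Q, x = bd (a, a)} ∪ {tEl, wEl})

theorem eSub_le (d : QData Q i j) : eSub Q ≤ sylK Q := by
  refine (Subgroup.closure_le _).2 ?_
  rintro x (⟨a, ha, rfl⟩ | rfl | rfl)
  · exact bd_mem_sylK ha ha
  · exact bd_mem_sylK Q.one_mem d.neg_one_mem
  · exact wEl_mem_sylK Q

theorem mixElem_normalizes (h2 : (2 : F) ≠ 0) (d : QData Q i j)
    (hQc : Q ≤ Subgroup.closure {i, j}) (u : M2) (hu : u.det • ((mixMat : M2) * mixMatᵀ) = 1)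
    {x y : SL2} (hx : x ∈ Q) (hy : y ∈ Q) (hxi : u * (i : M2) = (x : M2) * u)
    (hyj : u * (j : M2) = (y : M2) * u) :
    (pr (tensSp u mixMat hu) : PSp4) ∈
      Subgroup.normalizer (((eSub Q).map (pr : Sp4 →* PSp4) : Subgroup PSp4) : Set PSp4) := by
  set M := tensSp u mixMat hu
  refine mem_normalizer_of_finite fun z hz => ?_
  obtain ⟨e, he, rfl⟩ := hz
  rw [← map_inv, ← map_mul, ← map_mul]
  refine Subgroup.mem_map_of_mem _ ?_
  suffices h : eSub Q ≤ (eSub Q).comap (MulAut.conj M).toMonoidHom from h he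
  refine (Subgroup.closure_le _).2 ?_
  have hwt : ∀ s : Sp4, s = tEl ∨ s = wEl → s ∈ eSub Q :=
    fun s hs => Subgroup.subset_closure (Or.inr (by rcases hs with rfl | rfl <;> simp))
  rintro z (⟨a, ha, rfl⟩ | rfl | rfl)
  · -- the diagonal copy of `Q`
    let D : Subgroup SL2 :=
      { carrier := {a | ∃ b ∈ Q, u * (a : M2) = (b : M2) * u}
        one_mem' := ⟨1, Q.one_mem, by simp⟩
        mul_mem' := by
          rintro a a' ⟨b, hb, e⟩ ⟨b', hb', e'⟩
          exact ⟨b * b', Q.mul_mem hb hb', by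
            rw [Matrix.SpecialLinearGroup.coe_mul, Matrix.SpecialLinearGroup.coe_mul,
              ← Matrix.mul_assoc, e, Matrix.mul_assoc, e', Matrix.mul_assoc]⟩
        inv_mem' := by
          rintro a ⟨b, hb, e⟩
          refine ⟨b⁻¹, Q.inv_mem hb, ?_⟩
          calc u * ((a⁻¹ : SL2) : M2) = ((b⁻¹ * b : SL2) : M2) * u * ((a⁻¹ : SL2) : M2) := by
                rw [inv_mul_cancel, Matrix.SpecialLinearGroup.coe_one, Matrix.one_mul]
            _ = ((b⁻¹ : SL2) : M2) * (u * (a : M2)) * ((a⁻¹ : SL2) : M2) := by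
                rw [e, Matrix.SpecialLinearGroup.coe_mul, Matrix.mul_assoc _ (b : M2) u]
            _ = ((b⁻¹ : SL2) : M2) * u * ((a * a⁻¹ : SL2) : M2) := by
                rw [Matrix.SpecialLinearGroup.coe_mul, ← Matrix.mul_assoc, Matrix.mul_assoc]
            _ = ((b⁻¹ : SL2) : M2) * u := by
                rw [mul_inv_cancel, Matrix.SpecialLinearGroup.coe_one, Matrix.mul_one] }
    have hD : Q ≤ D := hQc.trans ((Subgroup.closure_le _).2 (by
      rintro w (rfl | rfl)
      · exact ⟨x, hx, hxi⟩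
      · exact ⟨y, hy, hyj⟩))
    obtain ⟨b, hb, e⟩ := hD ha
    show M * bd (a, a) * M⁻¹ ∈ eSub Q
    have e' : M * bd (a, a) = bd (b, b) * M := by
      refine Subtype.ext ?_
      show tens u mixMat * bdMat (a : M2) a = bdMat (b : M2) b * tens u mixMat
      rw [bdMat_same, bdMat_same, tens_mul, tens_mul, e, Matrix.mul_one, Matrix.one_mul]
    rw [e', mul_inv_cancel_right]
    exact Subgroup.subset_closure (Or.inl ⟨b, hb, rfl⟩)
  · show M * tEl * M⁻¹ ∈ eSub Q
    have e' : M * tEl = wEl * M := by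
      refine Subtype.ext ?_
      show tens u mixMat * (tEl : Sp4).1 = tens (1 : M2) swp * tens u mixMat
      rw [tEl_coe, tens_mul, tens_mul, Matrix.mul_one, Matrix.one_mul, mixMat_sgn.1]
    rw [e', mul_inv_cancel_right]
    exact hwt _ (Or.inr rfl)
  · show M * wEl * M⁻¹ ∈ eSub Q
    have e' : M * wEl = tEl * M := by
      refine Subtype.ext ?_
      show tens u mixMat * tens (1 : M2) swp = (tEl : Sp4).1 * tens u mixMat
      rw [tEl_coe, tens_mul, tens_mul, Matrix.mul_one, Matrix.one_mul, mixMat_sgn.2]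
    rw [e', mul_inv_cancel_right]
    exact hwt _ (Or.inl rfl)

/-- The sign commutes with the Sylow subgroup up to the centre. -/
theorem tEl_pr_comm {k : Sp4} (hk : k ∈ sylK Q) (d : QData Q i j) :
    (pr tEl : PSp4) * pr k = pr k * pr tEl := by
  obtain ⟨a, -, b, -, rfl | rfl⟩ := hk
  · rw [← map_mul, ← map_mul, tEl, ← map_mul, ← map_mul]
    refine congrArg _ (congrArg bd (Prod.ext ?_ ?_)) <;> simp [neg_mul_SL, mul_neg_SL]
  · rw [← map_mul, ← map_mul, ← mul_assoc, show tEl * bd (a, b) = bd (a, b) * tEl from ?_,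
      mul_assoc, tEl_wEl, mul_assoc, map_mul, map_mul, map_mul, pr_eq_one.2 zEl_mem_center]
    · simp [mul_assoc]
    · rw [tEl, ← map_mul, ← map_mul]
      refine congrArg bd (Prod.ext ?_ ?_) <;> simp [neg_mul_SL, mul_neg_SL]

/-- An element commuting up to sign with `bd (i, i)` and `bd (j, j)`. -/
theorem mem_axes_of_comm {A B c : SL2}
    (h : (pr (bd (A, B)) : PSp4) * pr (bd (c, c)) = pr (bd (c, c)) * pr (bd (A, B))) :
    (A * c = c * A ∨ A * c = -(c * A)) ∧ (B * c = c * B ∨ B * c = -(c * B)) := by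
  rw [← map_mul, ← map_mul, ← map_mul, ← map_mul] at h
  rcases pr_eq_cases h with e | e
  · obtain ⟨h1, h2⟩ := Prod.ext_iff.1 (bd_injective e)
    exact ⟨Or.inl h1, Or.inl h2⟩
  · rw [Prod.mk_mul_mk, Prod.mk_mul_mk, ← zEl_eq_mul] at e
    obtain ⟨h1, h2⟩ := Prod.ext_iff.1 (bd_injective e)
    exact ⟨Or.inr h1, Or.inr h2⟩

theorem pr_pow_four {M : Sp4} (h : M.1 * M.1 = -1) : (pr M : PSp4) ^ 2 ^ 2 = 1 := by
  have e : M * M = zEl := Subtype.ext (h.trans zEl_coe.symm)
  rw [← map_pow, show (2 : ℕ) ^ 2 = 2 + 2 from rfl, pow_add, map_mul, sq, e,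
    pr_eq_one.2 zEl_mem_center, mul_one]

theorem neg_mem_Q (d : QData Q i j) {a : SL2} (ha : a ∈ Q) : -a ∈ Q := by
  have h := Q.mul_mem d.neg_one_mem ha
  rwa [neg_mul_SL, one_mul] at h

/-- In the quaternion case two elements of `Q` commute up to sign. -/
theorem comm_or_anticomm (d : QData Q i j) (hQc : Q ≤ Subgroup.closure {i, j}) :
    ∀ c ∈ Q, ∀ a ∈ Q, c * a = a * c ∨ c * a = -(a * c) := by
  have hgen : ∀ (X : Subgroup SL2), i ∈ X → j ∈ X → Q ≤ X := fun X hi hj =>
    hQc.trans ((Subgroup.closure_le _).2 (by rintro w (rfl | rfl) <;> assumption))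
  let C : SL2 → Subgroup SL2 := fun a =>
    { carrier := {c | c * a = a * c ∨ c * a = -(a * c)}
      one_mem' := Or.inl (by rw [one_mul, mul_one])
      mul_mem' := by
        rintro c c' (h | h) (h' | h')
        · exact Or.inl (by rw [mul_assoc, h', ← mul_assoc, h, mul_assoc])
        · exact Or.inr (by rw [mul_assoc, h', mul_neg_SL, ← mul_assoc, h, mul_assoc])
        · exact Or.inr (by rw [mul_assoc, h', ← mul_assoc, h, neg_mul_SL, mul_assoc])
        · exact Or.inl (by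
            rw [mul_assoc, h', mul_neg_SL, ← mul_assoc, h, neg_mul_SL, neg_neg_SL, mul_assoc])
      inv_mem' := by
        rintro c (h | h)
        · refine Or.inl ?_
          rw [eq_mul_inv_iff_mul_eq, mul_assoc, ← h, inv_mul_cancel_left]
        · refine Or.inr (mul_left_cancel (a := c) ?_)
          rw [mul_inv_cancel_left, mul_neg_SL, ← mul_assoc, h, neg_mul_SL, neg_neg_SL,
            mul_inv_cancel_right] }
  have hsymm : ∀ {a c : SL2}, c ∈ C a → a ∈ C c := by
    rintro a c (h | h)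
    · exact Or.inl h.symm
    · exact Or.inr (by rw [h, neg_neg_SL])
  have hii : i ∈ C i := Or.inl rfl
  have hjj : j ∈ C j := Or.inl rfl
  have hji : j ∈ C i := Or.inr d.anti
  intro c hc a ha
  exact hgen (C a) (hsymm (hgen (C i) hii hji ha)) (hsymm (hgen (C j) (hsymm hji) hjj ha)) hc

/-- In the quaternion case inversion on `Q` is a sign change. -/
theorem inv_eq_or_neg (h2 : (2 : F) ≠ 0) (d : QData Q i j) (hQc : Q ≤ Subgroup.closure {i, j})
    {x : SL2} (hx : x ∈ Q) : x⁻¹ = x ∨ x⁻¹ = -x := by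
  have hsq : ∀ a ∈ Q, x * x * a = a * (x * x) := by
    intro a ha
    rcases comm_or_anticomm d hQc x hx a ha with h | h
    · rw [mul_assoc, h, ← mul_assoc, h, mul_assoc]
    · rw [mul_assoc, h, mul_neg_SL, ← mul_assoc, h, neg_mul_SL, neg_neg_SL, mul_assoc]
  rcases eq_pm_one_of_commute h2 d (hsq i d.hi) (hsq j d.hj) with e | e
  · exact Or.inl (inv_eq_of_mul_eq_one_right e)
  · exact Or.inr (inv_eq_of_mul_eq_one_right (by rw [mul_neg_SL, e, neg_neg_SL]))

theorem bd_mem_eSub (d : QData Q i j) {a b : SL2} (ha : a ∈ Q) (hb : b = a ∨ b = -a) :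
    bd (a, b) ∈ eSub Q := by
  have h1 : bd (a, a) ∈ eSub Q := Subgroup.subset_closure (Or.inl ⟨a, ha, rfl⟩)
  rcases hb with rfl | rfl
  · exact h1
  · have h3 := (eSub Q).mul_mem h1 (Subgroup.subset_closure (Or.inr (Or.inl rfl)) : tEl ∈ eSub Q)
    rw [tEl, ← map_mul] at h3
    simpa [mul_neg_SL] using h3

theorem wEl_conj_tEl : (wEl : Sp4) * tEl * wEl⁻¹ = zEl * tEl := by
  rw [tEl, wEl_bd, mul_inv_cancel_right, ← zEl_eq_mul, neg_neg_SL]

/-- In the quaternion case the Sylow subgroup normalizes `eSub`. -/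
theorem sylK_le_normalizer_eSub (h2 : (2 : F) ≠ 0) (d : QData Q i j)
    (hQc : Q ≤ Subgroup.closure {i, j}) :
    sylK Q ≤ Subgroup.normalizer ((eSub Q : Subgroup Sp4) : Set Sp4) := by
  have hone : ∀ g : Sp4, (∀ a ∈ Q, g * bd (a, a) * g⁻¹ ∈ eSub Q) → g * tEl * g⁻¹ ∈ eSub Q →
      g * wEl * g⁻¹ ∈ eSub Q → g ∈ Subgroup.normalizer ((eSub Q : Subgroup Sp4) : Set Sp4) := by
    intro g h1 h3 h4
    refine mem_normalizer_of_finite fun z hz => ?_
    suffices h : eSub Q ≤ (eSub Q).comap (MulAut.conj g).toMonoidHom from h hz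
    refine (Subgroup.closure_le _).2 ?_
    rintro z (⟨a, ha, rfl⟩ | rfl | rfl)
    · exact h1 a ha
    · exact h3
    · exact h4
  have hw : (wEl : Sp4) ∈ eSub Q := Subgroup.subset_closure (Or.inr (Or.inr rfl))
  have ht : (tEl : Sp4) ∈ eSub Q := Subgroup.subset_closure (Or.inr (Or.inl rfl))
  have hwN : (wEl : Sp4) ∈ Subgroup.normalizer ((eSub Q : Subgroup Sp4) : Set Sp4) :=
    Subgroup.le_normalizer hw
  have hbd : ∀ c ∈ Q, ∀ e ∈ Q,
      bd (c, e) ∈ Subgroup.normalizer ((eSub Q : Subgroup Sp4) : Set Sp4) := by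
    intro c hc e he
    refine hone _ (fun a ha => ?_) ?_ ?_
    · rw [← map_inv, ← map_mul, ← map_mul]
      have hc' : c * a * c⁻¹ = a ∨ c * a * c⁻¹ = -a := by
        rcases comm_or_anticomm d hQc c hc a ha with h | h
        · exact Or.inl (by rw [h, mul_inv_cancel_right])
        · exact Or.inr (by rw [h, neg_mul_SL, mul_inv_cancel_right])
      have he' : e * a * e⁻¹ = a ∨ e * a * e⁻¹ = -a := by
        rcases comm_or_anticomm d hQc e he a ha with h | h
        · exact Or.inl (by rw [h, mul_inv_cancel_right])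
        · exact Or.inr (by rw [h, neg_mul_SL, mul_inv_cancel_right])
      show bd (c * a * c⁻¹, e * a * e⁻¹) ∈ _
      refine bd_mem_eSub d (Q.mul_mem (Q.mul_mem hc ha) (Q.inv_mem hc)) ?_
      rcases hc' with h | h <;> rcases he' with h' | h' <;> rw [h, h'] <;> simp [neg_neg_SL]
    · have e1 : bd (c, e) * tEl * (bd (c, e))⁻¹ = tEl := by
        rw [tEl, ← map_inv, ← map_mul, ← map_mul]
        refine congrArg bd (Prod.ext ?_ ?_) <;> simp [mul_neg_SL, neg_mul_SL]
      rw [e1]; exact ht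
    · have e1 : bd (c, e) * wEl * (bd (c, e))⁻¹ = bd (c * e⁻¹, (c * e⁻¹)⁻¹) * wEl := by
        rw [← map_inv, mul_assoc, Prod.inv_mk, wEl_bd, ← mul_assoc, ← map_mul]
        simp [Prod.mk_mul_mk]
      rw [e1]
      exact (eSub Q).mul_mem
        (bd_mem_eSub d (Q.mul_mem hc (Q.inv_mem he)) (inv_eq_or_neg h2 d hQc
          (Q.mul_mem hc (Q.inv_mem he)))) hw
  rintro x ⟨a, ha, b, hb, rfl | rfl⟩
  · exact hbd a ha b hb
  · exact mul_mem (hbd a ha b hb) hwN

/-- An element commuting with `tEl` up to sign is a block element, up to `wEl`. -/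
theorem exists_bd_or_wEl (h2 : (2 : F) ≠ 0) {s : Sp4}
    (h : s * tEl = tEl * s ∨ s * tEl = zEl * (tEl * s)) :
    ∃ A B : SL2, s = bd (A, B) ∨ s = wEl * bd (A, B) := by
  rcases h with h | h
  · obtain ⟨A, B, rfl⟩ := exists_bd_of_commute h2 h
    exact ⟨A, B, Or.inl rfl⟩
  · have hz : ∀ g : Sp4, g * zEl = zEl * g := Subgroup.mem_center_iff.1 zEl_mem_center
    have hs : wEl * s * tEl = tEl * (wEl * s) := by
      rw [mul_assoc, h, ← mul_assoc, hz, mul_assoc, ← mul_assoc wEl, ← mul_assoc tEl, tEl_wEl,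
        mul_assoc zEl]
    obtain ⟨A, B, e⟩ := exists_bd_of_commute h2 hs
    exact ⟨A, B, Or.inr (by rw [← e, ← mul_assoc, wEl_mul_self, one_mul])⟩

theorem pr_wEl_comm (c : SL2) : (pr wEl : PSp4) * pr (bd (c, c)) = pr (bd (c, c)) * pr wEl := by
  rw [← map_mul, ← map_mul, wEl_bd]

/-- The centralizer of the image of `eSub` lies in the Sylow subgroup. -/
theorem centralizer_eSub_le (h2 : (2 : F) ≠ 0) (d : QData Q i j) :
    Subgroup.centralizer (((eSub Q).map (pr : Sp4 →* PSp4) : Subgroup PSp4) : Set PSp4) ≤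
      (sylK Q).map (pr : Sp4 →* PSp4) := by
  intro x hx
  obtain ⟨s, rfl⟩ := pr_surjective x
  have hc : ∀ g ∈ eSub Q, (pr s : PSp4) * pr g = pr g * pr s := fun g hg =>
    (hx _ (Subgroup.mem_map_of_mem _ hg)).symm
  refine Subgroup.mem_map_of_mem _ ?_
  have ht := hc tEl (Subgroup.subset_closure (Or.inr (Or.inl rfl)))
  rw [← map_mul, ← map_mul] at ht
  obtain ⟨A, B, e⟩ := exists_bd_or_wEl h2 (pr_eq_cases ht)
  have hcc : ∀ c ∈ Q, (pr (bd (A, B)) : PSp4) * pr (bd (c, c)) = pr (bd (c, c)) * pr (bd (A, B)) := by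
    intro c hcQ
    have h1 := hc (bd (c, c)) (Subgroup.subset_closure (Or.inl ⟨c, hcQ, rfl⟩))
    rcases e with rfl | rfl
    · exact h1
    · rw [map_mul, mul_assoc, ← mul_assoc (pr (bd (c, c))), ← pr_wEl_comm, mul_assoc] at h1
      exact mul_left_cancel h1
  obtain ⟨hAi, hBi⟩ := mem_axes_of_comm (hcc i d.hi)
  obtain ⟨hAj, hBj⟩ := mem_axes_of_comm (hcc j d.hj)
  have hK := bd_mem_sylK (d.mem_of_axes h2 hAi hAj) (d.mem_of_axes h2 hBi hBj)
  rcases e with rfl | rfl
  · exact hK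
  · exact (sylK Q).mul_mem (wEl_mem_sylK Q) hK

/-- In the quaternion case the diagonal element of order three normalizes the Sylow subgroup. -/
theorem bd_h_normalizer (h2 : (2 : F) ≠ 0) (d : QData Q i j) (hQc : Q ≤ Subgroup.closure {i, j}) :
    (pr (bd (d.h h2, d.h h2)) : PSp4) ∈
      Subgroup.normalizer (((sylK Q).map (pr : Sp4 →* PSp4) : Subgroup PSp4) : Set PSp4) := by
  refine mem_normalizer_of_finite fun z hz => ?_
  obtain ⟨k, hk, rfl⟩ := hz
  rw [← map_inv, ← map_mul, ← map_mul]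
  refine Subgroup.mem_map_of_mem _ ?_
  set h := d.h h2
  have hN : ∀ a ∈ Q, h * a * h⁻¹ ∈ Q := fun a ha =>
    (Subgroup.mem_normalizer_iff.1 (d.h_normalizer h2 hQc) a).1 ha
  obtain ⟨a, ha, b, hb, rfl | rfl⟩ := hk
  · rw [← map_inv, ← map_mul, ← map_mul]
    exact bd_mem_sylK (hN a ha) (hN b hb)
  · rw [← map_inv, ← mul_assoc, ← map_mul, Prod.inv_mk, mul_assoc, wEl_bd, ← mul_assoc, ← map_mul]
    exact ⟨_, hN a ha, _, hN b hb, Or.inr rfl⟩

/-- In the quaternion case the diagonal element of order three is generated locally. -/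
theorem bd_h_good (h2 : (2 : F) ≠ 0) (d : QData Q i j) (hQc : Q ≤ Subgroup.closure {i, j}) :
    (pr (bd (d.h h2, d.h h2)) : PSp4) ∈ GoodElts 2 ((sylK Q).map (pr : Sp4 →* PSp4)) := by
  have hii := mul_eq_neg_of_sq d.isq
  have hjj := mul_eq_neg_of_sq d.jsq
  have hji : (j : M2) * (i : M2) = -((i : M2) * (j : M2)) := by
    rw [← Matrix.SpecialLinearGroup.coe_mul, d.anti]; simp
  have hki : (i : M2) * (j : M2) * (i : M2) = (j : M2) := by
    rw [Matrix.mul_assoc, hji, Matrix.mul_neg, ← Matrix.mul_assoc, hii, Matrix.neg_mul,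
      Matrix.one_mul, neg_neg]
  have hik : (i : M2) * ((i : M2) * (j : M2)) = -(j : M2) := by
    rw [← Matrix.mul_assoc, hii, Matrix.neg_mul, Matrix.one_mul]
  have hkj : (i : M2) * (j : M2) * (j : M2) = -(i : M2) := by
    rw [Matrix.mul_assoc, hjj, Matrix.mul_neg, Matrix.mul_one]
  have hjk : (j : M2) * ((i : M2) * (j : M2)) = (i : M2) := by
    rw [← Matrix.mul_assoc, hji, Matrix.neg_mul, Matrix.mul_assoc, hjj, Matrix.mul_neg,
      Matrix.mul_one, neg_neg]
  have hkk : (i : M2) * (j : M2) * ((i : M2) * (j : M2)) = -1 := by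
    rw [← Matrix.mul_assoc, hki, hjj]
  set u₁ : M2 := (i : M2) - (j : M2) with hu₁
  set u₂ : M2 := (i : M2) - (i : M2) * (j : M2) with hu₂
  have sq₁ : u₁ * u₁ = (-2 : F) • 1 := by
    simp only [hu₁, Matrix.sub_mul, Matrix.mul_sub, hii, hjj, hji]; module
  have sq₂ : u₂ * u₂ = (-2 : F) • 1 := by
    simp only [hu₂, Matrix.sub_mul, Matrix.mul_sub, hii, hik, hki, hkk]; module
  have tri := trace_eq_zero_of_sq d.isq
  have trj := trace_eq_zero_of_sq d.jsq
  have trk : ((i : M2) * j) 0 0 + ((i : M2) * j) 1 1 = 0 := by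
    have h1 := trace_eq_zero_of_sq (a := i * j) (Subtype.ext (by
      simpa using hkk))
    simpa using h1
  have hdet : ∀ v : M2, v 0 0 + v 1 1 = 0 → v * v = (-2 : F) • 1 → v.det = 2 := by
    intro v hv hvv
    have e := congrFun (congrFun hvv 0) 0
    simp [Matrix.mul_apply, Fin.sum_univ_two] at e
    rw [Matrix.det_fin_two]
    linear_combination (v 0 0) * hv - e
  have hmm : ∀ v : M2, v.det = 2 → v.det • ((mixMat : M2) * mixMatᵀ) = 1 := fun v hv => by
    rw [hv, mixMat_transpose, mixMat_mul_self h2, smul_smul, mul_inv_cancel₀ h2, one_smul]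
  have hd₁ := hdet u₁ (by simp [hu₁]; linear_combination tri - trj) sq₁
  have hd₂ := hdet u₂ (by simp [hu₂]; linear_combination tri - trk) sq₂
  set M₁ := tensSp u₁ mixMat (hmm u₁ hd₁)
  set M₂ := tensSp u₂ mixMat (hmm u₂ hd₂)
  have hprod : bd (d.h h2, d.h h2) = M₁ * M₂ := by
    refine Subtype.ext ?_
    show bdMat (hMat i j) (hMat i j) = tens u₁ mixMat * tens u₂ mixMat
    rw [bdMat_same, tens_mul, mixMat_mul_self h2, ← tens_smul]
    congr 1
    rw [hMat]
    congr 1
    simp only [hu₁, hu₂, Matrix.sub_mul, Matrix.mul_sub, hii, hik, hji, hjk]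
    module
  have hsqM : ∀ v : M2, v * v = (-2 : F) • 1 → tens v mixMat * tens v mixMat = -1 := by
    intro v hv
    rw [tens_mul, hv, mixMat_mul_self h2, tens_smul, smul_smul, neg_mul, mul_inv_cancel₀ h2,
      ← tens_smul, neg_one_smul, tens_neg_left, tens_one]
  refine ⟨bd_h_normalizer h2 d hQc, (eSub Q).map pr, Subgroup.map_mono (eSub_le d), ?_,
    centralizer_eSub_le h2 d, ?_⟩
  · rintro _ ⟨k, hk, rfl⟩
    refine mem_normalizer_of_finite fun z hz => ?_
    obtain ⟨g, hg, rfl⟩ := hz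
    rw [← map_inv, ← map_mul, ← map_mul]
    exact Subgroup.mem_map_of_mem _
      ((Subgroup.mem_normalizer_iff.1 (sylK_le_normalizer_eSub h2 d hQc hk) g).1 hg)
  rw [hprod, map_mul]
  refine Subgroup.mul_mem _ (Subgroup.subset_closure ⟨?_, 2, pr_pow_four (hsqM u₁ sq₁)⟩)
    (Subgroup.subset_closure ⟨?_, 2, pr_pow_four (hsqM u₂ sq₂)⟩)
  · refine mixElem_normalizes h2 d hQc u₁ (hmm u₁ hd₁) (x := -j) (y := -i) (neg_mem_Q d d.hj)
      (neg_mem_Q d d.hi) ?_ ?_ <;>
      simp only [hu₁, Matrix.SpecialLinearGroup.coe_neg, Matrix.sub_mul, Matrix.mul_sub,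
        Matrix.neg_mul, hii, hjj, hji] <;>
      abel
  · refine mixElem_normalizes h2 d hQc u₂ (hmm u₂ hd₂) (x := -(i * j)) (y := -j)
      (neg_mem_Q d (Q.mul_mem d.hi d.hj)) (neg_mem_Q d d.hj) ?_ ?_ <;>
      simp only [hu₂, Matrix.SpecialLinearGroup.coe_neg, Matrix.SpecialLinearGroup.coe_mul,
        Matrix.sub_mul, Matrix.mul_sub, Matrix.neg_mul, hii, hjj, hji, hki, hkk, hkj, hjk] <;>
      abel

/-- The normalizer of the Sylow subgroup is generated as required. -/
theorem normalizer_le_closure (h2 : (2 : F) ≠ 0) (d : QData Q i j) :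
    Subgroup.normalizer (((sylK Q).map (pr : Sp4 →* PSp4) : Subgroup PSp4) : Set PSp4) ≤
      Subgroup.closure ((((sylK Q).map (pr : Sp4 →* PSp4) : Subgroup PSp4) : Set PSp4) ∪
        GoodElts 2 ((sylK Q).map (pr : Sp4 →* PSp4))) := by
  intro x hx
  obtain ⟨s, rfl⟩ := pr_surjective x
  set S₀ := (sylK Q).map (pr : Sp4 →* PSp4) with hS₀
  set X := Subgroup.closure ((S₀ : Set PSp4) ∪ GoodElts 2 S₀)
  have hKX : ∀ k ∈ sylK Q, (pr k : PSp4) ∈ X := fun k hk =>
    Subgroup.subset_closure (Or.inl (Subgroup.mem_map_of_mem _ hk))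
  have hsN : ∀ k ∈ sylK Q, s * k * s⁻¹ ∈ sylK Q := fun k hk => by
    refine mem_sylK_of_pr_mem d ?_
    rw [map_mul, map_mul, map_inv]
    exact (Subgroup.mem_normalizer_iff.1 hx _).1 (Subgroup.mem_map_of_mem _ hk)
  have ht : (tEl : Sp4) ∈ sylK Q := bd_mem_sylK Q.one_mem d.neg_one_mem
  have hzc : ∀ g ∈ sylK Q,
      (pr (s * tEl * s⁻¹) : PSp4) * pr g = pr g * pr (s * tEl * s⁻¹) := by
    intro g hg
    obtain ⟨g', hg', e⟩ : ∃ g' ∈ sylK Q, pr g = (pr s : PSp4) * pr g' * (pr s)⁻¹ := by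
      have h1 := (Subgroup.mem_normalizer_iff''.1 hx (pr g)).1 (Subgroup.mem_map_of_mem _ hg)
      obtain ⟨g', hg', e⟩ := h1
      exact ⟨g', hg', by rw [e]; group⟩
    rw [map_mul, map_mul, map_inv, e]
    calc (pr s : PSp4) * pr tEl * (pr s)⁻¹ * (pr s * pr g' * (pr s)⁻¹)
        = pr s * (pr tEl * pr g') * (pr s)⁻¹ := by group
      _ = pr s * (pr g' * pr tEl) * (pr s)⁻¹ := by rw [tEl_pr_comm hg' d]
      _ = _ := by group
  have hine : i ≠ 1 ∧ i ≠ -1 := by
    refine ⟨fun e => ?_, fun e => ?_⟩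
    · have := d.isq
      rw [e, mul_one] at this
      exact neg_ne_self h2 1 this.symm
    · have := d.isq
      rw [e, neg_mul_SL, mul_neg_SL, mul_one, neg_neg_SL] at this
      exact neg_ne_self h2 1 this.symm
  have hcases : s * tEl = tEl * s ∨ s * tEl = zEl * (tEl * s) := by
    obtain ⟨a, ha, b, hb, e | e⟩ := hsN _ ht
    · have hcomm : ∀ c ∈ Q, a * c = c * a := by
        intro c hc
        have h1 := hzc _ (bd_mem_sylK hc Q.one_mem)
        rw [e, ← map_mul, ← map_mul, ← map_mul, ← map_mul] at h1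
        rcases pr_eq_cases h1 with h | h
        · simpa using (Prod.ext_iff.1 (bd_injective h)).1
        · rw [Prod.mk_mul_mk, Prod.mk_mul_mk, ← zEl_eq_mul, mul_one, one_mul] at h
          exact absurd (Prod.ext_iff.1 (bd_injective h)).2.symm (neg_ne_self h2 b)
      have hcomm' : ∀ c ∈ Q, b * c = c * b := by
        intro c hc
        have h1 := hzc _ (bd_mem_sylK Q.one_mem hc)
        rw [e, ← map_mul, ← map_mul, ← map_mul, ← map_mul] at h1
        rcases pr_eq_cases h1 with h | h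
        · simpa using (Prod.ext_iff.1 (bd_injective h)).2
        · rw [Prod.mk_mul_mk, Prod.mk_mul_mk, ← zEl_eq_mul, mul_one, one_mul] at h
          exact absurd (Prod.ext_iff.1 (bd_injective h)).1.symm (neg_ne_self h2 a)
      have hst : s * tEl = bd (a, b) * s := mul_inv_eq_iff_eq_mul.1 e
      have hne : ∀ u : Sp4, u ∈ Subgroup.center Sp4 → s * tEl * s⁻¹ ≠ u := by
        intro u hu hh
        have : (tEl : Sp4) ∈ Subgroup.center Sp4 := by
          have h1 : s⁻¹ * u * s = u := by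
            rw [mul_assoc, ← Subgroup.mem_center_iff.1 hu, inv_mul_cancel_left]
          have h3 : (tEl : Sp4) = s⁻¹ * u * s := by rw [← hh]; group
          rw [h3, h1]; exact hu
        rcases center_cases this with h | h
        · rw [tEl, ← map_one bd] at h
          exact neg_ne_self h2 1 (Prod.ext_iff.1 (bd_injective h)).2
        · rw [tEl, zEl] at h
          exact neg_ne_self h2 1 (Prod.ext_iff.1 (bd_injective h)).1.symm
      rcases eq_pm_one_of_commute h2 d (hcomm i d.hi) (hcomm j d.hj) with rfl | rfl <;>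
        rcases eq_pm_one_of_commute h2 d (hcomm' i d.hi) (hcomm' j d.hj) with rfl | rfl
      · exact absurd e (hne _ (by
          rw [show ((1, 1) : SL2 × SL2) = 1 from rfl, map_one]; exact one_mem _))
      · exact Or.inl hst
      · refine Or.inr ?_
        rw [hst, ← mul_assoc, tEl, ← zEl_eq_mul, neg_neg_SL]
      · exact absurd e (hne _ zEl_mem_center)
    · exfalso
      have h1 := hzc _ (bd_mem_sylK d.hi Q.one_mem)
      rw [e, ← map_mul, ← map_mul, mul_assoc, wEl_bd, ← mul_assoc, ← mul_assoc, ← map_mul,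
        ← map_mul] at h1
      rcases pr_eq_cases h1 with h | h
      · have h3 := (Prod.ext_iff.1 (bd_injective (mul_right_cancel h))).2
        simp at h3
        exact hine.1 h3
      · rw [← mul_assoc, Prod.mk_mul_mk, Prod.mk_mul_mk, ← zEl_eq_mul] at h
        have h3 := (Prod.ext_iff.1 (bd_injective (mul_right_cancel h))).2
        simp only [one_mul] at h3
        rw [← mul_one (-b), neg_mul_SL, ← mul_neg_SL] at h3
        exact hine.2 (mul_left_cancel h3)
  obtain ⟨A, B, hs⟩ := exists_bd_or_wEl h2 hcases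
  have hsN' : ∀ k ∈ sylK Q, bd (A, B) * k * (bd (A, B))⁻¹ ∈ sylK Q := by
    intro k hk
    have h1 := hsN k hk
    rcases hs with rfl | rfl
    · exact h1
    · have h3 := (sylK Q).mul_mem ((sylK Q).mul_mem ((sylK Q).inv_mem (wEl_mem_sylK Q)) h1)
        (wEl_mem_sylK Q)
      convert h3 using 1
      group
  suffices hgoal : (pr (bd (A, B)) : PSp4) ∈ X by
    rcases hs with rfl | rfl
    · exact hgoal
    · rw [map_mul]; exact mul_mem (hKX _ (wEl_mem_sylK Q)) hgoal
  have hN : ∀ {C : SL2}, (∀ c ∈ Q, C * c * C⁻¹ ∈ Q) → C ∈ Subgroup.normalizer (Q : Set SL2) :=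
    fun h => mem_normalizer_of_finite h
  have hBn : B ∈ Subgroup.normalizer (Q : Set SL2) := hN fun c hc => by
    have h1 := hsN' _ (bd_mem_sylK Q.one_mem hc)
    rw [← map_inv, ← map_mul, ← map_mul] at h1
    exact (mem_of_bd_mem_sylK h1).2
  have hABQ : A * B⁻¹ ∈ Q := by
    have h1 := hsN' _ (wEl_mem_sylK Q)
    rw [← map_inv, mul_assoc, Prod.inv_mk, wEl_bd, ← mul_assoc, ← map_mul] at h1
    exact (mem_of_bd_wEl_mem_sylK h1).1
  have hsplit : bd (A, B) = bd (A * B⁻¹, 1) * bd (B, B) := by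
    rw [← map_mul]; simp
  rw [hsplit, map_mul]
  refine mul_mem (hKX _ (bd_mem_sylK hABQ Q.one_mem)) ?_
  let D : Subgroup SL2 := X.comap
    ((pr : Sp4 →* PSp4).comp (bd.comp ((MonoidHom.id SL2).prod (MonoidHom.id SL2))))
  have hQD : Q ≤ D := fun u hu => hKX _ (bd_mem_sylK hu hu)
  rcases d.normalizer_le h2 hBn with hQ | ⟨hQc, hmem⟩
  · exact hQD hQ
  · refine (sup_le (Subgroup.zpowers_le.2 ?_) hQD : Subgroup.zpowers (d.h h2) ⊔ Q ≤ D) hmem
    exact Subgroup.subset_closure (Or.inr (bd_h_good h2 d hQc))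

/-- The `2`-fusion system of `PSp₄` in odd characteristic is simple. -/
theorem isSimple_pspFour (hodd : Fintype.card F % 2 = 1) (S : Sylow 2 PSp4) :
    (groupFusionSystem (S : Subgroup PSp4)).IsSimple 2 := by
  have : Fact (Nat.Prime 2) := ⟨Nat.prime_two⟩
  have h2 : (2 : F) ≠ 0 := by
    intro h
    have hc : ringChar F = 2 := CharP.ringChar_of_prime_eq_zero Nat.prime_two (by exact_mod_cast h)
    have := FiniteField.even_card_iff_char_two.1 hc
    omega
  obtain ⟨P⟩ := (inferInstance : Nonempty (Sylow 2 SL2))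
  obtain ⟨i, j, d⟩ := exists_qData h2 P
  obtain ⟨S₀, hS₀⟩ := exists_sylow_pr h2 hodd P d.neg_one_mem
  refine isSimple_of_criterion' S₀ ?_ ?_ ?_ S
  · rw [hS₀]
    intro hbot
    have h1 : (pr (bd (i, 1)) : PSp4) ∈ ((sylK (P : Subgroup SL2)).map pr : Subgroup PSp4) :=
      Subgroup.mem_map_of_mem _ (bd_mem_sylK d.hi (P : Subgroup SL2).one_mem)
    rw [hbot, Subgroup.mem_bot] at h1
    rcases center_cases (pr_eq_one.1 h1) with h | h
    · rw [← map_one bd] at h
      have e := (Prod.ext_iff.1 (bd_injective h)).1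
      simp only [Prod.fst_one] at e
      have := d.isq
      rw [e, mul_one] at this
      exact neg_ne_self h2 1 this.symm
    · rw [zEl] at h
      exact neg_ne_self h2 1 (Prod.ext_iff.1 (bd_injective h)).2.symm
  · rw [hS₀]; exact closedTrivial_sylK h2 d
  · rw [hS₀]; exact normalizer_le_closure h2 d

end Cfsg.Agent.Lib.Fusion.SpFour
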