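import Cfsg.Agent.Lib.Fusion.SLTwoQuaternion
import Cfsg.Agent.Lib.Classical.SympCard
import Cfsg.Agent.Lib.Fusion.PSpFusion

/-!
The Sylow `2`-subgroup of `Sp₄` in odd characteristic, in tensor form.
-/

set_option autoImplicit false
set_option linter.unusedSectionVars false

namespace Cfsg.Agent.Lib.Fusion.SpFour

open Matrix
open Cfsg.Agent.Lib.Classical.AutPSp (pr pr_surjective pr_eq_one)

variable {F : Type*} [Field F] [Fintype F]

set_option quotPrecheck false in
local notation "SL2" => Matrix.SpecialLinearGroup (Fin 2) F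
set_option quotPrecheck false in
local notation "M2" => Matrix (Fin 2) (Fin 2) F
set_option quotPrecheck false in
local notation "M4" => Matrix (Fin 2 ⊕ Fin 2) (Fin 2 ⊕ Fin 2) F
set_option quotPrecheck false in
local notation "Sp4" => Subtype (fun A => A ∈ Matrix.symplecticGroup (Fin 2) F)

/-- `u ⊗ A`, the left factor acting inside the hyperbolic pairs. -/
def tens (u A : M2) : M4 :=
  Matrix.fromBlocks (u 0 0 • A) (u 0 1 • A) (u 1 0 • A) (u 1 1 • A)

theorem tens_mul (u v A B : M2) : tens u A * tens v B = tens (u * v) (A * B) := by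
  simp only [tens, Matrix.fromBlocks_multiply, Matrix.smul_mul, Matrix.mul_smul, smul_smul,
    Matrix.mul_apply, Fin.sum_univ_two, add_smul, mul_comm (v _ _) (u _ _)]

theorem tens_transpose (u A : M2) : (tens u A)ᵀ = tens uᵀ Aᵀ := by
  simp [tens, Matrix.fromBlocks_transpose]

theorem tens_add_right (u A B : M2) : tens u (A + B) = tens u A + tens u B := by
  simp [tens, Matrix.fromBlocks_add]

theorem tens_neg_left (u A : M2) : tens (-u) A = -tens u A := by
  simp [tens, Matrix.fromBlocks_neg, neg_smul]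

theorem tens_smul (u A : M2) (c : F) : tens (c • u) A = tens u (c • A) := by
  simp [tens, smul_smul, mul_comm]

theorem tens_zero_right (u : M2) : tens u 0 = 0 := by
  simp [tens, Matrix.fromBlocks_zero]

theorem tens_one : tens (1 : M2) 1 = (1 : M4) := by
  simp [tens, Matrix.fromBlocks_one]

theorem J_eq : Matrix.J (Fin 2) F = tens (jStd : M2) 1 := by
  simp [tens, Matrix.J, jStd]

theorem mul_jStd_mul_transpose (u : M2) : u * jStd * uᵀ = u.det • (jStd : M2) := by
  ext r s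
  fin_cases r <;> fin_cases s <;>
    simp [jStd, Matrix.mul_apply, Fin.sum_univ_two, Matrix.det_fin_two, Matrix.vecMul, dotProduct] <;>
    ring

/-- The projection to the first pair. -/
def eZero : M2 := !![1, 0; 0, 0]
/-- The projection to the second pair. -/
def eOne : M2 := !![0, 0; 0, 1]
/-- The exchange of the pairs. -/
def swp : M2 := !![0, 1; 1, 0]
/-- The sign change on the second pair. -/
def sgn : M2 := !![1, 0; 0, -1]

/-- `a` on the first pair, `b` on the second. -/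
def bdMat (a b : M2) : M4 := tens a eZero + tens b eOne

theorem bdMat_mul (a b c d : M2) : bdMat a b * bdMat c d = bdMat (a * c) (b * d) := by
  have h00 : (eZero : M2) * eZero = eZero := by
    ext r s; fin_cases r <;> fin_cases s <;> simp [eZero, Matrix.mul_apply, Fin.sum_univ_two]
  have h11 : (eOne : M2) * eOne = eOne := by
    ext r s; fin_cases r <;> fin_cases s <;> simp [eOne, Matrix.mul_apply, Fin.sum_univ_two]
  have h01 : (eZero : M2) * eOne = 0 := by
    ext r s; fin_cases r <;> fin_cases s <;> simp [eZero, eOne, Matrix.mul_apply, Fin.sum_univ_two]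
  have h10 : (eOne : M2) * eZero = 0 := by
    ext r s; fin_cases r <;> fin_cases s <;> simp [eZero, eOne, Matrix.mul_apply, Fin.sum_univ_two]
  simp only [bdMat, Matrix.add_mul, Matrix.mul_add, tens_mul, h00, h11, h01, h10, tens_zero_right,
    add_zero, zero_add]

theorem bdMat_neg (a b : M2) : bdMat (-a) (-b) = -bdMat a b := by
  rw [bdMat, bdMat, tens_neg_left, tens_neg_left, neg_add]

theorem bdMat_same (a : M2) : bdMat a a = tens a 1 := by
  rw [bdMat, ← tens_add_right]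
  congr 1
  ext r s; fin_cases r <;> fin_cases s <;> simp [eZero, eOne]

theorem bdMat_signed (a : M2) : bdMat a (-a) = tens a sgn := by
  ext (r | r) (s | s) <;> fin_cases r <;> fin_cases s <;>
    simp [bdMat, tens, eZero, eOne, sgn]

theorem bdMat_mem {a b : M2} (ha : a.det = 1) (hb : b.det = 1) :
    bdMat a b ∈ Matrix.symplecticGroup (Fin 2) F := by
  rw [SymplecticGroup.mem_iff]
  have hT : (bdMat a b)ᵀ = bdMat aᵀ bᵀ := by
    rw [bdMat, bdMat, Matrix.transpose_add, tens_transpose, tens_transpose]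
    congr 2 <;> ext r s <;> fin_cases r <;> fin_cases s <;> simp [eZero, eOne]
  rw [J_eq, ← bdMat_same jStd, hT, bdMat_mul, bdMat_mul, mul_jStd_mul_transpose,
    mul_jStd_mul_transpose, ha, hb, one_smul]

theorem tens_mem {u A : M2} (h : u.det • (A * Aᵀ) = 1) :
    tens u A ∈ Matrix.symplecticGroup (Fin 2) F := by
  rw [SymplecticGroup.mem_iff, J_eq, tens_transpose, tens_mul, tens_mul, Matrix.mul_one,
    mul_jStd_mul_transpose, tens_smul, h]

/-- A symplectic tensor. -/
def tensSp (u A : M2) (h : u.det • (A * Aᵀ) = 1) : Sp4 := ⟨tens u A, tens_mem h⟩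

/-- The block embedding. -/
def bd : SL2 × SL2 →* Sp4 where
  toFun p := ⟨bdMat (p.1 : M2) (p.2 : M2), bdMat_mem p.1.det_coe p.2.det_coe⟩
  map_one' := Subtype.ext (by
    show bdMat ((1 : SL2) : M2) ((1 : SL2) : M2) = 1
    rw [Matrix.SpecialLinearGroup.coe_one, bdMat_same, tens_one])
  map_mul' p q := Subtype.ext (by
    show bdMat ((p.1 * q.1 : SL2) : M2) ((p.2 * q.2 : SL2) : M2) = _
    rw [Matrix.SpecialLinearGroup.coe_mul, Matrix.SpecialLinearGroup.coe_mul, ← bdMat_mul]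
    rfl)

theorem bd_coe (a b : SL2) : (bd (a, b) : Sp4).1 = bdMat (a : M2) (b : M2) := rfl

/-- The exchange of the two pairs. -/
def wEl : Sp4 := tensSp 1 swp (by
  rw [Matrix.det_one, one_smul]
  ext r s; fin_cases r <;> fin_cases s <;> simp [swp, Matrix.mul_apply, Fin.sum_univ_two])

theorem wEl_mul_self : (wEl : Sp4) * wEl = 1 := Subtype.ext (by
  show tens (1 : M2) swp * tens (1 : M2) swp = 1
  rw [tens_mul, Matrix.mul_one, ← tens_one]
  congr 1
  ext r s; fin_cases r <;> fin_cases s <;> simp [swp, Matrix.mul_apply, Fin.sum_univ_two])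

theorem wEl_bd (a b : SL2) : (wEl : Sp4) * bd (a, b) = bd (b, a) * wEl := by
  refine Subtype.ext ?_
  show tens (1 : M2) swp * bdMat (a : M2) (b : M2) = bdMat (b : M2) (a : M2) * tens (1 : M2) swp
  simp only [bdMat, Matrix.mul_add, Matrix.add_mul, tens_mul, Matrix.one_mul, Matrix.mul_one]
  rw [add_comm]
  congr 2 <;> ext r s <;> fin_cases r <;> fin_cases s <;>
    simp [swp, eZero, eOne, Matrix.mul_apply, Fin.sum_univ_two]

theorem bdMat_injective {a b c d : M2} (h : bdMat a b = bdMat c d) : a = c ∧ b = d := by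
  have e := fun x y => congrFun (congrFun h x) y
  constructor <;> ext r s <;> fin_cases r <;> fin_cases s
  · simpa [bdMat, tens, eZero, eOne] using e (Sum.inl 0) (Sum.inl 0)
  · simpa [bdMat, tens, eZero, eOne] using e (Sum.inl 0) (Sum.inr 0)
  · simpa [bdMat, tens, eZero, eOne] using e (Sum.inr 0) (Sum.inl 0)
  · simpa [bdMat, tens, eZero, eOne] using e (Sum.inr 0) (Sum.inr 0)
  · simpa [bdMat, tens, eZero, eOne] using e (Sum.inl 1) (Sum.inl 1)
  · simpa [bdMat, tens, eZero, eOne] using e (Sum.inl 1) (Sum.inr 1)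
  · simpa [bdMat, tens, eZero, eOne] using e (Sum.inr 1) (Sum.inl 1)
  · simpa [bdMat, tens, eZero, eOne] using e (Sum.inr 1) (Sum.inr 1)

theorem bd_injective : Function.Injective (bd : SL2 × SL2 →* Sp4) := by
  rintro ⟨a, b⟩ ⟨c, d⟩ h
  obtain ⟨h1, h2⟩ := bdMat_injective (congrArg Subtype.val h)
  exact Prod.ext (Subtype.ext h1) (Subtype.ext h2)

/-- Block elements are not exchanging. -/
theorem bd_ne_bd_wEl (a b c d : SL2) : (bd (a, b) : Sp4) ≠ bd (c, d) * wEl := by
  intro h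
  have e := congrArg Subtype.val h
  have e00 : bdMat (a : M2) b (Sum.inl 0) (Sum.inl 0) =
      (bdMat (c : M2) d * tens (1 : M2) swp) (Sum.inl 0) (Sum.inl 0) :=
    congrFun (congrFun e _) _
  have e01 : bdMat (a : M2) b (Sum.inl 0) (Sum.inr 0) =
      (bdMat (c : M2) d * tens (1 : M2) swp) (Sum.inl 0) (Sum.inr 0) :=
    congrFun (congrFun e _) _
  simp [bdMat, tens, eZero, eOne, swp, Matrix.mul_apply, Fin.sum_univ_two] at e00 e01
  have hd := a.det_coe
  rw [Matrix.det_fin_two, e00, e01, zero_mul, zero_mul, sub_zero] at hd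
  exact zero_ne_one hd

/-- The sign on the second pair. -/
def tEl : Sp4 := bd (1, -1)

theorem tEl_coe : (tEl : Sp4).1 = tens (1 : M2) sgn := by
  rw [tEl, bd_coe, ← bdMat_signed]
  simp

/-- A symplectic matrix commuting with `tEl` is a block matrix. -/
theorem exists_bd_of_commute (h2 : (2 : F) ≠ 0) {s : Sp4} (h : s * tEl = tEl * s) :
    ∃ A B : SL2, s = bd (A, B) := by
  have hm : s.1 * tens (1 : M2) sgn = tens (1 : M2) sgn * s.1 := by
    rw [← tEl_coe]; exact congrArg Subtype.val h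
  set M := s.1 with hM
  have hz : ∀ x y : Fin 2 ⊕ Fin 2, x.elim id id ≠ y.elim id id → M x y = 0 := by
    intro x y hne
    have e := congrFun (congrFun hm x) y
    rcases x with r | r <;> rcases y with c | c <;> fin_cases r <;> fin_cases c <;>
      simp [tens, sgn, Matrix.mul_apply, Fin.sum_univ_two] at e hne ⊢ <;>
      exact (mul_eq_zero.1 (show (2 : F) * _ = 0 by first | linear_combination e | linear_combination -e)).resolve_left h2
  let A : M2 := !![M (Sum.inl 0) (Sum.inl 0), M (Sum.inl 0) (Sum.inr 0);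
    M (Sum.inr 0) (Sum.inl 0), M (Sum.inr 0) (Sum.inr 0)]
  let B : M2 := !![M (Sum.inl 1) (Sum.inl 1), M (Sum.inl 1) (Sum.inr 1);
    M (Sum.inr 1) (Sum.inl 1), M (Sum.inr 1) (Sum.inr 1)]
  have hMe : M = bdMat A B := by
    ext x y
    rcases x with r | r <;> rcases y with c | c <;> fin_cases r <;> fin_cases c <;>
      simp [bdMat, tens, eZero, eOne, A, B] <;> exact hz _ _ (by simp)
  have hmem := s.2
  rw [SymplecticGroup.mem_iff, ← hM, hMe, J_eq] at hmem
  have hT : (bdMat A B)ᵀ = bdMat Aᵀ Bᵀ := by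
    rw [bdMat, bdMat, Matrix.transpose_add, tens_transpose, tens_transpose]
    congr 2 <;> ext r c <;> fin_cases r <;> fin_cases c <;> simp [eZero, eOne]
  rw [← bdMat_same jStd, hT, bdMat_mul, bdMat_mul, mul_jStd_mul_transpose,
    mul_jStd_mul_transpose] at hmem
  obtain ⟨hA, hB⟩ := bdMat_injective hmem
  have hA' := congrFun (congrFun hA 1) 0
  have hB' := congrFun (congrFun hB 1) 0
  simp [jStd] at hA' hB'
  exact ⟨⟨A, hA'⟩, ⟨B, hB'⟩, Subtype.ext hMe⟩

theorem mem_center_iff {x : Sp4} : x ∈ Subgroup.center Sp4 ↔ x.1 = 1 ∨ x.1 = -1 :=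
  Cfsg.Agent.Lib.Classical.mem_center_sp_iff (by norm_num) x

theorem bd_neg (a b : SL2) : (bd (-a, -b) : Sp4).1 = -(bd (a, b) : Sp4).1 := by
  rw [bd_coe, bd_coe, Matrix.SpecialLinearGroup.coe_neg, Matrix.SpecialLinearGroup.coe_neg, bdMat_neg]

/-- The central involution. -/
def zEl : Sp4 := bd (-1, -1)

theorem zEl_coe : (zEl : Sp4).1 = -1 := by
  rw [zEl, bd_neg]
  exact congrArg Neg.neg (congrArg Subtype.val (map_one (bd (F := F))))

theorem center_cases {x : Sp4} (h : x ∈ Subgroup.center Sp4) : x = 1 ∨ x = zEl := by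
  rcases mem_center_iff.1 h with e | e
  · exact Or.inl (Subtype.ext e)
  · exact Or.inr (Subtype.ext (e.trans zEl_coe.symm))

/-- The Sylow `2`-subgroup attached to `Q`. -/
def sylK (Q : Subgroup SL2) : Subgroup Sp4 where
  carrier := {x | ∃ a ∈ Q, ∃ b ∈ Q, x = bd (a, b) ∨ x = bd (a, b) * wEl}
  one_mem' := ⟨1, Q.one_mem, 1, Q.one_mem, Or.inl (map_one bd).symm⟩
  mul_mem' := by
    rintro x y ⟨a, ha, b, hb, rfl | rfl⟩ ⟨c, hc, d, hd, rfl | rfl⟩
    · exact ⟨a * c, Q.mul_mem ha hc, b * d, Q.mul_mem hb hd, Or.inl (map_mul bd (a, b) (c, d)).symm⟩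
    · exact ⟨a * c, Q.mul_mem ha hc, b * d, Q.mul_mem hb hd, Or.inr (by
        rw [← mul_assoc, ← map_mul]; rfl)⟩
    · refine ⟨a * d, Q.mul_mem ha hd, b * c, Q.mul_mem hb hc, Or.inr ?_⟩
      rw [mul_assoc, wEl_bd, ← mul_assoc, ← map_mul]; rfl
    · refine ⟨a * d, Q.mul_mem ha hd, b * c, Q.mul_mem hb hc, Or.inl ?_⟩
      rw [mul_assoc, ← mul_assoc wEl, wEl_bd, mul_assoc, wEl_mul_self, mul_one, ← map_mul]; rfl
  inv_mem' := by
    rintro x ⟨a, ha, b, hb, rfl | rfl⟩
    · exact ⟨a⁻¹, Q.inv_mem ha, b⁻¹, Q.inv_mem hb, Or.inl (map_inv bd (a, b)).symm⟩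
    · refine ⟨b⁻¹, Q.inv_mem hb, a⁻¹, Q.inv_mem ha, Or.inr ?_⟩
      rw [_root_.mul_inv_rev, inv_eq_of_mul_eq_one_right wEl_mul_self, ← map_inv, Prod.inv_mk, wEl_bd]

theorem bd_mem_sylK {Q : Subgroup SL2} {a b : SL2} (ha : a ∈ Q) (hb : b ∈ Q) : bd (a, b) ∈ sylK Q :=
  ⟨a, ha, b, hb, Or.inl rfl⟩

theorem wEl_mem_sylK (Q : Subgroup SL2) : wEl ∈ sylK Q :=
  ⟨1, Q.one_mem, 1, Q.one_mem, Or.inr (by rw [show ((1, 1) : SL2 × SL2) = 1 from rfl, map_one, one_mul])⟩

theorem mem_of_bd_mem_sylK {Q : Subgroup SL2} {a b : SL2} (h : bd (a, b) ∈ sylK Q) : a ∈ Q ∧ b ∈ Q := by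
  obtain ⟨c, hc, d, hd, e | e⟩ := h
  · obtain ⟨rfl, rfl⟩ := Prod.ext_iff.1 (bd_injective e)
    exact ⟨hc, hd⟩
  · exact absurd e (bd_ne_bd_wEl a b c d)

theorem mem_of_bd_wEl_mem_sylK {Q : Subgroup SL2} {a b : SL2} (h : bd (a, b) * wEl ∈ sylK Q) :
    a ∈ Q ∧ b ∈ Q := by
  refine mem_of_bd_mem_sylK ?_
  have := (sylK Q).mul_mem h (wEl_mem_sylK Q)
  rwa [mul_assoc, wEl_mul_self, mul_one] at this

theorem card_sylK (Q : Subgroup SL2) : Nat.card (sylK Q) = Nat.card Q * Nat.card Q * 2 := by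
  let f : (Q × Q) × Bool → sylK Q := fun p =>
    ⟨if p.2 then bd ((p.1.1 : SL2), (p.1.2 : SL2)) * wEl else bd ((p.1.1 : SL2), (p.1.2 : SL2)), by
      split
      · exact ⟨_, p.1.1.2, _, p.1.2.2, Or.inr rfl⟩
      · exact ⟨_, p.1.1.2, _, p.1.2.2, Or.inl rfl⟩⟩
  have hf : Function.Bijective f := by
    constructor
    · rintro ⟨⟨a, b⟩, x⟩ ⟨⟨c, d⟩, y⟩ e
      have e' := congrArg Subtype.val e
      cases x <;> cases y <;> simp only [f, if_true, if_false, Bool.false_eq_true] at e'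
      · obtain ⟨h1, h2⟩ := Prod.ext_iff.1 (bd_injective e')
        rw [Subtype.ext h1, Subtype.ext h2]
      · exact absurd e' (bd_ne_bd_wEl _ _ _ _)
      · exact absurd e'.symm (bd_ne_bd_wEl _ _ _ _)
      · obtain ⟨h1, h2⟩ := Prod.ext_iff.1 (bd_injective (mul_right_cancel e'))
        rw [Subtype.ext h1, Subtype.ext h2]
    · rintro ⟨x, a, ha, b, hb, rfl | rfl⟩
      · exact ⟨((⟨a, ha⟩, ⟨b, hb⟩), false), Subtype.ext rfl⟩
      · exact ⟨((⟨a, ha⟩, ⟨b, hb⟩), true), Subtype.ext rfl⟩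
  rw [← Nat.card_congr (Equiv.ofBijective f hf), Nat.card_prod, Nat.card_prod,
    Nat.card_eq_fintype_card (α := Bool), Fintype.card_bool]

theorem center_le_sylK {Q : Subgroup SL2} (hQ : (-1 : SL2) ∈ Q) : Subgroup.center Sp4 ≤ sylK Q := by
  intro x hx
  rcases center_cases hx with rfl | rfl
  · exact (sylK Q).one_mem
  · exact bd_mem_sylK hQ hQ

/-- `sylK Q` gives a Sylow `2`-subgroup of `PSp₄`. -/
theorem exists_sylow_pr (h2 : (2 : F) ≠ 0) (hodd : Fintype.card F % 2 = 1)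
    (P : Sylow 2 SL2) (hP : (-1 : SL2) ∈ (P : Subgroup SL2)) :
    ∃ S₀ : Sylow 2 (Cfsg.PSp 2 F), (S₀ : Subgroup (Cfsg.PSp 2 F)) =
      (sylK (P : Subgroup SL2)).map (pr : Sp4 →* Cfsg.PSp 2 F) := by
  have : Fact (Nat.Prime 2) := ⟨Nat.prime_two⟩
  set K := sylK (P : Subgroup SL2) with hK
  obtain ⟨r, hr⟩ := IsPGroup.iff_card.1 P.isPGroup'
  have hKp : IsPGroup 2 K := IsPGroup.of_card (n := r + r + 1) (by
    rw [hK, card_sylK, hr, pow_succ, pow_add])
  have hKi : ¬ 2 ∣ K.index := by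
    have h1 := K.card_mul_index
    rw [hK, card_sylK, Cfsg.Agent.Lib.Classical.card_sp (m := 2)] at h1
    have h3 := (P : Subgroup SL2).card_mul_index
    rw [Cfsg.Agent.Lib.Classical.card_SL2] at h3
    simp only [Finset.prod_range_succ, Finset.prod_range_zero, one_mul] at h1
    set q := Fintype.card F with hq
    set o := (P : Subgroup SL2).index with ho
    obtain ⟨c, hc⟩ : ∃ c, q ^ 2 + 1 = 2 * c := by
      refine ⟨(q ^ 2 + 1) / 2, (Nat.mul_div_cancel' ?_).symm⟩
      rw [← even_iff_two_dvd, Nat.even_add_one, Nat.even_pow]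
      simp [Nat.even_iff, hodd]
    have hc' : Odd c := by
      obtain ⟨k, hk⟩ := Nat.odd_iff.2 hodd
      exact ⟨k * (k + 1), by nlinarith⟩
    have e4 : q ^ 4 - 1 = (q ^ 2 - 1) * (2 * c) := by
      rw [← hc, mul_comm, ← Nat.sq_sub_sq, ← pow_mul]
    norm_num at h1
    rw [e4] at h1
    set m := q ^ 2 - 1
    have h5 : Nat.card (P : Subgroup SL2) * Nat.card (P : Subgroup SL2) * 2 * K.index =
        Nat.card (P : Subgroup SL2) * Nat.card (P : Subgroup SL2) * 2 * (o * o * q ^ 2 * c) := by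
      calc Nat.card (P : Subgroup SL2) * Nat.card (P : Subgroup SL2) * 2 * K.index
          = q ^ 4 * (m * (m * (2 * c))) := by rw [hK]; linarith [h1]
        _ = (q * m) * (q * m) * 2 * (q ^ 2 * c) := by ring
        _ = _ := by rw [← h3]; ring
    have h6 : K.index = o * o * q ^ 2 * c := Nat.eq_of_mul_eq_mul_left
      (by have := (Nat.card_pos : 0 < Nat.card (P : Subgroup SL2)); positivity) h5
    rw [h6, Nat.two_dvd_ne_zero, ← Nat.odd_iff]
    have ho' : Odd o := Nat.odd_iff.2 (Nat.two_dvd_ne_zero.1 P.not_dvd_index)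
    exact ((ho'.mul ho').mul (Nat.odd_iff.2 hodd).pow).mul hc'
  refine ⟨(hKp.toSylow hKi).mapSurjective pr_surjective, ?_⟩
  rw [Sylow.coe_mapSurjective]
  rfl

end Cfsg.Agent.Lib.Fusion.SpFour
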