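import Cfsg.Agent.Lib.Fusion.ConstrainedSub
import Cfsg.Agent.Lib.PLocal.CharTest

/-!
Systems with only the trivial proper saturated subsystem over the same group are constrained.
-/

set_option autoImplicit false
set_option linter.unusedSectionVars false

namespace Cfsg.Agent.Lib.Fusion

open Cfsg Cfsg.FusionSystem
open Cfsg.Agent.Lib.PLocal.FusionNpc

universe u

variable {p : ℕ} [Fact p.Prime] {Ω : Type u} [Group Ω] {S : Subgroup Ω} [Finite S]

/-- If the automizer of `Q C_S(Q)` is a `p`-group then so is that of `Q`. -/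
theorem isPGroup_of_sup_centralizer (hS : IsPGroup p S) {F : FusionSystem S}
    (hF : F.IsSaturated p) {W : Subgroup Ω} (hWfn : F.IsFullyNormalized W)
    (h : IsPGroup p (F.autGroup (W ⊔ centralizerIn S W))) : IsPGroup p (F.autGroup W) := by
  intro ⟨β, hβ'⟩
  have hWS := hWfn.1
  have hβ := autHom_mem F hWS hβ'
  obtain ⟨χ, hχ, hχe, -⟩ :=
    IsReceptive.extend (IsSaturated.automized_receptive hS hF hWfn).2 hβ (range_autHom β)
  set R₁ := W ⊔ centralizerIn S W with hR₁def
  have hWext : W ≤ extender S W (autHom β) := le_extender hWS (apply_mem hβ)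
  have hCext : centralizerIn S W ≤ extender S W (autHom β) := centralizerIn_le_extender _
  have hle : R₁ ≤ extender S W (autHom β) := sup_le hWext hCext
  have hmem : ∀ x : R₁, χ (Subgroup.inclusion hle x) ∈ R₁ := by
    have key : R₁.subgroupOf (extender S W (autHom β)) ≤ R₁.comap χ := by
      rw [hR₁def, Subgroup.subgroupOf_sup hWext hCext]
      refine sup_le (fun y hy => ?_) fun y hy => ?_
      · show χ y ∈ R₁
        rw [show χ y = autHom β ⟨(y : Ω), hy⟩ from hχe _ hy y.2]
        exact Subgroup.mem_sup_left (β _).2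
      · exact Subgroup.mem_sup_right
          (apply_mem_centralizerIn (range_autHom β) hχ hχe hWext _ hy)
    exact fun x => key (show Subgroup.inclusion hle x ∈ R₁.subgroupOf _ from x.2)
  let f : R₁ →* R₁ := (χ.comp (Subgroup.inclusion hle)).codRestrict R₁ hmem
  have hf : Function.Injective f := fun a b h => Subgroup.inclusion_injective hle
    (F.injective_of_mem hχ (congrArg Subtype.val h))
  have := finite_of_le (sup_le hWS (centralizerIn_le S W) : R₁ ≤ S)
  let γ : MulAut R₁ := MulEquiv.ofBijective f ⟨hf, Finite.injective_iff_surjective.1 hf⟩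
  have hγ : γ ∈ F.autGroup R₁ := mem_autGroup_of_hom F (restr_mem F hχ hle)
  obtain ⟨k, hk⟩ := h ⟨γ, hγ⟩
  obtain ⟨j, hj⟩ := PElt.of_injective (p := p) (α := β) (β := γ)
    (Subgroup.inclusion (le_sup_left : W ≤ R₁))
    (Subgroup.inclusion_injective _) (fun x => Subtype.ext (hχe x x.2 (hWext x.2)).symm)
    ⟨k, congrArg Subtype.val hk⟩
  exact ⟨j, Subtype.ext hj⟩

/-- A sparse system, at an odd prime or free of the symmetric group of degree four, is
constrained. -/
theorem isConstrained_of_sparse (hS : IsPGroup p S) {F : FusionSystem S} (hF : F.IsSaturated p)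
    (hsp : ∀ E : FusionSystem S, E.IsSaturated p → E.IsSubsystemOf F →
      (∀ P : Subgroup Ω, E.Hom P = F.Hom P) ∨
      ∀ P : Subgroup Ω, E.Hom P = (innerFusionSystem S).Hom P)
    {Q : Subgroup Ω} (hQS : Q ≤ S) (hQn : S ≤ Subgroup.normalizer (Q : Set Ω))
    (hQ : ¬ IsPGroup p (F.autGroup Q)) : F.IsConstrained p := by
  -- subgroups with big automizers are normal
  have key : ∀ R : Subgroup Ω, R ≤ S → S ≤ Subgroup.normalizer (R : Set Ω) →
      ¬ IsPGroup p (F.autGroup R) → F.IsNormal R := by
    intro R hRS hn hR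
    have eT : normalizerIn S R = S :=
      le_antisymm (normalizerIn_le S R) fun g hg => ⟨hg, hn hg⟩
    let E : FusionSystem S := recast (normalizerSystem F R hRS) eT
    have hEs : E.IsSaturated p := recast_isSaturated eT (normalizerSystem_isSaturated hS hF
      (isFullyNormalized_of_le_normalizer' F hRS hn) (normalizerSystem_spec F R hRS))
    rcases hsp E hEs (fun P φ h => h.1) with h | h
    · refine ⟨hRS, fun P φ hφ => ?_⟩
      rw [← h P] at hφ
      exact hφ.2.2.2
    · refine absurd (fun δ => ?_) hR
      have h1 : autHom (δ : MulAut R) ∈ (normalizerSystem F R hRS).Hom R :=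
        autHom_mem _ (le_normalizerIn hRS) (by
          rw [IsNormalizerSystem.autGroup_eq (normalizerSystem_spec F R hRS) hRS]; exact δ.2)
      have h2 : autHom (δ : MulAut R) ∈ (innerFusionSystem S).Hom R := h R ▸ h1
      obtain ⟨-, g, hg, hge⟩ := h2
      obtain ⟨k, hk⟩ := pElt_of_conj hS hg hge
      exact ⟨k, Subtype.ext (by simpa using hk)⟩
  have hQfn := isFullyNormalized_of_le_normalizer' F hQS hQn
  have hQN := key Q hQS hQn hQ
  set R := Q ⊔ centralizerIn S Q with hRdef
  have hRS : R ≤ S := sup_le hQS (centralizerIn_le S Q)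
  have hRn : S ≤ Subgroup.normalizer (R : Set Ω) := fun s hs => by
    have := finite_of_le hRS
    refine mem_normalizer_of_finite fun y hy => ?_
    have h : R ≤ R.comap (MulAut.conj s).toMonoidHom := sup_le
      (fun w hw => Subgroup.mem_sup_left (conj_mem_of_mem_normalizer (hQn hs) hw))
      fun c hc => Subgroup.mem_sup_right (mem_centralizerIn.2
        ⟨S.mul_mem (S.mul_mem hs (mem_centralizerIn.1 hc).1) (S.inv_mem hs), fun w hw => by
          have h1 : s⁻¹ * w * s ∈ Q := (mem_normalizer_iff'.1 (hQn hs)).2 _ hw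
          have h2 := (mem_centralizerIn.1 hc).2 _ h1
          show w * (s * c * s⁻¹) = s * c * s⁻¹ * w
          have h3 := congrArg (fun z => s * z * s⁻¹) h2
          simpa [mul_assoc] using h3⟩)
    exact h hy
  have hR : F.IsNormal R :=
    key R hRS hRn fun h => hQ (isPGroup_of_sup_centralizer hS hF hQfn h)
  exact ⟨hF, R, hR, isCentric_of_fullyCentralized
    (IsSaturated.fullyCentralized hS hF (isFullyNormalized_of_le_normalizer' F hRS hRn))
    fun c hc => Subgroup.mem_sup_right (mem_centralizerIn.2
      ⟨(mem_centralizerIn.1 hc).1, fun w hw =>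
        (mem_centralizerIn.1 hc).2 w (Subgroup.mem_sup_left hw)⟩)⟩

end Cfsg.Agent.Lib.Fusion
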