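import Cfsg.Agent.Lib.Fusion.Constrained
import Cfsg.Agent.Lib.Fusion.Realized
import Cfsg.Agent.Lib.LocalEven2.SubnormalSylow

/-!
Fusion systems of subnormal subgroups of a group with constrained fusion system, and of their
quotients by central subgroups.
-/

set_option autoImplicit false
set_option linter.unusedSectionVars false

namespace Cfsg.Agent.Lib.Fusion

open Cfsg Cfsg.FusionSystem

variable {G : Type*} [Group G] [Finite G] {p : ℕ} [Fact p.Prime] (S : Sylow p G)

/-- The system of `L` on `S ∩ L`. -/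
noncomputable def subSys (L : Subgroup G) : FusionSystem ((S : Subgroup G) ⊓ L) :=
  fusionSystemOfSubgroup L ((S : Subgroup G) ⊓ L) inf_le_right

theorem exists_sylow_inf {L : Subgroup G} (hL : L.IsSubnormal) :
    ∃ R : Sylow p L, (R : Subgroup L) = ((S : Subgroup G) ⊓ L).subgroupOf L := by
  have hp : IsPGroup p (((S : Subgroup G) ⊓ L).subgroupOf L) :=
    ((S.2.to_le inf_le_left).of_equiv (Subgroup.subgroupOfEquivOfLe inf_le_right).symm)
  exact ⟨hp.toSylow (LocalEven2.not_dvd_relIndex_inf_isSubnormal S hL), rfl⟩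

theorem subSys_isConstrained (hF : (groupFusionSystem (S : Subgroup G)).IsConstrained p)
    {L : Subgroup G} (hL : L.IsSubnormal) : (subSys S L).IsConstrained p := by
  induction hL with
  | top =>
    obtain ⟨R, hR⟩ := exists_sylow_inf S (Subgroup.IsSubnormal.top (G := G))
    refine isConstrained_of_subsystem S.2 hF (fusionSystemOfSubgroup_isSaturated inf_le_right R hR)
      ?_ ?_
    · rintro P φ ⟨hP, hv, g, -, hg⟩
      exact ⟨hP.trans inf_le_left, fun x => (hv x).1, g, hg⟩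
    · exact ⟨inf_le_left, fun R _ φ hφ x => ⟨hφ.2.1 x, Subgroup.mem_top _⟩⟩
  | step H K hle hK hn ih =>
    obtain ⟨R, hR⟩ := exists_sylow_inf S (Subgroup.IsSubnormal.step H K hle hK hn)
    refine isConstrained_of_subsystem (S.2.to_le inf_le_left) ih
      (fusionSystemOfSubgroup_isSaturated inf_le_right R hR) ?_ ?_
    · rintro P φ ⟨hP, hv, g, hg, hge⟩
      exact ⟨hP.trans (inf_le_inf_left _ hle), fun x => ⟨(hv x).1, hle (hv x).2⟩, g, hle hg, hge⟩
    · refine ⟨inf_le_inf_left _ hle, ?_⟩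
      rintro R hR φ ⟨-, hv, g, hg, hge⟩ x
      refine ⟨(hv x).1, ?_⟩
      rw [hge]
      exact conj_mem_of_mem_normalizer
        ((Subgroup.normal_subgroupOf_iff_le_normalizer hle).1 hn hg) (hR x.2).2

/-- The system of a central quotient of a group with constrained system is constrained. -/
theorem quotient_center_isConstrained {L : Subgroup G} (hL : L.IsSubnormal)
    (hE : (subSys S L).IsConstrained p) :
    (groupFusionSystem (((S : Subgroup G).subgroupOf L).map
      (QuotientGroup.mk' (Subgroup.center L)))).IsConstrained p := by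
  obtain ⟨R, hR⟩ := exists_sylow_inf S hL
  have hRS : (R : Subgroup L) = (S : Subgroup G).subgroupOf L := by
    rw [hR, Subgroup.inf_subgroupOf_right]
  set π := QuotientGroup.mk' (Subgroup.center L) with hπ
  have hπs : Function.Surjective π := QuotientGroup.mk'_surjective _
  set Tb := ((S : Subgroup G).subgroupOf L).map π with hTb
  have hTbR : ((R.mapSurjective hπs : Sylow p (L ⧸ Subgroup.center L)) : Subgroup _) = Tb := by
    rw [Sylow.coe_mapSurjective, hRS]
  have hsat : (groupFusionSystem Tb).IsSaturated p := hTbR ▸ group_isSaturated _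
  obtain ⟨hEs, Q₀, hQ₀, hQ₀c⟩ := hE
  set E := subSys S L with hE'
  have hTp : IsPGroup p ↥((S : Subgroup G) ⊓ L) := S.2.to_le inf_le_left
  have hQn := isNormal_core E
  have hQc : E.IsCentric E.core := isCentric_of_le hQ₀c (le_core hQ₀) hQn.1
  set Q := E.core with hQdef
  have hQT : Q ≤ ((S : Subgroup G) ⊓ L) := hQn.1
  set Qb := (Q.subgroupOf L).map π with hQb
  have hQbT : Qb ≤ Tb := Subgroup.map_mono fun x hx => (hQT hx).1
  have habsorb : ∀ x : L, (∃ k : ℕ, x ^ p ^ k = 1) → π x ∈ Tb → (x : G) ∈ ((S : Subgroup G) ⊓ L) := by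
    rintro x ⟨k, hk⟩ ⟨t, ht, htx⟩
    have hz : t⁻¹ * x ∈ Subgroup.center L := QuotientGroup.eq.1 htx
    have hxN : x ∈ Subgroup.normalizer ((R : Subgroup L) : Set L) := by
      have hzN : t⁻¹ * x ∈ Subgroup.normalizer ((R : Subgroup L) : Set L) := by
        refine Subgroup.mem_normalizer_iff.2 fun h => ?_
        rw [← Subgroup.mem_center_iff.1 hz h, mul_inv_cancel_right]
      have := mul_mem (Subgroup.le_normalizer (show t ∈ (R : Subgroup L) from hRS ▸ ht)) hzN
      rwa [mul_inv_cancel_left] at this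
    have hxp : IsPGroup p (Subgroup.zpowers x) := by
      rintro ⟨y, hy⟩
      obtain ⟨n, rfl⟩ := Subgroup.mem_zpowers_iff.1 hy
      refine ⟨k, Subtype.ext ?_⟩
      show (x ^ n) ^ p ^ k = 1
      rw [← zpow_natCast, zpow_comm, zpow_natCast, hk, one_zpow]
    have hsup := hxp.to_sup_of_normal_right' R.2 (Subgroup.zpowers_le.2 hxN)
    have hxR : x ∈ (R : Subgroup L) :=
      (R.3 hsup le_sup_right).le (Subgroup.mem_sup_left (Subgroup.mem_zpowers x))
    rw [hR] at hxR
    exact hxR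
  refine ⟨hsat, Qb, ⟨hQbT, ?_⟩, hQbT, ?_⟩
  · rintro Pb φ ⟨hPb, hv, gb, hgb⟩
    obtain ⟨g, rfl⟩ := hπs gb
    let P : Subgroup G := ((Pb.comap π).map L.subtype) ⊓ ((S : Subgroup G) ⊓ L)
    have hPT : P ≤ ((S : Subgroup G) ⊓ L) := inf_le_right
    have hgT : ∀ x : P, (g : G) * (x : G) * (g : G)⁻¹ ∈ ((S : Subgroup G) ⊓ L) := by
      rintro ⟨_, ⟨y, hy, rfl⟩, hyT⟩
      refine habsorb (g * y * g⁻¹) ?_ ?_
      · obtain ⟨k, hk⟩ := hTp ⟨(y : G), hyT⟩
        refine ⟨k, ?_⟩
        rw [conj_pow, show y ^ p ^ k = 1 from Subtype.ext (by simpa using congrArg (fun w : ↥((S : Subgroup G) ⊓ L) => (w : G)) hk), mul_one,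
          mul_inv_cancel]
      · rw [map_mul, map_mul, map_inv, ← hgb ⟨π y, hy⟩]
        exact hv _
    have hφ : conjHom P (g : G) ∈ E.Hom P := ⟨hPT, hgT, g, g.2, fun _ => rfl⟩
    obtain ⟨ψ, hψ, hext, himg⟩ := hQn.2 P _ hφ
    obtain ⟨-, hψT, g', hg', hge⟩ := hψ
    let g₁ : L := ⟨g', hg'⟩
    have hagree : ∀ y : L, π y ∈ Pb → (y : G) ∈ ((S : Subgroup G) ⊓ L) → π (g₁ * y * g₁⁻¹) = π (g * y * g⁻¹) := by
      intro y hy hyT
      have hyP : (y : G) ∈ P := ⟨⟨y, hy, rfl⟩, hyT⟩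
      refine congrArg π (Subtype.ext ?_)
      have h1 := hext ⟨y, hyP⟩
      rw [hge] at h1
      exact h1
    have hPbT : ∀ x ∈ Pb, ∃ y : L, π y = x ∧ (y : G) ∈ ((S : Subgroup G) ⊓ L) := by
      intro x hx
      obtain ⟨y, hy, rfl⟩ := hPb hx
      exact ⟨y, rfl, hy, y.2⟩
    have hQmem : ∀ y : L, (y : G) ∈ Q → ((g₁ * y * g₁⁻¹ : L) : G) ∈ Q := by
      intro y hy
      have h1 : ψ (Subgroup.inclusion le_sup_right ⟨(y : G), hy⟩) ∈ Q :=
        himg.le ⟨Subgroup.inclusion le_sup_right ⟨(y : G), hy⟩, hy, rfl⟩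
      rw [hge] at h1
      exact h1
    have hval : ∀ x : ↥(Pb ⊔ Qb), conjHom (Pb ⊔ Qb) (π g₁) x ∈ Tb := by
      intro x
      have hle : (Pb ⊔ Qb).map (MulAut.conj (π g₁)).toMonoidHom ≤ Tb := by
        rw [Subgroup.map_sup]
        refine sup_le ?_ ?_
        · rintro _ ⟨x, hx, rfl⟩
          obtain ⟨y, rfl, hyT⟩ := hPbT x hx
          show π g₁ * π y * (π g₁)⁻¹ ∈ Tb
          rw [← map_inv, ← map_mul, ← map_mul, hagree y hx hyT, map_mul, map_mul, map_inv,
            ← hgb ⟨π y, hx⟩]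
          exact hv _
        · rintro _ ⟨x, ⟨y, hy, rfl⟩, rfl⟩
          show π g₁ * π y * (π g₁)⁻¹ ∈ Tb
          rw [← map_inv, ← map_mul, ← map_mul]
          exact hQbT ⟨_, hQmem y hy, rfl⟩
      exact hle ⟨x, x.2, rfl⟩
    refine ⟨conjHom (Pb ⊔ Qb) (π g₁), ⟨sup_le hPb hQbT, hval, π g₁, fun _ => rfl⟩, fun x => ?_, ?_⟩
    · obtain ⟨y, hyx, hyT⟩ := hPbT x x.2
      show π g₁ * (x : L ⧸ Subgroup.center L) * (π g₁)⁻¹ = φ x
      rw [hgb, ← hyx, ← map_inv, ← map_mul, ← map_mul, hagree y (hyx.symm ▸ x.2) hyT, map_mul,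
        map_mul, map_inv]
    · have := finite_of_le (S := (⊤ : Subgroup (L ⧸ Subgroup.center L))) (P := Qb) le_top
      refine Subgroup.eq_of_le_of_card_ge ?_ ?_
      · rintro _ ⟨x, ⟨y, hy, hyx⟩, rfl⟩
        show π g₁ * ((x : ↥(Pb ⊔ Qb)) : L ⧸ Subgroup.center L) * (π g₁)⁻¹ ∈ Qb
        have e : π y = ((x : ↥(Pb ⊔ Qb)) : L ⧸ Subgroup.center L) := hyx
        rw [← e, ← map_inv, ← map_mul, ← map_mul]
        exact ⟨_, hQmem y hy, rfl⟩
      · exact (card_img (φ := conjHom (Pb ⊔ Qb) (π g₁))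
          (fun a b hab => Subtype.ext (mul_left_cancel (mul_right_cancel hab)))
          le_sup_right).ge
  · rintro Rb ⟨φ, ⟨-, hv, gb, hgb⟩, rfl⟩
    intro t ht
    obtain ⟨ht1, ht2⟩ := mem_centralizerIn.1 ht
    obtain ⟨g, rfl⟩ := hπs gb
    have hgQ : ∀ y : L, (y : G) ∈ Q → ((g * y * g⁻¹ : L) : G) ∈ Q := by
      intro y hy
      have hgy : ∀ z : Q, (g : G) * (z : G) * (g : G)⁻¹ ∈ ((S : Subgroup G) ⊓ L) := fun z => by
        refine habsorb (g * ⟨z, (hQT z.2).2⟩ * g⁻¹) ?_ ?_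
        · obtain ⟨k, hk⟩ := hTp ⟨(z : G), hQT z.2⟩
          refine ⟨k, ?_⟩
          rw [conj_pow, show (⟨z, (hQT z.2).2⟩ : L) ^ p ^ k = 1 from
            Subtype.ext (by simpa using congrArg (fun w : ↥((S : Subgroup G) ⊓ L) => (w : G)) hk), mul_one, mul_inv_cancel]
        · rw [map_mul, map_mul, map_inv, ← hgb ⟨_, ⟨_, z.2, rfl⟩⟩]
          exact hv _
      exact (IsNormal.stronglyClosed hQn).2 Q le_rfl (conjHom Q (g : G))
        ⟨hQT, hgy, g, g.2, fun _ => rfl⟩ ⟨y, hy⟩
    have hcomm : ∀ y : L, (y : G) ∈ Q → t * π y = π y * t := by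
      intro y hy
      have hy' : ((g⁻¹ * y * g⁻¹⁻¹ : L) : G) ∈ Q := by
        have hfin : Finite Q := finite_of_le (S := (⊤ : Subgroup G)) le_top
        have hgN : (g : G) ∈ Subgroup.normalizer (Q : Set G) :=
          mem_normalizer_of_finite fun x hx => hgQ ⟨x, (hQT hx).2⟩ hx
        exact conj_mem_of_mem_normalizer (inv_mem hgN) hy
      have h1 : φ ⟨π (g⁻¹ * y * g⁻¹⁻¹), ⟨_, hy', rfl⟩⟩ = π y := by
        rw [hgb, ← map_inv, ← map_mul, ← map_mul]
        congr 1
        group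
      exact (ht2 (π y) ⟨_, h1⟩).symm
    obtain ⟨s, hs, rfl⟩ := ht1
    have hsT : (s : G) ∈ ((S : Subgroup G) ⊓ L) := ⟨hs, s.2⟩
    have hzQ : ∀ z : L, z ∈ Subgroup.center L → (z : G) ∈ ((S : Subgroup G) ⊓ L) → (z : G) ∈ Q := fun z hz hzT =>
      hQc.2 Q (isConj_refl E hQT) (mem_centralizerIn.2 ⟨hzT, fun q hq =>
        congrArg Subtype.val (Subgroup.mem_center_iff.1 hz ⟨q, (hQT hq).2⟩)⟩)
    have hc : ∀ y : L, (y : G) ∈ Q → y⁻¹ * (s * y * s⁻¹) ∈ Subgroup.center L := by
      intro y hy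
      refine (QuotientGroup.eq_one_iff _).1 ?_
      show π _ = 1
      rw [map_mul, map_mul, map_mul, map_inv, map_inv, hcomm y hy, mul_inv_cancel_right,
        inv_mul_cancel]
    have hsN : (s : G) ∈ normalizerIn ((S : Subgroup G) ⊓ L) Q :=
      ⟨hsT, WeaklyClosed.le_normalizer (StronglyClosed.weaklyClosed
        (IsNormal.stronglyClosed hQn)) hsT⟩
    have hsQ : (s : G) ∈ Q := by
      refine core_conj_mem hTp hEs hQn hQc le_rfl hsN ?_
      have := finite_of_le (S := ((S : Subgroup G) ⊓ L)) hQT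
      have := finite_mulAut (S := ((S : Subgroup G) ⊓ L)) hQT
      have hA := conjAut_mem_autGroup E hQT hsT hsN.2
      let W : ℕ → Subgroup Q := fun k => if k = 0 then ⊥ else
        if k = 1 then ((Subgroup.center L).map L.subtype).subgroupOf Q else ⊤
      have hW := stab_mem_pCore (hTp.to_le hQT) (E.autGroup Q) W 2 rfl rfl
        (fun α hα k y hy => by
          simp only [W] at hy ⊢
          split_ifs at hy ⊢
          · rw [Subgroup.mem_bot] at hy ⊢
            rw [hy, map_one]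
          · obtain ⟨-, -, a, ha, hae⟩ := autHom_mem E hQT hα
            obtain ⟨z, hz, hzy⟩ := hy
            refine ⟨z, hz, ?_⟩
            show (z : G) = ((α y : Q) : G)
            rw [← autHom_apply, hae, ← (show (z : G) = (y : G) from hzy)]
            have h1 : (⟨a, ha⟩ : L) * z = z * ⟨a, ha⟩ := Subgroup.mem_center_iff.1 hz _
            rw [show a * (z : G) = (z : G) * a from congrArg Subtype.val h1, mul_inv_cancel_right]
          · trivial)
        hA (fun k hk y hy => by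
          interval_cases k
          · simp only [W, Nat.zero_add, if_true, if_false, one_ne_zero] at hy ⊢
            rw [Subgroup.mem_bot, inv_mul_eq_one]
            refine Subtype.ext ?_
            show (y : G) = (s : G) * (y : G) * (s : G)⁻¹
            obtain ⟨z, hz, hzy⟩ := hy
            rw [← (show (z : G) = (y : G) from hzy)]
            rw [show (s : G) * (z : G) = (z : G) * (s : G) from
              congrArg Subtype.val (Subgroup.mem_center_iff.1 hz s), mul_inv_cancel_right]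
          · simp only [W, one_ne_zero, if_false, if_true]
            exact ⟨_, hc ⟨(y : G), (hQT y.2).2⟩ y.2, rfl⟩)
      obtain ⟨⟨β, hβA⟩, hβ, hβe⟩ := hW
      refine ⟨hA, ?_⟩
      have e : (⟨β, hβA⟩ : E.autGroup Q) = ⟨_, hA⟩ := Subtype.ext hβe
      exact e ▸ hβ
    refine ⟨⟨π (g⁻¹ * s * g⁻¹⁻¹), ⟨_, ?_, rfl⟩⟩, ?_⟩
    · have hfin : Finite Q := finite_of_le (S := (⊤ : Subgroup G)) le_top
      have hgN : (g : G) ∈ Subgroup.normalizer (Q : Set G) :=
        mem_normalizer_of_finite fun x hx => hgQ ⟨x, (hQT hx).2⟩ hx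
      exact conj_mem_of_mem_normalizer (inv_mem hgN) hsQ
    · rw [hgb, ← map_inv, ← map_mul, ← map_mul]
      congr 1
      group

end Cfsg.Agent.Lib.Fusion
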