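import Cfsg.Agent.Lib.Fusion.SupersolubleAux
import Cfsg.Agent.Lib.Fusion.Realized
import Cfsg.Agent.Lib.Fusion.NormalCriteria
import Cfsg.Agent.Lib.Fusion.Series
import Cfsg.Agent.Lib.Coprime.External
import Mathlib.GroupTheory.SchurZassenhaus

/-!
Supersoluble fusion systems: series of strongly closed subgroups with cyclic steps.
-/

set_option autoImplicit false
set_option linter.unusedSectionVars false

namespace Cfsg.Agent.Lib.Fusion

open Cfsg Cfsg.FusionSystem

variable {Ω : Type*} [Group Ω] {S : Subgroup Ω} {p : ℕ} [Fact p.Prime]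

/-- The system realized by an injective homomorphism into a group. -/
def realizedSystem {G : Type*} [Group G] (ι : S →* G) (hι : Function.Injective ι) :
    FusionSystem S where
  Hom P := {φ | ∃ (hP : P ≤ S) (hφ : ∀ x, φ x ∈ S), ∃ g : G,
    ∀ x : P, ι ⟨φ x, hφ x⟩ = g * ι ⟨x, hP x.2⟩ * g⁻¹}
  le_of_mem := fun ⟨hP, hφ, _⟩ => ⟨hP, hφ⟩
  injective_of_mem := by
    rintro P φ ⟨hP, hφ, g, hg⟩ x y e
    have h1 := hg x
    rw [show (⟨φ x, hφ x⟩ : S) = ⟨φ y, hφ y⟩ from Subtype.ext e, hg y] at h1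
    have h2 := hι (mul_left_cancel (mul_right_cancel h1))
    exact Subtype.ext (congrArg (fun z : S => (z : Ω)) h2).symm
  conj_mem {P g} hP hg :=
    ⟨hP, fun x => S.mul_mem (S.mul_mem hg (hP x.2)) (S.inv_mem hg), ι ⟨g, hg⟩, fun x => by
      rw [← map_inv, ← map_mul, ← map_mul]
      rfl⟩
  comp_mem := by
    rintro P Q φ ψ ⟨hP, hφ, g, hg⟩ ⟨hQ, hψ, k, hk⟩ h
    refine ⟨hP, fun x => hψ _, k * g, fun x => ?_⟩
    rw [show (⟨(ψ.comp (φ.codRestrict Q h)) x, hψ _⟩ : S) = ⟨ψ ⟨φ x, h x⟩, hψ _⟩ from rfl, hk,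
      show (⟨φ x, hQ (h x)⟩ : S) = ⟨φ x, hφ x⟩ from rfl, hg, mul_inv_rev]
    simp only [mul_assoc]
  inv_mem := by
    rintro P φ ⟨hP, hφ, g, hg⟩
    have hinj : Function.Injective φ := fun x y e => by
      have h1 := hg x
      rw [show (⟨φ x, hφ x⟩ : S) = ⟨φ y, hφ y⟩ from Subtype.ext e, hg y] at h1
      have h2 := hι (mul_left_cancel (mul_right_cancel h1))
      exact Subtype.ext (congrArg (fun z : S => (z : Ω)) h2).symm
    let e := MonoidHom.ofInjective hinj
    have hR : φ.range ≤ S := by rintro _ ⟨x, rfl⟩; exact hφ x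
    refine ⟨P.subtype.comp e.symm.toMonoidHom, ⟨hR, fun y => hP (e.symm y).2, g⁻¹, ?_⟩, fun x => ?_⟩
    · intro y
      obtain ⟨x, rfl⟩ := e.surjective y
      have h1 : (⟨(P.subtype.comp e.symm.toMonoidHom) (e x), hP (e.symm (e x)).2⟩ : S) =
          ⟨x, hP x.2⟩ := Subtype.ext (congrArg (fun z : P => (z : Ω)) (e.symm_apply_apply x))
      have h2 : (⟨((e x : φ.range) : Ω), hR (e x).2⟩ : S) = ⟨φ x, hφ x⟩ := Subtype.ext rfl
      rw [h1, h2, hg, inv_inv]
      simp [mul_assoc]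
    · exact congrArg Subtype.val (e.symm_apply_apply x)

theorem realizedSystem_isRealizedBy {G : Type*} [Group G] (ι : S →* G) (hι : Function.Injective ι) :
    (realizedSystem ι hι).IsRealizedBy ι :=
  ⟨hι, fun _ hP _ hφ => ⟨fun ⟨_, _, h⟩ => h, fun h => ⟨hP, hφ, h⟩⟩⟩

/-- A strongly closed series from `⊥` to `A` with factors of order dividing `p`. -/
def HasClosedSeries (F : FusionSystem S) (p : ℕ) (A : Subgroup Ω) : Prop :=
  ∃ (M : ℕ) (V : ℕ → Subgroup Ω), V 0 = ⊥ ∧ V M = A ∧ (∀ j ≤ M, F.StronglyClosed (V j)) ∧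
    ∀ j < M, V j ≤ V (j + 1) ∧ (V j).relIndex (V (j + 1)) ∣ p

variable {F : FusionSystem S}

theorem hasClosedSeries_bot : HasClosedSeries F p ⊥ :=
  ⟨0, fun _ => ⊥, rfl, rfl, fun _ _ => ⟨bot_le, fun R hR φ _ x => by
    have h1 : x = 1 := Subtype.ext (Subgroup.mem_bot.1 (hR x.2))
    rw [h1, map_one]; exact Subgroup.one_mem _⟩, fun j hj => absurd hj (Nat.not_lt_zero j)⟩

theorem HasClosedSeries.extend {A B : Subgroup Ω} (h : HasClosedSeries F p A) (hB : F.StronglyClosed B)
    (hAB : A ≤ B) (hidx : A.relIndex B ∣ p) : HasClosedSeries F p B := by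
  obtain ⟨M, V, h0, hM, hc, hs⟩ := h
  refine ⟨M + 1, fun j => if j ≤ M then V j else B, by simp [h0], by simp, fun j _ => ?_,
    fun j hj => ?_⟩
  · dsimp only
    split
    · exact hc j ‹_›
    · exact hB
  · dsimp only
    rcases lt_or_eq_of_le (Nat.le_of_lt_succ hj) with h' | rfl
    · rw [if_pos h'.le, if_pos (Nat.succ_le_of_lt h')]
      exact hs j h'
    · rw [if_pos le_rfl, if_neg (by omega), hM]
      exact ⟨hAB, hidx⟩

/-- A cyclic strongly closed step refines to steps of order `p`. -/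
theorem HasClosedSeries.step [Finite S] (hS : IsPGroup p S) {U W : Subgroup Ω}
    (h : HasClosedSeries F p U) (hU : F.StronglyClosed U) (hW : F.StronglyClosed W) {x : Ω}
    (he : W = U ⊔ Subgroup.zpowers x) : HasClosedSeries F p W := by
  classical
  have hWS := hW.1
  haveI := finite_of_le hWS
  have hUW : U ≤ W := he ▸ le_sup_left
  have hxW : x ∈ W := he ▸ Subgroup.mem_sup_right (Subgroup.mem_zpowers x)
  haveI hn : (U.subgroupOf W).Normal := ⟨fun n hn g => by
    have := hU.2 U le_rfl (conjHom U g) (F.conj_mem hU.1 (hWS g.2)) ⟨n, hn⟩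
    exact this⟩
  haveI : IsCyclic (W ⧸ U.subgroupOf W) := by
    refine isCyclic_iff_exists_zpowers_eq_top.2 ⟨QuotientGroup.mk (⟨x, hxW⟩ : W), ?_⟩
    rw [eq_top_iff]
    rintro q -
    obtain ⟨y, rfl⟩ := QuotientGroup.mk_surjective q
    let K : Subgroup Ω := ((Subgroup.zpowers (QuotientGroup.mk (⟨x, hxW⟩ : W) :
      W ⧸ U.subgroupOf W)).comap (QuotientGroup.mk' _)).map W.subtype
    have hK : W ≤ K := by
      rw [he]
      refine sup_le (fun u hu => ⟨⟨u, hUW hu⟩, ?_, rfl⟩)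
        (Subgroup.zpowers_le.2 ⟨⟨x, hxW⟩, Subgroup.mem_zpowers _, rfl⟩)
      refine Subgroup.mem_comap.2 ?_
      rw [QuotientGroup.mk'_apply]
      rw [(QuotientGroup.eq_one_iff _).2 (show (⟨u, hUW hu⟩ : W) ∈ U.subgroupOf W from hu)]
      exact Subgroup.one_mem _
    obtain ⟨y', hy', e⟩ := hK y.2
    obtain rfl : y' = y := Subtype.ext e
    exact hy'
  letI : CommGroup (W ⧸ U.subgroupOf W) := IsCyclic.commGroup
  let g : ℕ → W →* W ⧸ U.subgroupOf W := fun t =>
    (powMonoidHom (p ^ t)).comp (QuotientGroup.mk' (U.subgroupOf W))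
  let L : ℕ → Subgroup Ω := fun t => (g t).ker.map W.subtype
  have hmem : ∀ t (y : Ω), y ∈ L t ↔ y ∈ W ∧ y ^ p ^ t ∈ U := by
    intro t y
    constructor
    · rintro ⟨z, hz, rfl⟩
      refine ⟨z.2, ?_⟩
      have h1 : QuotientGroup.mk' (U.subgroupOf W) (z ^ p ^ t) = 1 := by rw [map_pow]; exact hz
      have h2 := (QuotientGroup.eq_one_iff (N := U.subgroupOf W) _).1 h1
      rwa [Subgroup.mem_subgroupOf, Subgroup.coe_pow] at h2
    · rintro ⟨hy, hy'⟩
      refine ⟨⟨y, hy⟩, ?_, rfl⟩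
      show (QuotientGroup.mk' (U.subgroupOf W) ⟨y, hy⟩) ^ p ^ t = 1
      rw [← map_pow]
      exact (QuotientGroup.eq_one_iff _).2
        (show (⟨y, hy⟩ : W) ^ p ^ t ∈ U.subgroupOf W by
          rw [Subgroup.mem_subgroupOf, Subgroup.coe_pow]; exact hy')
  have hclosed : ∀ t, F.StronglyClosed (L t) := by
    intro t
    refine ⟨fun y hy => hWS ((hmem t y).1 hy).1, fun R hR φ hφ z => (hmem t _).2 ⟨?_, ?_⟩⟩
    · exact hW.2 R (fun y hy => ((hmem t y).1 (hR hy)).1) φ hφ z
    · rw [← map_pow]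
      have hle : Subgroup.zpowers ((z : Ω) ^ p ^ t) ≤ R :=
        Subgroup.zpowers_le.2 (R.pow_mem z.2 _)
      have := hU.2 _ (Subgroup.zpowers_le.2 ((hmem t _).1 (hR z.2)).2) (restr hle φ)
        (restr_mem F hφ hle) ⟨(z : Ω) ^ p ^ t, Subgroup.mem_zpowers _⟩
      rw [restr_apply] at this
      exact this
  have hmono : ∀ t, L t ≤ L (t + 1) := fun t y hy => by
    rw [hmem] at hy ⊢
    exact ⟨hy.1, by rw [pow_succ, pow_mul]; exact U.pow_mem hy.2 p⟩
  have hidx : ∀ t, (L t).relIndex (L (t + 1)) ∣ p := by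
    intro t
    show ((g t).ker.map W.subtype).relIndex ((g (t + 1)).ker.map W.subtype) ∣ p
    rw [Subgroup.relIndex_map_map, Subgroup.ker_subtype, sup_bot_eq, sup_bot_eq,
      Subgroup.relIndex_ker]
    haveI : IsCyclic ((g (t + 1)).ker.map (g t)) := inferInstance
    rw [← IsCyclic.exponent_eq_card]
    refine Monoid.exponent_dvd_of_forall_pow_eq_one fun z => Subtype.ext ?_
    obtain ⟨y, hy, e⟩ := z.2
    rw [Subgroup.coe_pow, ← e]
    show (QuotientGroup.mk' (U.subgroupOf W) y ^ p ^ t) ^ p = 1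
    rw [← pow_mul, ← pow_succ]
    exact hy
  have hser : ∀ t, HasClosedSeries F p (L t) := by
    intro t
    induction t with
    | zero =>
      have : L 0 = U := le_antisymm (fun y hy => by simpa using ((hmem 0 y).1 hy).2)
        (fun y hy => (hmem 0 y).2 ⟨hUW hy, by simpa using hy⟩)
      rwa [this]
    | succ t ih => exact ih.extend (hclosed _) (hmono t) (hidx t)
  obtain ⟨k, hk⟩ := IsPGroup.iff_card.1 (hS.to_le hWS)
  have : L k = W := le_antisymm (fun y hy => ((hmem k y).1 hy).1) fun y hy =>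
    (hmem k y).2 ⟨hy, by
      have h1 : (⟨y, hy⟩ : W) ^ p ^ k = 1 := hk ▸ pow_card_eq_one'
      have h2 := congrArg Subtype.val h1
      rw [Subgroup.coe_pow] at h2
      rw [show y ^ p ^ k = 1 from h2]
      exact U.one_mem⟩
  exact this ▸ hser k

/-- The chain of the statements gives a series. -/
theorem hasClosedSeries_of_chain [Finite S] (hS : IsPGroup p S)
    (h : ∃ (m : ℕ) (c : Fin (m + 1) → Subgroup Ω), c 0 = ⊥ ∧ c (Fin.last m) = S ∧
      (∀ i : Fin (m + 1), F.StronglyClosed (c i)) ∧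
      ∀ i : Fin m, c i.castSucc ≤ c i.succ ∧ ∃ x ∈ S, c i.succ = c i.castSucc ⊔ Subgroup.zpowers x) :
    HasClosedSeries F p S := by
  obtain ⟨m, c, h0, hm, hc, hs⟩ := h
  have : ∀ i, HasClosedSeries F p (c i) := by
    intro i
    induction i using Fin.induction with
    | zero => rw [h0]; exact hasClosedSeries_bot
    | succ i ih =>
      obtain ⟨x, -, hx⟩ := (hs i).2
      exact ih.step hS (hc _) (hc _) hx
  exact hm ▸ this (Fin.last m)

/-- A series gives the chain of the statements. -/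
theorem chain_of_hasClosedSeries (h : HasClosedSeries F p S) :
    ∃ (m : ℕ) (c : Fin (m + 1) → Subgroup Ω), c 0 = ⊥ ∧ c (Fin.last m) = S ∧
      (∀ i : Fin (m + 1), F.StronglyClosed (c i)) ∧
      ∀ i : Fin m, c i.castSucc ≤ c i.succ ∧ ∃ x ∈ S, c i.succ = c i.castSucc ⊔ Subgroup.zpowers x := by
  obtain ⟨M, V, h0, hM, hc, hs⟩ := h
  refine ⟨M, fun i => V i, by simpa using h0, by simpa using hM, fun i => hc _ i.is_le, fun i => ?_⟩
  simp only [Fin.val_castSucc, Fin.val_succ]
  obtain ⟨hle, hidx⟩ := hs i i.2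
  refine ⟨hle, ?_⟩
  by_cases he : V (i + 1) ≤ V i
  · exact ⟨1, S.one_mem, by rw [Subgroup.zpowers_one_eq_bot, sup_bot_eq, le_antisymm he hle]⟩
  obtain ⟨x, hx, hxn⟩ := SetLike.not_le_iff_exists.1 he
  have hK : V i ⊔ Subgroup.zpowers x ≤ V (i + 1) := sup_le hle (Subgroup.zpowers_le.2 hx)
  refine ⟨x, (hc _ i.2).1 hx, le_antisymm ?_ hK⟩
  have h1 := Subgroup.relIndex_mul_relIndex _ _ _ le_sup_left hK
  rw [← h1] at hidx
  rcases (Nat.dvd_prime (Fact.out : p.Prime)).1 hidx with e | e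
  · exact absurd (Subgroup.relIndex_eq_one.1 (Nat.eq_one_of_mul_eq_one_right e)
      (Subgroup.mem_sup_right (Subgroup.mem_zpowers x))) hxn
  · rcases Nat.prime_mul_iff.1 (e ▸ (Fact.out : p.Prime)) with ⟨-, e1⟩ | ⟨-, e1⟩
    · exact Subgroup.relIndex_eq_one.1 e1
    · exact absurd (Subgroup.relIndex_eq_one.1 e1
        (Subgroup.mem_sup_right (Subgroup.mem_zpowers x))) hxn

/-- Strongly closed subgroups are invariant under the automorphisms of the system. -/
theorem StronglyClosed.aut_mem {U P : Subgroup Ω} (hU : F.StronglyClosed U) (hP : P ≤ S)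
    {α : MulAut P} (hα : α ∈ F.autGroup P) {x : P} (hx : (x : Ω) ∈ U) : ((α x : P) : Ω) ∈ U := by
  have h := hU.2 (U ⊓ P) inf_le_left (restr inf_le_right (autHom α))
    (restr_mem F (autHom_mem F hP hα) inf_le_right) ⟨x, hx, x.2⟩
  rw [restr_apply] at h
  exact h

variable [Finite S]

/-- A supersoluble system has `S` normal. -/
theorem isNormal_of_series (hS : IsPGroup p S) (hF : F.IsSaturated p)
    (h : HasClosedSeries F p S) : F.IsNormal S := by
  obtain ⟨M, V, h0, hM, hc, hs⟩ := h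
  refine normal_of_invariant hS hF fun P hP => ?_
  rcases hP with rfl | hP
  · refine ⟨le_rfl, fun α _ => ?_⟩
    rw [Subgroup.subgroupOf_self, Subgroup.map_top_of_surjective _ α.surjective]
  exfalso
  have hPS := hP.1.1
  refine IsEssential.not_series hS hF hP (fun i => (V (min i M)).subgroupOf P) M
    (by simp [h0]) ?_ ?_ ?_
  · simp [hM, Subgroup.subgroupOf_eq_top, hPS]
  · exact fun α hα i x hx => StronglyClosed.aut_mem (hc _ (min_le_right i M)) hPS hα hx
  · intro i hi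
    simp only [min_eq_left hi.le, min_eq_left (Nat.succ_le_of_lt hi)]
    obtain ⟨hle, hidx⟩ := hs i hi
    have hU := hc i hi.le
    have hW := hc (i + 1) hi
    haveI : (V i).subgroupOf (V (i + 1)) |>.Normal := ⟨fun n hn g => by
      exact hU.2 _ le_rfl (conjHom (V i) g) (F.conj_mem hU.1 (hW.1 g.2)) ⟨n, hn⟩⟩
    rw [← Subgroup.inf_subgroupOf_right (V (i + 1)) P, Subgroup.relIndex_subgroupOf inf_le_right]
    refine dvd_trans ?_ hidx
    rw [← Subgroup.relIndex_subgroupOf (H := V i) (inf_le_left : V (i + 1) ⊓ P ≤ V (i + 1))]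
    exact Subgroup.relIndex_dvd_index_of_normal _ _

/-- Automorphisms of order prime to `p` of a group all of whose systems are supersoluble. -/
theorem commute_of_series (hS : IsPGroup p S)
    (h : ∀ F : FusionSystem S, F.IsSaturated p → HasClosedSeries F p S)
    (H : Subgroup (MulAut S)) (hH : (Nat.card H).Coprime p) :
    IsMulCommutative H ∧ ∀ a ∈ H, a ^ (p - 1) = 1 := by
  classical
  haveI := Cfsg.Agent.Lib.Coprime.finite_semidirect H.subtype
  let ι : S →* S ⋊[H.subtype] H := SemidirectProduct.inl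
  have hι : Function.Injective ι := SemidirectProduct.inl_injective
  let F := realizedSystem ι hι
  have hidx : ι.range.index = Nat.card H := by
    show (SemidirectProduct.inl : S →* S ⋊[H.subtype] H).range.index = _
    rw [SemidirectProduct.range_inl_eq_ker_rightHom, Subgroup.index_ker,
      MonoidHom.range_eq_top.2 SemidirectProduct.rightHom_surjective, Subgroup.card_top]
  have hp' : ¬ p ∣ ι.range.index := by
    rw [hidx]
    exact (Nat.Prime.coprime_iff_not_dvd (Fact.out : p.Prime)).1 hH.symm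
  let T : Sylow p (S ⋊[H.subtype] H) :=
    (hS.of_surjective _ ι.rangeRestrict_surjective).toSylow hp'
  have hF : F.IsSaturated p := IsRealizedBy.isSaturated (realizedSystem_isRealizedBy ι hι) T rfl
  have hmem : ∀ a ∈ H, a ∈ F.autGroup S := by
    intro a ha
    refine mem_autGroup_of_hom F ⟨le_rfl, fun x => (a x).2, SemidirectProduct.inr ⟨a, ha⟩,
      fun x => ?_⟩
    rw [← map_inv]
    exact SemidirectProduct.inl_aut (φ := H.subtype) (⟨a, ha⟩ : H) x
  obtain ⟨M, V, h0, hM, hc, hs⟩ := h F hF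
  let W : ℕ → Subgroup S := fun i => (V (min i M)).subgroupOf S
  have hinv : ∀ a ∈ H, ∀ i, ∀ x ∈ W i, a x ∈ W i := fun a ha i x hx =>
    StronglyClosed.aut_mem (hc _ (min_le_right i M)) le_rfl (hmem a ha) hx
  have hW0 : W 0 = ⊥ := by simp [W, h0]
  have hWM : W M = ⊤ := by simp [W, hM]
  have hWn : ∀ i, (W i).Normal := fun i => ⟨fun n hn g => by
    have := (hc _ (min_le_right i M)).2 _ le_rfl (conjHom (V (min i M)) g)
      (F.conj_mem (hc _ (min_le_right i M)).1 g.2) ⟨n, hn⟩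
    exact this⟩
  have hWi : ∀ i < M, (W i).relIndex (W (i + 1)) ∣ p := by
    intro i hi
    simp only [W, min_eq_left hi.le, min_eq_left (Nat.succ_le_of_lt hi)]
    rw [Subgroup.relIndex_subgroupOf (hc _ hi).1]
    exact (hs i hi).2
  refine ⟨⟨⟨fun a b => ?_⟩⟩, fun a ha => ?_⟩
  · suffices e : ((b : MulAut S) * a)⁻¹ * ((a : MulAut S) * b) = 1 by
      apply Subtype.ext
      rw [inv_mul_eq_one] at e
      exact e.symm
    refine eq_one_of_stab_coprime hS hH W M hW0 hWM hinv
      (H.mul_mem (H.inv_mem (H.mul_mem b.2 a.2)) (H.mul_mem a.2 b.2)) fun i hi x hx => ?_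
    haveI := hWn i
    have h1 := (factor_aut (W i) (W (i + 1)) (hWi i hi) (a : MulAut S) b (hinv _ a.2 i)
      (hinv _ a.2 _) (hinv _ b.2 i) (hinv _ b.2 _) hx).1
    have hinvK : ((b : MulAut S) * a)⁻¹ ∈ H := H.inv_mem (H.mul_mem b.2 a.2)
    have h2 := hinv _ hinvK i _ h1
    rw [map_mul, map_inv] at h2
    rw [MulAut.mul_apply, MulAut.mul_apply]
    rw [← MulAut.mul_apply S (b : MulAut S) a, MulAut.inv_apply_self] at h2
    exact h2
  · refine eq_one_of_stab_coprime hS hH W M hW0 hWM hinv (H.pow_mem ha _) fun i hi x hx => ?_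
    haveI := hWn i
    exact (factor_aut (W i) (W (i + 1)) (hWi i hi) a a (hinv _ ha i)
      (hinv _ ha _) (hinv _ ha i) (hinv _ ha _) hx).2

/-- In a system with `S` normal the subgroups invariant under `Aut_F(S)` are strongly closed. -/
theorem stronglyClosed_of_aut_invariant (hn : F.IsNormal S) {N : Subgroup S}
    (hN : ∀ α ∈ F.autGroup S, ∀ x ∈ N, α x ∈ N) : F.StronglyClosed (N.map S.subtype) := by
  refine ⟨Subgroup.map_subtype_le N, fun R hR φ hφ x => ?_⟩
  have hRS : R ≤ S := hR.trans (Subgroup.map_subtype_le N)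
  obtain ⟨α, hα, he⟩ := IsNormal.extends_aut hn R hRS φ hφ
  rw [← he x]
  obtain ⟨y, hy, e⟩ := hR x.2
  refine ⟨_, hN α hα _ hy, ?_⟩
  rw [show y = Subgroup.inclusion hRS x from Subtype.ext e]
  rfl

/-- With `S` normal and `p'`-automorphism groups abelian of exponent dividing `p - 1` there is a
series. -/
theorem series_of_normal (hS : IsPGroup p S) (hF : F.IsSaturated p) (hn : F.IsNormal S)
    (hA : ∀ H : Subgroup (MulAut S), (Nat.card H).Coprime p →
      IsMulCommutative H ∧ ∀ a ∈ H, a ^ (p - 1) = 1) : HasClosedSeries F p S := by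
  classical
  have := finite_mulAut (le_refl S)
  set A := F.autGroup S with hAdef
  have hInn : Inn S ≤ A := inn_le_autGroup F le_rfl
  let NI : Subgroup A := (Inn S).subgroupOf A
  haveI hNIn : NI.Normal := ⟨fun n hn g => by
    obtain ⟨s, hs⟩ := hn
    refine ⟨(g : MulAut S) s, ?_⟩
    show MulAut.conj ((g : MulAut S) s) = (g : MulAut S) * (n : MulAut S) * (g : MulAut S)⁻¹
    rw [show (n : MulAut S) = MulAut.conj s from hs.symm]
    ext y
    simp⟩
  obtain ⟨hfa, -⟩ := IsSaturated.automized_receptive hS hF (isFullyNormalized_top F)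
  obtain ⟨-, R, hR⟩ := hfa
  rw [autInducedBy_self] at hR
  have hcop : (Nat.card NI).Coprime NI.index := by
    have h1 : NI = (R : Subgroup A) := hR.symm
    rw [h1]
    exact R.card_coprime_index
  obtain ⟨C, hC⟩ := Subgroup.exists_right_complement'_of_coprime hcop
  let H : Subgroup (MulAut S) := C.map A.subtype
  have hHA : H ≤ A := Subgroup.map_subtype_le C
  have hHc : (Nat.card H).Coprime p := by
    rw [Subgroup.card_map_of_injective A.subtype_injective, ← Subgroup.IsComplement'.index_eq_card hC.symm]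
    have hp' : ¬ p ∣ NI.index := by
      have h1 : NI = (R : Subgroup A) := hR.symm
      rw [h1]
      exact R.not_dvd_index
    exact ((Nat.Prime.coprime_iff_not_dvd (Fact.out : p.Prime)).2 hp').symm
  obtain ⟨hcomm, hexp⟩ := hA H hHc
  have hdec : ∀ α ∈ A, ∃ s : S, ∃ a ∈ H, α = MulAut.conj s * a := by
    intro α hα
    obtain ⟨⟨⟨n, hn⟩, c⟩, he⟩ := hC.2 ⟨α, hα⟩
    obtain ⟨s, hs⟩ := hn
    have h' : (n : MulAut S) * ((c : A) : MulAut S) = α := congrArg Subtype.val he
    exact ⟨s, c, ⟨c, c.2, rfl⟩, by rw [← h', hs]; rfl⟩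
  let 𝒩 : Set (Subgroup S) :=
    {N | (∀ α ∈ A, ∀ x ∈ N, α x ∈ N) ∧ HasClosedSeries F p (N.map S.subtype)}
  have hne : 𝒩.Nonempty := ⟨⊥, fun α _ x hx => by simp_all,
    by rw [Subgroup.map_bot]; exact hasClosedSeries_bot⟩
  obtain ⟨N, ⟨hNinv, hNser⟩, hmax⟩ := Set.Finite.exists_maximal (Set.toFinite 𝒩) hne
  suffices hN : N = ⊤ by
    rw [hN, ← MonoidHom.range_eq_map, Subgroup.range_subtype] at hNser
    exact hNser
  by_contra hN
  haveI hNn : N.Normal := ⟨fun n hn g => by simpa using hNinv _ (hInn ⟨g, rfl⟩) n hn⟩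
  haveI : Nontrivial (S ⧸ N) := QuotientGroup.nontrivial_iff.2 hN
  let K : Subgroup (MulAut (S ⧸ N)) :=
    { carrier := {e | ∃ a ∈ H, ∀ x : S, e (QuotientGroup.mk x) = QuotientGroup.mk (a x)}
      one_mem' := ⟨1, H.one_mem, fun x => rfl⟩
      mul_mem' := by
        rintro e f ⟨a, ha, hea⟩ ⟨b, hb, hfb⟩
        exact ⟨a * b, H.mul_mem ha hb, fun x => by
          rw [MulAut.mul_apply, hfb, hea, MulAut.mul_apply]⟩
      inv_mem' := by
        rintro e ⟨a, ha, hea⟩
        refine ⟨a⁻¹, H.inv_mem ha, fun x => e.injective ?_⟩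
        rw [MulAut.apply_inv_self, hea, MulAut.apply_inv_self] }
  obtain ⟨z, hz1, hzc, hzp, hzK⟩ := exists_central_eigen (hS.to_quotient N) K (by
    rintro e ⟨a, ha, hea⟩ f ⟨b, hb, hfb⟩
    apply MulEquiv.ext
    intro q
    obtain ⟨x, rfl⟩ := QuotientGroup.mk_surjective q
    have hab : (⟨a, ha⟩ : H) * ⟨b, hb⟩ = ⟨b, hb⟩ * ⟨a, ha⟩ := hcomm.is_comm.comm _ _
    rw [MulAut.mul_apply, MulAut.mul_apply, hfb, hea, hea, hfb]
    exact congrArg (fun t : H => (QuotientGroup.mk ((t : MulAut S) x) : S ⧸ N)) hab) (by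
    rintro e ⟨a, ha, hea⟩
    apply MulEquiv.ext
    intro q
    obtain ⟨x, rfl⟩ := QuotientGroup.mk_surjective q
    have : ∀ j : ℕ, (e ^ j) (QuotientGroup.mk x) = QuotientGroup.mk ((a ^ j) x) := by
      intro j
      induction j with
      | zero => rfl
      | succ j ih => rw [pow_succ', MulAut.mul_apply, ih, hea, pow_succ', MulAut.mul_apply]
    rw [this, hexp a ha]
    rfl)
  let M : Subgroup S := (Subgroup.zpowers z).comap (QuotientGroup.mk' N)
  have hNM : N ≤ M := fun x hx => by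
    refine Subgroup.mem_comap.2 ?_
    rw [QuotientGroup.mk'_apply, (QuotientGroup.eq_one_iff x).2 hx]
    exact Subgroup.one_mem _
  have hzcen : ∀ q ∈ Subgroup.zpowers z, q ∈ Subgroup.center (S ⧸ N) :=
    fun q hq => (Subgroup.zpowers_le.2 hzc) hq
  have hMinv : ∀ α ∈ A, ∀ x ∈ M, α x ∈ M := by
    intro α hα x hx
    obtain ⟨s, a, ha, rfl⟩ := hdec α hα
    let e : MulAut (S ⧸ N) := QuotientGroup.congr N N a (by
      refine Subgroup.eq_of_le_of_card_ge ?_ (by
        rw [Subgroup.card_map_of_injective a.injective])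
      rintro _ ⟨y, hy, rfl⟩
      exact hNinv a (hHA ha) y hy)
    have heK : e ∈ K := ⟨a, ha, fun y => rfl⟩
    have h1 : QuotientGroup.mk' N (a x) ∈ Subgroup.zpowers z := by
      obtain ⟨k, hk⟩ := Subgroup.mem_zpowers_iff.1 (show QuotientGroup.mk' N x ∈ _ from hx)
      rw [show QuotientGroup.mk' N (a x) = e (QuotientGroup.mk' N x) from rfl, ← hk, map_zpow]
      exact Subgroup.zpow_mem _ (hzK e heK) k
    show QuotientGroup.mk' N (s * a x * s⁻¹) ∈ Subgroup.zpowers z
    rw [map_mul, map_mul, map_inv, Subgroup.mem_center_iff.1 (hzcen _ h1), mul_inv_cancel_right]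
    exact h1
  have hMser : HasClosedSeries F p (M.map S.subtype) := by
    refine hNser.extend (stronglyClosed_of_aut_invariant hn hMinv) (Subgroup.map_mono hNM) ?_
    rw [Subgroup.relIndex_map_map, Subgroup.ker_subtype, sup_bot_eq, sup_bot_eq,
      ← QuotientGroup.ker_mk' N, Subgroup.relIndex_ker,
      Subgroup.map_comap_eq_self_of_surjective (QuotientGroup.mk'_surjective N), Nat.card_zpowers]
    exact orderOf_dvd_of_pow_eq_one hzp
  have hlt : ¬ M ≤ N := fun hle => by
    obtain ⟨x, hx⟩ := QuotientGroup.mk_surjective z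
    have hxM : x ∈ M := by
      refine Subgroup.mem_comap.2 ?_
      rw [show QuotientGroup.mk' N x = z from hx]
      exact Subgroup.mem_zpowers z
    exact hz1 (hx ▸ (QuotientGroup.eq_one_iff x).2 (hle hxM))
  exact hlt (hmax ⟨hMinv, hMser⟩ hNM)

end Cfsg.Agent.Lib.Fusion
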