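import Cfsg.Agent.Lib.Fusion.EssentialSeries
import Cfsg.Agent.Lib.Cores.PCore
import Mathlib.FieldTheory.Finite.Basic

/-!
Automorphisms of exponent dividing `p - 1` of a `p`-group: common eigenvectors, action on factors of
order `p`.
-/

set_option autoImplicit false
set_option linter.unusedSectionVars false

namespace Cfsg.Agent.Lib.Fusion

open Finset

variable {p : ℕ} [Fact p.Prime]

/-- An endomorphism with `f^(p-1) = 1` of a vector space over `ZMod p` has an eigenvector. -/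
theorem exists_eigen_of_pow {V : Type*} [AddCommGroup V] [Module (ZMod p) V]
    (f : V →ₗ[ZMod p] V) (hf : f ^ (p - 1) = 1) {v : V} (hv : v ≠ 0) :
    ∃ (b : (ZMod p)ˣ) (w : V), w ≠ 0 ∧ f w = (b : ZMod p) • w := by
  classical
  have hp : 1 < p := (Fact.out : p.Prime).one_lt
  set w : (ZMod p)ˣ → V := fun b =>
    ∑ j ∈ range (p - 1), ((b⁻¹ : (ZMod p)ˣ) : ZMod p) ^ j • (f ^ j) v with hw
  have heig : ∀ b : (ZMod p)ˣ, f (w b) = (b : ZMod p) • w b := by
    intro b
    let g : ℕ → V := fun j => ((b⁻¹ : (ZMod p)ˣ) : ZMod p) ^ j • (f ^ j) v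
    have hg : g (p - 1) = g 0 := by
      simp only [g, hf, pow_zero, ← Units.val_pow_eq_pow_val, ZMod.units_pow_card_sub_one_eq_one,
        Units.val_one]
    have hshift : ∑ j ∈ range (p - 1), g (j + 1) = ∑ j ∈ range (p - 1), g j := by
      have h1 := Finset.sum_range_succ' g (p - 1)
      rw [Finset.sum_range_succ, hg] at h1
      exact (add_right_cancel h1).symm
    have h2 : f (w b) = (b : ZMod p) • ∑ j ∈ range (p - 1), g (j + 1) := by
      simp only [hw, g, map_sum, map_smul, Finset.smul_sum, smul_smul]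
      refine Finset.sum_congr rfl fun j _ => ?_
      rw [pow_succ' (((b⁻¹ : (ZMod p)ˣ) : ZMod p)), ← mul_assoc, Units.mul_inv, one_mul, pow_succ' f]
      rfl
    rw [h2, hshift]
  by_contra hcon
  push Not at hcon
  have h0 : ∀ b, w b = 0 := fun b => by
    by_contra h
    exact hcon b (w b) h (heig b)
  have hsum : ∑ b : (ZMod p)ˣ, w b = -v := by
    simp only [hw]
    rw [Finset.sum_comm, Finset.sum_eq_single_of_mem 0 (mem_range.2 (by omega))]
    · rw [← Finset.sum_smul]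
      simp only [pow_zero, Finset.sum_const, Finset.card_univ, ZMod.card_units, nsmul_eq_mul,
        mul_one]
      rw [Nat.cast_sub hp.le, ZMod.natCast_self, zero_sub, Nat.cast_one, neg_smul, one_smul]
      rfl
    · intro j hj hj0
      rw [← Finset.sum_smul]
      have h1 : ∑ b : (ZMod p)ˣ, ((b⁻¹ : (ZMod p)ˣ) : ZMod p) ^ j = 0 := by
        rw [show (∑ b : (ZMod p)ˣ, ((b⁻¹ : (ZMod p)ˣ) : ZMod p) ^ j) =
            ∑ b : (ZMod p)ˣ, (b : ZMod p) ^ j from
          Fintype.sum_equiv (Equiv.inv _) _ _ fun b => rfl,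
          show (∑ b : (ZMod p)ˣ, (b : ZMod p) ^ j) = ∑ b : (ZMod p)ˣ, ((b ^ j : (ZMod p)ˣ) : ZMod p)
            from Finset.sum_congr rfl fun b _ => (Units.val_pow_eq_pow_val b j).symm]
        simp only [Units.val_pow_eq_pow_val]
        rw [FiniteField.sum_pow_units, ZMod.card, if_neg]
        intro hd
        have := Nat.le_of_dvd (Nat.pos_of_ne_zero hj0) hd
        have := mem_range.1 hj
        omega
      rw [h1, zero_smul]
  rw [Finset.sum_eq_zero fun b _ => h0 b] at hsum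
  exact hv (neg_eq_zero.1 hsum.symm)

/-- The eigenvector, written multiplicatively, given the vector space structure. -/
theorem exists_eigen_mul_aux {D : Type*} [CommGroup D] [Module (ZMod p) (Additive D)] (φ : D →* D)
    (hφ : ∀ x, (⇑φ)^[p - 1] x = x) {d : D} (hd : d ≠ 1) :
    ∃ (n : ℕ) (w : D), w ≠ 1 ∧ φ w = w ^ n := by
  let f : Additive D →ₗ[ZMod p] Additive D := AddMonoidHom.toZModLinearMap p (MonoidHom.toAdditive φ)
  have hf : ∀ (j : ℕ) (x : Additive D), Additive.toMul ((f ^ j) x) = (⇑φ)^[j] (Additive.toMul x) := by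
    intro j
    induction j with
    | zero => exact fun x => rfl
    | succ j ih =>
      intro x
      rw [pow_succ' f, Function.iterate_succ_apply', ← ih]
      rfl
  have hf1 : f ^ (p - 1) = 1 := LinearMap.ext fun x => Additive.toMul.injective (by
    rw [hf, hφ]; rfl)
  obtain ⟨b, w, hw0, hw⟩ := exists_eigen_of_pow f hf1 (v := Additive.ofMul d)
    (fun e => hd (ofMul_eq_zero.1 e))
  refine ⟨(b : ZMod p).val, Additive.toMul w, fun e => hw0 (toMul_eq_one.1 e), ?_⟩
  have h1 : f w = (b : ZMod p).val • w := by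
    rw [hw, ← Nat.cast_smul_eq_nsmul (ZMod p), ZMod.natCast_zmod_val]
  exact congrArg Additive.toMul h1

/-- The eigenvector, written multiplicatively. -/
theorem exists_eigen_mul {D : Type*} [CommGroup D] (hD : ∀ x : D, x ^ p = 1) (φ : D →* D)
    (hφ : ∀ x, (⇑φ)^[p - 1] x = x) {d : D} (hd : d ≠ 1) :
    ∃ (n : ℕ) (w : D), w ≠ 1 ∧ φ w = w ^ n := by
  haveI : Module (ZMod p) (Additive D) := AddCommGroup.zmodModule (n := p) fun x => by
    apply Additive.toMul.injective
    rw [toMul_nsmul, toMul_zero]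
    exact hD _
  exact exists_eigen_mul_aux φ hφ hd

/-- A common eigenvector of order `p` in the centre. -/
theorem exists_central_eigen {Q : Type*} [Group Q] [Finite Q] [Nontrivial Q] (hQ : IsPGroup p Q)
    (K : Subgroup (MulAut Q)) (hK : ∀ h ∈ K, ∀ k ∈ K, h * k = k * h)
    (hexp : ∀ h ∈ K, h ^ (p - 1) = 1) :
    ∃ z : Q, z ≠ 1 ∧ z ∈ Subgroup.center Q ∧ z ^ p = 1 ∧ ∀ h ∈ K, h z ∈ Subgroup.zpowers z := by
  classical
  let 𝒟 : Set (Subgroup Q) := {D | D ≠ ⊥ ∧ D ≤ Subgroup.center Q ∧ (∀ x ∈ D, x ^ p = 1) ∧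
    ∀ h ∈ K, ∀ x ∈ D, h x ∈ D}
  have hne : 𝒟.Nonempty := by
    let D₀ : Subgroup Q :=
      { carrier := {x | x ∈ Subgroup.center Q ∧ x ^ p = 1}
        one_mem' := ⟨one_mem _, one_pow p⟩
        mul_mem' := fun {a b} ha hb => ⟨mul_mem ha.1 hb.1, by
          rw [Commute.mul_pow (Subgroup.mem_center_iff.1 hb.1 a), ha.2, hb.2, one_mul]⟩
        inv_mem' := fun {a} ha => ⟨inv_mem ha.1, by rw [inv_pow, ha.2, inv_one]⟩ }
    refine ⟨D₀, ?_, fun x hx => hx.1, fun x hx => hx.2, fun h _ x hx => ⟨?_, ?_⟩⟩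
    · haveI := hQ.center_nontrivial
      obtain ⟨n, hn, hc⟩ := (hQ.to_subgroup (Subgroup.center Q)).nontrivial_iff_card.1 inferInstance
      obtain ⟨z, hz⟩ := exists_prime_orderOf_dvd_card' (G := Subgroup.center Q) p
        (hc ▸ dvd_pow_self p hn.ne')
      intro h0
      have h1 : (z : Q) ∈ D₀ := ⟨z.2, by rw [← Subgroup.coe_pow, ← hz, pow_orderOf_eq_one]; rfl⟩
      rw [h0, Subgroup.mem_bot] at h1
      have : z = 1 := Subtype.ext h1
      rw [this, orderOf_one] at hz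
      exact (Fact.out : p.Prime).one_lt.ne hz
    · rw [Subgroup.mem_center_iff]
      intro y
      obtain ⟨y', rfl⟩ := h.surjective y
      rw [← map_mul, ← map_mul, Subgroup.mem_center_iff.1 hx.1 y']
    · rw [← map_pow, hx.2, map_one]
  obtain ⟨D, hD, hmin⟩ := Set.Finite.exists_minimal (Set.toFinite 𝒟) hne
  obtain ⟨hDne, hDc, hDp, hDK⟩ := hD
  have hscal : ∀ h ∈ K, ∃ n : ℕ, ∀ x ∈ D, h x = x ^ n := by
    intro h hh
    obtain ⟨d, hd, hd1⟩ : ∃ d ∈ D, d ≠ 1 := by
      by_contra hcon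
      push Not at hcon
      exact hDne ((Subgroup.eq_bot_iff_forall D).2 hcon)
    letI : CommGroup D :=
      { D.toGroup with mul_comm := fun a b => Subtype.ext (Subgroup.mem_center_iff.1 (hDc b.2) a) }
    let hD' : D →* D := (h.toMonoidHom.comp D.subtype).codRestrict D fun x => hDK h hh _ x.2
    have hit : ∀ (j : ℕ) (x : D), (((⇑hD')^[j] x : D) : Q) = (h ^ j) (x : Q) := by
      intro j
      induction j with
      | zero => exact fun x => rfl
      | succ j ih =>
        intro x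
        rw [Function.iterate_succ_apply', pow_succ' h, MulAut.mul_apply, ← ih]
        rfl
    obtain ⟨n, w, hw0, hw⟩ := exists_eigen_mul (p := p)
      (fun x : D => Subtype.ext (by rw [Subgroup.coe_pow]; exact hDp _ x.2)) hD'
      (fun x => Subtype.ext (by rw [hit, hexp h hh]; rfl))
      (d := (⟨d, hd⟩ : D)) (fun e => hd1 (congrArg Subtype.val e))
    let D' : Subgroup Q :=
      { carrier := {x | x ∈ D ∧ h x = x ^ n}
        one_mem' := ⟨one_mem _, by rw [map_one, one_pow]⟩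
        mul_mem' := fun {x y} hx hy => ⟨mul_mem hx.1 hy.1, by
          rw [map_mul, hx.2, hy.2, Commute.mul_pow (Subgroup.mem_center_iff.1 (hDc hy.1) x)]⟩
        inv_mem' := fun {x} hx => ⟨inv_mem hx.1, by rw [map_inv, hx.2, inv_pow]⟩ }
    have hw' : (w : Q) ∈ D' := ⟨w.2, (congrArg (fun y : D => (y : Q)) hw).trans (Subgroup.coe_pow _ _ _)⟩
    have hD'mem : D' ∈ 𝒟 := by
      refine ⟨fun e => ?_, fun x hx => hDc hx.1, fun x hx => hDp x hx.1, fun k hk x hx => ?_⟩
      · rw [e, Subgroup.mem_bot] at hw'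
        exact hw0 (Subtype.ext hw')
      · refine ⟨hDK k hk x hx.1, ?_⟩
        have := congrArg (fun e : MulAut Q => e x) (hK h hh k hk)
        rw [MulAut.mul_apply, MulAut.mul_apply] at this
        rw [this, hx.2, map_pow]
    exact ⟨n, fun x hx => (hmin hD'mem (fun y hy => hy.1) hx).2⟩
  obtain ⟨z, hz, hz1⟩ : ∃ z ∈ D, z ≠ 1 := by
    by_contra hcon
    push Not at hcon
    exact hDne ((Subgroup.eq_bot_iff_forall D).2 hcon)
  refine ⟨z, hz1, hDc hz, hDp z hz, fun h hh => ?_⟩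
  obtain ⟨n, hn⟩ := hscal h hh
  rw [hn z hz]
  exact Subgroup.pow_mem _ (Subgroup.mem_zpowers z) n

variable {G : Type*} [Group G] [Finite G]

theorem apply_symm_mem {U : Subgroup G} {h : MulAut G} (hU : ∀ x ∈ U, h x ∈ U) {x : G}
    (hx : h x ∈ U) : x ∈ U := by
  have e : U.map h.toMonoidHom = U := by
    refine Subgroup.eq_of_le_of_card_ge ?_ (by rw [Subgroup.card_map_of_injective h.injective])
    rintro _ ⟨y, hy, rfl⟩
    exact hU y hy
  obtain ⟨y, hy, he⟩ := e.ge hx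
  rwa [← h.injective he]

/-- Automorphisms commute on a factor of order dividing `p` and have exponent `p - 1` there. -/
theorem factor_aut (U V : Subgroup G) [hUn : U.Normal] (hidx : U.relIndex V ∣ p) (h k : MulAut G)
    (hU : ∀ x ∈ U, h x ∈ U) (hV : ∀ x ∈ V, h x ∈ V) (kU : ∀ x ∈ U, k x ∈ U) (kV : ∀ x ∈ V, k x ∈ V)
    {x : G} (hx : x ∈ V) :
    (k (h x))⁻¹ * h (k x) ∈ U ∧ x⁻¹ * (h ^ (p - 1)) x ∈ U := by
  classical
  have hp := (Fact.out : p.Prime)
  haveI : IsCyclic (V ⧸ U.subgroupOf V) := by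
    rcases (Nat.dvd_prime hp).1 hidx with e | e
    · haveI : Subsingleton (V ⧸ U.subgroupOf V) := (Nat.card_eq_one_iff_unique.1 e).1
      exact isCyclic_of_subsingleton
    · exact isCyclic_of_prime_card (α := V ⧸ U.subgroupOf V) e
  let res : ∀ a : MulAut G, (∀ x ∈ U, a x ∈ U) → (∀ x ∈ V, a x ∈ V) →
      (V ⧸ U.subgroupOf V →* V ⧸ U.subgroupOf V) := fun a aU aV =>
    QuotientGroup.map _ _ ((a.toMonoidHom.comp V.subtype).codRestrict V fun y => aV _ y.2)
      fun y hy => aU _ hy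
  let β := res h hU hV
  let γ := res k kU kV
  obtain ⟨m, hm⟩ := MonoidHom.map_cyclic β
  obtain ⟨n, hn⟩ := MonoidHom.map_cyclic γ
  set q : V ⧸ U.subgroupOf V := QuotientGroup.mk (⟨x, hx⟩ : V) with hq
  refine ⟨?_, ?_⟩
  · have e : γ (β q) = β (γ q) := by
      rw [hm, hn, hm, hn, ← zpow_mul, ← zpow_mul, mul_comm]
    have e' := QuotientGroup.eq.1 (e : QuotientGroup.mk (⟨k (h x), kV _ (hV _ hx)⟩ : V) =
      QuotientGroup.mk (⟨h (k x), hV _ (kV _ hx)⟩ : V))
    exact e'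
  · have hit : ∀ j : ℕ, ∃ hj : (h ^ j) x ∈ V,
        (QuotientGroup.mk (⟨(h ^ j) x, hj⟩ : V) : V ⧸ U.subgroupOf V) = q ^ (m ^ j) := by
      intro j
      induction j with
      | zero => exact ⟨hx, (zpow_one q).symm.trans (by rw [pow_zero])⟩
      | succ j ih =>
        obtain ⟨hj, e⟩ := ih
        have hj' : (h ^ (j + 1)) x ∈ V := by rw [pow_succ', MulAut.mul_apply]; exact hV _ hj
        refine ⟨hj', ?_⟩
        have e' : (⟨(h ^ (j + 1)) x, hj'⟩ : V) = ⟨h ((h ^ j) x), hV _ hj⟩ :=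
          Subtype.ext (by show (h ^ (j + 1)) x = _; rw [pow_succ', MulAut.mul_apply])
        rw [e']
        show β (QuotientGroup.mk (⟨(h ^ j) x, hj⟩ : V)) = _
        rw [e, hm, ← zpow_mul, pow_succ]
    obtain ⟨hj, e⟩ := hit (p - 1)
    suffices e' : (QuotientGroup.mk (⟨x, hx⟩ : V) : V ⧸ U.subgroupOf V) =
        QuotientGroup.mk (⟨(h ^ (p - 1)) x, hj⟩ : V) by
      have e'' := QuotientGroup.eq.1 e'
      exact e''
    rw [e]
    by_cases hq1 : q = 1
    · rw [← hq, hq1, one_zpow]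
    have ho : orderOf q = p := by
      refine ((Nat.dvd_prime hp).1 ((orderOf_dvd_natCard q).trans hidx)).resolve_left fun e1 => ?_
      exact hq1 (orderOf_eq_one_iff.1 e1)
    have hmp : ¬ (p : ℤ) ∣ m := by
      intro hd
      apply hq1
      have h1 : β q = 1 := by
        rw [hm]
        exact orderOf_dvd_iff_zpow_eq_one.1 (by rw [ho]; exact hd)
      have h2' := (QuotientGroup.eq_one_iff _).1
        (h1 : QuotientGroup.mk (⟨h x, hV _ hx⟩ : V) = 1)
      have h2 : h x ∈ U := h2'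
      exact (QuotientGroup.eq_one_iff _).2 (apply_symm_mem hU h2 : (⟨x, hx⟩ : V) ∈ U.subgroupOf V)
    have h3 : (p : ℤ) ∣ m ^ (p - 1) - 1 := by
      rw [← ZMod.intCast_zmod_eq_zero_iff_dvd]
      push_cast
      rw [ZMod.pow_card_sub_one_eq_one, sub_self]
      rwa [Ne, ZMod.intCast_zmod_eq_zero_iff_dvd]
    rw [← hq]
    calc q = q ^ (1 : ℤ) := (zpow_one q).symm
      _ = q ^ (m ^ (p - 1)) := (zpow_eq_zpow_iff_modEq.2 (Int.modEq_iff_dvd.2 (by rw [ho]; exact h3)))

/-- A subgroup of automorphisms of order prime to `p` acts faithfully on the factors of a series. -/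
theorem eq_one_of_stab_coprime {P : Type*} [Group P] [Finite P] (hP : IsPGroup p P)
    {H : Subgroup (MulAut P)} (hH : (Nat.card H).Coprime p) (W : ℕ → Subgroup P) (m : ℕ)
    (h0 : W 0 = ⊥) (hm : W m = ⊤) (hinv : ∀ α ∈ H, ∀ i, ∀ x ∈ W i, α x ∈ W i) {β : MulAut P}
    (hβH : β ∈ H) (hβ : ∀ i < m, ∀ x ∈ W (i + 1), x⁻¹ * β x ∈ W i) : β = 1 := by
  obtain ⟨β', hβ', rfl⟩ := stab_mem_pCore hP H W m h0 hm hinv hβH hβ
  haveI : Finite (MulAut P) := Finite.of_injective (fun e : MulAut P => (e : P → P)) fun a b e =>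
    MulEquiv.ext (congrFun e)
  obtain ⟨k, hk⟩ := Cfsg.Agent.Lib.Cores.pCore_isPGroup p H ⟨β', hβ'⟩
  have h1 : orderOf β' ∣ p ^ k := orderOf_dvd_of_pow_eq_one (congrArg Subtype.val hk)
  have h2 : orderOf β' ∣ Nat.card H := orderOf_dvd_natCard β'
  have h3 : orderOf β' = 1 := Nat.eq_one_of_dvd_coprimes (hH.pow_right k) h2 h1
  show ((β' : H) : MulAut P) = 1
  rw [orderOf_eq_one_iff.1 h3]
  rfl

end Cfsg.Agent.Lib.Fusion
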