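import Cfsg.Agent.Lib.Fusion.BisetTransfer
import Cfsg.Agent.Lib.Transfer.PFrattini
import Cfsg.Agent.Lib.Transfer.Tate

/-!
Tate's theorem for fusion systems, by the biset transfer; focal subgroups and the centre.
-/

set_option autoImplicit false
set_option linter.unusedSectionVars false

namespace Cfsg.Agent.Lib.Fusion

open Cfsg Cfsg.FusionSystem MulAction

variable {Ω : Type*} [Group Ω] {S : Subgroup Ω}

/-- The maps moving each element inside its coset of `D`, up to conjugation by `S`. -/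
def twistSystem (F : FusionSystem S) (D : Subgroup Ω) (hD : ∀ g ∈ S, ∀ x ∈ D, g * x * g⁻¹ ∈ D) :
    FusionSystem S where
  Hom P := {φ | φ ∈ F.Hom P ∧ ∃ s ∈ S, ∀ x : P, (x : Ω)⁻¹ * (s * φ x * s⁻¹) ∈ D}
  le_of_mem h := F.le_of_mem h.1
  injective_of_mem h := F.injective_of_mem h.1
  conj_mem {P g} hP hg := ⟨F.conj_mem hP hg, g⁻¹, S.inv_mem hg, fun x => by
    show (x : Ω)⁻¹ * (g⁻¹ * (g * x * g⁻¹) * g⁻¹⁻¹) ∈ D
    simp [mul_assoc, D.one_mem]⟩
  comp_mem := by
    rintro P Q φ ψ ⟨hφ, s, hs, h1⟩ ⟨hψ, t, ht, h2⟩ h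
    refine ⟨F.comp_mem hφ hψ h, s * t, S.mul_mem hs ht, fun x => ?_⟩
    have a := h1 x
    have b := hD s hs _ (h2 ⟨φ x, h x⟩)
    have := D.mul_mem a b
    show (x : Ω)⁻¹ * (s * t * ψ ⟨φ x, h x⟩ * (s * t)⁻¹) ∈ D
    convert this using 1
    simp [mul_assoc]
  inv_mem := by
    rintro P φ ⟨hφ, s, hs, h1⟩
    obtain ⟨c, hc, -, hl, -⟩ := exists_inv F hφ rfl
    refine ⟨c, ⟨hc, s⁻¹, S.inv_mem hs, ?_⟩, fun x => hl x _⟩
    rintro ⟨_, x, rfl⟩
    have hm : φ x ∈ φ.range := ⟨x, rfl⟩
    show (φ x)⁻¹ * (s⁻¹ * c ⟨φ x, hm⟩ * s⁻¹⁻¹) ∈ D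
    rw [hl x hm]
    have := hD s⁻¹ (S.inv_mem hs) _ (D.inv_mem (h1 x))
    convert this using 1
    simp [mul_assoc]

variable [Finite S] {F : FusionSystem S} {p : ℕ} [Fact p.Prime]

theorem exists_twist (hS : IsPGroup p S) (hF : F.IsSaturated p) {D : Subgroup Ω}
    (hD : ∀ g ∈ S, ∀ x ∈ D, g * x * g⁻¹ ∈ D) (hhyp : F.hyperfocalSubgroup p ≤ D)
    {P : Subgroup Ω} {φ : P →* Ω} (hφ : φ ∈ F.Hom P) :
    ∃ s ∈ S, ∀ x : P, (x : Ω)⁻¹ * (s * φ x * s⁻¹) ∈ D :=
  ((le_of_residual hS hF (twistSystem F D hD) fun Q hn α hα => mem_autGroup_of_hom _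
    ⟨autHom_mem F hn.1 α.2, 1, S.one_mem, fun x => by
      simpa using hhyp (hyperfocal_mem hn.1 hα x)⟩) P hφ).2

variable {A : Type*} [CommGroup A]

/-- The transfer to `A` of a homomorphism from `S`. -/
noncomputable def StableBiset.transferOf (B : StableBiset F) (μ : S →* A) : S →* A :=
  B.transferHom fun i => μ.comp
    (((B.φ i).comp ((Subgroup.subgroupOfEquivOfLe (source_le (B.mem i))).toMonoidHom)).codRestrict S
      fun x => apply_mem (B.mem i) _)

open Classical in
theorem StableBiset.transferOf_map (B : StableBiset F) (μ : S →* A) {Q : Subgroup Ω}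
    {ψ : Q →* Ω} (hψ : ψ ∈ F.Hom Q) (x : S) (hx : (x : Ω) ∈ Q) :
    B.transferOf μ ⟨ψ ⟨x, hx⟩, apply_mem hψ _⟩ = B.transferOf μ x := by
  let f : Ω → A := fun z => if h : z ∈ S then μ ⟨z, h⟩ else 1
  have hf : IsSInvariant S f := by
    intro a ha z hz
    have h' : a * z * a⁻¹ ∈ S := S.mul_mem (S.mul_mem ha hz) (S.inv_mem ha)
    simp only [f, dif_pos h', dif_pos hz]
    rw [show (⟨a * z * a⁻¹, h'⟩ : S) = ⟨a, ha⟩ * ⟨z, hz⟩ * ⟨a, ha⟩⁻¹ from rfl, map_mul, map_mul,
      map_inv, mul_comm (μ ⟨a, ha⟩), mul_assoc, mul_inv_cancel, mul_one]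
  have key : ∀ y : S, B.transferOf μ y = B.orbitProd f y := by
    intro y
    have := fun i => Fintype.ofFinite
      (Quotient (orbitRel (Subgroup.zpowers y) (S ⧸ (B.P i).subgroupOf S)))
    rw [B.orbitProd_eq hf, StableBiset.transferOf, B.transferHom_eq]
    refine Finset.prod_congr rfl fun i _ => Finset.prod_congr rfl fun q _ => ?_
    simp only [f, dif_pos (apply_mem (B.mem i) _)]
    rfl
  rw [key, key]
  exact (B.orbitProd_map hf hψ x hx _).symm

theorem StableBiset.transferOf_central (B : StableBiset F) (μ : S →* A) {Q : Subgroup Ω}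
    (hQ : F.IsCentral Q) (z : S) (hz : (z : Ω) ∈ Q) :
    B.transferOf μ z = μ z ^ ∑ i, ((B.P i).subgroupOf S).index := by
  have hcomm : ∀ g : S, g * z = z * g := by
    intro g
    obtain ⟨ψ, -, hext, hfix⟩ := hQ.2 S (conjHom S g) (F.conj_mem le_rfl g.2)
    have h1 := hext z
    have h2 : ψ (Subgroup.inclusion le_sup_right ⟨(z : Ω), hz⟩) = z := hfix ⟨_, hz⟩
    rw [show Subgroup.inclusion (le_sup_right : Q ≤ S ⊔ Q) ⟨(z : Ω), hz⟩ =
      Subgroup.inclusion le_sup_left z from rfl, h1] at h2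
    refine Subtype.ext ?_
    exact mul_inv_eq_iff_eq_mul.1 (show (g : Ω) * z * (g : Ω)⁻¹ = z from h2)
  rw [StableBiset.transferOf, B.transferHom_apply, ← Finset.prod_pow_eq_pow_sum]
  refine Finset.prod_congr rfl fun i _ => ?_
  have key : ∀ (k : ℕ) (g₀ : S), g₀⁻¹ * z ^ k * g₀ ∈ (B.P i).subgroupOf S →
      g₀⁻¹ * z ^ k * g₀ = z ^ k := by
    intro k g₀ _
    rw [mul_assoc, ((show Commute g₀ z from hcomm g₀).pow_right k).eq.symm, inv_mul_cancel_left]
  rw [MonoidHom.transfer_eq_pow _ _ key, ← map_pow]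
  refine congrArg μ (Subtype.ext ?_)
  set k := ((B.P i).subgroupOf S).index
  have hk : ((z ^ k : S) : Ω) ∈ B.P i := MonoidHom.transfer_eq_pow_aux z key
  obtain ⟨ψ, -, hext, hfix⟩ := hQ.2 (B.P i) (B.φ i) (B.mem i)
  have hkQ : ((z ^ k : S) : Ω) ∈ Q := by
    rw [SubgroupClass.coe_pow]
    exact Q.pow_mem hz k
  show B.φ i ⟨_, hk⟩ = _
  rw [← hext ⟨_, hk⟩]
  exact hfix ⟨_, hkQ⟩

/-- `foc(F) ∩ Q = S' ∩ Q` for a central subgroup `Q`. -/
theorem focal_inf_central (hS : IsPGroup p S) (hF : F.IsSaturated p) {Q : Subgroup Ω}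
    (hQ : F.IsCentral Q) : F.focalSubgroup ⊓ Q = ⁅S, S⁆ ⊓ Q := by
  refine le_antisymm (fun z hz => ⟨?_, hz.2⟩) (inf_le_inf_right _ (commutator_le_focal F))
  obtain ⟨B, hB⟩ := exists_stableBiset hS hF
  have hzS : z ∈ S := hQ.1 hz.2
  let μ : S →* Abelianization S := Abelianization.of
  set T := B.transferOf μ
  have hfoc : ∀ y ∈ F.focalSubgroup, ∀ hy : y ∈ S, T ⟨y, hy⟩ = 1 := by
    intro y hy
    induction hy using Subgroup.closure_induction with
    | mem w hw =>
      obtain ⟨P, φ, x, hφ, rfl⟩ := hw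
      intro hy
      have hxS : (x : Ω) ∈ S := source_le hφ x.2
      rw [show (⟨_, hy⟩ : S) = (⟨x, hxS⟩ : S)⁻¹ * ⟨φ x, apply_mem hφ x⟩ from rfl, map_mul,
        map_inv, inv_mul_eq_one]
      exact (B.transferOf_map μ hφ ⟨x, hxS⟩ x.2).symm
    | one => exact fun h1 => map_one T
    | mul a b ha hb iha ihb =>
      intro hy
      have hsub : F.focalSubgroup ≤ S := (Subgroup.closure_le _).2 (by
        rintro _ ⟨P, φ, x, hφ, rfl⟩
        exact S.mul_mem (S.inv_mem (source_le hφ x.2)) (apply_mem hφ x))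
      rw [show (⟨a * b, hy⟩ : S) = ⟨a, hsub ha⟩ * ⟨b, hsub hb⟩ from rfl, map_mul,
        iha, ihb, one_mul]
    | inv a ha iha =>
      intro hy
      rw [show (⟨a⁻¹, hy⟩ : S) = ⟨a, inv_mem_iff.1 hy⟩⁻¹ from rfl, map_inv, iha, inv_one]
  have h1 := hfoc z hz.1 hzS
  rw [show T ⟨z, hzS⟩ = B.transferOf μ ⟨z, hzS⟩ from rfl, B.transferOf_central μ hQ _ hz.2] at h1
  have hp : IsPGroup p (Abelianization S) := hS.of_surjective μ (QuotientGroup.mk'_surjective _)
  set m := ∑ i, ((B.P i).subgroupOf S).index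
  have h2 : μ ⟨z, hzS⟩ = 1 := (hp.powEquiv' hB).injective (by
    simp only [IsPGroup.powEquiv', IsPGroup.powEquiv_apply]
    rw [h1, one_pow])
  have h3 : (⟨z, hzS⟩ : S) ∈ commutator S := (QuotientGroup.eq_one_iff _).1 h2
  have h4 : z ∈ (commutator S).map S.subtype := ⟨_, h3, rfl⟩
  rwa [commutator_def, Subgroup.map_commutator, ← MonoidHom.range_eq_map,
    Subgroup.range_subtype] at h4

open Classical in
open scoped IsMulCommutative in
/-- The transfer step: along a central step `N < D` of exponent `p` above the hyperfocal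
subgroup, some homomorphism on `S` to `D / N` inverts the projection of hyperfocal elements. -/
theorem exists_hom_hyperfocal (hS : IsPGroup p S) (hF : F.IsSaturated p) {D : Subgroup Ω}
    (hD : F.StronglyClosed D) (hDn : ∀ g ∈ S, ∀ x ∈ D, g * x * g⁻¹ ∈ D)
    (hhyp : F.hyperfocalSubgroup p ≤ D) (N : Subgroup S) [N.Normal]
    (hND : N ≤ D.subgroupOf S)
    (hcen : (D.subgroupOf S).map (QuotientGroup.mk' N) ≤ Subgroup.center (S ⧸ N)) :
    ∃ (T : S →* (D.subgroupOf S).map (QuotientGroup.mk' N)) (m : ℕ), ¬ p ∣ m ∧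
      ∀ d : S, (d : Ω) ∈ F.hyperfocalSubgroup p →
        QuotientGroup.mk' N d ^ m * (T d : S ⧸ N) = 1 := by
  set Z := (D.subgroupOf S).map (QuotientGroup.mk' N)
  haveI : IsMulCommutative Z :=
    ⟨⟨fun a b => Subtype.ext ((Subgroup.mem_center_iff.1 (hcen b.2)) a.1)⟩⟩
  have hc : ∀ z ∈ Z, ∀ g : S ⧸ N, g * z = z * g := fun z hz g =>
    Subgroup.mem_center_iff.1 (hcen hz) g
  obtain ⟨B₀, hB₀⟩ := exists_stableBiset hS hF
  choose s hs hsD using fun i => exists_twist hS hF hDn hhyp (B₀.mem i)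
  let φ' : ∀ i, B₀.P i →* Ω := fun i => compose (B₀.φ i) (conjHom S (s i)) (apply_mem (B₀.mem i))
  let B : StableBiset F :=
    { n := B₀.n
      P := B₀.P
      φ := φ'
      mem := fun i => compose_mem F (B₀.mem i) (F.conj_mem le_rfl (hs i)) _
      stable := fun Q ψ hψ => by
        obtain ⟨ε, h1, h2⟩ := B₀.stable Q ψ hψ
        refine ⟨ε, h1, fun x hx i u hu => ?_⟩
        obtain ⟨j, v, hv, a, ha, he, heq⟩ := h2 x hx i u hu
        refine ⟨j, v, hv, s j * a * (s i)⁻¹, S.mul_mem (S.mul_mem (hs j) ha) (S.inv_mem (hs i)),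
          he, ?_⟩
        show s j * B₀.φ j ⟨_, hv⟩ * (s j)⁻¹ = _ * (s i * B₀.φ i ⟨_, hu⟩ * (s i)⁻¹) * _
        rw [heq]
        simp [mul_assoc] }
  have hsD' : ∀ i (x : B.P i), (x : Ω)⁻¹ * B.φ i x ∈ D := fun i x => hsD i x
  set m := ∑ i, ((B.P i).subgroupOf S).index
  let pr : ∀ z : Ω, z ∈ D → Z := fun z hz =>
    ⟨QuotientGroup.mk' N ⟨z, hD.1 hz⟩, ⟨_, hz, rfl⟩⟩
  have hmem : ∀ i (x : (B.P i).subgroupOf S),
      ((x : S) : Ω)⁻¹ * B.φ i ⟨_, x.2⟩ ∈ D := fun i x => hsD' i ⟨_, x.2⟩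
  let χ : ∀ i, (B.P i).subgroupOf S →* Z := fun i =>
    MonoidHom.mk' (fun x => pr _ (hmem i x)) fun a b => by
      refine Subtype.ext ?_
      have hb : B.φ i ⟨_, (a * b).2⟩ = B.φ i ⟨_, a.2⟩ * B.φ i ⟨_, b.2⟩ :=
        map_mul (B.φ i) ⟨_, a.2⟩ ⟨_, b.2⟩
      show QuotientGroup.mk' N _ = QuotientGroup.mk' N _ * QuotientGroup.mk' N _
      let fa : S := ⟨B.φ i ⟨_, a.2⟩, apply_mem (B.mem i) _⟩
      let fb : S := ⟨B.φ i ⟨_, b.2⟩, apply_mem (B.mem i) _⟩
      rw [show (⟨_, hD.1 (hmem i (a * b))⟩ : S) = (b : S)⁻¹ * ((a : S)⁻¹ * fa) * fb from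
          Subtype.ext (by
            simp [fa, fb, mul_assoc]
            exact hb),
        show (⟨_, hD.1 (hmem i a)⟩ : S) = (a : S)⁻¹ * fa from rfl,
        show (⟨_, hD.1 (hmem i b)⟩ : S) = (b : S)⁻¹ * fb from rfl]
      set w : S := (a : S)⁻¹ * fa
      have hw := hc (QuotientGroup.mk' N w) ⟨w, hmem i a, rfl⟩ (QuotientGroup.mk' N (b : S))⁻¹
      simp only [map_mul, map_inv]
      rw [hw, mul_assoc]
  let f : Ω → Z := fun z => if h : z ∈ D then pr z h else 1
  have hfD : ∀ z (h : z ∈ D), f z = pr z h := fun z h => dif_pos h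
  have hpr : ∀ g ∈ S, ∀ z (hz : z ∈ D) (hgz : g * z * g⁻¹ ∈ D), pr _ hgz = pr z hz := by
    intro g hg z hz hgz
    refine Subtype.ext ?_
    show QuotientGroup.mk' N ((⟨g, hg⟩ : S) * ⟨z, hD.1 hz⟩ * (⟨g, hg⟩ : S)⁻¹) = _
    rw [map_mul, map_mul, map_inv, hc _ ⟨_, hz, rfl⟩, mul_inv_cancel_right]
  have hf : IsSInvariant S f := by
    intro a ha z hz
    by_cases h : z ∈ D
    · rw [hfD _ (hDn a ha z h), hfD z h, hpr a ha z h (hDn a ha z h)]
    · have h' : a * z * a⁻¹ ∉ D := fun h' => h (by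
        have := hDn a⁻¹ (S.inv_mem ha) _ h'
        simpa [mul_assoc] using this)
      simp only [f, dif_neg h, dif_neg h']
  set T := B.transferHom χ
  have hTd : ∀ (d : S) (hd : (d : Ω) ∈ D), T d = B.orbitProd f d * (pr d hd ^ m)⁻¹ := by
    intro d hd
    have := fun i => Fintype.ofFinite
      (Quotient (orbitRel (Subgroup.zpowers d) (S ⧸ (B.P i).subgroupOf S)))
    rw [eq_mul_inv_iff_mul_eq, B.orbitProd_eq hf, B.transferHom_eq, ← Finset.prod_pow_eq_pow_sum,
      ← Finset.prod_mul_distrib]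
    refine Finset.prod_congr rfl fun i _ => ?_
    rw [Subgroup.index_eq_sum_minimalPeriod _ d, ← Finset.prod_pow_eq_pow_sum,
      ← Finset.prod_mul_distrib]
    refine Finset.prod_congr rfl fun q _ => ?_
    set ℓ := Function.minimalPeriod (d • ·) q.out
    set u := q.out.out
    have hP : ((u⁻¹ * d ^ ℓ * u : S) : Ω) ∈ B.P i :=
      QuotientGroup.out_conj_pow_minimalPeriod_mem _ d q.out
    have hz : ((u⁻¹ * d ^ ℓ * u : S) : Ω) ∈ D := by
      have := hDn (u : Ω)⁻¹ (S.inv_mem u.2) _ (D.pow_mem hd ℓ)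
      simpa [mul_assoc] using this
    have hφz : B.φ i ⟨_, hP⟩ ∈ D := hD.2 (B.P i ⊓ D) inf_le_right (restr inf_le_left (B.φ i))
      (restr_mem F (B.mem i) inf_le_left) ⟨_, hP, hz⟩
    rw [hfD _ hφz]
    have e1 : pr d hd ^ ℓ = pr _ hz := by
      refine (?_ : pr d hd ^ ℓ = pr ((d ^ ℓ : S) : Ω) (by simpa using D.pow_mem hd ℓ)).trans ?_
      · refine Subtype.ext ?_
        rw [SubgroupClass.coe_pow]
        exact (map_pow (QuotientGroup.mk' N) d ℓ).symm
      · have hdl : ((d ^ ℓ : S) : Ω) ∈ D := by simpa using D.pow_mem hd ℓ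
        refine (hpr _ (S.inv_mem u.2) _ hdl ?_).symm.trans ?_
        · simpa [mul_assoc] using hz
        · exact Subtype.ext (congrArg (QuotientGroup.mk' N) (Subtype.ext (by simp)))
    rw [e1]
    refine Subtype.ext ?_
    show QuotientGroup.mk' N _ * QuotientGroup.mk' N _ = QuotientGroup.mk' N _
    rw [hc _ ⟨⟨_, hD.1 hz⟩, hz, rfl⟩, ← map_mul]
    refine congrArg _ (Subtype.ext ?_)
    exact mul_inv_cancel_left _ _
  refine ⟨T, m, hB₀, fun d hd => ?_⟩
  have key : ∀ y (hy : y ∈ F.hyperfocalSubgroup p),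
      T ⟨y, hyperfocal_le F p hy⟩ * pr y (hhyp hy) ^ m = 1 := by
    intro y hy
    induction hy using Subgroup.closure_induction with
    | one =>
      have : pr 1 (hhyp (one_mem _)) = 1 := Subtype.ext (map_one (QuotientGroup.mk' N))
      rw [this, one_pow, mul_one]
      exact map_one T
    | mul a b ha hb iha ihb =>
      have e1 : pr (a * b) (hhyp (mul_mem ha hb)) = pr a (hhyp ha) * pr b (hhyp hb) :=
        Subtype.ext (map_mul (QuotientGroup.mk' N) ⟨a, hyperfocal_le F p ha⟩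
          ⟨b, hyperfocal_le F p hb⟩)
      rw [e1, show (⟨a * b, hyperfocal_le F p (mul_mem ha hb)⟩ : S) =
        ⟨a, hyperfocal_le F p ha⟩ * ⟨b, hyperfocal_le F p hb⟩ from rfl, map_mul, mul_pow,
        mul_mul_mul_comm, iha, ihb, one_mul]
    | inv a ha iha =>
      have e1 : pr a⁻¹ (hhyp (inv_mem ha)) = (pr a (hhyp ha))⁻¹ :=
        Subtype.ext (map_inv (QuotientGroup.mk' N) ⟨a, hyperfocal_le F p ha⟩)
      rw [e1, show (⟨a⁻¹, hyperfocal_le F p (inv_mem ha)⟩ : S) =
        (⟨a, hyperfocal_le F p ha⟩ : S)⁻¹ from rfl, map_inv, inv_pow, ← mul_inv, iha, inv_one]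
    | mem w hw =>
      obtain ⟨P, α, x, hP, hα, rfl⟩ := hw
      set R := pResidual p (F.autGroup P)
      let W : R → P → Ω := fun β y => (y : Ω)⁻¹ * ((((β : F.autGroup P) : MulAut P) y : P) : Ω)
      have hW : ∀ β y, W β y ∈ F.hyperfocalSubgroup p := fun β y => hyperfocal_mem hP β.2 y
      let ev : ∀ v : Ω, v ∈ F.hyperfocalSubgroup p → Z := fun v hv =>
        T ⟨v, hyperfocal_le F p hv⟩ * pr v (hhyp hv) ^ m
      have hev : ∀ (v v' : Ω) (hv : v ∈ F.hyperfocalSubgroup p)
          (hv' : v' ∈ F.hyperfocalSubgroup p) (hvv : v * v' ∈ F.hyperfocalSubgroup p),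
          ev _ hvv = ev v hv * ev v' hv' := by
        intro v v' hv hv' hvv
        show T ((⟨v, hyperfocal_le F p hv⟩ : S) * ⟨v', hyperfocal_le F p hv'⟩) * _ = _
        have e1 : pr _ (hhyp hvv) = pr v (hhyp hv) * pr v' (hhyp hv') := Subtype.ext
          (map_mul (QuotientGroup.mk' N) ⟨v, hyperfocal_le F p hv⟩ ⟨v', hyperfocal_le F p hv'⟩)
        rw [map_mul, e1, mul_pow, mul_mul_mul_comm]
      have hevc : ∀ (v : Ω) (g : Ω) (hg : g ∈ S) (hv : v ∈ F.hyperfocalSubgroup p),
          ev _ (conj_mem_hyperfocal F p hg hv) = ev v hv := by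
        intro v g hg hv
        show T ((⟨g, hg⟩ : S) * ⟨v, hyperfocal_le F p hv⟩ * (⟨g, hg⟩ : S)⁻¹) * _ = _
        rw [map_mul, map_mul, map_inv, hpr g hg v (hhyp hv) (hDn g hg v (hhyp hv)), mul_comm (T ⟨g, hg⟩),
          mul_inv_cancel_right]
      let ε : R → P → Z := fun β y => ev _ (hW β y)
      have evcongr : ∀ {v v' : Ω} (e : v = v') (hv : v ∈ F.hyperfocalSubgroup p)
          (hv' : v' ∈ F.hyperfocalSubgroup p), ev v hv = ev v' hv' := by
        rintro v v' rfl hv hv'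
        rfl
      have hεmul : ∀ β y z, ε β (y * z) = ε β y * ε β z := by
        intro β y z
        have h1 := conj_mem_hyperfocal F p (S.inv_mem (hP z.2)) (hW β y)
        refine (evcongr (v' := (z : Ω)⁻¹ * W β y * (z : Ω)⁻¹⁻¹ * W β z) ?_ (hW β (y * z))
          (mul_mem h1 (hW β z))).trans ((hev _ _ h1 (hW β z) (mul_mem h1 (hW β z))).trans ?_)
        · simp [W, mul_assoc]
        · rw [hevc _ _ (S.inv_mem (hP z.2)) (hW β y)]
      have hεD : ∀ β (y : P), (y : Ω) ∈ D → ε β y = 1 := by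
        intro β y hy
        let y' : S := ⟨y, hP y.2⟩
        set a : MulAut P := ((β : F.autGroup P) : MulAut P)
        have hay : autHom a y ∈ D := hD.2 (P ⊓ D) inf_le_right (restr inf_le_left (autHom a))
          (restr_mem F (autHom_mem F hP (β : F.autGroup P).2) inf_le_left) ⟨y, y.2, hy⟩
        let z' : S := ⟨autHom a y, hD.1 hay⟩
        have h1 := hTd y' hy
        have h2 := hTd z' hay
        have h3 := B.orbitProd_map hf (autHom_mem F hP (β : F.autGroup P).2) y' y.2 (hD.1 hay)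
        show T _ * pr (W β y) (hhyp (hW β y)) ^ m = 1
        rw [show (⟨W β y, hyperfocal_le F p (hW β y)⟩ : S) = y'⁻¹ * z' from rfl, map_mul, map_inv,
          show pr _ (hhyp (hW β y)) = (pr _ hy)⁻¹ * pr _ hay from Subtype.ext (by
            rw [Subgroup.coe_mul, Subgroup.coe_inv]
            exact (map_mul (QuotientGroup.mk' N) y'⁻¹ z').trans (by rw [map_inv])),
          mul_pow, inv_pow, mul_mul_mul_comm, ← mul_inv, h1, h2, inv_mul_cancel_right,
          inv_mul_cancel_right, inv_mul_eq_one]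
        exact h3
      let Φ : R →* (P → Z) := MonoidHom.mk' ε fun β γ => funext fun y => by
        set c : MulAut P := ((γ : F.autGroup P) : MulAut P)
        have hd : (((y⁻¹ * c y : P)) : Ω) ∈ D := hhyp (hW γ y)
        show ε (β * γ) y = ε β y * ε γ y
        have h1 : ε (β * γ) y = ε γ y * ε β (c y) := by
          refine (evcongr (v' := W γ y * W β (c y)) ?_ (hW (β * γ) y) (mul_mem (hW γ y) (hW β (c y)))).trans
            (hev _ _ (hW γ y) (hW β (c y)) (mul_mem (hW γ y) (hW β (c y))))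
          simp [W, c, mul_assoc]
        rw [h1, show c y = y * (y⁻¹ * c y) from (mul_inv_cancel_left y (c y)).symm, hεmul,
          hεD β _ hd, mul_one, mul_comm]
      have hZp : IsPGroup p Z := ((hS.to_quotient N)).to_subgroup Z
      have hfun : IsPGroup p (P → Z) := by
        have : Finite P := finite_of_le hP
        have : Fintype P := Fintype.ofFinite P
        intro g
        choose k hk using fun y => hZp (g y)
        refine ⟨Finset.univ.sup k, funext fun y => ?_⟩
        obtain ⟨c, hc'⟩ := Nat.exists_eq_add_of_le (Finset.le_sup (f := k) (Finset.mem_univ y))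
        show g y ^ p ^ _ = 1
        rw [hc', pow_add, pow_mul, hk, one_pow]
      have hker := Cfsg.Agent.Lib.Transfer.pResidual_le_ker hfun Φ
        (show (⟨α, hα⟩ : R) ∈ pResidual p R by
          rw [Cfsg.Agent.Lib.Transfer.pResidual_pResidual_eq_top]
          trivial)
      exact congrFun hker x
  have h := key d hd
  have h' := congrArg Subtype.val h
  rw [Subgroup.coe_mul, SubgroupClass.coe_pow, Subgroup.coe_one] at h'
  have e : QuotientGroup.mk' N d ^ m * (T d : S ⧸ N) = (T d : S ⧸ N) * QuotientGroup.mk' N d ^ m :=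
    hc _ (T d).2 _
  rw [e]
  exact h'

theorem hyperfocal_mono {H : FusionSystem S} (hHF : H.IsSubsystemOf F) :
    H.hyperfocalSubgroup p ≤ F.hyperfocalSubgroup p := by
  refine (Subgroup.closure_le _).2 ?_
  rintro _ ⟨P, α, x, hP, hα, rfl⟩
  exact hyperfocal_mem hP (Cfsg.Agent.Lib.Transfer.map_pResidual_le
    (Subgroup.inclusion (autGroup_mono hHF hP)) ⟨α, hα, rfl⟩) x

open scoped IsMulCommutative in
/-- Tate's theorem: a subsystem catching the hyperfocal subgroup modulo the Frattini subgroup has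
the same hyperfocal subgroup. -/
theorem hyperfocal_eq_of_le_sup_frattini (hS : IsPGroup p S) (hF : F.IsSaturated p)
    {H : FusionSystem S} (hHF : H.IsSubsystemOf F)
    (h : F.hyperfocalSubgroup p ≤ (frattini S).map S.subtype ⊔ H.hyperfocalSubgroup p) :
    F.hyperfocalSubgroup p = H.hyperfocalSubgroup p := by
  refine le_antisymm ?_ (hyperfocal_mono hHF)
  by_contra hle
  set D := F.hyperfocalSubgroup p
  set K := (H.hyperfocalSubgroup p).subgroupOf S
  have hDS : D ≤ S := hyperfocal_le F p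
  have hnorm : ∀ E : FusionSystem S, ((E.hyperfocalSubgroup p).subgroupOf S).Normal := fun E =>
    ⟨fun x hx g => conj_mem_hyperfocal E p g.2 hx⟩
  have hlt : K < D.subgroupOf S := lt_of_le_of_ne (fun x hx => hyperfocal_mono hHF hx) fun e =>
    hle fun x hx => e.ge (show (⟨x, hDS hx⟩ : S) ∈ D.subgroupOf S from hx)
  obtain ⟨N, hN⟩ := (Set.toFinite {N : Subgroup S | N.Normal ∧ K ≤ N ∧ N < D.subgroupOf S}
    ).exists_maximal ⟨K, hnorm H, le_rfl, hlt⟩
  obtain ⟨⟨hNn, hKN, hND⟩, hmax⟩ := hN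
  set π := QuotientGroup.mk' N
  have hDnorm := hnorm F
  have hsur : Function.Surjective π := QuotientGroup.mk'_surjective N
  haveI : ((D.subgroupOf S).map π).Normal := hDnorm.map π hsur
  have hne : (D.subgroupOf S).map π ≠ ⊥ := fun e => hND.not_ge (by
    rw [Subgroup.map_eq_bot_iff, QuotientGroup.ker_mk'] at e
    exact e)
  obtain ⟨z, hzL, hzc, hzo⟩ := Cfsg.Agent.Lib.Transfer.exists_central_orderOf_eq
    (hS.to_quotient N) _ hne
  haveI : (Subgroup.zpowers z).Normal := ⟨fun x hx g => by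
    obtain ⟨k, rfl⟩ := hx
    rw [Subgroup.mem_center_iff.1 (zpow_mem hzc k) g, mul_inv_cancel_right]
    exact ⟨k, rfl⟩⟩
  have hM : (Subgroup.zpowers z).comap π = D.subgroupOf S := by
    refine le_antisymm ((Subgroup.comap_mono (Subgroup.zpowers_le.2 hzL)).trans
      (by rw [Subgroup.comap_map_eq, QuotientGroup.ker_mk', sup_eq_left.2 hND.le])) ?_
    by_contra hc
    have hNM : N ≤ (Subgroup.zpowers z).comap π := fun n hn => by
      rw [Subgroup.mem_comap, show π n = 1 from (QuotientGroup.eq_one_iff n).2 hn]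
      exact one_mem _
    have h2 := hmax (show (Subgroup.zpowers z).comap π ∈ {N : Subgroup S | N.Normal ∧ K ≤ N ∧
        N < D.subgroupOf S} from ⟨inferInstance, hKN.trans hNM,
      lt_of_le_of_ne ((Subgroup.comap_mono (Subgroup.zpowers_le.2 hzL)).trans
        (by rw [Subgroup.comap_map_eq, QuotientGroup.ker_mk', sup_eq_left.2 hND.le]))
        fun e => hc e.ge⟩) hNM
    obtain ⟨y, rfl⟩ := hsur z
    have hy : π y = 1 := (QuotientGroup.eq_one_iff y).2 (h2 (Subgroup.mem_zpowers (π y)))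
    rw [hy, orderOf_one] at hzo
    exact (Fact.out : p.Prime).one_lt.ne hzo
  have hZ : (D.subgroupOf S).map π = Subgroup.zpowers z := by
    rw [← hM, Subgroup.map_comap_eq_self_of_surjective hsur]
  have hcen : (D.subgroupOf S).map π ≤ Subgroup.center (S ⧸ N) := by
    rw [hZ, Subgroup.zpowers_le]; exact hzc
  obtain ⟨T, m, hm, hT⟩ := exists_hom_hyperfocal hS hF (hyperfocal_stronglyClosed hS hF)
    (fun g hg x hx => conj_mem_hyperfocal F p hg hx) le_rfl N hND.le hcen
  have hcard : Nat.card ((D.subgroupOf S).map π) = p := by rw [hZ, Nat.card_zpowers, hzo]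
  have hΦ : ∀ x ∈ frattini S, T x = 1 := by
    intro x hx
    by_cases hker : T.ker = ⊤
    · exact MonoidHom.mem_ker.1 (hker ▸ Subgroup.mem_top x)
    · have hidx : T.ker.index = p := by
        have h1 : T.ker.index ∣ p := by
          rw [Subgroup.index_ker]
          exact (Subgroup.card_subgroup_dvd_card T.range).trans (dvd_of_eq hcard)
        rcases (Nat.dvd_prime (Fact.out : p.Prime)).1 h1 with h1 | h1
        · exact absurd (Subgroup.index_eq_one.1 h1) hker
        · exact h1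
      have hco : IsCoatom T.ker := ⟨hker, fun M hM => by
        have h1 := Subgroup.index_dvd_of_le hM.le
        rw [hidx] at h1
        rcases (Nat.dvd_prime (Fact.out : p.Prime)).1 h1 with h1 | h1
        · exact Subgroup.index_eq_one.1 h1
        · exact absurd (Subgroup.eq_of_le_of_card_ge hM.le (by
            have a := Subgroup.card_mul_index M
            have b := Subgroup.card_mul_index T.ker
            rw [h1] at a; rw [hidx] at b
            exact le_of_eq (Nat.eq_of_mul_eq_mul_right (Fact.out : p.Prime).pos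
              (a.trans b.symm)))) hM.ne⟩
      exact MonoidHom.mem_ker.1 (frattini_le_coatom hco hx)
  have hK : ∀ x : S, x ∈ K → T x = 1 := fun x hx => Subtype.ext (by
    have := hT x (hyperfocal_mono hHF hx)
    rwa [show π x = 1 from (QuotientGroup.eq_one_iff x).2 (hKN hx), one_pow, one_mul] at this)
  have hall : ∀ x : S, (x : Ω) ∈ D → T x = 1 := by
    intro x hx
    have hle' : ((frattini S).map S.subtype ⊔ H.hyperfocalSubgroup p).subgroupOf S ≤ T.ker := by
      rw [show H.hyperfocalSubgroup p = K.map S.subtype from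
        (Subgroup.map_subgroupOf_eq_of_le (hyperfocal_le H p)).symm, ← Subgroup.map_sup,
        Subgroup.subgroupOf, Subgroup.comap_map_eq_self_of_injective S.subtype_injective]
      exact sup_le hΦ hK
    exact MonoidHom.mem_ker.1 (hle' (h hx))
  refine hND.not_ge fun x hx => (QuotientGroup.eq_one_iff x).1 ?_
  have h1 := hT x hx
  rw [hall x hx, Subgroup.coe_one, mul_one] at h1
  exact ((hS.to_quotient N).powEquiv' hm).injective (show π x ^ m = (1 : S ⧸ N) ^ m by
    rw [h1, one_pow])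

theorem commutator_le_frattini (hS : IsPGroup p S) : ⁅S, S⁆ ≤ (frattini S).map S.subtype := by
  have h : commutator S ≤ frattini S := fun x hx =>
    Cfsg.Agent.Lib.Transfer.mem_frattini_of_forall_hom hS fun {A} _ hA δ => by
      haveI : IsCyclic A := isCyclic_of_prime_card hA.out
      letI : CommGroup A := IsCyclic.commGroup
      exact MonoidHom.mem_ker.1 (Abelianization.commutator_subset_ker δ hx)
  refine le_trans (le_of_eq ?_) (Subgroup.map_mono h)
  rw [commutator_def, Subgroup.map_commutator, ← MonoidHom.range_eq_map, Subgroup.range_subtype]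

/-- A system with trivial hyperfocal subgroup is inner. -/
theorem eq_inner_of_hyperfocal_eq_bot (hS : IsPGroup p S) (hF : F.IsSaturated p)
    (h : F.hyperfocalSubgroup p = ⊥) : F = innerFusionSystem S := by
  refine eq_inner_of_isPGroup hS hF fun P hP => ?_
  have hPS : P ≤ S := hP.elim (fun e => e.le) fun e => e.1.1
  have := finite_mulAut hPS
  have hbot : pResidual p (F.autGroup P) = ⊥ := (Subgroup.eq_bot_iff_forall _).2 fun α hα =>
    Subtype.ext (MulEquiv.ext fun x => Subtype.ext (by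
      have h1 := hyperfocal_mem hPS hα x
      rw [h, Subgroup.mem_bot, inv_mul_eq_one] at h1
      exact h1.symm))
  refine (Cfsg.Agent.Lib.Transfer.isPGroup_quotient_pResidual (G := F.autGroup P)).of_injective
    (QuotientGroup.mk' (pResidual p (F.autGroup P))) ?_
  rw [← MonoidHom.ker_eq_bot_iff, QuotientGroup.ker_mk', hbot]

/-- Maps preserving a strongly closed subgroup containing the derived subgroup act trivially
modulo it as soon as the automorphisms of `S` do. -/
theorem focal_le_of_stronglyClosed (hS : IsPGroup p S) (hF : F.IsSaturated p) {M : Subgroup Ω}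
    (hM : F.StronglyClosed M) (hSM : ⁅S, S⁆ ≤ M)
    (htop : ∀ α ∈ F.autGroup S, ∀ x : S, (x : Ω)⁻¹ * ((α x : S) : Ω) ∈ M) :
    F.focalSubgroup ≤ M := by
  refine (Subgroup.closure_le _).2 ?_
  rintro _ ⟨P, φ, x, hφ, rfl⟩
  refine ((alperin_ind hS hF (cosetSystem F M hSM) (fun α hα => mem_autGroup_of_hom _
    ⟨autHom_mem F le_rfl hα, htop α hα⟩) ?_) P hφ).2 x
  intro R hR hind α hα
  have hRS : R ≤ S := hR.1.1
  obtain ⟨hfa, hrec⟩ := IsSaturated.automized_receptive hS hF hR.2.1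
  have := finite_mulAut hRS
  have hpres : ∀ β ∈ F.autGroup R, ∀ y : R, (y : Ω) ∈ M → ((β y : R) : Ω) ∈ M := fun β hβ y hy =>
    hM.2 (R ⊓ M) inf_le_right (restr inf_le_left (autHom β))
      (restr_mem F (autHom_mem F hRS hβ) inf_le_left) ⟨y, y.2, hy⟩
  let K : Subgroup (F.autGroup R) :=
    { carrier := {β | ∀ y : R, (y : Ω)⁻¹ * (((β : MulAut R) y : R) : Ω) ∈ M}
      one_mem' := fun y => by
        show (y : Ω)⁻¹ * (y : Ω) ∈ M
        rw [inv_mul_cancel]; exact M.one_mem
      mul_mem' := fun {a b} ha hb y => by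
        have := M.mul_mem (hb y) (ha ((b : MulAut R) y))
        rwa [mul_assoc, mul_inv_cancel_left] at this
      inv_mem' := fun {a} ha y => by
        have := M.inv_mem (ha ((a : MulAut R)⁻¹ y))
        rw [MulAut.apply_inv_self, mul_inv_rev, inv_inv] at this
        exact this }
  haveI : K.Normal := ⟨fun k hk g y => by
    have h1 := hk ((g : MulAut R)⁻¹ y)
    have h2 := hpres g g.2 (((g : MulAut R)⁻¹ y)⁻¹ * (k : MulAut R) ((g : MulAut R)⁻¹ y)) h1
    rw [map_mul, map_inv, MulAut.apply_inv_self] at h2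
    exact h2⟩
  obtain ⟨-, T, hT⟩ := hfa
  have hTK : (T : Subgroup (F.autGroup R)) ≤ K := by
    rw [hT]
    intro β hβ y
    obtain ⟨g, hg, hgv⟩ := mem_autInducedBy.1 (Subgroup.mem_subgroupOf.1 hβ)
    rw [hgv y, inv_mul_conj_eq]
    exact hSM (Subgroup.commutator_mem_commutator (S.inv_mem (hRS y.2)) hg)
  refine mem_autGroup_of_hom _ ⟨autHom_mem F hRS hα, ?_⟩
  suffices hall : (⊤ : Subgroup (F.autGroup R)) ≤ K from fun y => hall (Subgroup.mem_top ⟨α, hα⟩) y
  have hfr := Sylow.normalizer_sup_eq_top (T.subtype hTK)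
  rw [Sylow.coe_subtype, Subgroup.map_subgroupOf_eq_of_le hTK] at hfr
  rw [← hfr]
  refine sup_le (fun β hβ => ?_) le_rfl
  have hi := F.injective_of_mem (autHom_mem F hRS β.2)
  obtain ⟨ψ, hψ, hext⟩ := hrec.2 R (autHom (β : MulAut R)) (autHom_mem F hRS β.2) (range_autHom _)
  have hN : extender S R (autHom (β : MulAut R)) = normalizerIn S R := by
    refine le_antisymm (extender_le_normalizerIn _ _ _) fun g hg => ?_
    rw [mem_extender_iff_congr hi (range_autHom _) hg]
    have h1 : (⟨conjAut hg.2, conjAut_mem_autGroup F hRS hg.1 hg.2⟩ : F.autGroup R) ∈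
        (T : Subgroup (F.autGroup R)) := by
      rw [hT]
      exact Subgroup.mem_subgroupOf.2 (conjAut_mem_autInducedBy (K := S) hg.1 hg.2)
    have h2 := (Subgroup.mem_normalizer_iff.1 hβ _).1 h1
    rw [hT, Subgroup.mem_subgroupOf] at h2
    rw [show isoOf (autHom (β : MulAut R)) hi (range_autHom _) = (β : MulAut R) from
      MulEquiv.ext fun y => rfl]
    exact h2
  have hcard : Nat.card R < Nat.card (extender S R (autHom (β : MulAut R))) := by
    rw [hN]
    have := finite_of_le (normalizerIn_le S R)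
    by_contra hge
    exact (lt_normalizerIn hS (IsEssential.lt hF hS hR)).ne
      (Subgroup.eq_of_le_of_card_ge (le_normalizerIn hRS) (not_lt.1 hge))
  intro y
  have hy : (y : Ω) ∈ extender S R (autHom (β : MulAut R)) := hN.symm ▸ le_normalizerIn hRS y.2
  have h3 := (hind _ hcard ψ hψ).2 ⟨y, hy⟩
  rw [hext y y.2 hy] at h3
  exact h3

/-- If the automorphisms of `S` are inner and a strongly closed subgroup between the derived and
the Frattini subgroup exists, the system is inner. -/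
theorem eq_inner_of_stronglyClosed_le_frattini (hS : IsPGroup p S) (hF : F.IsSaturated p)
    {M : Subgroup Ω} (hM : F.StronglyClosed M) (hSM : ⁅S, S⁆ ≤ M)
    (hMΦ : M ≤ (frattini S).map S.subtype) (htop : F.autGroup S ≤ Inn S) :
    F = innerFusionSystem S := by
  have hfoc := focal_le_of_stronglyClosed hS hF hM hSM fun α hα x => by
    have h := htop hα
    rw [← autInducedBy_self, mem_autInducedBy] at h
    obtain ⟨g, hg, hgv⟩ := h
    rw [hgv x, inv_mul_conj_eq]
    exact hSM (Subgroup.commutator_mem_commutator (S.inv_mem x.2) hg)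
  have hyp := hyperfocal_eq_of_le_sup_frattini hS hF (inner_le F)
    ((((hyperfocal_le_focal F p).trans hfoc).trans hMΦ).trans le_sup_left)
  refine eq_inner_of_hyperfocal_eq_bot hS hF (hyp.trans ?_)
  rw [eq_bot_iff]
  refine (Subgroup.closure_le _).2 ?_
  rintro _ ⟨Q, α, x, hQ, hα, rfl⟩
  have := finite_mulAut hQ
  have hp : IsPGroup p ((innerFusionSystem S).autGroup Q) := by
    rw [autGroup_inner hQ]; exact isPGroup_autInducedBy hS Q
  rw [Cfsg.Agent.Lib.Transfer.pResidual_eq_bot hp, Subgroup.mem_bot] at hα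
  subst hα
  show (x : Ω)⁻¹ * (x : Ω) ∈ (⊥ : Subgroup Ω)
  simp

end Cfsg.Agent.Lib.Fusion
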