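import Cfsg.Agent.Lib.Fusion.TransferFunctorBasic
import Cfsg.Agent.Lib.Fusion.ActSystem

/-!
Control of transfer in fusion systems by characteristic functors.

By induction on the order of `S` and the number of maps it is shown that, for `K` normal with a
`p`-group of automorphisms, the focal subgroup comes from the normalizer of the relative functor.
-/

set_option autoImplicit false
set_option linter.unusedSectionVars false

namespace Cfsg.Agent.Lib.Fusion

open Cfsg Cfsg.FusionSystem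
open scoped commutatorElement

universe u

/-- The relative functor at `K` controls transfer in `F`. -/
def Ctrl (W : ∀ (Q : Type u) [Group Q], Subgroup Q) {Ω : Type u} [Group Ω] {S : Subgroup Ω}
    (F : FusionSystem S) (K : Subgroup Ω) : Prop :=
  ∀ A : Subgroup Ω, ⁅S, S⁆ ≤ A →
    (∀ (X : Subgroup Ω) (φ : X →* Ω), φ ∈ F.normalizerHom (relFunctor W K S) X →
      ∀ x : X, (x : Ω)⁻¹ * φ x ∈ A) →
    ∀ (X : Subgroup Ω) (φ : X →* Ω), φ ∈ F.Hom X → ∀ x : X, (x : Ω)⁻¹ * φ x ∈ A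

/-- The hypothesis on smaller groups. -/
def CtrlSmaller (p : ℕ) (W : ∀ (Q : Type u) [Group Q], Subgroup Q) (n : ℕ) : Prop :=
  ∀ {Ω : Type u} [Group Ω] {S : Subgroup Ω} [Finite S], Nat.card S < n → IsPGroup p S →
    ∀ F : FusionSystem S, F.IsSaturated p → ∀ K : Subgroup Ω, F.IsNormal K →
      IsPGroup p (F.autGroup K) → Ctrl W F K

/-- The hypothesis on proper subsystems. -/
def CtrlProper (p : ℕ) (W : ∀ (Q : Type u) [Group Q], Subgroup Q) {Ω : Type u} [Group Ω]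
    {S : Subgroup Ω} (F : FusionSystem S) : Prop :=
  ∀ F' : FusionSystem S, F' ≤ F → F' ≠ F → F'.IsSaturated p → ∀ K : Subgroup Ω, F'.IsNormal K →
    IsPGroup p (F'.autGroup K) → Ctrl W F' K

variable {p : ℕ} [Fact p.Prime] {W : ∀ (Q : Type u) [Group Q], Subgroup Q}
  {Ω : Type u} [Group Ω] {S : Subgroup Ω}

theorem recast_isSaturated {T : Subgroup Ω} {E : FusionSystem T} (h : T = S)
    (hE : E.IsSaturated p) : (recast E h).IsSaturated p := by
  subst h
  exact hE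

theorem autGroup_le_of_hom {T : Subgroup Ω} {E : FusionSystem T} {F : FusionSystem S} {K : Subgroup Ω}
    (h : ∀ φ : K →* Ω, φ ∈ E.Hom K → φ ∈ F.Hom K) : E.autGroup K ≤ F.autGroup K :=
  Subgroup.closure_mono fun _ hα => h _ hα

/-- An automorphism preserving `K` preserves the relative functor. -/
theorem relFunctor_map_aut (hW : IsPFunctor p W) {K R : Subgroup Ω} [Finite R]
    (hp : IsPGroup p R) (hR : R ≤ Subgroup.normalizer (K : Set Ω)) {α : MulAut R}
    (hα : ∀ x : R, (x : Ω) ∈ K → ((α x : R) : Ω) ∈ K) {x : R}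
    (hx : (x : Ω) ∈ relFunctor W K R) : ((α x : R) : Ω) ∈ relFunctor W K R := by
  have := subgroupOf_normal_of_le hR
  set K₀ := (K.subgroupOf R).normalCore
  have hmap : K₀.map α.toMonoidHom = K₀ := by
    refine Subgroup.eq_of_le_of_card_ge ?_ (Nat.card_congr (α.subgroupMap K₀).toEquiv).le
    rintro _ ⟨y, hy, rfl⟩
    rw [show K₀ = K.subgroupOf R from Subgroup.normalCore_eq_self _] at hy ⊢
    exact hα y hy
  refine mem_relFunctor.2 ?_
  exact (hW.natural _ _ (hp.to_quotient _) (QuotientGroup.congr K₀ K₀ α hmap)).le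
    ⟨_, mem_relFunctor.1 hx, rfl⟩

variable [Finite S] {F : FusionSystem S}

/-- Normalizers of subgroups not normal in `F` satisfy the conclusion. -/
theorem ctrl_normalizer (hS : IsPGroup p S) (hsm : CtrlSmaller p W (Nat.card S))
    (hpr : CtrlProper p W F) (hF : F.IsSaturated p) {K U : Subgroup Ω} (hK : F.IsNormal K)
    (hKp : IsPGroup p (F.autGroup K)) (hKU : K ≤ U) (hU : F.IsFullyNormalized U)
    (hUn : ¬ F.IsNormal U) {A : Subgroup Ω} (hA : ⁅S, S⁆ ≤ A)
    (hstep : ∀ (X : Subgroup Ω) (φ : X →* Ω),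
      φ ∈ F.normalizerHom (relFunctor W K (normalizerIn S U)) X → X ≤ normalizerIn S U →
      (∀ x, φ x ∈ normalizerIn S U) → ∀ x : X, (x : Ω)⁻¹ * φ x ∈ A)
    {X : Subgroup Ω} {φ : X →* Ω} (hφ : φ ∈ F.normalizerHom U X) (x : X) :
    (x : Ω)⁻¹ * φ x ∈ A := by
  let T := normalizerIn S U
  have hTS : T ≤ S := normalizerIn_le S U
  have : Finite T := finite_of_le hTS
  have hTp : IsPGroup p T := hS.to_le hTS
  let N := normalizerSystem F U hU.1
  have hN := normalizerSystem_spec F U hU.1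
  have hNs : N.IsSaturated p := normalizerSystem_isSaturated hS hF hU hN
  have hKT : K ≤ T := hKU.trans (le_normalizerIn hU.1)
  have hKn : N.IsNormal K := by
    refine ⟨hKT, fun Y χ hχ => ?_⟩
    obtain ⟨ψ, hψ, hψe, -⟩ := (IsNormalizerSystem.isNormal hN hU.1).2 Y χ hχ
    have hle : Y ⊔ K ≤ Y ⊔ U := sup_le_sup_left hKU Y
    refine ⟨restr hle ψ, restr_mem N hψ hle, fun y => hψe y, ?_⟩
    show img (restr hle ψ) K = K
    rw [img_restr hle ψ le_sup_right]
    exact WeaklyClosed.img_eq (StronglyClosed.weaklyClosed (IsNormal.stronglyClosed hK)) hψ.1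
      (hKU.trans le_sup_right)
  have hKp' : IsPGroup p (N.autGroup K) := hKp.to_le (autGroup_le_of_hom fun χ hχ => hχ.1)
  have hA' : ⁅T, T⁆ ≤ A := (Subgroup.commutator_mono hTS hTS).trans hA
  rcases hTS.eq_or_lt with e | hlt
  · let F' := recast N e
    have hle : F' ≤ F := fun Y χ hχ => hχ.1
    have hne : F' ≠ F := by
      intro heq
      apply hUn
      refine ⟨hU.1, fun Y χ hχ => ?_⟩
      have h1 : χ ∈ F'.Hom Y := by rw [heq]; exact hχ
      exact h1.2.2.2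
    refine hpr F' hle hne (recast_isSaturated e hNs) K ?_ ?_ A hA ?_ X φ hφ x
    · exact ⟨hK.1, hKn.2⟩
    · exact hKp'
    · rintro Y χ ⟨hχ, hY, hv, ψ, hψ, hψe, hψV⟩ y
      have hYT : Y ≤ normalizerIn S U := source_le (F := N) hχ
      have e' : normalizerIn S U = S := e
      refine hstep Y χ ?_ hYT (fun z => apply_mem (F := N) hχ z) y
      rw [e']
      exact ⟨hχ.1, hY, hv, ψ, hψ.1, hψe, hψV⟩
  · refine hsm ?_ hTp N hNs K hKn hKp' A hA' ?_ X φ hφ x
    · by_contra hge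
      exact hlt.ne (Subgroup.eq_of_le_of_card_ge hTS (not_lt.1 hge))
    · rintro Y χ ⟨hχ, hY, hv, ψ, hψ, hψe, hψV⟩ y
      refine hstep Y χ ?_ (hY.trans (normalizerIn_le _ _))
        (fun z => normalizerIn_le _ _ (hv z)) y
      exact ⟨hχ.1, fun z hz => ⟨hTS (hY hz).1, (hY hz).2⟩, fun z => ⟨hTS (hv z).1, (hv z).2⟩,
        ψ, hψ.1, hψe, hψV⟩

/-- The climbing argument. -/
theorem ctrl_climb (hW : IsTransferFunctor p W) (hS : IsPGroup p S)
    (hsm : CtrlSmaller p W (Nat.card S)) (hpr : CtrlProper p W F) (hF : F.IsSaturated p)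
    {K : Subgroup Ω} (hK : F.IsNormal K) (hKp : IsPGroup p (F.autGroup K)) (hcore : F.core ≤ K)
    {A : Subgroup Ω} (hA : ⁅S, S⁆ ≤ A)
    (hN : ∀ (X : Subgroup Ω) (φ : X →* Ω), φ ∈ F.normalizerHom (relFunctor W K S) X →
      ∀ x : X, (x : Ω)⁻¹ * φ x ∈ A)
    {k : ℕ} (hbig : ∀ R : Subgroup Ω, k < Nat.card R → ∀ φ ∈ F.Hom R,
      ∀ x : R, (x : Ω)⁻¹ * φ x ∈ A)
    {T : Subgroup Ω} (hKT : K < T) (hTS : T ≤ S) (hk : k < Nat.card T)
    {X : Subgroup Ω} {φ : X →* Ω} (hφ : φ ∈ F.normalizerHom (relFunctor W K T) X)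
    (hX : X ≤ T) (hv : ∀ x, φ x ∈ T) (x : X) : (x : Ω)⁻¹ * φ x ∈ A := by
  suffices key : ∀ m, ∀ T : Subgroup Ω, K < T → T ≤ S → k < Nat.card T →
      Nat.card S ≤ Nat.card T + m → ∀ (X : Subgroup Ω) (φ : X →* Ω),
        φ ∈ F.normalizerHom (relFunctor W K T) X → X ≤ T → (∀ x, φ x ∈ T) →
          ∀ x : X, (x : Ω)⁻¹ * φ x ∈ A by
    exact key (Nat.card S) T hKT hTS hk (Nat.le_add_left _ _) X φ hφ hX hv x
  intro m
  induction m using Nat.strong_induction_on with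
  | _ m IH =>
    intro T hKT hTS hk hm X φ hφ hX hv x
    rcases hTS.eq_or_lt with e | hlt
    · exact hN X φ (e ▸ hφ) x
    have : Finite T := finite_of_le hTS
    have hTp : IsPGroup p T := hS.to_le hTS
    have hnK : S ≤ Subgroup.normalizer (K : Set Ω) :=
      WeaklyClosed.le_normalizer (StronglyClosed.weaklyClosed (IsNormal.stronglyClosed hK))
    have hTK : T ≤ Subgroup.normalizer (K : Set Ω) := hTS.trans hnK
    let V := relFunctor W K T
    have hVT : V ≤ T := relFunctor_le W K T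
    have hVS : V ≤ S := hVT.trans hTS
    have hKV : K ≤ V := le_relFunctor hKT.le hTK
    have hVK : ¬ V ≤ K := relFunctor_not_le hW.toIsPFunctor hTp hKT hTK
    have hgrow : Nat.card T < Nat.card (normalizerIn S V) := by
      have h1 : normalizerIn S T ≤ normalizerIn S V :=
        fun g hg => ⟨hg.1, normalizer_le_relFunctor hW.toIsPFunctor hTp hTK ⟨hg.2, hnK hg.1⟩⟩
      have := finite_of_le (normalizerIn_le S V)
      have := finite_of_le (normalizerIn_le S T)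
      refine lt_of_lt_of_le ?_ (Subgroup.card_le_of_le h1)
      by_contra hge
      exact (lt_normalizerIn hS hlt).ne
        (Subgroup.eq_of_le_of_card_ge (le_normalizerIn hTS) (not_lt.1 hge))
    obtain ⟨V', hVV', hV'⟩ := exists_fullyNormalized F hVS
    obtain ⟨β, hβ, hβv, hβV⟩ := IsSaturated.exists_normalizer_map hS hF hV' hVV'
    have hβA : ∀ y : normalizerIn S V, (y : Ω)⁻¹ * β y ∈ A := hbig _ (hk.trans hgrow) β hβ
    have hKV' : K ≤ V' := by
      rw [← hβV, ← WeaklyClosed.img_eq (StronglyClosed.weaklyClosed (IsNormal.stronglyClosed hK))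
        hβ (hKV.trans (le_normalizerIn hVS))]
      exact img_mono β hKV
    have hV'n : ¬ F.IsNormal V' := by
      intro hn
      apply hVK
      have := finite_of_le hV'.1
      have := finite_of_le hVS
      have h1 : V' = K := le_antisymm ((le_core hn).trans hcore) hKV'
      have h2 := isConj_card hVV'
      rw [h1] at h2
      exact (Subgroup.eq_of_le_of_card_ge hKV h2.le).ge
    have hge : Nat.card (normalizerIn S V) ≤ Nat.card (normalizerIn S V') := by
      have := finite_of_le (normalizerIn_le S V')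
      exact Nat.card_le_card_of_injective (fun z => (⟨β z, hβv z⟩ : normalizerIn S V'))
        fun a b h => F.injective_of_mem hβ (congrArg Subtype.val h)
    obtain ⟨-, -, -, ψ, hψ, hψe, hψV⟩ := hφ
    let Y := X ⊔ V
    have hYT : Y ≤ T := sup_le hX hVT
    have hTV : T ≤ normalizerIn S V := fun g hg =>
      ⟨hTS hg, normalizer_le_relFunctor hW.toIsPFunctor hTp hTK ⟨Subgroup.le_normalizer hg, hTK hg⟩⟩
    have hψT : ∀ y : Y, ψ y ∈ T := by
      intro y
      have h1 : img ψ Y ≤ T := by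
        rw [img_sup ψ le_sup_left le_sup_right, show img ψ V = V from hψV]
        refine sup_le ?_ hVT
        rintro _ ⟨z, hz, rfl⟩
        rw [show ψ z = φ ⟨z, hz⟩ from hψe ⟨z, hz⟩]
        exact hv _
      exact h1 (apply_mem_img ψ y y.2)
    let b := restr (hYT.trans hTV) β
    have hb : b ∈ F.Hom Y := restr_mem F hβ _
    obtain ⟨c, hc, hcr, hl, -⟩ := exists_inv F hb rfl
    have hcY : ∀ y, c y ∈ Y := fun y => hcr.le ⟨y, rfl⟩
    let ψ' := compose (compose c ψ hcY) β fun y => hTV (hψT _)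
    have hψ' : ψ' ∈ F.Hom b.range := compose_mem F (compose_mem F hc hψ hcY) hβ fun y => hTV (hψT _)
    have hψ'b : ∀ y : Y, ψ' ⟨b y, y, rfl⟩ = β ⟨ψ y, hTV (hψT y)⟩ := fun y =>
      congrArg β (Subtype.ext (congrArg ψ (Subtype.ext (hl y _))))
    have hV'b : V' ≤ b.range := by
      rw [← hβV]
      rintro _ ⟨z, hz, rfl⟩
      exact ⟨⟨z, Subgroup.mem_sup_right hz⟩, rfl⟩
    have hψ'N : ψ' ∈ F.normalizerHom V' b.range := by
      have hle : b.range ⊔ V' ≤ b.range := sup_le le_rfl hV'b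
      refine ⟨hψ', ?_, fun y => hβv _, restr hle ψ', restr_mem F hψ' hle, fun y => rfl, ?_⟩
      · rintro _ ⟨y, rfl⟩
        exact hβv _
      · show img (restr hle ψ') V' = V'
        rw [img_restr hle ψ' le_sup_right]
        have := finite_of_le hV'.1
        refine Subgroup.eq_of_le_of_card_ge ?_ (card_img (F.injective_of_mem hψ') hV'b).ge
        intro y hy
        obtain ⟨z, hz, hzV, rfl⟩ := mem_img.1 hy
        obtain ⟨w, hw, hwV, hwz⟩ := mem_img.1 (hβV.ge hzV)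
        subst hwz
        rw [show ψ' ⟨β ⟨w, hw⟩, hz⟩ = _ from hψ'b ⟨w, Subgroup.mem_sup_right hwV⟩]
        exact hβV.le (apply_mem_img β _ (hψV.le ⟨_, hwV, rfl⟩))
    have hTc : Nat.card T < Nat.card (normalizerIn S V') := hgrow.trans_le hge
    have hKT' : K < normalizerIn S V' :=
      lt_of_le_of_ne (hKV'.trans (le_normalizerIn hV'.1)) fun h => by
        have h1 : Nat.card K ≤ Nat.card T := Subgroup.card_le_of_le hKT.le
        rw [h] at h1
        omega
    have h2 : Nat.card (normalizerIn S V') ≤ Nat.card S :=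
      Subgroup.card_le_of_le (normalizerIn_le S V')
    have hψ'A : ∀ y : b.range, (y : Ω)⁻¹ * ψ' y ∈ A := fun y =>
      ctrl_normalizer hS hsm hpr hF hK hKp hKV' hV' hV'n hA
        (fun Z χ hχ hZ hZv z => IH (m - 1) (by omega) _ hKT' (normalizerIn_le S V') (by omega)
          (by omega) Z χ hχ hZ hZv z) hψ'N y
    have hY : ∀ y : Y, (y : Ω)⁻¹ * ψ y ∈ A := by
      intro y
      have h3 := A.mul_mem
        (A.mul_mem (hβA ⟨y, hTV (hYT y.2)⟩) (hψ'A ⟨b y, y, rfl⟩))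
        (A.inv_mem (hβA ⟨ψ y, hTV (hψT y)⟩))
      rw [hψ'b y] at h3
      have e : (y : Ω)⁻¹ * β ⟨y, hTV (hYT y.2)⟩ *
          ((b y)⁻¹ * β ⟨ψ y, hTV (hψT y)⟩) * ((ψ y)⁻¹ * β ⟨ψ y, hTV (hψT y)⟩)⁻¹ =
          (y : Ω)⁻¹ * ψ y := by
        show (y : Ω)⁻¹ * β ⟨y, hTV (hYT y.2)⟩ *
          ((β ⟨y, hTV (hYT y.2)⟩)⁻¹ * β ⟨ψ y, hTV (hψT y)⟩) *
          ((ψ y)⁻¹ * β ⟨ψ y, hTV (hψT y)⟩)⁻¹ = (y : Ω)⁻¹ * ψ y
        group
      rw [e] at h3
      exact h3
    have := hY (Subgroup.inclusion le_sup_left x)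
    rwa [hψe] at this

/-- The case where `K` is the whole core. -/
theorem ctrl_of_core (hW : IsTransferFunctor p W) (hS : IsPGroup p S)
    (hsm : CtrlSmaller p W (Nat.card S)) (hpr : CtrlProper p W F) (hF : F.IsSaturated p)
    {K : Subgroup Ω} (hK : F.IsNormal K) (hKp : IsPGroup p (F.autGroup K)) (hcore : F.core ≤ K) :
    Ctrl W F K := by
  intro A hA hN
  have hnK : S ≤ Subgroup.normalizer (K : Set Ω) :=
    WeaklyClosed.le_normalizer (StronglyClosed.weaklyClosed (IsNormal.stronglyClosed hK))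
  let E := modSystem F A hA
  suffices hle : F ≤ E from fun X φ hφ => (hle X hφ).2
  refine alperin_ind hS hF E ?_ fun P hP hbig => ?_
  · intro α hα
    have hα' := autHom_mem F le_rfl hα
    refine mem_autGroup_of_hom E ⟨hα', fun x => ?_⟩
    let V := relFunctor W K S
    have hVS : V ≤ S := relFunctor_le W K S
    have hle : S ⊔ V ≤ S := sup_le le_rfl hVS
    have hnV : S ≤ Subgroup.normalizer (V : Set Ω) := fun g hg =>
      normalizer_le_relFunctor hW.toIsPFunctor hS hnK ⟨Subgroup.le_normalizer hg, hnK hg⟩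
    refine hN S (autHom α) ⟨hα', fun g hg => ⟨hg, hnV hg⟩,
      fun y => ⟨apply_mem hα' y, hnV (apply_mem hα' y)⟩, restr hle (autHom α),
      restr_mem F hα' hle, fun y => rfl, ?_⟩ x
    show img (restr hle (autHom α)) V = V
    rw [img_restr hle _ le_sup_right]
    have := finite_of_le hVS
    refine Subgroup.eq_of_le_of_card_ge ?_ (card_img (F.injective_of_mem hα') hVS).ge
    intro y hy
    obtain ⟨z, hzS, hz, rfl⟩ := mem_img.1 hy
    exact relFunctor_map_aut hW.toIsPFunctor hS hnK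
      (fun w hw => StronglyClosed.map_mem (IsNormal.stronglyClosed hK) hα' w hw) hz
  · obtain ⟨hPc, hPn, -⟩ := id hP
    have hPS := hPc.1
    let R := normalizerIn S P
    have hRS : R ≤ S := normalizerIn_le S P
    have : Finite R := finite_of_le hRS
    have hRp : IsPGroup p R := hS.to_le hRS
    have hKP : K ≤ P := IsNormal.le_centricRadical hS hK hPc (IsEssential.radical hS hF hP)
    have hPR : P ≤ R := le_normalizerIn hPS
    have hPlt : Nat.card P < Nat.card R := by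
      by_contra hge
      exact (lt_normalizerIn hS (IsEssential.lt hF hS hP)).ne
        (Subgroup.eq_of_le_of_card_ge hPR (not_lt.1 hge))
    have hKR : K < R := lt_of_le_of_ne (hKP.trans hPR) fun h => by
      have := finite_of_le hPS
      have h1 : Nat.card K ≤ Nat.card P := Subgroup.card_le_of_le hKP
      rw [h] at h1
      exact absurd hPlt (not_lt.2 h1)
    have hN' := normalizerSystem_spec F P hPS
    let N := normalizerSystem F P hPS
    have hNc := IsNormalizerSystem.isConstrained hS hF hPn hPc hN'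
    have hKn : N.IsNormal K := by
      refine ⟨hKP.trans hPR, fun Y χ hχ => ?_⟩
      obtain ⟨ψ, hψ, hψe, -⟩ := (IsNormalizerSystem.isNormal hN' hPS).2 Y χ hχ
      have hle : Y ⊔ K ≤ Y ⊔ P := sup_le_sup_left hKP Y
      refine ⟨restr hle ψ, restr_mem N hψ hle, fun y => hψe y, ?_⟩
      show img (restr hle ψ) K = K
      rw [img_restr hle ψ le_sup_right]
      exact WeaklyClosed.img_eq (StronglyClosed.weaklyClosed (IsNormal.stronglyClosed hK)) hψ.1
        (hKP.trans le_sup_right)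
    intro α hα
    refine mem_autGroup_of_hom E ⟨autHom_mem F hPS hα, fun x => ?_⟩
    have hαN : autHom α ∈ N.Hom P := by
      refine autHom_mem N hPR ?_
      rw [IsNormalizerSystem.autGroup_eq hN' hPS]
      exact hα
    have hPcore : P ≤ N.core := le_core (IsNormalizerSystem.isNormal hN' hPS)
    refine local_control hW hRp hNc hKn (hKp.to_le (autGroup_le_of_hom fun χ hχ => hχ.1))
      ((Subgroup.commutator_mono hRS hRS).trans hA) ?_
      (N.core.mul_mem (N.core.inv_mem (hPcore x.2)) (hPcore (α x).2)) (focal_mem hαN x)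
    rintro Y χ ⟨hχ, hY, hv, ψ, hψ, hψe, hψV⟩ y
    refine ctrl_climb hW hS hsm hpr hF hK hKp hcore hA hN
      (k := Nat.card P) (fun Q hQ χ' hχ' => (hbig Q hQ χ' hχ').2) hKR hRS hPlt
      ⟨hχ.1, fun z hz => ⟨hRS (hY hz).1, (hY hz).2⟩, fun z => ⟨hRS (hv z).1, (hv z).2⟩,
        ψ, hψ.1, hψe, hψV⟩ (hY.trans (normalizerIn_le _ _)) (fun z => (hv z).1) y

/-- The induction step. -/
theorem ctrl_step (hW : IsTransferFunctor p W) (hS : IsPGroup p S)
    (hsm : CtrlSmaller p W (Nat.card S)) (hpr : CtrlProper p W F) (hF : F.IsSaturated p)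
    {K : Subgroup Ω} (hK : F.IsNormal K) (hKp : IsPGroup p (F.autGroup K)) : Ctrl W F K := by
  by_cases hcore : F.core ≤ K
  · exact ctrl_of_core hW hS hsm hpr hF hK hKp hcore
  intro A hA hN
  let Λ := F.core
  have hΛ := isNormal_core F
  have hΛS : Λ ≤ S := hΛ.1
  have hKΛ : K ≤ Λ := le_core hK
  have hΛsc := IsNormal.stronglyClosed hΛ
  have hΛwc := StronglyClosed.weaklyClosed hΛsc
  have hnΛ : S ≤ Subgroup.normalizer (Λ : Set Ω) := WeaklyClosed.le_normalizer hΛwc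
  -- elements of the core in the focal subgroup, for constrained systems
  have hloc : ∀ hc : F.IsConstrained p, ∀ x ∈ F.core, x ∈ F.focalSubgroup → x ∈ A :=
    fun hc x hx hxf => local_control hW hS hc hK hKp hA hN hx hxf
  by_cases hΛtop : Λ = S
  · intro X φ hφ x
    have hc : F.IsConstrained p := ⟨hF, Λ, hΛ, hΛS, fun R hR => by
      obtain ⟨χ, hχ, rfl⟩ := hR
      rw [hΛwc.2 χ hχ]
      intro c hc
      exact (show Λ = S from hΛtop).ge hc.1⟩
    refine hloc hc _ ?_ (focal_mem hφ x)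
    rw [show F.core = S from hΛtop]
    exact S.mul_mem (S.inv_mem (source_le hφ x.2)) (apply_mem hφ x)
  have hΛlt : Λ < S := lt_of_le_of_ne hΛS hΛtop
  -- the relative functor at the core
  let V := relFunctor W Λ S
  have hVS : V ≤ S := relFunctor_le W Λ S
  have hΛV : Λ ≤ V := le_relFunctor hΛS hnΛ
  have hVn : ¬ F.IsNormal V := fun h => relFunctor_not_le hW.toIsPFunctor hS hΛlt hnΛ (le_core h)
  have hnV : S ≤ Subgroup.normalizer (V : Set Ω) := fun g hg =>
    normalizer_le_relFunctor hW.toIsPFunctor hS hnΛ ⟨Subgroup.le_normalizer hg, hnΛ hg⟩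
  have hfn : ∀ U : Subgroup Ω, U ≤ S → S ≤ Subgroup.normalizer (U : Set Ω) →
      F.IsFullyNormalized U := fun U hU hn => ⟨hU, fun R _ => by
    rw [show normalizerIn S U = S from le_antisymm (normalizerIn_le S U) fun g hg => ⟨hg, hn hg⟩]
    exact Subgroup.card_le_of_le (normalizerIn_le S R)⟩
  have hmapU : ∀ U : Subgroup Ω, K ≤ U → U ≤ S → S ≤ Subgroup.normalizer (U : Set Ω) →
      ¬ F.IsNormal U → ∀ (X : Subgroup Ω) (φ : X →* Ω), φ ∈ F.normalizerHom U X →
      ∀ x : X, (x : Ω)⁻¹ * φ x ∈ A := by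
    intro U hKU hU hn hUn X φ hφ x
    have e : normalizerIn S U = S :=
      le_antisymm (normalizerIn_le S U) fun g hg => ⟨hg, hn hg⟩
    refine ctrl_normalizer hS hsm hpr hF hK hKp hKU (hfn U hU hn) hUn hA ?_ hφ x
    intro Y χ hχ _ _ y
    rw [e] at hχ
    exact hN Y χ hχ y
  have hV := hmapU V (hKΛ.trans hΛV) hVS hnV hVn
  by_cases hΛp : IsPGroup p (F.autGroup Λ)
  · exact ctrl_of_core hW hS hsm hpr hF hΛ hΛp le_rfl A hA hV
  let T := centralizerIn S Λ
  by_cases hTΛ : T ≤ Λ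
  · -- constrained: pass to the factor system by the core
    have hc : F.IsConstrained p :=
      ⟨hF, Λ, hΛ, isCentric_of_fullyCentralized (IsSaturated.fullyCentralized hS hF (hfn Λ hΛS hnΛ))
        hTΛ⟩
    have := subgroupOf_normal_of_le hnΛ
    let Λ₀ := (Λ.subgroupOf S).normalCore
    let θ : S →* ↥S ⧸ Λ₀ := QuotientGroup.mk' _
    have hker : ∀ s : S, θ s = 1 ↔ (s : Ω) ∈ Λ := fun s => by
      show (s : ↥S ⧸ Λ₀) = 1 ↔ _
      rw [QuotientGroup.eq_one_iff, show Λ₀ = Λ.subgroupOf S from Subgroup.normalCore_eq_self _,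
        Subgroup.mem_subgroupOf]
    let Ω' := ↥S ⧸ Λ₀
    have hr : θ.range = (⊤ : Subgroup Ω') :=
      MonoidHom.range_eq_top.2 (QuotientGroup.mk'_surjective _)
    let E := factorSystem F hΛsc θ hker hr
    have hE : F.IsFactorSystem Λ θ E := factorSystem_spec hΛsc hker hr
    have hS' : IsPGroup p (⊤ : Subgroup Ω') := (hS.to_quotient Λ₀).to_subgroup ⊤
    have hEs : E.IsSaturated p := factor_isSaturated hS hF hΛsc hE
    have hΛne : Λ ≠ ⊥ := fun h => hcore (h.le.trans bot_le)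
    have hcard : Nat.card (⊤ : Subgroup Ω') < Nat.card S := by
      rw [Subgroup.card_top, show Nat.card Ω' = Λ₀.index from rfl, ← Λ₀.card_mul_index]
      refine lt_mul_of_one_lt_left (Nat.pos_of_ne_zero Subgroup.index_ne_zero_of_finite) ?_
      rw [show Λ₀ = Λ.subgroupOf S from Subgroup.normalCore_eq_self _,
        Nat.card_congr (Subgroup.subgroupOfEquivOfLe hΛS).toEquiv]
      have := finite_of_le hΛS
      exact (Subgroup.one_lt_card_iff_ne_bot Λ).2 hΛne
    have hbotp : IsPGroup p (E.autGroup (⊥ : Subgroup Ω')) := by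
      intro α
      refine ⟨0, Subtype.ext (MulEquiv.ext fun y => ?_)⟩
      exact Subsingleton.elim _ _
    let A' : Subgroup Ω' := ((A ⊓ F.focalSubgroup).subgroupOf S).map θ
    have hA' : ⁅(⊤ : Subgroup Ω'), ⊤⁆ ≤ A' := by
      rw [← hr, MonoidHom.range_eq_map, ← Subgroup.map_commutator]
      refine Subgroup.map_mono fun s hs => ?_
      have h1 : (s : Ω) ∈ ⁅S, S⁆ := by
        rw [← Subgroup.map_subtype_commutator]
        exact ⟨s, hs, rfl⟩
      exact ⟨hA h1, commutator_le_focal F h1⟩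
    have hpre : preimageAlong θ (relFunctor W ⊥ (⊤ : Subgroup Ω')) = V := by
      rw [relFunctor_bot hW.toIsPFunctor ⊤ hS']
      have hn := hW.natural ↥(⊤ : Subgroup Ω') Ω' hS' Subgroup.topEquiv
      rw [show (W ↥(⊤ : Subgroup Ω')).map (⊤ : Subgroup Ω').subtype = W Ω' from hn]
      rfl
    intro X φ hφ x
    obtain ⟨-, hm⟩ := (isSurjectiveMorphism_factor hS hF hΛsc hE).1
    obtain ⟨φ', hφ', hP, hφS, hmX, hind⟩ := hm X φ hφ
    have key := hsm hcard hS' E hEs ⊥ (isNormal_bot E) hbotp A' hA' ?_ _ φ' hφ' ⟨_, hmX x⟩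
    · rw [hind x] at key
      obtain ⟨a, ha, hae⟩ := key
      have h1 : θ ((⟨x, hP x.2⟩ : S)⁻¹ * ⟨φ x, hφS x⟩) = θ a := by
        rw [map_mul, map_inv]
        exact hae.symm
      have h2 : a⁻¹ * ((⟨x, hP x.2⟩ : S)⁻¹ * ⟨φ x, hφS x⟩) ∈ (Λ.subgroupOf S : Subgroup S) :=
        mem_of_eq_ker hker a _ h1.symm
      have h3 : ((a⁻¹ * ((⟨x, hP x.2⟩ : S)⁻¹ * ⟨φ x, hφS x⟩) : S) : Ω) ∈ F.focalSubgroup :=
        F.focalSubgroup.mul_mem (F.focalSubgroup.inv_mem ha.2) (focal_mem hφ x)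
      have h4 := A.mul_mem ha.1 (hloc hc _ h2 h3)
      rw [Subgroup.subtype_apply, Subgroup.subtype_apply, ← Subgroup.coe_mul,
        mul_inv_cancel_left] at h4
      exact h4
    · rintro Y χ ⟨hχ, hY, hv, ψ, hψ, hψe, hψV⟩ y
      have hYS : Y ⊔ relFunctor W ⊥ (⊤ : Subgroup Ω') ≤ ⊤ := le_top
      obtain ⟨-, ρ, hρ, hU, hρS, hρm, hρe⟩ := (hE.2.2.2 _ ψ).1 hψ
      obtain ⟨z, hz⟩ := hr.ge (Subgroup.mem_top (y : Ω'))
      let U := preimageAlong θ (Y ⊔ relFunctor W ⊥ (⊤ : Subgroup Ω'))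
      have hVU : V ≤ U := by
        rw [← hpre]
        intro w hw
        obtain ⟨w', hw', rfl⟩ := hw
        exact ⟨w', Subgroup.mem_sup_right (hw' : θ w' ∈ _), rfl⟩
      have hzU : (z : Ω) ∈ U := (mem_preimage_iff z).2 (hz ▸ Subgroup.mem_sup_left y.2)
      have hle : U ⊔ V ≤ U := sup_le le_rfl hVU
      have himg : img ρ V = V := by
        have := finite_of_le hVS
        refine Subgroup.eq_of_le_of_card_ge ?_ (card_img (F.injective_of_mem hρ) hVU).ge
        intro w hw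
        obtain ⟨v, hvU, hv', rfl⟩ := mem_img.1 hw
        rw [← hpre] at hv' ⊢
        refine (mem_preimage_iff (θ := θ) ⟨_, hρS ⟨v, hvU⟩⟩).2 ?_
        rw [← hρe ⟨v, hvU⟩]
        exact hψV.le ⟨_, (mem_preimage_iff (θ := θ) ⟨v, hU hvU⟩).1 hv', rfl⟩
      have h1 := hV U ρ ⟨hρ, fun w hw => ⟨hU hw, hnV (hU hw)⟩,
        fun w => ⟨hρS w, hnV (hρS w)⟩, restr hle ρ, restr_mem F hρ hle, fun w => rfl,
        (img_restr hle ρ le_sup_right).trans himg⟩ ⟨z, hzU⟩
      refine ⟨z⁻¹ * ⟨ρ ⟨z, hzU⟩, hρS _⟩, ⟨h1, focal_mem hρ ⟨z, hzU⟩⟩, ?_⟩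
      rw [map_mul, map_inv, hz, ← hρe ⟨z, hzU⟩, ← hψe y]
      refine congrArg (fun w => (y : Ω')⁻¹ * ψ w) (Subtype.ext ?_)
      exact hz
  -- the decomposition
  let U := Λ ⊔ T
  have hTS : T ≤ S := centralizerIn_le S Λ
  have hUS : U ≤ S := sup_le hΛS hTS
  have hUn : ¬ F.IsNormal U := fun h => hTΛ (le_sup_right.trans (le_core h))
  have hnT : ∀ g ∈ S, ∀ t ∈ T, g * t * g⁻¹ ∈ T := by
    intro g hg t ht
    refine mem_centralizerIn_iff_conj.2 ⟨S.mul_mem (S.mul_mem hg ht.1) (S.inv_mem hg),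
      fun l hl => ?_⟩
    have hgl : g⁻¹ * l * g ∈ Λ := (mem_normalizer_iff'.1 (hnΛ hg)).2 l hl
    have h1 := (mem_centralizerIn_iff_conj.1 ht).2 _ hgl
    calc g * t * g⁻¹ * l * (g * t * g⁻¹)⁻¹ = g * (t * (g⁻¹ * l * g) * t⁻¹) * g⁻¹ := by group
      _ = l := by rw [h1]; group
  have hnU : S ≤ Subgroup.normalizer (U : Set Ω) := by
    intro g hg
    have := finite_of_le hUS
    refine mem_normalizer_of_finite fun y hy => ?_
    have h1 : U ≤ U.comap (MulAut.conj g).toMonoidHom := by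
      refine sup_le (fun l hl => Subgroup.mem_sup_left (conj_mem_of_mem_normalizer (hnΛ hg) hl))
        fun t ht => Subgroup.mem_sup_right (hnT g hg t ht)
    exact h1 hy
  have hF1 := hmapU U (hKΛ.trans le_sup_left) hUS hnU hUn
  -- the maps acting on the core as elements of `S`
  let F₂ := actSystem F hΛS hnΛ (autInducedBy S Λ) le_rfl
  have hF₂le : F₂ ≤ F := fun Y χ hχ => hχ.1
  have haut : F₂.autGroup Λ ≤ autInducedBy S Λ := by
    intro α hα
    obtain ⟨-, ψ, hψ, hψe, l, hl, hle⟩ := autHom_mem F₂ hΛS hα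
    rw [show α = l from MulEquiv.ext fun z => Subtype.ext
      ((hψe z).symm.trans (hle z z.2 (Subgroup.mem_sup_left z.2)))]
    exact hl
  have hF₂ne : F₂ ≠ F := fun h => hΛp ((isPGroup_autInducedBy hS Λ).to_le (h ▸ haut))
  have hF₂n : F₂.IsNormal Λ := by
    refine ⟨hΛS, fun Y χ hχ => ?_⟩
    obtain ⟨hχF, ψ, hψ, hψe, hact⟩ := hχ
    have hle : Y ⊔ Λ ⊔ Λ ≤ Y ⊔ Λ := sup_le le_rfl le_sup_right
    refine ⟨ψ, ⟨hψ, restr hle ψ, restr_mem F hψ hle, fun z => rfl, ?_⟩, hψe,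
      ActsIn.img_eq hact le_sup_right⟩
    obtain ⟨l, hl, hlx⟩ := hact
    exact ⟨l, hl, fun z hz hz' => hlx z hz (Subgroup.mem_sup_right hz)⟩
  have hF₂ctrl := hpr F₂ hF₂le hF₂ne (actSystem_isSaturated hS hF hΛ hnΛ) Λ hF₂n
    ((isPGroup_autInducedBy hS Λ).to_le haut) A hA
    (fun Y χ ⟨hχ, hY, hv, ψ, hψ, hψe, hψV⟩ y =>
      hV Y χ ⟨hχ.1, hY, hv, ψ, hψ.1, hψe, hψV⟩ y)
  intro X φ hφ x
  obtain ⟨ψ, hψ, hψe, hψΛ⟩ := hΛ.2 X φ hφ
  have hψS := source_le hψ
  have hc := restr_mem F hψ (le_sup_right : Λ ≤ X ⊔ Λ)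
  have hcr : (restr le_sup_right ψ).range = Λ := (range_restr _ ψ).trans hψΛ
  obtain ⟨χ, hχ, hχe, -⟩ := IsReceptive.extend (IsSaturated.receptive hS hF
    (IsSaturated.fullyCentralized hS hF (hfn Λ hΛS hnΛ))) hc hcr
  have hXN : X ⊔ Λ ≤ extender S Λ (restr le_sup_right ψ) := by
    intro g hg
    refine mem_extender.2 ⟨hψS hg, hnΛ (hψS hg), ψ ⟨g, hg⟩, apply_mem hψ _, fun l hl => ?_⟩
    rw [restr_apply, restr_apply, ← map_inv, ← map_mul, ← map_mul]
    rfl
  have hΛN : Λ ≤ extender S Λ (restr le_sup_right ψ) := le_extender hΛS (apply_mem hc)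
  have hUN : U ≤ extender S Λ (restr le_sup_right ψ) := sup_le hΛN (centralizerIn_le_extender _)
  let Z := (X ⊔ Λ) ⊔ U
  have hZN : Z ≤ extender S Λ (restr le_sup_right ψ) := sup_le hXN hUN
  let χ₁ := restr hZN χ
  have hχ₁ : χ₁ ∈ F.Hom Z := restr_mem F hχ hZN
  have hTimg : img χ₁ T = T := by
    have := finite_of_le hTS
    refine Subgroup.eq_of_le_of_card_ge ?_
      (card_img (F.injective_of_mem hχ₁) (le_sup_right.trans le_sup_right)).ge
    intro w hw
    obtain ⟨t, htZ, ht, rfl⟩ := mem_img.1 hw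
    exact apply_mem_centralizerIn hcr hχ hχe hΛN _ ht
  have hχU : img χ₁ U = U := by
    rw [img_sup χ₁ (le_sup_left.trans le_sup_right) (le_sup_right.trans le_sup_right),
      WeaklyClosed.img_eq hΛwc hχ₁ (le_sup_left.trans le_sup_right), hTimg]
  have hχA : ∀ z : Z, (z : Ω)⁻¹ * χ₁ z ∈ A := fun z => by
    have hle : Z ⊔ U ≤ Z := sup_le le_rfl le_sup_right
    exact hF1 Z χ₁ ⟨hχ₁, fun w hw => ⟨source_le hχ₁ hw, hnU (source_le hχ₁ hw)⟩,
      fun w => ⟨apply_mem hχ₁ w, hnU (apply_mem hχ₁ w)⟩, restr hle χ₁, restr_mem F hχ₁ hle,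
      fun w => rfl, (img_restr hle χ₁ le_sup_right).trans hχU⟩ z
  -- `ψ` has values in the image of `χ₁`
  have hψv : ∀ y : ↥(X ⊔ Λ), ψ y ∈ χ₁.range := by
    intro y
    have hyZ : (y : Ω) ∈ Z := Subgroup.mem_sup_left y.2
    have ht : (χ₁ ⟨y, hyZ⟩)⁻¹ * ψ y ∈ T := by
      refine mem_centralizerIn_iff_conj.2
        ⟨S.mul_mem (S.inv_mem (apply_mem hχ₁ _)) (apply_mem hψ y), fun l hl => ?_⟩
      obtain ⟨l', hl'P, hl', rfl⟩ := mem_img.1 (hψΛ.ge hl)
      have h1 : χ₁ ⟨l', Subgroup.mem_sup_left hl'P⟩ = ψ ⟨l', hl'P⟩ :=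
        hχe l' hl' (hΛN hl')
      have hconj : (y : Ω) * l' * (y : Ω)⁻¹ ∈ Λ := conj_mem_of_mem_normalizer (hnΛ (hψS y.2)) hl'
      have h2 : χ₁ (⟨y, hyZ⟩ * ⟨l', Subgroup.mem_sup_left hl'P⟩ * ⟨y, hyZ⟩⁻¹) =
          ψ (y * ⟨l', hl'P⟩ * y⁻¹) := hχe _ hconj (hΛN hconj)
      rw [map_mul, map_mul, map_inv, map_mul, map_mul, map_inv, h1] at h2
      calc (χ₁ ⟨y, hyZ⟩)⁻¹ * ψ y * ψ ⟨l', hl'P⟩ * ((χ₁ ⟨y, hyZ⟩)⁻¹ * ψ y)⁻¹
          = (χ₁ ⟨y, hyZ⟩)⁻¹ * (ψ y * ψ ⟨l', hl'P⟩ * (ψ y)⁻¹) * χ₁ ⟨y, hyZ⟩ := by group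
        _ = ψ ⟨l', hl'P⟩ := by rw [← h2]; group
    have h3 := χ₁.range.mul_mem (⟨⟨y, hyZ⟩, rfl⟩ : χ₁ ⟨y, hyZ⟩ ∈ χ₁.range)
      (img_le_range χ₁ T (hTimg.ge ht))
    rwa [mul_inv_cancel_left] at h3
  obtain ⟨d, hd, hdr, hdl, hdl'⟩ := exists_inv F hχ₁ rfl
  let η := compose ψ d hψv
  have hη : η ∈ F.Hom (X ⊔ Λ) := compose_mem F hψ hd hψv
  have hηF₂ : η ∈ F₂.Hom (X ⊔ Λ) := by
    have hle : X ⊔ Λ ⊔ Λ ≤ X ⊔ Λ := sup_le le_rfl le_sup_right
    refine ⟨hη, restr hle η, restr_mem F hη hle, fun z => rfl, 1, Subgroup.one_mem _,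
      fun z hz hz' => ?_⟩
    show d ⟨ψ ⟨z, _⟩, _⟩ = z
    rw [show (⟨ψ ⟨z, hle hz'⟩, hψv _⟩ : χ₁.range) =
      ⟨χ₁ ⟨z, Subgroup.mem_sup_left (Subgroup.mem_sup_right hz)⟩, _, rfl⟩ from
      Subtype.ext (hχe z hz (hΛN hz)).symm]
    exact hdl _ _
  have hηZ : ∀ y, η y ∈ Z := fun y => hdr.le ⟨_, rfl⟩
  set y := Subgroup.inclusion (le_sup_left : X ≤ X ⊔ Λ) x
  have h4 := hF₂ctrl (X ⊔ Λ) η hηF₂ y
  have h5 := hχA ⟨η y, hηZ y⟩
  have h6 : χ₁ ⟨η y, hηZ y⟩ = φ x := (hdl' _ (hηZ y)).trans (hψe x)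
  have h7 := A.mul_mem h4 h5
  rw [h6] at h7
  have h8 : (y : Ω)⁻¹ * φ x ∈ A := by simpa [mul_assoc] using h7
  exact h8

/-- Characteristic functors with the local property control transfer. -/
theorem ctrl_all (hW : IsTransferFunctor p W) {Ω : Type u} [Group Ω] {S : Subgroup Ω} [Finite S]
    (hS : IsPGroup p S) {F : FusionSystem S} (hF : F.IsSaturated p) {K : Subgroup Ω}
    (hK : F.IsNormal K) (hKp : IsPGroup p (F.autGroup K)) : Ctrl W F K := by
  suffices key : ∀ n, CtrlSmaller p W n by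
    exact key (Nat.card S + 1) (Nat.lt_succ_self _) hS F hF K hK hKp
  intro n
  induction n with
  | zero =>
    intro Ω _ S _ h
    exact absurd h (Nat.not_lt_zero _)
  | succ n ihn =>
    intro Ω _ S _ hn hS F hF K hK hKp
    have hsm : CtrlSmaller p W (Nat.card S) := fun {Ω'} _ {S'} _ hlt =>
      ihn (lt_of_lt_of_le hlt (Nat.lt_succ_iff.1 hn))
    -- induction on the maps
    have hfin : ∀ E : FusionSystem S,
        {x : Σ P : Subgroup Ω, (P →* Ω) | x.2 ∈ E.Hom x.1}.Finite := by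
      intro E
      have hsub := finite_subgroups_le (S := S)
      have : Finite {P : Subgroup Ω | P ≤ S} := hsub.to_subtype
      have : ∀ P : {P : Subgroup Ω | P ≤ S}, Finite (↥(P : Subgroup Ω) →* ↥S) := fun P => by
        have := finite_of_le P.2
        exact Finite.of_injective (fun f => (f : ↥(P : Subgroup Ω) → ↥S)) DFunLike.coe_injective
      let f : (Σ P : {P : Subgroup Ω | P ≤ S}, (↥(P : Subgroup Ω) →* ↥S)) →
          Σ P : Subgroup Ω, (P →* Ω) := fun x => ⟨x.1.1, S.subtype.comp x.2⟩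
      refine (Set.finite_range f).subset ?_
      rintro ⟨P, φ⟩ hφ
      exact ⟨⟨⟨P, source_le (F := E) hφ⟩, φ.codRestrict S (apply_mem (F := E) hφ)⟩, rfl⟩
    let count : FusionSystem S → ℕ := fun E =>
      Nat.card {x : Σ P : Subgroup Ω, (P →* Ω) | x.2 ∈ E.Hom x.1}
    suffices key : ∀ m, ∀ E : FusionSystem S, count E = m → E.IsSaturated p →
        ∀ K : Subgroup Ω, E.IsNormal K → IsPGroup p (E.autGroup K) → Ctrl W E K by
      exact key _ F rfl hF K hK hKp
    intro m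
    induction m using Nat.strong_induction_on with
    | _ m IH =>
      intro E hEm hE K hK hKp
      refine ctrl_step hW hS hsm ?_ hE hK hKp
      intro E' hle hne hE' K' hK' hKp'
      refine IH (count E') ?_ E' rfl hE' K' hK' hKp'
      rw [← hEm]
      show Nat.card ↥{x : Σ P : Subgroup Ω, (P →* Ω) | x.2 ∈ E'.Hom x.1} <
        Nat.card ↥{x : Σ P : Subgroup Ω, (P →* Ω) | x.2 ∈ E.Hom x.1}
      rw [Nat.card_coe_set_eq, Nat.card_coe_set_eq]
      refine Set.ncard_lt_ncard ?_ (hfin E)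
      refine ⟨fun x hx => hle x.1 hx, fun hsub => hne (le_antisymm_hom hle fun P φ hφ => ?_)⟩
      exact hsub (a := ⟨P, φ⟩) hφ

/-- A functor with the local property controls the focal subgroup. -/
theorem focal_le_of_functor (hW : IsTransferFunctor p W) {Ω : Type u} [Group Ω] {S : Subgroup Ω}
    [Finite S] (hS : IsPGroup p S) {F : FusionSystem S} (hF : F.IsSaturated p)
    {A : Subgroup Ω} (hA : ⁅S, S⁆ ≤ A)
    (hN : ∀ (X : Subgroup Ω) (φ : X →* Ω),
      φ ∈ F.normalizerHom ((W ↥S).map S.subtype) X → ∀ x : X, (x : Ω)⁻¹ * φ x ∈ A) :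
    F.focalSubgroup ≤ A := by
  have hbot : IsPGroup p (F.autGroup (⊥ : Subgroup Ω)) := by
    intro α
    refine ⟨0, Subtype.ext (MulEquiv.ext fun y => ?_)⟩
    exact Subsingleton.elim _ _
  have h := ctrl_all hW hS hF (isNormal_bot F) hbot A hA (by
    rw [relFunctor_bot hW.toIsPFunctor S hS]
    exact hN)
  refine (Subgroup.closure_le _).2 ?_
  rintro _ ⟨P, φ, x, hφ, rfl⟩
  exact h P φ hφ x

end Cfsg.Agent.Lib.Fusion
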