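import Cfsg.Agent.Lib.Fusion.SectionFree
import Cfsg.Agent.Lib.Fusion.Quotient
import Cfsg.Agent.Lib.Fusion.Hyperfocal
import Cfsg.Agent.Lib.Fusion.Closed
import Cfsg.Agent.Lib.Fusion.Solvable
import Cfsg.Agent.Lib.Transfer.Focal

/-!
Control of transfer by characteristic functors: the relative functor and the local step.
-/

set_option autoImplicit false
set_option linter.unusedSectionVars false

namespace Cfsg.Agent.Lib.Fusion

open Cfsg Cfsg.FusionSystem
open scoped commutatorElement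

universe u

/-- A positive characteristic functor on `p`-groups. -/
structure IsPFunctor (p : ℕ) (W : ∀ (Q : Type u) [Group Q], Subgroup Q) : Prop where
  ne_bot : ∀ (Q : Type u) [Group Q] [Finite Q], IsPGroup p Q → Nontrivial Q → W Q ≠ ⊥
  natural : ∀ (Q R : Type u) [Group Q] [Group R] [Finite Q], IsPGroup p Q → ∀ φ : Q ≃* R,
    (W Q).map φ.toMonoidHom = W R

/-- A functor on `p`-groups controlling transfer inside `O_p` of groups of characteristic `p`. -/
structure IsTransferFunctor (p : ℕ) (W : ∀ (Q : Type u) [Group Q], Subgroup Q) : Prop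
    extends IsPFunctor p W where
  control : ∀ (G : Type u) [Group G] [Finite G] (P : Sylow p G),
    Subgroup.centralizer ((pCore p G : Subgroup G) : Set G) ≤ pCore p G →
      pCore p G ⊓ commutator G = pCore p G ⊓
        (commutator ↥(Subgroup.normalizer (((W ↥(P : Subgroup G)).map (P : Subgroup G).subtype :
          Subgroup G) : Set G))).map
        (Subgroup.normalizer (((W ↥(P : Subgroup G)).map (P : Subgroup G).subtype :
          Subgroup G) : Set G)).subtype

/-- The preimage in `R` of the functor of `R/K`. -/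
def relFunctor (W : ∀ (Q : Type u) [Group Q], Subgroup Q) {Ω : Type u} [Group Ω]
    (K R : Subgroup Ω) : Subgroup Ω :=
  ((W (↥R ⧸ (K.subgroupOf R).normalCore)).comap
    (QuotientGroup.mk' (K.subgroupOf R).normalCore)).map R.subtype

variable {p : ℕ} [Fact p.Prime] {W : ∀ (Q : Type u) [Group Q], Subgroup Q}
  {Ω : Type u} [Group Ω]

theorem subgroupOf_normal_of_le {K R : Subgroup Ω}
    (hR : R ≤ Subgroup.normalizer (K : Set Ω)) : (K.subgroupOf R).Normal :=
  ⟨fun x hx g => conj_mem_of_mem_normalizer (hR g.2) hx⟩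

theorem relFunctor_le (W : ∀ (Q : Type u) [Group Q], Subgroup Q) (K R : Subgroup Ω) :
    relFunctor W K R ≤ R :=
  Subgroup.map_subtype_le _

theorem mem_relFunctor {K R : Subgroup Ω} {x : R} :
    (x : Ω) ∈ relFunctor W K R ↔
      (x : ↥R ⧸ (K.subgroupOf R).normalCore) ∈ W (↥R ⧸ (K.subgroupOf R).normalCore) := by
  constructor
  · rintro ⟨y, hy, hyx⟩
    rwa [show x = y from Subtype.ext hyx.symm]
  · exact fun h => ⟨x, h, rfl⟩

theorem le_relFunctor {K R : Subgroup Ω} (hKR : K ≤ R) (hR : R ≤ Subgroup.normalizer (K : Set Ω)) :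
    K ≤ relFunctor W K R := by
  intro x hx
  have := subgroupOf_normal_of_le hR
  refine (mem_relFunctor (x := ⟨x, hKR hx⟩)).2 ?_
  rw [(QuotientGroup.eq_one_iff _).2 (by rw [Subgroup.normalCore_eq_self]; exact hx)]
  exact one_mem _

theorem relFunctor_not_le (hW : IsPFunctor p W) {K R : Subgroup Ω} [Finite R]
    (hp : IsPGroup p R) (hKR : K < R) (hR : R ≤ Subgroup.normalizer (K : Set Ω)) :
    ¬ relFunctor W K R ≤ K := by
  intro hle
  have := subgroupOf_normal_of_le hR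
  have hnt : Nontrivial (↥R ⧸ (K.subgroupOf R).normalCore) := by
    obtain ⟨x, hxR, hxK⟩ := SetLike.exists_of_lt hKR
    refine ⟨⟨(⟨x, hxR⟩ : R), 1, fun h => hxK ?_⟩⟩
    have h1 := (QuotientGroup.eq_one_iff _).1 h
    rw [Subgroup.normalCore_eq_self] at h1
    exact h1
  apply hW.ne_bot (↥R ⧸ (K.subgroupOf R).normalCore) (hp.to_quotient _) hnt
  rw [eq_bot_iff]
  intro y hy
  obtain ⟨x, rfl⟩ := QuotientGroup.mk'_surjective _ y
  rw [Subgroup.mem_bot]
  refine (QuotientGroup.eq_one_iff _).2 ?_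
  rw [Subgroup.normalCore_eq_self]
  exact hle (mem_relFunctor.2 hy)

theorem normalizer_le_relFunctor (hW : IsPFunctor p W) {K R : Subgroup Ω} [Finite R]
    (hp : IsPGroup p R) (hR : R ≤ Subgroup.normalizer (K : Set Ω)) :
    Subgroup.normalizer (R : Set Ω) ⊓ Subgroup.normalizer (K : Set Ω) ≤
      Subgroup.normalizer (relFunctor W K R : Set Ω) := by
  rintro g ⟨hgR, hgK⟩
  have := finite_of_le (relFunctor_le W K R)
  have := subgroupOf_normal_of_le hR
  set K₀ := (K.subgroupOf R).normalCore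
  have hmap : K₀.map (conjAut hgR).toMonoidHom = K₀ := by
    refine Subgroup.eq_of_le_of_card_ge ?_ (Nat.card_congr ((conjAut hgR).subgroupMap K₀).toEquiv).le
    rintro _ ⟨x, hx, rfl⟩
    rw [show K₀ = K.subgroupOf R from Subgroup.normalCore_eq_self _] at hx ⊢
    exact conj_mem_of_mem_normalizer hgK hx
  refine mem_normalizer_of_finite fun x hx => ?_
  obtain ⟨y, hy, rfl⟩ := hx
  refine (mem_relFunctor (x := conjAut hgR y)).2 ?_
  exact (hW.natural _ _ (hp.to_quotient _) (QuotientGroup.congr K₀ K₀ (conjAut hgR) hmap)).le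
    ⟨_, hy, rfl⟩

/-- With trivial kernel the relative functor is the functor. -/
theorem relFunctor_bot (hW : IsPFunctor p W) (R : Subgroup Ω) [Finite R]
    (hp : IsPGroup p R) : relFunctor W ⊥ R = (W ↥R).map R.subtype := by
  set K₀ := ((⊥ : Subgroup Ω).subgroupOf R).normalCore
  have hK₀ : K₀ = ⊥ := eq_bot_iff.2 ((Subgroup.normalCore_le _).trans (by
    rw [Subgroup.bot_subgroupOf]))
  have hinj : Function.Injective (QuotientGroup.mk' K₀) := by
    rw [← MonoidHom.ker_eq_bot_iff, QuotientGroup.ker_mk', hK₀]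
  have hn := hW.natural ↥R (↥R ⧸ K₀) hp
    (MulEquiv.ofBijective _ ⟨hinj, QuotientGroup.mk'_surjective K₀⟩)
  rw [relFunctor, ← hn]
  exact congrArg (Subgroup.map R.subtype) (Subgroup.comap_map_eq_self_of_injective hinj (W ↥R))

/-- The maps congruent to the identity modulo a subgroup containing the derived subgroup. -/
def modSystem {S : Subgroup Ω} (F : FusionSystem S) (A : Subgroup Ω) (hA : ⁅S, S⁆ ≤ A) : FusionSystem S where
  Hom P := {φ | φ ∈ F.Hom P ∧ ∀ x : P, (x : Ω)⁻¹ * φ x ∈ A}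
  le_of_mem h := F.le_of_mem h.1
  injective_of_mem h := F.injective_of_mem h.1
  conj_mem {P g} hP hg := ⟨F.conj_mem hP hg, fun x => hA (by
    show (x : Ω)⁻¹ * (g * (x : Ω) * g⁻¹) ∈ _
    rw [inv_mul_conj_eq]
    exact Subgroup.commutator_mem_commutator (S.inv_mem (hP x.2)) hg)⟩
  comp_mem := by
    rintro P R φ ψ ⟨hφ, eφ⟩ ⟨hψ, eψ⟩ h
    refine ⟨F.comp_mem hφ hψ h, fun x => ?_⟩
    have := A.mul_mem (eφ x) (eψ ⟨φ x, h x⟩)
    rw [show ((⟨φ x, h x⟩ : R) : Ω) = φ x from rfl, mul_assoc, mul_inv_cancel_left] at this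
    exact this
  inv_mem := by
    rintro P φ ⟨hφ, eφ⟩
    obtain ⟨ψ, hψ, h⟩ := F.inv_mem hφ
    refine ⟨ψ, ⟨hψ, ?_⟩, h⟩
    rintro ⟨_, x, rfl⟩
    rw [h x]
    have := A.inv_mem (eφ x)
    rwa [mul_inv_rev, inv_inv] at this

/-- A central `p`-element in the derived group lies in the derived group of the Sylow subgroup. -/
theorem central_mem_commutator_sylow {G : Type*} [Group G] [Finite G] (P : Sylow p G) {z : G}
    (hz : z ∈ Subgroup.center G) (hzP : z ∈ (P : Subgroup G)) (hzG : z ∈ commutator G) :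
    z ∈ ⁅(P : Subgroup G), (P : Subgroup G)⁆ := by
  let τ := (MonoidHom.transfer (Abelianization.of : (P : Subgroup G) →* Abelianization _))
  have h1 : τ z = 1 := Abelianization.commutator_subset_ker τ hzG
  rw [MonoidHom.transfer_eq_pow _ z fun k g₀ _ => by
    rw [mul_assoc, ← Subgroup.mem_center_iff.1 (Subgroup.pow_mem _ hz k) g₀, inv_mul_cancel_left]]
    at h1
  have h3 : (⟨z, hzP⟩ : (P : Subgroup G)) ^ (P : Subgroup G).index ∈ commutator _ := by
    rw [← Abelianization.ker_of, MonoidHom.mem_ker, ← h1]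
    rfl
  have hcop : (Nat.card (P : Subgroup G)).Coprime (P : Subgroup G).index := P.card_coprime_index
  have h4 : (⟨z, hzP⟩ : (P : Subgroup G)) ∈ commutator (P : Subgroup G) := by
    obtain ⟨w, hw⟩ := (powCoprime hcop).surjective ⟨z, hzP⟩
    have hz' : (⟨z, hzP⟩ : (P : Subgroup G)) ∈ Subgroup.zpowers (⟨z, hzP⟩ ^ (P : Subgroup G).index) :=
      mem_zpowers_pow_iff.2 (Nat.Coprime.coprime_dvd_right (orderOf_dvd_natCard _) hcop.symm)
    exact Subgroup.zpowers_le.2 h3 hz'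
  rw [← Subgroup.map_subtype_commutator]
  exact ⟨_, h4, rfl⟩

variable {S : Subgroup Ω} [Finite S] {F : FusionSystem S}

/-- A `p`-group of automorphisms of a fully normalized subgroup is induced by `S`. -/
theorem exists_conj_of_isPGroup_autGroup (hS : IsPGroup p S) (hF : F.IsSaturated p)
    {K : Subgroup Ω} (hK : F.IsFullyNormalized K) (hp : IsPGroup p (F.autGroup K))
    {α : MulAut K} (hα : α ∈ F.autGroup K) :
    ∃ s ∈ S, ∀ x : K, ((α x : K) : Ω) = s * (x : Ω) * s⁻¹ := by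
  obtain ⟨-, R, hR⟩ := (IsSaturated.automized_receptive hS hF hK).1
  have htop : (R : Subgroup (F.autGroup K)) = ⊤ :=
    (R.3 (hp.to_subgroup ⊤) le_top).symm
  have h1 : (⟨α, hα⟩ : F.autGroup K) ∈ (R : Subgroup (F.autGroup K)) := htop ▸ Subgroup.mem_top _
  rw [hR] at h1
  exact mem_autInducedBy.1 h1

/-- The local step: inside a model, elements of the core lying in the focal subgroup come from the
normalizer of the relative functor. -/
theorem local_control (hW : IsTransferFunctor p W) (hS : IsPGroup p S) (hF : F.IsConstrained p)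
    {K : Subgroup Ω} (hK : F.IsNormal K) (hKp : IsPGroup p (F.autGroup K))
    {A : Subgroup Ω} (hA : ⁅S, S⁆ ≤ A)
    (hN : ∀ (X : Subgroup Ω) (φ : X →* Ω), φ ∈ F.normalizerHom (relFunctor W K S) X →
      ∀ x : X, (x : Ω)⁻¹ * φ x ∈ A)
    {x : Ω} (hx : x ∈ F.core) (hxf : x ∈ F.focalSubgroup) : x ∈ A := by
  obtain ⟨L, _, ι, hL⟩ := exists_model hS hF
  have : Finite L := hL.1
  have hi := hL.2.1.1
  obtain ⟨T, hT⟩ := hL.2.2.1
  have hKS := hK.1
  have hnK : S ≤ Subgroup.normalizer (K : Set Ω) :=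
    WeaklyClosed.le_normalizer (StronglyClosed.weaklyClosed (IsNormal.stronglyClosed hK))
  have hKfn : F.IsFullyNormalized K := ⟨hKS, fun R _ => by
    rw [show normalizerIn S K = S from le_antisymm (normalizerIn_le S K) fun g hg => ⟨hg, hnK hg⟩]
    exact Subgroup.card_le_of_le (normalizerIn_le S R)⟩
  let Kn := imageAlong ι K
  have hKn : Kn.Normal := IsModel.image_normal hL hK
  -- the action on `K` is that of `S`
  have hact : ∀ g : L, ∃ s : S, ∀ k : S, (k : Ω) ∈ K →
      g * ι k * g⁻¹ = ι (s * k * s⁻¹) := by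
    intro g
    obtain ⟨φ, hφ, hφe⟩ := IsRealizedBy.exists_hom hL.2.1 hKS g fun k =>
      imageAlong_le_range ι K (hKn.conj_mem _ (apply_mem_imageAlong ι (⟨k, hKS k.2⟩ : S) k.2) g)
    have hr : φ.range = K := (StronglyClosed.weaklyClosed (IsNormal.stronglyClosed hK)).2 φ hφ
    obtain ⟨s, hs, hse⟩ := exists_conj_of_isPGroup_autGroup hS hF.1 hKfn hKp
      (α := isoOf φ (F.injective_of_mem hφ) hr) (mem_autGroup_of_hom F hφ)
    refine ⟨⟨s, hs⟩, fun k hk => (hφe ⟨k, hk⟩).symm.trans (congrArg ι (Subtype.ext ?_))⟩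
    exact hse ⟨k, hk⟩
  -- central part
  have hKc : ∀ z : S, (z : Ω) ∈ K → ι z ∈ commutator L → (z : Ω) ∈ ⁅S, S⁆ := by
    intro z hz hzL
    let N₀ : Subgroup L := imageAlong ι ⁅K, S⁆
    have hKS' : ⁅K, S⁆ ≤ K := Subgroup.commutator_le.2 fun a ha b hb => by
      rw [commutatorElement_def, show a * b * a⁻¹ * b⁻¹ = a * (b * a⁻¹ * b⁻¹) by group]
      exact K.mul_mem ha (conj_mem_of_mem_normalizer (hnK hb) (K.inv_mem ha))
    have hN₀ : N₀.Normal := by
      refine ⟨fun y hy g => ?_⟩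
      obtain ⟨w, hwS, hw, rfl⟩ := mem_imageAlong.1 hy
      obtain ⟨s, hs⟩ := hact g
      rw [hs ⟨w, hwS⟩ (hKS' hw)]
      refine apply_mem_imageAlong ι _ ?_
      show (s : Ω) * w * (s : Ω)⁻¹ ∈ ⁅K, S⁆
      have h1 : (⁅K, S⁆).map (MulAut.conj (s : Ω)).toMonoidHom ≤ ⁅K, S⁆ := by
        rw [Subgroup.map_commutator]
        refine Subgroup.commutator_mono ?_ ?_
        · rintro _ ⟨a, ha, rfl⟩
          exact conj_mem_of_mem_normalizer (hnK s.2) ha
        · rintro _ ⟨a, ha, rfl⟩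
          exact S.mul_mem (S.mul_mem s.2 ha) (S.inv_mem s.2)
      exact h1 ⟨w, hw, rfl⟩
    let q : L →* L ⧸ N₀ := QuotientGroup.mk' N₀
    have hq := QuotientGroup.mk'_surjective N₀
    have hcen : q (ι z) ∈ Subgroup.center (L ⧸ N₀) := by
      refine Subgroup.mem_center_iff.2 fun y => ?_
      obtain ⟨g, rfl⟩ := hq y
      obtain ⟨s, hs⟩ := hact g
      rw [← mul_inv_eq_iff_eq_mul, ← map_mul, ← map_inv, ← map_mul, hs z hz]
      refine QuotientGroup.eq.2 ?_
      rw [← map_inv, ← map_mul]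
      refine apply_mem_imageAlong ι _ ?_
      show ((s : Ω) * z * (s : Ω)⁻¹)⁻¹ * z ∈ ⁅K, S⁆
      rw [show ((s : Ω) * z * (s : Ω)⁻¹)⁻¹ * z = ⁅(z : Ω)⁻¹, (s : Ω)⁆⁻¹ by
        rw [commutatorElement_def]; group]
      exact Subgroup.inv_mem _ (Subgroup.commutator_mem_commutator (K.inv_mem hz) s.2)
    have hP : q (ι z) ∈ ((T.mapSurjective hq : Sylow p (L ⧸ N₀)) : Subgroup (L ⧸ N₀)) := by
      rw [Sylow.coe_mapSurjective, hT]
      exact ⟨_, ⟨z, rfl⟩, rfl⟩
    have hG : q (ι z) ∈ commutator (L ⧸ N₀) := by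
      rw [commutator_def, ← Subgroup.map_top_of_surjective q hq, ← Subgroup.map_commutator]
      exact ⟨_, hzL, rfl⟩
    have h1 := central_mem_commutator_sylow _ hcen hP hG
    rw [Sylow.coe_mapSurjective, hT, MonoidHom.range_eq_map, Subgroup.map_map,
      ← Subgroup.map_commutator] at h1
    obtain ⟨w, hw, hwz⟩ := h1
    have h2 : (ι w)⁻¹ * ι z ∈ N₀ := QuotientGroup.eq.1 hwz
    rw [← map_inv, ← map_mul] at h2
    have h3 : ((w⁻¹ * z : S) : Ω) ∈ ⁅K, S⁆ := (apply_mem_imageAlong_iff hi).1 h2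
    have h4 : (w : Ω) ∈ ⁅S, S⁆ := by
      rw [← Subgroup.map_subtype_commutator]
      exact ⟨w, hw, rfl⟩
    have h5 := ⁅S, S⁆.mul_mem h4 (Subgroup.commutator_mono hKS le_rfl h3)
    rwa [Subgroup.coe_mul, Subgroup.coe_inv, mul_inv_cancel_left] at h5
  -- the element is in the derived group
  have hfoc : ∀ y : Ω, y ∈ F.focalSubgroup → ∃ hy : y ∈ S, ι ⟨y, hy⟩ ∈ commutator L := by
    intro y hy
    have hle : F.focalSubgroup ≤ ((commutator L).comap ι).map S.subtype := by
      refine (Subgroup.closure_le _).2 ?_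
      rintro _ ⟨P, φ, w, hφ, rfl⟩
      obtain ⟨g, hg⟩ := IsRealizedBy.exists_conj hL.2.1 hφ
      refine ⟨(⟨w, source_le hφ w.2⟩ : S)⁻¹ * ⟨φ w, apply_mem hφ w⟩, ?_, rfl⟩
      show ι _ ∈ commutator L
      rw [map_mul, map_inv, hg w, show (ι ⟨w, source_le hφ w.2⟩)⁻¹ *
        (g * ι ⟨w, source_le hφ w.2⟩ * g⁻¹) = ⁅(ι ⟨w, source_le hφ w.2⟩)⁻¹, g⁆ by
          rw [commutatorElement_def]; group]
      exact Subgroup.commutator_mem_commutator (Subgroup.mem_top _) (Subgroup.mem_top _)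
    obtain ⟨w, hw, rfl⟩ := hle hy
    exact ⟨w.2, hw⟩
  obtain ⟨hxS, hxL⟩ := hfoc x hxf
  -- the quotient by `K`
  let q : L →* L ⧸ Kn := QuotientGroup.mk' Kn
  have hq := QuotientGroup.mk'_surjective Kn
  have hKle : Kn ≤ pCore p L :=
    le_sSup ⟨hKn, T.2.to_le (hT ▸ imageAlong_le_range ι K)⟩
  have hCn : (pCore p L).Normal := pCore_normal p L
  have hcore : pCore p L = imageAlong ι F.core := Model.pCore_eq hL
  have hOp : pCore p (L ⧸ Kn) = (pCore p L).map q := by
    refine le_antisymm ?_ (le_sSup ⟨hCn.map q hq, (isPGroup_pCore_aux (p := p)).map q⟩)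
    have := pCore_normal p (L ⧸ Kn)
    intro y hy
    obtain ⟨g, rfl⟩ := hq y
    refine ⟨g, ?_, rfl⟩
    have hker : IsPGroup p q.ker := by
      rw [QuotientGroup.ker_mk']
      exact (isPGroup_pCore_aux (p := p)).to_le hKle
    exact (le_sSup ⟨this.comap q, (isPGroup_pCore_aux (p := p)).comap_of_ker_isPGroup q hker⟩ :
      (pCore p (L ⧸ Kn)).comap q ≤ pCore p L) hy
  have hchar : Subgroup.centralizer ((pCore p (L ⧸ Kn) : Subgroup (L ⧸ Kn)) : Set (L ⧸ Kn)) ≤
      pCore p (L ⧸ Kn) := by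
    have hnq := pCore_normal p (L ⧸ Kn)
    have hCnorm : (Subgroup.centralizer
        ((pCore p (L ⧸ Kn) : Subgroup (L ⧸ Kn)) : Set (L ⧸ Kn))).Normal :=
      Subgroup.normal_centralizer
    let C := (Subgroup.centralizer ((pCore p (L ⧸ Kn) : Subgroup (L ⧸ Kn)) : Set (L ⧸ Kn))).comap q
    -- elements of order prime to `p` in `C` are trivial
    have htriv : ∀ g ∈ C, (orderOf g).Coprime p → g = 1 := by
      intro g hg hord
      have hgK : ∀ k : S, (k : Ω) ∈ K → g * ι k * g⁻¹ = ι k := by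
        intro k hk
        obtain ⟨s, hs⟩ := hact g
        -- powers of `g` act as powers of `s`
        have hpow : ∀ (n : ℕ) (k : S), (k : Ω) ∈ K → g ^ n * ι k * (g ^ n)⁻¹ =
            ι (s ^ n * k * (s ^ n)⁻¹) := by
          intro n
          induction n with
          | zero => intro k _; simp
          | succ n ihn =>
            intro k hk
            have hk' : ((s ^ n * k * (s ^ n)⁻¹ : S) : Ω) ∈ K := by
              push_cast
              exact conj_mem_of_mem_normalizer (pow_mem (hnK s.2) n) hk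
            rw [pow_succ', show g * g ^ n * ι k * (g * g ^ n)⁻¹ =
              g * (g ^ n * ι k * (g ^ n)⁻¹) * g⁻¹ by group, ihn k hk, hs _ hk']
            congr 1
            rw [pow_succ']
            group
        obtain ⟨a, ha⟩ := hS s
        have h1 := hpow (orderOf g) k hk
        rw [pow_orderOf_eq_one, one_mul, inv_one, mul_one] at h1
        -- `s ^ orderOf g` and `s ^ p ^ a` act trivially
        let H₀ : Subgroup S :=
          { carrier := {w | w * k * w⁻¹ = k}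
            one_mem' := by simp
            mul_mem' := fun {w v} hw hv => by
              show w * v * k * (w * v)⁻¹ = k
              rw [show w * v * k * (w * v)⁻¹ = w * (v * k * v⁻¹) * w⁻¹ by group, hv, hw]
            inv_mem' := fun {w} hw => by
              show w⁻¹ * k * w⁻¹⁻¹ = k
              conv_lhs => rw [← show w * k * w⁻¹ = k from hw]
              group }
        have h2 : s ∈ H₀ := by
          have hA : s ^ orderOf g ∈ H₀ := (hi h1).symm
          have hB : s ^ p ^ a ∈ H₀ := by rw [ha]; exact H₀.one_mem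
          have hco : Nat.gcd (orderOf g) (p ^ a) = 1 := hord.pow_right a
          have := Nat.gcd_eq_gcd_ab (orderOf g) (p ^ a)
          rw [hco] at this
          have h3 : s ^ ((orderOf g : ℤ) * (orderOf g).gcdA (p ^ a) +
              ((p ^ a : ℕ) : ℤ) * (orderOf g).gcdB (p ^ a)) ∈ H₀ := by
            rw [zpow_add, zpow_mul, zpow_mul, zpow_natCast, zpow_natCast]
            exact H₀.mul_mem (H₀.zpow_mem hA _) (H₀.zpow_mem hB _)
          rw [← this, Nat.cast_one, zpow_one] at h3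
          exact h3
        rw [hs k hk, show s * k * s⁻¹ = k from h2]
      have hgP : g ∈ Subgroup.centralizer ((pCore p L : Subgroup L) : Set L) := by
        refine Subgroup.mem_centralizer_iff.2 fun y hy => ?_
        have h1 := Subgroup.mem_centralizer_iff.1 hg (q y) (hOp.symm ▸ ⟨y, hy, rfl⟩)
        rw [← map_mul, ← map_mul] at h1
        obtain ⟨k, hkS, hk, hke⟩ := mem_imageAlong.1 (QuotientGroup.eq.1 h1.symm)
        have hgk : g * ι ⟨k, hkS⟩ = ι ⟨k, hkS⟩ * g :=
          mul_inv_eq_iff_eq_mul.1 (hgK ⟨k, hkS⟩ hk)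
        have h2 : y * g = g * y * ι ⟨k, hkS⟩ := by rw [hke]; group
        -- iterate
        have h3 : ∀ n : ℕ, y * g ^ n = g ^ n * y * ι ⟨k, hkS⟩ ^ n := by
          intro n
          induction n with
          | zero => simp
          | succ n ihn =>
            rw [pow_succ g, ← mul_assoc, ihn,
              show g ^ n * y * ι ⟨k, hkS⟩ ^ n * g = g ^ n * y * (ι ⟨k, hkS⟩ ^ n * g) by group,
              show ι ⟨k, hkS⟩ ^ n * g = g * ι ⟨k, hkS⟩ ^ n from
                ((show Commute g (ι ⟨k, hkS⟩) from hgk).pow_right n).eq.symm,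
              show g ^ n * y * (g * ι ⟨k, hkS⟩ ^ n) = g ^ n * (y * g) * ι ⟨k, hkS⟩ ^ n by group, h2,
              show g ^ n * (g * y * ι ⟨k, hkS⟩) * ι ⟨k, hkS⟩ ^ n =
                g ^ n * g * y * (ι ⟨k, hkS⟩ * ι ⟨k, hkS⟩ ^ n) by group, ← pow_succ']
        have h4 := h3 (orderOf g)
        rw [pow_orderOf_eq_one, mul_one, one_mul, left_eq_mul] at h4
        obtain ⟨a, ha⟩ := hS ⟨k, hkS⟩
        have h5 : ι ⟨k, hkS⟩ ^ p ^ a = 1 := by rw [← map_pow, ha, map_one]
        have h6 : orderOf (ι ⟨k, hkS⟩) = 1 :=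
          Nat.eq_one_of_dvd_coprimes (hord.pow_right a) (orderOf_dvd_of_pow_eq_one h4)
            (orderOf_dvd_of_pow_eq_one h5)
        rw [orderOf_eq_one_iff.1 h6, mul_one] at h2
        exact h2
      have h7 := hL.2.2.2 hgP
      obtain ⟨b, hb⟩ := (isPGroup_pCore_aux (p := p) (A := L)) ⟨g, h7⟩
      have hb' : g ^ p ^ b = 1 := congrArg Subtype.val hb
      exact orderOf_eq_one_iff.1 (Nat.eq_one_of_dvd_coprimes (hord.pow_right b) dvd_rfl
        (orderOf_dvd_of_pow_eq_one hb'))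
    have hCp : IsPGroup p C := by
      intro g
      obtain ⟨a, m, hm, he⟩ := Nat.exists_eq_pow_mul_and_not_dvd
        (orderOf_pos (g : L)).ne' p (Fact.out : p.Prime).ne_one
      refine ⟨a, Subtype.ext ?_⟩
      show (g : L) ^ p ^ a = 1
      refine htriv _ (C.pow_mem g.2 _) ?_
      rw [orderOf_pow, he, Nat.gcd_eq_right (dvd_mul_right _ _),
        Nat.mul_div_cancel_left _ (pow_pos (Fact.out : p.Prime).pos a)]
      exact ((Fact.out : p.Prime).coprime_iff_not_dvd.2 hm).symm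
    intro y hy
    obtain ⟨g, rfl⟩ := hq y
    rw [hOp]
    exact ⟨g, (le_sSup ⟨hCnorm.comap q, hCp⟩ : C ≤ pCore p L) hy, rfl⟩
  let Tq : Sylow p (L ⧸ Kn) := T.mapSurjective hq
  have hctrl := hW.control (L ⧸ Kn) Tq hchar
  set V := relFunctor W K S
  have hVS : V ≤ S := relFunctor_le W K S
  set Wq : Subgroup (L ⧸ Kn) := (W ↥(Tq : Subgroup (L ⧸ Kn))).map (Tq : Subgroup (L ⧸ Kn)).subtype
  -- the functor of the quotient Sylow subgroup
  have hWq : Wq = (imageAlong ι V).map q := by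
    have := subgroupOf_normal_of_le hnK
    let K₀ := (K.subgroupOf S).normalCore
    have hK₀ : K₀ = K.subgroupOf S := Subgroup.normalCore_eq_self _
    let f : S →* ↥(Tq : Subgroup (L ⧸ Kn)) := (q.comp ι).codRestrict _ fun s => by
      rw [Sylow.coe_mapSurjective, hT]
      exact ⟨_, ⟨s, rfl⟩, rfl⟩
    have hfk : f.ker = K₀ := by
      ext s
      rw [MonoidHom.mem_ker, hK₀, Subgroup.mem_subgroupOf, ← apply_mem_imageAlong_iff hi,
        ← QuotientGroup.eq_one_iff]
      exact ⟨fun h => congrArg Subtype.val h, fun h => Subtype.ext h⟩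
    have hfs : Function.Surjective f := by
      rintro ⟨y, hy⟩
      rw [Sylow.coe_mapSurjective, hT] at hy
      obtain ⟨_, ⟨s, rfl⟩, rfl⟩ := hy
      exact ⟨s, rfl⟩
    let e : ↥S ⧸ K₀ ≃* ↥(Tq : Subgroup (L ⧸ Kn)) :=
      (QuotientGroup.quotientMulEquivOfEq hfk.symm).trans
        (QuotientGroup.quotientKerEquivOfSurjective f hfs)
    have hn := hW.natural _ _ (hS.to_quotient K₀) e
    have hV : imageAlong ι V = ((W (↥S ⧸ K₀)).comap (QuotientGroup.mk' K₀)).map ι := by
      show ((((W (↥S ⧸ K₀)).comap (QuotientGroup.mk' K₀)).map S.subtype).subgroupOf S).map ι = _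
      rw [Subgroup.subgroupOf, Subgroup.comap_map_eq_self_of_injective S.subtype_injective]
    rw [show Wq = (W ↥(Tq : Subgroup (L ⧸ Kn))).map (Tq : Subgroup (L ⧸ Kn)).subtype from rfl, ← hn,
      hV]
    ext y
    constructor
    · rintro ⟨_, ⟨w, hw, rfl⟩, rfl⟩
      obtain ⟨s, rfl⟩ := QuotientGroup.mk'_surjective K₀ w
      exact ⟨ι s, ⟨s, hw, rfl⟩, rfl⟩
    · rintro ⟨_, ⟨s, hs, rfl⟩, rfl⟩
      exact ⟨e (QuotientGroup.mk' K₀ s), ⟨_, hs, rfl⟩, rfl⟩
  let M : Subgroup L := (Subgroup.normalizer (Wq : Set (L ⧸ Kn))).comap q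
  have hKV : Kn ≤ imageAlong ι V :=
    Subgroup.map_mono fun s hs => le_relFunctor hKS hnK hs
  have hMV : ∀ g ∈ M, ∀ y ∈ imageAlong ι V, g * y * g⁻¹ ∈ imageAlong ι V := by
    intro g hg y hy
    have h1 := conj_mem_of_mem_normalizer hg (hWq.symm ▸ ⟨y, hy, rfl⟩ : q y ∈ Wq)
    rw [hWq, ← map_inv, ← map_mul, ← map_mul] at h1
    obtain ⟨w, hw, hwe⟩ := h1
    have h2 := (imageAlong ι V).mul_mem hw (hKV (QuotientGroup.eq.1 hwe))
    rwa [mul_inv_cancel_left] at h2
  have hTM : (T : Subgroup L) ≤ M := by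
    intro t ht
    have := Finite.of_surjective q hq
    refine mem_normalizer_of_finite fun y hy => ?_
    rw [hWq] at hy ⊢
    obtain ⟨w, hw, rfl⟩ := hy
    obtain ⟨v, hvS, hv, rfl⟩ := mem_imageAlong.1 hw
    rw [hT] at ht
    obtain ⟨s, rfl⟩ := ht
    refine ⟨ι (s * ⟨v, hvS⟩ * s⁻¹), apply_mem_imageAlong ι _ ?_, by simp [map_mul]⟩
    exact conj_mem_of_mem_normalizer
      (normalizer_le_relFunctor hW.toIsPFunctor hS hnK ⟨Subgroup.le_normalizer s.2, hnK s.2⟩) hv
  -- the element lies in `M' K`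
  have hx1 : q (ι ⟨x, hxS⟩) ∈ pCore p (L ⧸ Kn) ⊓ commutator (L ⧸ Kn) := by
    refine ⟨hOp.symm ▸ ⟨_, ?_, rfl⟩, ?_⟩
    · rw [hcore]
      exact apply_mem_imageAlong ι (⟨x, hxS⟩ : S) hx
    · rw [commutator_def, ← Subgroup.map_top_of_surjective q hq, ← Subgroup.map_commutator]
      exact ⟨_, hxL, rfl⟩
  rw [hctrl] at hx1
  have hx2 := hx1.2
  rw [Subgroup.map_subtype_commutator,
    ← Subgroup.map_comap_eq_self_of_surjective hq (Subgroup.normalizer (Wq : Set (L ⧸ Kn))),
    ← Subgroup.map_commutator] at hx2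
  obtain ⟨m, hm, hme⟩ := hx2
  obtain ⟨k, hkS, hk, hke⟩ := mem_imageAlong.1 (QuotientGroup.eq.1 hme)
  have hke' : ι ⟨x, hxS⟩ = m * ι ⟨k, hkS⟩ := by rw [hke, mul_inv_cancel_left]
  have hmL : m ∈ commutator L := Lib.Transfer.commutator_subgroup_le M hm
  have hk' : k ∈ ⁅S, S⁆ := by
    refine hKc ⟨k, hkS⟩ hk ?_
    rw [show ι ⟨k, hkS⟩ = m⁻¹ * ι ⟨x, hxS⟩ from hke]
    exact Subgroup.mul_mem _ (Subgroup.inv_mem _ hmL) hxL
  have hmT : m ∈ (T : Subgroup L) := by
    rw [hT, eq_mul_inv_of_mul_eq hke'.symm]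
    exact Subgroup.mul_mem _ ⟨_, rfl⟩ (Subgroup.inv_mem _ ⟨_, rfl⟩)
  -- focal subgroup theorem in `M`
  have hmA : ∃ y : S, ι y = m ∧ (y : Ω) ∈ A := by
    let TM : Sylow p M := T.subtype hTM
    have h1 : (⟨m, hTM hmT⟩ : M) ∈ commutator M ⊓ (TM : Subgroup M) := by
      refine ⟨?_, hmT⟩
      rw [← Subgroup.map_subtype_commutator] at hm
      obtain ⟨w, hw, hwe⟩ := hm
      rwa [show (⟨m, hTM hmT⟩ : M) = w from Subtype.ext hwe.symm]
    rw [Subgroup.commutator_inf_eq_focalSubgroup TM] at h1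
    have h2 : Subgroup.focalSubgroup (TM : Subgroup M) ≤
        ((A.subgroupOf S).map ι).subgroupOf M := by
      rw [Lib.Transfer.focalSubgroup_le_iff]
      intro y hy g hgy
      have hy' : (y : L) ∈ ι.range := hT ▸ hy
      have hgy' : (g : L) * y * (g : L)⁻¹ ∈ ι.range := hT ▸ hgy
      obtain ⟨a, ha⟩ := hy'
      let X := Subgroup.zpowers (a : Ω) ⊔ V
      have hXS : X ≤ S := sup_le (Subgroup.zpowers_le.2 a.2) hVS
      obtain ⟨φ, hφ, hφe⟩ := IsRealizedBy.exists_hom hL.2.1 hXS (g : L) fun z => by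
        have h3 : X ≤ ((ι.range.comap ((MulAut.conj (g : L)).toMonoidHom.comp ι)).map S.subtype) :=
          sup_le (Subgroup.zpowers_le.2 ⟨a, (show (g : L) * ι a * (g : L)⁻¹ ∈ ι.range from
            ha ▸ hgy'), rfl⟩)
            fun v hv => ⟨⟨v, hVS hv⟩, imageAlong_le_range ι V
              (hMV g g.2 _ (apply_mem_imageAlong ι (⟨v, hVS hv⟩ : S) hv)), rfl⟩
        obtain ⟨w, hw, hwe⟩ := h3 z.2
        rwa [show (⟨(z : Ω), hXS z.2⟩ : S) = w from Subtype.ext hwe.symm]
      have hle : X ⊔ V ≤ X := sup_le le_rfl le_sup_right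
      have himg : img φ V = V := by
        have := finite_of_le hVS
        refine Subgroup.eq_of_le_of_card_ge ?_
          (card_img (F.injective_of_mem hφ) le_sup_right).ge
        intro w hw
        obtain ⟨v, hvX, hv, rfl⟩ := mem_img.1 hw
        refine (apply_mem_imageAlong_iff hi (x := ⟨φ ⟨v, hvX⟩, apply_mem hφ _⟩)).1 ?_
        rw [hφe]
        exact hMV g g.2 _ (apply_mem_imageAlong ι (⟨v, hXS hvX⟩ : S) hv)
      have hnV : S ≤ Subgroup.normalizer (V : Set Ω) := fun s hs =>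
        normalizer_le_relFunctor hW.toIsPFunctor hS hnK ⟨Subgroup.le_normalizer hs, hnK hs⟩
      have h4 := hN X φ ⟨hφ, fun w hw => ⟨hXS hw, hnV (hXS hw)⟩,
        fun w => ⟨apply_mem hφ w, hnV (apply_mem hφ w)⟩, restr hle φ, restr_mem F hφ hle,
        fun w => rfl, (img_restr hle φ le_sup_right).trans himg⟩
        ⟨a, Subgroup.mem_sup_left (Subgroup.mem_zpowers _)⟩
      refine ⟨a⁻¹ * ⟨φ ⟨a, Subgroup.mem_sup_left (Subgroup.mem_zpowers _)⟩, apply_mem hφ _⟩,
        h4, ?_⟩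
      rw [map_mul, map_inv, hφe]
      show _ = ((y⁻¹ * (g * y * g⁻¹) : M) : L)
      push_cast
      rw [← ha]
    obtain ⟨y, hy, hye⟩ := h2 h1
    exact ⟨y, hye, hy⟩
  obtain ⟨y, hye, hyA⟩ := hmA
  have hfin : (⟨x, hxS⟩ : S) = y * ⟨k, hkS⟩ := hi (by rw [map_mul, hye]; exact hke')
  rw [show x = (y : Ω) * k from congrArg Subtype.val hfin]
  exact A.mul_mem hyA (hA hk')

end Cfsg.Agent.Lib.Fusion
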