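import Cfsg.Agent.Lib.Fusion.Criterion
import Cfsg.Agent.Lib.Fusion.Tate
import Cfsg.Agent.Lib.Fusion.Quotient
import Cfsg.Agent.Lib.Fusion.QuotientHyperfocal
import Cfsg.Agent.Lib.Fusion.Solvable
import Cfsg.Agent.Lib.Fusion.Normal

/-!
A nilpotency criterion through weakly embedded subgroups of a fixed order.
-/

set_option autoImplicit false
set_option linter.unusedSectionVars false

namespace Cfsg.Agent.Lib.Fusion.WeaklyEmbedded

open Cfsg Cfsg.FusionSystem Cfsg.Agent.Lib.Fusion Cfsg.Agent.Lib.Fusion.Criterion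

universe u

variable {Ω : Type u} [Group Ω] {S : Subgroup Ω} {F : FusionSystem S}

/-- Every subgroup of order `d` is weakly embedded. -/
def WE (F : FusionSystem S) (d : ℕ) : Prop :=
  ∀ Q : Subgroup Ω, Q ≤ S → Nat.card Q = d → ∃ P : Subgroup Ω,
    F.StronglyClosed P ∧ F.StronglyClosed (Q ⊔ P) ∧ F.StronglyClosed (Q ⊓ P)

/-- An automorphism is a `p`-element. -/
def PEl (p : ℕ) {P : Subgroup Ω} (α : MulAut P) : Prop := ∃ k : ℕ, α ^ p ^ k = 1

/-- Automorphisms preserving a subgroup of order `d` of their domain are `p`-elements. -/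
def NI (F : FusionSystem S) (p d : ℕ) : Prop :=
  ∀ H P : Subgroup Ω, Nat.card H = d → H ≤ P → P ≤ normalizerIn S H → ∀ α ∈ F.autGroup P,
    (∀ x : P, (x : Ω) ∈ H → ((α x : P) : Ω) ∈ H) → PEl p α

/-- The automizer of `P` is a `p`-group, elementwise. -/
def PAut (F : FusionSystem S) (p : ℕ) (P : Subgroup Ω) : Prop := ∀ α ∈ F.autGroup P, PEl p α

theorem PAut.isPGroup {p : ℕ} {P : Subgroup Ω} (h : PAut F p P) : IsPGroup p (F.autGroup P) :=
  fun α => (h α α.2).imp fun _ hk => Subtype.ext hk

theorem pAut_of_isPGroup {p : ℕ} {P : Subgroup Ω} (h : IsPGroup p (F.autGroup P)) :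
    PAut F p P := fun α hα => (h ⟨α, hα⟩).imp fun _ hk => congrArg Subtype.val hk

theorem pel_of_autInducedBy {p : ℕ} (hS : IsPGroup p S) {P : Subgroup Ω} {α : MulAut P}
    (hα : α ∈ autInducedBy S P) : PEl p α :=
  (isPGroup_autInducedBy hS P ⟨α, hα⟩).imp fun _ hk => congrArg Subtype.val hk

theorem pow_agree {A B : Subgroup Ω} (f : Ω → Ω) {α : MulAut A} {β : MulAut B}
    (hf : ∀ x : A, f x ∈ B)
    (h : ∀ (x : A) (y : B), (y : Ω) = f x → ((β y : B) : Ω) = f (α x : A)) :
    ∀ (m : ℕ) (x : A) (y : B), (y : Ω) = f x →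
      (((β ^ m) y : B) : Ω) = f (((α ^ m) x : A)) := by
  intro m
  induction m with
  | zero => exact fun x y hy => hy
  | succ m ih =>
    intro x y hy
    rw [pow_succ, pow_succ, MulAut.mul_apply, MulAut.mul_apply]
    exact ih (α x) (β y) (h x y hy)

theorem pel_of_transport {p : ℕ} {A B : Subgroup Ω} (f : Ω → Ω) (hinj : Set.InjOn f A)
    {α : MulAut A} {β : MulAut B} (hf : ∀ x : A, f x ∈ B)
    (h : ∀ (x : A) (y : B), (y : Ω) = f x → ((β y : B) : Ω) = f (α x : A))
    (hβ : PEl p β) : PEl p α := by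
  obtain ⟨k, hk⟩ := hβ
  refine ⟨k, ?_⟩
  ext x
  refine hinj ((α ^ p ^ k) x).2 x.2 ?_
  rw [← pow_agree f hf h (p ^ k) x ⟨f x, hf x⟩ rfl, hk]
  rfl

/-! ### The two forms of the normalizer hypothesis -/

theorem ni_of_normalizer {p : ℕ} [Fact p.Prime] [Finite S] (hS : IsPGroup p S)
    (hF : F.IsSaturated p) {d : ℕ}
    (h : ∀ H : Subgroup Ω, F.IsFullyNormalized H → Nat.card H = d →
      ∀ N : FusionSystem (normalizerIn S H), F.IsNormalizerSystem H N →
        ∀ P : Subgroup Ω, N.Hom P = (innerFusionSystem (normalizerIn S H)).Hom P) :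
    NI F p d := by
  intro H P hd hHP hPN α hα hαH
  have hPS := hPN.trans (normalizerIn_le S H)
  have hHS := hHP.trans hPS
  obtain ⟨H', hHH', hn⟩ := exists_fullyNormalized F hHS
  obtain ⟨ψ, hψ, hψm, hψH⟩ := IsSaturated.exists_normalizer_map hS hF hn hHH'
  obtain ⟨f, hf, hfe⟩ := mor_of_hom hψ
  have hfH : f '' (H : Set Ω) = H' := by
    ext y
    rw [← hψH, SetLike.mem_coe, mem_img]
    constructor
    · rintro ⟨x, hx, rfl⟩
      exact ⟨x, hPN (hHP hx), hx, (hfe ⟨x, hPN (hHP hx)⟩).symm⟩
    · rintro ⟨x, hx, hxH, rfl⟩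
      exact ⟨x, hxH, hfe ⟨x, hx⟩⟩
  obtain ⟨P', hP', -⟩ := (hf.mono hPN).exists_image
  obtain ⟨g, hg, hgP, hgl, -⟩ := (hf.mono hPN).inv hP'
  obtain ⟨a, ha, haP, hae⟩ := exists_mor_of_aut hPS hα
  have ha' : Mor F P' ((f ∘ a) ∘ g) :=
    hg.comp (mapsTo_of_image hgP) (ha.comp (mapsTo_of_image haP) (hf.mono hPN))
  have ha'P : ((f ∘ a) ∘ g) '' (P' : Set Ω) = P' :=
    image_comp_eq hgP (image_comp_eq haP hP')
  obtain ⟨β, hβ, hβe⟩ := ha'.exists_aut ha'P
  have hHP' : H' ≤ P' := le_of_image hfH hP' hHP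
  have hP'N : P' ≤ normalizerIn S H' := fun y hy => by
    have hy' : y ∈ f '' (P : Set Ω) := hP'.symm ▸ hy
    obtain ⟨x, hx, rfl⟩ := hy'
    rw [hfe ⟨x, hPN hx⟩]
    exact hψm _
  have hP'S := hP'N.trans (normalizerIn_le S H')
  have hβH : ∀ y : P', (y : Ω) ∈ H' → ((β y : P') : Ω) ∈ H' := by
    intro y hy
    have hy' : (y : Ω) ∈ f '' (H : Set Ω) := hfH.symm ▸ hy
    obtain ⟨x, hx, hxy⟩ := hy'
    rw [hβe, ← hxy]
    simp only [Function.comp_apply]
    rw [hgl x (hHP hx), ← hae ⟨x, hHP hx⟩]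
    exact mapsTo_of_image hfH (hαH ⟨x, hHP hx⟩ hx)
  have hmem : autHom β ∈ (normalizerSystem F H' hn.1).Hom P' := by
    refine ⟨autHom_mem F hP'S hβ, hP'N, fun x => hP'N (β x).2,
      restr (sup_le le_rfl hHP') (autHom β), restr_mem F (autHom_mem F hP'S hβ) _,
      fun x => rfl, ?_⟩
    have hfin := finite_of_le hn.1
    show img (restr (sup_le le_rfl hHP') (autHom β)) H' = H'
    refine Subgroup.eq_of_le_of_card_ge ?_ ?_
    · intro y hy
      obtain ⟨x, hx, hxH, rfl⟩ := mem_img.1 hy
      exact hβH ⟨x, _⟩ hxH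
    · rw [card_img (F.injective_of_mem (restr_mem F (autHom_mem F hP'S hβ) _)) le_sup_right]
  rw [h H' hn ((isConj_card hHH').symm.trans hd) _ (normalizerSystem_spec F H' hn.1) P'] at hmem
  obtain ⟨-, s, hs, hse⟩ := hmem
  refine pel_of_transport f (hf.mono hPN).injOn (fun x => mapsTo_of_image hP' x.2)
    (fun x y hy => ?_) (pel_of_autInducedBy hS (mem_autInducedBy.2 ⟨s, hs.1, hse⟩) :
      PEl p β)
  rw [hβe, hy]
  simp only [Function.comp_apply]
  rw [hgl x x.2, ← hae]

/-! ### Group-theoretic preliminaries -/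

theorem card_eq_pow {p : ℕ} [Fact p.Prime] [Finite S] (hS : IsPGroup p S) {A : Subgroup Ω}
    (hA : A ≤ S) : ∃ a, Nat.card A = p ^ a := by
  have := finite_of_le hA
  exact IsPGroup.iff_card.1 (hS.to_le hA)

theorem exists_between {p : ℕ} [Fact p.Prime] [Finite S] (hS : IsPGroup p S) {A B : Subgroup Ω}
    (hAB : A ≤ B) (hB : B ≤ S) {m : ℕ} (hA : Nat.card A ≤ p ^ m) (hm : p ^ m ≤ Nat.card B) :
    ∃ K : Subgroup Ω, A ≤ K ∧ K ≤ B ∧ Nat.card K = p ^ m := by
  have := finite_of_le hB
  obtain ⟨a, ha⟩ := card_eq_pow hS (hAB.trans hB)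
  obtain ⟨b, hb⟩ := card_eq_pow hS hB
  have hp : 1 < p := (Fact.out : p.Prime).one_lt
  rw [ha] at hA
  rw [hb] at hm
  obtain ⟨K, hK, hAK⟩ := Sylow.exists_subgroup_card_pow_prime_le (G := B) p (m := m)
    (by rw [hb]; exact pow_dvd_pow p ((Nat.pow_le_pow_iff_right hp).1 hm)) (A.subgroupOf B)
    ((Nat.card_congr (Subgroup.subgroupOfEquivOfLe hAB).toEquiv).trans ha)
    ((Nat.pow_le_pow_iff_right hp).1 hA)
  refine ⟨K.map B.subtype, fun x hx => ⟨⟨x, hAB hx⟩, hAK (Subgroup.mem_subgroupOf.2 hx), rfl⟩,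
    Subgroup.map_subtype_le K, ?_⟩
  rw [← Nat.card_congr (K.equivMapOfInjective B.subtype B.subtype_injective).toEquiv, hK]

theorem normal_conj [Finite S] {R : Subgroup Ω} (hR : F.StronglyClosed R) {g r : Ω}
    (hg : g ∈ S) (hr : r ∈ R) : g * r * g⁻¹ ∈ R :=
  StronglyClosed.conj_mem_self hR hg hr

theorem commute_of_inf_eq_bot [Finite S] {R T : Subgroup Ω} (hR : F.StronglyClosed R)
    (hT : F.StronglyClosed T) (h : R ⊓ T = ⊥) {r t : Ω} (hr : r ∈ R) (ht : t ∈ T) :
    r * t = t * r := by
  have h1 : r * t * r⁻¹ * t⁻¹ ∈ R ⊓ T := by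
    refine Subgroup.mem_inf.2 ⟨?_, T.mul_mem (normal_conj hT (hR.1 hr) ht) (T.inv_mem ht)⟩
    rw [show r * t * r⁻¹ * t⁻¹ = r * (t * r⁻¹ * t⁻¹) by group]
    exact R.mul_mem hr (normal_conj hR (hT.1 ht) (R.inv_mem hr))
  rw [h, Subgroup.mem_bot] at h1
  calc r * t = r * t * r⁻¹ * t⁻¹ * (t * r) := by group
    _ = t * r := by rw [h1, one_mul]

theorem sup_inf_of_le [Finite S] {H P R : Subgroup Ω} (hP : F.StronglyClosed P) (hHR : H ≤ R)
    (hHS : H ≤ S) (hPR : P ⊓ R = ⊥) : (H ⊔ P) ⊓ R = H := by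
  refine le_antisymm ?_ (le_inf le_sup_left hHR)
  rintro x ⟨hx, hxR⟩
  have hN : H ≤ Subgroup.normalizer (P : Set Ω) :=
    hHS.trans (WeaklyClosed.le_normalizer (StronglyClosed.weaklyClosed hP))
  have hx' : x ∈ ((H ⊔ P : Subgroup Ω) : Set Ω) := hx
  rw [Subgroup.coe_mul_of_left_le_normalizer_right H P hN] at hx'
  obtain ⟨y, hy, z, hz, rfl⟩ := hx'
  have hzR : z ∈ P ⊓ R := by
    refine ⟨hz, ?_⟩
    have := R.mul_mem (R.inv_mem (hHR hy)) hxR
    rwa [inv_mul_cancel_left] at this
  rw [hPR, Subgroup.mem_bot] at hzR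
  show y * z ∈ H
  rw [hzR, mul_one]
  exact hy

theorem stronglyClosed_self (F : FusionSystem S) : F.StronglyClosed S :=
  ⟨le_rfl, fun _ _ _ hφ x => apply_mem hφ x⟩

theorem inf_eq_bot_of_minimal [Finite S] {R P : Subgroup Ω} (hR : F.StronglyClosed R)
    (hmin : ∀ T, F.StronglyClosed T → T ≤ R → T = ⊥ ∨ T = R) (hP : F.StronglyClosed P)
    (hle : ¬ R ≤ P) : P ⊓ R = ⊥ :=
  (hmin _ (stronglyClosed_inf hP hR) inf_le_right).resolve_right fun h =>
    hle (h ▸ inf_le_left)

theorem exists_minimal_le [Finite S] {P : Subgroup Ω} (hP : F.StronglyClosed P) (hne : P ≠ ⊥) :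
    ∃ R, F.StronglyClosed R ∧ R ≠ ⊥ ∧ R ≤ P ∧
      ∀ T, F.StronglyClosed T → T ≤ R → T = ⊥ ∨ T = R := by
  have hfin : {R : Subgroup Ω | F.StronglyClosed R ∧ R ≠ ⊥ ∧ R ≤ P}.Finite :=
    finite_subgroups_le.subset fun R hR => hR.1.1
  obtain ⟨R, ⟨hR, hR0, hRP⟩, hmin⟩ :=
    Set.exists_min_image _ (fun R : Subgroup Ω => Nat.card R) hfin ⟨P, hP, hne, le_rfl⟩
  refine ⟨R, hR, hR0, hRP, fun T hT hTR => or_iff_not_imp_left.2 fun hT0 => ?_⟩
  have := finite_of_le hR.1
  exact Subgroup.eq_of_le_of_card_ge hTR (hmin T ⟨hT, hT0, hTR.trans hRP⟩)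

/-! ### Consequences of weak embedding -/

theorem minimal_card_le {p : ℕ} [Fact p.Prime] [Finite S] (hS : IsPGroup p S) {m : ℕ}
    (hm : 1 ≤ m) (hWE : WE F (p ^ m)) {R : Subgroup Ω} (hR : F.StronglyClosed R)
    (hmin : ∀ T, F.StronglyClosed T → T ≤ R → T = ⊥ ∨ T = R) : Nat.card R ≤ p ^ m := by
  by_contra hlt
  have h1 : Nat.card (⊥ : Subgroup Ω) ≤ p ^ m := by
    rw [Subgroup.card_bot]
    exact Nat.one_le_pow _ _ (Fact.out : p.Prime).pos
  obtain ⟨H, -, hHR, hH⟩ := exists_between hS (bot_le (a := R)) hR.1 h1 (not_le.1 hlt).le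
  have hne : H ≠ ⊥ ∧ H ≠ R := by
    refine ⟨fun h => ?_, fun h => hlt (h ▸ hH.le)⟩
    rw [h, Subgroup.card_bot] at hH
    exact (Nat.one_lt_pow (by omega) (Fact.out : p.Prime).one_lt).ne hH
  obtain ⟨P, hP, hjoin, hmeet⟩ := hWE H (hHR.trans hR.1) hH
  by_cases hRP : R ≤ P
  · rw [inf_eq_left.2 (hHR.trans hRP)] at hmeet
    rcases hmin H hmeet hHR with h | h
    exacts [hne.1 h, hne.2 h]
  · have h2 := stronglyClosed_inf hjoin hR
    rw [sup_inf_of_le hP hHR (hHR.trans hR.1) (inf_eq_bot_of_minimal hR hmin hP hRP)] at h2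
    rcases hmin H h2 hHR with h | h
    exacts [hne.1 h, hne.2 h]

theorem exists_disjoint_of_meet [Finite S] {d : ℕ} (hWE : WE F d) {R H : Subgroup Ω}
    (hR : F.StronglyClosed R) (hmin : ∀ T, F.StronglyClosed T → T ≤ R → T = ⊥ ∨ T = R)
    (hHS : H ≤ S) (hd : Nat.card H = d) (h0 : H ⊓ R ≠ ⊥) (h1 : ¬ R ≤ H) :
    ∃ R₂, F.StronglyClosed R₂ ∧ R₂ ≠ ⊥ ∧ R ⊓ R₂ = ⊥ ∧
      ∀ T, F.StronglyClosed T → T ≤ R₂ → T = ⊥ ∨ T = R₂ := by
  obtain ⟨P, hP, hjoin, hmeet⟩ := hWE H hHS hd
  by_cases hRP : R ≤ P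
  · exfalso
    rcases hmin _ (stronglyClosed_inf hmeet hR) inf_le_right with h | h
    · apply h0
      rw [inf_assoc, inf_eq_right.2 hRP] at h
      exact h
    · exact h1 (h.ge.trans (inf_le_left.trans inf_le_left))
  · have hPR := inf_eq_bot_of_minimal hR hmin hP hRP
    by_cases hP0 : P = ⊥
    · exfalso
      rw [hP0, sup_bot_eq] at hjoin
      rcases hmin _ (stronglyClosed_inf hjoin hR) inf_le_right with h | h
      · exact h0 h
      · exact h1 (h ▸ inf_le_left)
    · obtain ⟨R₂, hR₂, hne, hle, hmin₂⟩ := exists_minimal_le hP hP0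
      exact ⟨R₂, hR₂, hne,
        le_bot_iff.1 ((le_inf (inf_le_right.trans hle) inf_le_left).trans hPR.le), hmin₂⟩

/-- The automizers of the subgroups of `R` are `p`-groups when a strongly closed subgroup of
order `d` centralizes `R`. -/
theorem pAut_le_of_disjoint {p : ℕ} [Fact p.Prime] [Finite S] (hS : IsPGroup p S)
    (hF : F.IsSaturated p) {d : ℕ} (hNI : NI F p d) {R R₂ : Subgroup Ω}
    (hR : F.StronglyClosed R) (hR₂ : F.StronglyClosed R₂) (hd : Nat.card R₂ = d)
    (hdis : R ⊓ R₂ = ⊥) {U : Subgroup Ω} (hUR : U ≤ R) : PAut F p U := by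
  obtain ⟨U', hUU', hn⟩ := exists_fullyNormalized F (hUR.trans hR.1)
  suffices hU' : PAut F p U' by
    obtain ⟨φ, hφ, hr⟩ := hUU'
    refine pAut_of_isPGroup ?_
    exact (hU'.isPGroup).of_injective
      ((((MulAut.congr (isoOf φ (F.injective_of_mem hφ) hr)).toMonoidHom).comp
        (F.autGroup U).subtype).codRestrict _ fun a => exists_mulAut_congr F hφ hr a.2)
      fun a b hab => Subtype.ext ((MulAut.congr (isoOf φ (F.injective_of_mem hφ) hr)).injective
        (congrArg (fun z : F.autGroup U' => (z : MulAut U')) hab))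
  have hU'R : U' ≤ R := by
    obtain ⟨φ, hφ, rfl⟩ := hUU'
    rintro _ ⟨x, rfl⟩
    exact hR.2 U hUR φ hφ x
  intro α hα
  obtain ⟨a, ha, haU, hae⟩ := exists_mor_of_aut hn.1 hα
  obtain ⟨E, χ, hUE, -, hχ, hχe, hmem⟩ :=
    extend_of_receptive (IsSaturated.automized_receptive hS hF hn).2 ha haU
  have hR₂E : R₂ ≤ E := fun t ht => by
    have hc : ∀ x ∈ U', t * x * t⁻¹ = x := fun x hx => by
      rw [mul_inv_eq_iff_eq_mul]
      exact (commute_of_inf_eq_bot hR hR₂ hdis (hU'R hx) ht).symm
    have := finite_of_le hn.1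
    refine hmem t ⟨hR₂.1 ht, mem_normalizer_of_finite fun x hx => (hc x hx).symm ▸ hx⟩
      ⟨1, S.one_mem, fun x hx => by rw [hc x hx]; simp⟩
  set P := U' ⊔ R₂
  have hPE : P ≤ E := sup_le hUE hR₂E
  have hPS : P ≤ S := hPE.trans hχ.le
  obtain ⟨ψ, hψ, hψe⟩ := hχ.mono hPE
  have hr : ψ.range = P := by
    rw [← img_self ψ, img_sup ψ le_sup_left le_sup_right,
      WeaklyClosed.img_eq (StronglyClosed.weaklyClosed hR₂) hψ le_sup_right]
    congr 1
    rw [← range_restr (le_sup_left : U' ≤ P) ψ]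
    exact Mor.range_eq (f := a) (fun x => (hψe _).trans (hχe x x.2)) haU
  have hβ : (isoOf ψ (F.injective_of_mem hψ) hr) ∈ F.autGroup P := by
    refine mem_autGroup_of_hom F ?_
    have : autHom (isoOf ψ (F.injective_of_mem hψ) hr) = ψ := MonoidHom.ext fun _ => rfl
    rwa [this]
  have hPN : P ≤ normalizerIn S R₂ := fun x hx =>
    ⟨hPS hx, WeaklyClosed.le_normalizer (StronglyClosed.weaklyClosed hR₂) (hPS hx)⟩
  refine pel_of_transport id Function.injective_id.injOn
    (fun x => Subgroup.mem_sup_left x.2) (fun x y hy => ?_)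
    (hNI R₂ P hd le_sup_right hPN _ hβ fun x hx => StronglyClosed.map_mem hR₂ hψ x hx)
  change ψ y = _
  rw [hψe, hy, id, id, hχe x x.2, ← hae]

/-- A `p`-element modulo `R` acting as a `p`-element on `R` is a `p`-element. -/
theorem pel_of_series {p : ℕ} [Fact p.Prime] [Finite S] (hS : IsPGroup p S) {R P : Subgroup Ω}
    (hPS : P ≤ S) {α : MulAut P} (hmod : ∀ x : P, (x : Ω)⁻¹ * ((α x : P) : Ω) ∈ R)
    (hfix : ∀ x : P, (x : Ω) ∈ R → α x = x) : PEl p α := by
  obtain ⟨k, hk⟩ := card_eq_pow hS hPS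
  have := finite_of_le hPS
  refine ⟨k, ?_⟩
  ext x
  have hm : ∀ m, (α ^ m) x = x * (x⁻¹ * α x) ^ m := by
    intro m
    induction m with
    | zero => simp
    | succ m ih =>
      have hR : α ((x⁻¹ * α x) ^ m) = (x⁻¹ * α x) ^ m := by
        rw [map_pow]
        rw [hfix (x⁻¹ * α x) (hmod x)]
      rw [pow_succ', MulAut.mul_apply, ih, map_mul, hR, pow_succ', ← mul_assoc x]
      simp
  rw [hm, ← hk, pow_card_eq_one']
  simp

/-- A strongly closed subgroup whose subgroups have `p`-group automizers lies in every centric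
radical subgroup. -/
theorem le_of_radical {p : ℕ} [Fact p.Prime] [Finite S] (hS : IsPGroup p S) {R : Subgroup Ω}
    (hR : F.StronglyClosed R) (hU : ∀ U, U ≤ R → PAut F p U) {P : Subgroup Ω}
    (hc : F.IsCentric P) (hrad : F.IsRadical p P) : R ≤ P := by
  have hPS := hc.1
  have hKn := modKer_normal hR hPS
  have hKp : IsPGroup p (modKer hR hPS) := by
    rintro ⟨β, hβ⟩
    obtain ⟨b, hb, hbP, hbe⟩ := exists_mor_of_aut hPS β.2
    have hbU : b '' ((P ⊓ R : Subgroup Ω) : Set Ω) = (P ⊓ R : Subgroup Ω) := by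
      refine image_of_mapsTo (hb.mono inf_le_left) (inf_le_left.trans hPS) ?_ le_rfl
      rintro x ⟨hx, hxR⟩
      rw [← hbe ⟨x, hx⟩]
      exact ⟨((β : MulAut P) ⟨x, hx⟩).2,
        StronglyClosed.map_mem hR (autHom_mem F hPS β.2) ⟨x, hx⟩ hxR⟩
    obtain ⟨γ, hγ, hγe⟩ := (hb.mono inf_le_left).exists_aut hbU
    obtain ⟨k, hk⟩ := hU _ inf_le_right γ hγ
    have hagree := pow_agree (A := P ⊓ R) (B := P) id (α := γ) (β := (β : MulAut P))
      (fun x => (Subgroup.mem_inf.1 x.2).1) (fun x y hy => by rw [hbe, hy, id, id, hγe]) (p ^ k)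
    have hmod : ∀ x : P,
        (x : Ω)⁻¹ * ((((β : MulAut P) ^ p ^ k) x : P) : Ω) ∈ R := by
      have := (modKer hR hPS).pow_mem hβ (p ^ k)
      exact this
    obtain ⟨j, hj⟩ := pel_of_series hS hPS hmod fun x hx => Subtype.ext <| by
      rw [hagree ⟨x, x.2, hx⟩ x rfl, hk]
      rfl
    refine ⟨k + j, ?_⟩
    apply Subtype.ext
    apply Subtype.ext
    rw [pow_add, pow_mul]
    exact hj
  have hle : (modKer hR hPS).map (F.autGroup P).subtype ≤ Inn P := by
    rw [← hrad.2]
    exact Subgroup.map_mono (le_pCore_of_normal hKp)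
  by_contra hRP
  have hlt : P < P ⊔ R := lt_of_le_of_ne le_sup_left fun h => hRP (le_sup_right.trans h.ge)
  obtain ⟨y, hy, hyP⟩ := SetLike.exists_of_lt (lt_normalizerIn_inf hS (sup_le hPS hR.1) hlt)
  have hy2 : y ∈ ((P ⊔ R : Subgroup Ω) : Set Ω) := hy.2
  rw [Subgroup.coe_mul_of_left_le_normalizer_right P R
    (hPS.trans (WeaklyClosed.le_normalizer (StronglyClosed.weaklyClosed hR)))] at hy2
  obtain ⟨a, ha, r, hr, rfl⟩ := hy2
  have hrN : r ∈ normalizerIn S P := by
    have := mul_mem (inv_mem (le_normalizerIn hPS ha)) hy.1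
    rwa [inv_mul_cancel_left] at this
  refine hyP (P.mul_mem ha (mem_of_conjAut_inn hc hrN (hle ?_)))
  refine ⟨⟨conjAut hrN.2, conjAut_mem_autGroup F hPS hrN.1 hrN.2⟩, fun x => ?_, rfl⟩
  rw [conjAut_coe, show (x : Ω)⁻¹ * (r * x * r⁻¹) = ((x : Ω)⁻¹ * r * x) * r⁻¹ by group]
  refine R.mul_mem ?_ (R.inv_mem hr)
  have := normal_conj hR (S.inv_mem (hPS x.2)) hr
  rwa [inv_inv] at this

theorem eq_inner_of_pAut {p : ℕ} [Fact p.Prime] [Finite S] (hS : IsPGroup p S)
    (hF : F.IsSaturated p) {R : Subgroup Ω} (hR : F.StronglyClosed R)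
    (hU : ∀ U, U ≤ R → PAut F p U) (hbig : ∀ P, R ≤ P → P ≤ S → PAut F p P) :
    F = innerFusionSystem S := by
  refine eq_inner_of_isPGroup hS hF fun P hP => (hbig P ?_ ?_).isPGroup
  · rcases hP with rfl | hess
    · exact hR.1
    · exact le_of_radical hS hR hU hess.1 (IsEssential.radical hS hF hess)
  · exact hP.elim (fun e => e.le) fun e => e.1.1

/-! ### Factor systems -/

theorem autGroup_inner_pAut {p : ℕ} [Fact p.Prime] [Finite S] (hS : IsPGroup p S)
    {P : Subgroup Ω} (hP : P ≤ S) : PAut (innerFusionSystem S) p P := fun α hα =>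
  pel_of_autInducedBy hS (autGroup_inner hP ▸ hα)

theorem hyperfocal_inner {p : ℕ} [Fact p.Prime] [Finite S] (hS : IsPGroup p S) :
    (innerFusionSystem S).hyperfocalSubgroup p = ⊥ := by
  refine le_bot_iff.1 ((Subgroup.closure_le _).2 ?_)
  rintro _ ⟨P, α, x, hP, hα, rfl⟩
  have := finite_mulAut hP
  obtain ⟨⟨k, hk⟩⟩ : Nonempty (∃ k, Nat.card ((innerFusionSystem S).autGroup P) = p ^ k) :=
    ⟨IsPGroup.iff_card.1 (autGroup_inner_pAut hS hP).isPGroup⟩
  have hbot : α = 1 := by
    refine (Subgroup.mem_bot).1 ((show pResidual p ((innerFusionSystem S).autGroup P) ≤ ⊥ from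
      ?_) hα)
    refine (Subgroup.closure_le _).2 fun β hβ => ?_
    obtain ⟨j, hj⟩ := (Nat.dvd_prime_pow (Fact.out : p.Prime)).1 (hk ▸ orderOf_dvd_natCard β)
    have hco : (orderOf β).Coprime p := hβ
    rcases Nat.eq_zero_or_pos j with rfl | hj0
    · exact orderOf_eq_one_iff.1 (by simpa using hj.2)
    · rw [hj.2, Nat.coprime_pow_left_iff hj0, Nat.coprime_self] at hco
      exact absurd hco (Fact.out : p.Prime).ne_one
  subst hbot
  simp

theorem main {p : ℕ} [Fact p.Prime] : ∀ (n : ℕ) {Ω : Type u} [Group Ω] (S : Subgroup Ω)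
    [Finite S] (F : FusionSystem S) (m : ℕ), Nat.card S = n → IsPGroup p S → F.IsSaturated p →
    1 ≤ m → p ^ m < Nat.card S → WE F (p ^ m) → NI F p (p ^ m) → F = innerFusionSystem S := by
  intro n
  induction n using Nat.strong_induction_on with
  | _ n ih =>
  intro Ω _ S _ F m hn hS hF hm hlt hWE hNI
  have hp : 1 < p := (Fact.out : p.Prime).one_lt
  have hd1 : 1 < p ^ m := Nat.one_lt_pow (by omega) hp
  have hSne : S ≠ ⊥ := fun h => by
    have : Nat.card S = 1 := by rw [h, Subgroup.card_bot]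
    omega
  obtain ⟨R, hR, hR0, hmincard⟩ : ∃ R, F.StronglyClosed R ∧ R ≠ ⊥ ∧
      ∀ T, F.StronglyClosed T → T ≠ ⊥ → Nat.card R ≤ Nat.card T := by
    have hfin : {R : Subgroup Ω | F.StronglyClosed R ∧ R ≠ ⊥}.Finite :=
      finite_subgroups_le.subset fun R hR => hR.1.1
    obtain ⟨R, ⟨hR, hR0⟩, hmin⟩ := Set.exists_min_image _ (fun R : Subgroup Ω => Nat.card R)
      hfin ⟨S, stronglyClosed_self F, hSne⟩
    exact ⟨R, hR, hR0, fun T h h' => hmin T ⟨h, h'⟩⟩
  have hfinR := finite_of_le hR.1
  have hmin : ∀ T, F.StronglyClosed T → T ≤ R → T = ⊥ ∨ T = R := fun T hT hTR =>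
    or_iff_not_imp_left.2 fun hT0 => Subgroup.eq_of_le_of_card_ge hTR (hmincard T hT hT0)
  have hRd := minimal_card_le hS hm hWE hR hmin
  obtain ⟨r, hr⟩ := card_eq_pow hS hR.1
  have hr1 : 1 ≤ r := by
    by_contra h
    rw [show r = 0 by omega, pow_zero] at hr
    exact hR0 (Subgroup.card_eq_one.1 hr)
  have hSN : ∀ T, F.StronglyClosed T → ∀ P, P ≤ S → P ≤ normalizerIn S T := fun T hT P hP x hx =>
    ⟨hP hx, WeaklyClosed.le_normalizer (StronglyClosed.weaklyClosed hT) (hP hx)⟩
  -- a strongly closed subgroup of order `d` gives the automizers over it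
  have hbigd : ∀ T, F.StronglyClosed T → Nat.card T = p ^ m →
      ∀ P, T ≤ P → P ≤ S → PAut F p P := fun T hT hTc P hTP hP α hα =>
    hNI T P hTc hTP (hSN T hT P hP) α hα fun x hx =>
      StronglyClosed.map_mem hT (autHom_mem F hP hα) x hx
  rcases hRd.eq_or_lt with hcard | hRlt
  · refine eq_inner_of_pAut hS hF hR ?_ (hbigd R hR hcard)
    rcases Nat.lt_or_ge r 2 with h2 | h2
    · -- prime order
      intro U hU α hα
      rcases eq_or_ne U R with rfl | hne
      · exact hbigd U hR hcard U le_rfl hR.1 α hα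
      · have hU0 : U = ⊥ := by
          by_contra hU0
          have h3 := finite_of_le (hU.trans hR.1)
          obtain ⟨u, hu⟩ := card_eq_pow hS (hU.trans hR.1)
          have h4 := card_lt_card hR.1 (lt_of_le_of_ne hU hne)
          rw [hu, hr] at h4
          have := (Nat.pow_lt_pow_iff_right hp).1 h4
          rw [show u = 0 by omega, pow_zero] at hu
          exact hU0 (Subgroup.card_eq_one.1 hu)
        subst hU0
        refine ⟨0, ?_⟩
        ext x
        have hx : x = 1 := Subtype.ext (Subgroup.mem_bot.1 x.2)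
        simp [hx]
    · -- a subgroup of order `d` meeting `R` properly
      have hRS : R < S := lt_of_le_of_ne hR.1 fun h => by rw [h] at hcard; omega
      obtain ⟨b, hb⟩ := card_eq_pow hS (le_refl S)
      have hrb : r + 1 ≤ b := by
        have := card_lt_card le_rfl hRS
        rw [hr, hb] at this
        exact (Nat.pow_lt_pow_iff_right hp).1 this
      obtain ⟨K, hRK, hKS, hK⟩ := exists_between hS hR.1 le_rfl (m := r + 1)
        (hr ▸ Nat.pow_le_pow_right hp.le (by omega)) (hb ▸ Nat.pow_le_pow_right hp.le hrb)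
      obtain ⟨y, hy, hyR⟩ := SetLike.exists_of_lt (lt_of_le_of_ne hRK fun h => by
        rw [h, hK] at hr
        have := Nat.pow_right_injective hp hr
        omega)
      have hRn : (R.subgroupOf K).Normal := ⟨fun x hx g =>
        normal_conj hR (hKS g.2) (Subgroup.mem_subgroupOf.1 hx)⟩
      have hidx : (R.subgroupOf K).index = p := by
        have h3 := Subgroup.card_mul_index (R.subgroupOf K)
        rw [Nat.card_congr (Subgroup.subgroupOfEquivOfLe hRK).toEquiv, hr, hK, pow_succ] at h3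
        exact Nat.eq_of_mul_eq_mul_left (pow_pos (by omega) r) h3
      have hyp : y ^ p ∈ R := by
        have := (R.subgroupOf K).pow_index_mem (⟨y, hy⟩ : K)
        rw [hidx] at this
        exact this
      -- a subgroup `X` with `y` in it, small, meeting `R` nontrivially and not containing it
      have hncyc : ∀ w : Ω, ¬ R ≤ Subgroup.zpowers w := fun w hle => by
        have hsub : IsCyclic R :=
          isCyclic_of_injective (Subgroup.inclusion hle) (Subgroup.inclusion_injective hle)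
        obtain ⟨g, hg⟩ := hsub.exists_generator
        have hgo : orderOf (g : Ω) = p ^ r := by
          rw [Subgroup.orderOf_coe, orderOf_eq_card_of_forall_mem_zpowers hg, hr]
        have hsc : F.StronglyClosed (Subgroup.zpowers ((g : Ω) ^ p)) := by
          refine ⟨Subgroup.zpowers_le.2 (S.pow_mem (hR.1 g.2) p), fun A hA φ hφ x => ?_⟩
          obtain ⟨i, hi⟩ := hA x.2
          have hxR : (x : Ω) ∈ R := hi ▸ R.zpow_mem (R.pow_mem g.2 p) i
          have h5 : φ x ∈ R := StronglyClosed.map_mem hR hφ x hxR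
          obtain ⟨c, hc⟩ := hg ⟨φ x, h5⟩
          have hc' : (g : Ω) ^ c = φ x := congrArg Subtype.val hc
          have hx1 : (x : Ω) ^ p ^ (r - 1) = 1 := by
            rw [← hi, ← zpow_natCast, ← zpow_mul, mul_comm, zpow_mul, zpow_natCast,
              ← pow_mul, show p * p ^ (r - 1) = p ^ r by
                rw [← pow_succ', Nat.sub_add_cancel (by omega)], ← hgo,
              pow_orderOf_eq_one, one_zpow]
          have hx2 : (φ x) ^ p ^ (r - 1) = 1 := by
            rw [← map_pow, show x ^ p ^ (r - 1) = 1 from Subtype.ext hx1, map_one]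
          rw [← hc', ← zpow_natCast, ← zpow_mul, ← orderOf_dvd_iff_zpow_eq_one, hgo] at hx2
          have h6 : (p : ℤ) ∣ c := by
            have e : ((p ^ r : ℕ) : ℤ) = (p : ℤ) * ((p ^ (r - 1) : ℕ) : ℤ) := by
              rw [← Nat.cast_mul, ← pow_succ', Nat.sub_add_cancel (by omega)]
            rw [e] at hx2
            exact Int.dvd_of_mul_dvd_mul_right (by exact_mod_cast (pow_pos (by omega) _).ne') hx2
          obtain ⟨e, rfl⟩ := h6
          rw [← hc', zpow_mul, zpow_natCast]
          exact Subgroup.zpow_mem _ (Subgroup.mem_zpowers _) e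
        have hgp : (g : Ω) ^ p ≠ 1 := fun h => by
          have h3 := orderOf_dvd_of_pow_eq_one h
          rw [hgo] at h3
          have : p ^ 2 ∣ p ^ 1 := (pow_one p).symm ▸ (pow_dvd_pow p h2).trans h3
          exact absurd ((Nat.pow_dvd_pow_iff_le_right hp).1 this) (by omega)
        rcases hmin _ hsc (Subgroup.zpowers_le.2 (R.pow_mem g.2 p)) with h | h
        · exact hgp (Subgroup.mem_bot.1 (h ▸ Subgroup.mem_zpowers _))
        · have h3 : Nat.card (Subgroup.zpowers ((g : Ω) ^ p)) = Nat.card R := by rw [h]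
          rw [Nat.card_zpowers, orderOf_pow' _ (by omega : p ≠ 0), hgo, hr,
            Nat.gcd_eq_right (dvd_pow_self p (by omega : r ≠ 0))] at h3
          have : p ^ r / p < p ^ r := Nat.div_lt_self (pow_pos (by omega) _) hp
          omega
      obtain ⟨X, hXS, hyX, hXR0, hXR, hXc⟩ : ∃ X : Subgroup Ω, X ≤ S ∧ y ∈ X ∧ X ⊓ R ≠ ⊥ ∧
          ¬ R ≤ X ∧ Nat.card X ≤ p ^ m := by
        have hyS : y ∈ S := hKS hy
        have hordS : ∀ {z : Ω}, z ∈ S → ∃ a, orderOf z = p ^ a := fun {z} hz => by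
          obtain ⟨a, ha⟩ := card_eq_pow hS (Subgroup.zpowers_le.2 hz)
          exact ⟨a, by rw [← Nat.card_zpowers, ha]⟩
        by_cases hyp1 : y ^ p = 1
        · -- `y` of order `p`: add an element of order `p` of the centre inside `R`
          obtain ⟨z, hzR, hzc, hzo⟩ : ∃ z, z ∈ R ∧ (∀ g ∈ S, g * z = z * g) ∧ orderOf z = p := by
            have hne : R.subgroupOf S ≠ ⊥ := fun h => hR0 (by
              rw [← Subgroup.map_subgroupOf_eq_of_le hR.1, h, Subgroup.map_bot])
            have : (R.subgroupOf S).Normal := ⟨fun x hx g =>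
              normal_conj hR g.2 (Subgroup.mem_subgroupOf.1 hx)⟩
            obtain ⟨z, hz, hzc, hzo⟩ :=
              Cfsg.Agent.Lib.Transfer.exists_central_orderOf_eq hS _ hne
            exact ⟨z, Subgroup.mem_subgroupOf.1 hz, fun g hg => congrArg Subtype.val
              (Subgroup.mem_center_iff.1 hzc ⟨g, hg⟩), by rw [Subgroup.orderOf_coe, hzo]⟩
          set X := Subgroup.zpowers z ⊔ Subgroup.zpowers y
          have hzS : z ∈ S := hR.1 hzR
          have hcomm : Subgroup.zpowers y ≤ Subgroup.normalizer (Subgroup.zpowers z : Set Ω) := by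
            rw [Subgroup.zpowers_le]
            have : Finite (Subgroup.zpowers z) :=
              Nat.finite_of_card_ne_zero (by rw [Nat.card_zpowers, hzo]; omega)
            refine mem_normalizer_of_finite fun x hx => ?_
            obtain ⟨i, rfl⟩ := hx
            have : Commute y z := hzc y hyS
            rw [(this.zpow_right i).eq, mul_inv_cancel_right]
            exact ⟨i, rfl⟩
          have hXz : ∀ x ∈ X, ∃ a ∈ Subgroup.zpowers z, ∃ b ∈ Subgroup.zpowers y, a * b = x := by
            intro x hx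
            have hx' : x ∈ ((Subgroup.zpowers z ⊔ Subgroup.zpowers y : Subgroup Ω) : Set Ω) := hx
            rw [Subgroup.coe_mul_of_right_le_normalizer_left _ _ hcomm] at hx'
            obtain ⟨a, ha, b, hb, rfl⟩ := hx'
            exact ⟨a, ha, b, hb, rfl⟩
          have hyo : orderOf y = p := by
            refine orderOf_eq_prime hyp1 fun h => hyR (h ▸ R.one_mem)
          have hinf : X ⊓ R ≤ Subgroup.zpowers z := by
            rintro x ⟨hx, hxR⟩
            obtain ⟨a, ha, b, hb, rfl⟩ := hXz x hx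
            have hbR : b ∈ R := by
              have := R.mul_mem (R.inv_mem (Subgroup.zpowers_le.2 hzR ha)) hxR
              rwa [inv_mul_cancel_left] at this
            have hb1 : b = 1 := by
              by_contra hb1
              apply hyR
              obtain ⟨i, rfl⟩ := hb
              have hi : ¬ (p : ℤ) ∣ i := fun ⟨j, hj⟩ => hb1 (by
                change y ^ i = 1
                rw [hj, zpow_mul, zpow_natCast, hyp1, one_zpow])
              obtain ⟨u, v, huv⟩ :=
                ((Nat.prime_iff_prime_int.1 (Fact.out : p.Prime)).coprime_iff_not_dvd.2 hi)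
              have : y = (y ^ i) ^ v := by
                conv_lhs => rw [← zpow_one y, ← huv, zpow_add, mul_comm u, zpow_mul,
                  zpow_natCast, hyp1, one_zpow, one_mul, mul_comm v, zpow_mul]
              rw [this]
              exact R.zpow_mem hbR v
            rw [hb1, mul_one]
            exact ha
          refine ⟨X, sup_le (Subgroup.zpowers_le.2 hzS) (Subgroup.zpowers_le.2 hyS),
            Subgroup.mem_sup_right (Subgroup.mem_zpowers y), fun h => ?_,
            fun hle => hncyc z ((le_inf hle le_rfl).trans hinf), ?_⟩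
          · have : z ∈ (⊥ : Subgroup Ω) :=
              h ▸ ⟨Subgroup.mem_sup_left (Subgroup.mem_zpowers z), hzR⟩
            rw [Subgroup.mem_bot.1 this, orderOf_one] at hzo
            omega
          · have : Finite (Subgroup.zpowers z) :=
              Nat.finite_of_card_ne_zero (by rw [Nat.card_zpowers, hzo]; omega)
            have : Finite (Subgroup.zpowers y) :=
              Nat.finite_of_card_ne_zero (by rw [Nat.card_zpowers, hyo]; omega)
            have h3 : Nat.card X ≤ Nat.card (Subgroup.zpowers z × Subgroup.zpowers y) := by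
              refine Nat.card_le_card_of_surjective (fun q => (⟨q.1.1 * q.2.1,
                mul_mem (Subgroup.mem_sup_left q.1.2) (Subgroup.mem_sup_right q.2.2)⟩ : X)) ?_
              rintro ⟨x, hx⟩
              obtain ⟨a, ha, b, hb, rfl⟩ := hXz x hx
              exact ⟨(⟨a, ha⟩, ⟨b, hb⟩), rfl⟩
            rw [Nat.card_prod, Nat.card_zpowers, Nat.card_zpowers, hzo, hyo] at h3
            calc Nat.card X ≤ p * p := h3
              _ = p ^ 2 := (sq p).symm
              _ ≤ p ^ r := Nat.pow_le_pow_right hp.le h2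
              _ = p ^ m := hr.symm.trans hcard
        · obtain ⟨a, ha⟩ := hordS hyS
          refine ⟨Subgroup.zpowers y, Subgroup.zpowers_le.2 hyS, Subgroup.mem_zpowers y,
            fun h => hyp1 ?_, fun hle => ?_, ?_⟩
          · exact Subgroup.mem_bot.1 (h ▸ ⟨Subgroup.npow_mem_zpowers y p, hyp⟩)
          · exact hncyc y hle
          · -- `y` has order at most `d`
            rw [Nat.card_zpowers, ha]
            by_contra hbig'
            have hya : m < a := (Nat.pow_lt_pow_iff_right hp).1 (not_le.1 hbig')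
            have hrm : r = m := Nat.pow_right_injective hp (hr.symm.trans hcard)
            have hle' : Subgroup.zpowers (y ^ p) ≤ R := Subgroup.zpowers_le.2 hyp
            have h3 := Subgroup.card_le_of_le hle'
            have ho : orderOf (y ^ p) = p ^ (a - 1) := by
              rw [orderOf_pow' _ (by omega : p ≠ 0), ha,
                Nat.gcd_eq_right (dvd_pow_self p (by omega : a ≠ 0))]
              conv_lhs => rw [← Nat.sub_add_cancel (show 1 ≤ a by omega), pow_succ]
              exact Nat.mul_div_cancel _ (by omega)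
            rw [Nat.card_zpowers, ho, hr, Nat.pow_le_pow_iff_right hp] at h3
            have heq := Subgroup.eq_of_le_of_card_ge hle'
              (by rw [Nat.card_zpowers, ho, hr, Nat.pow_le_pow_iff_right hp]; omega)
            exact hncyc y (heq.ge.trans (Subgroup.zpowers_le.2 (Subgroup.npow_mem_zpowers y p)))
      obtain ⟨H, hXH, hHS, hH⟩ := exists_between hS hXS le_rfl hXc hlt.le
      have hHR : ¬ R ≤ H := fun h => hXR (by
        have := finite_of_le hHS
        have hRH : R = H := Subgroup.eq_of_le_of_card_ge h (hH.trans hcard.symm).le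
        have hXR' : X ≤ R := hRH ▸ hXH
        exfalso
        exact hyR (hXR' hyX))
      have hH0 : H ⊓ R ≠ ⊥ := fun h => hXR0 (le_bot_iff.1 ((inf_le_inf_right R hXH).trans h.le))
      obtain ⟨R₂, hR₂, hR₂0, hdis, hmin₂⟩ :=
        exists_disjoint_of_meet hWE hR hmin hHS hH hH0 hHR
      exact fun U hU => pAut_le_of_disjoint hS hF hNI hR hR₂
        (le_antisymm (minimal_card_le hS hm hWE hR₂ hmin₂) (hcard ▸ hmincard _ hR₂ hR₂0)) hdis hU
  · -- the factor systems are inner
    have hfac : ∀ T, F.StronglyClosed T → T ≠ ⊥ → Nat.card T < p ^ m →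
        (∀ P ≤ S, ∀ α ∈ F.autGroup P, ∃ k, ∀ x : P,
          (x : Ω)⁻¹ * (((α ^ p ^ k) x : P) : Ω) ∈ T) ∧ F.hyperfocalSubgroup p ≤ T := by
      intro T hT hT0 hTlt
      have : (T.subgroupOf S).Normal := ⟨fun x hx g =>
        normal_conj hT g.2 (Subgroup.mem_subgroupOf.1 hx)⟩
      let θ : S →* S ⧸ T.subgroupOf S := QuotientGroup.mk' _
      have hker : ∀ s : S, θ s = 1 ↔ (s : Ω) ∈ T := fun s => QuotientGroup.eq_one_iff s
      let E := factorSystem F hT θ hker rfl
      have hE : F.IsFactorSystem T θ E := factorSystem_spec hT hker rfl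
      have hES : IsPGroup p θ.range := hS.of_surjective _ θ.rangeRestrict_surjective
      have hcardim : ∀ {A : Subgroup (S ⧸ T.subgroupOf S)}, A ≤ θ.range →
          Nat.card (preimageAlong θ A) = Nat.card A * Nat.card T := by
        intro A hA
        have h1 : Nat.card (preimageAlong θ A) = Nat.card (A.comap θ) :=
          (Nat.card_congr ((A.comap θ).equivMapOfInjective S.subtype
            S.subtype_injective).toEquiv).symm
        rw [h1]
        let g : A.comap θ →* A := θ.subgroupComap A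
        have hg : Function.Surjective g := fun a => by
          obtain ⟨x, hx⟩ := hA a.2
          exact ⟨⟨x, Subgroup.mem_comap.2 (hx ▸ a.2)⟩, Subtype.ext hx⟩
        have h2 : Nat.card g.ker = Nat.card T := by
          refine Nat.card_congr ⟨fun x => ⟨((x.1 : S) : Ω),
            (hker _).1 (congrArg Subtype.val x.2)⟩, fun y => ⟨⟨⟨y, hT.1 y.2⟩, ?_⟩, ?_⟩,
            fun x => rfl, fun y => rfl⟩
          · rw [Subgroup.mem_comap, (hker ⟨y, hT.1 y.2⟩).2 y.2]
            exact one_mem _
          · exact Subtype.ext ((hker ⟨y, hT.1 y.2⟩).2 y.2)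
        rw [← h2, ← Subgroup.card_mul_index g.ker, Subgroup.index_ker,
          MonoidHom.range_eq_top.2 hg, Subgroup.card_top, mul_comm]
      obtain ⟨t, ht⟩ := card_eq_pow hS hT.1
      have htm : t < m := (Nat.pow_lt_pow_iff_right hp).1 (ht ▸ hTlt)
      have hcardT : Nat.card T = p ^ t := ht
      have htop : preimageAlong θ θ.range = S :=
        le_antisymm (preimage_le θ _) fun x hx => ⟨⟨x, hx⟩, ⟨⟨x, hx⟩, rfl⟩, rfl⟩
      have hrange := hcardim (le_refl θ.range)
      rw [htop, hcardT] at hrange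
      have hpow : p ^ (m - t) * p ^ t = p ^ m := by rw [← pow_add, Nat.sub_add_cancel htm.le]
      have hEin : E = innerFusionSystem θ.range := by
        refine ih (Nat.card θ.range) ?_ θ.range E (m - t) rfl hES
          (factor_isSaturated hS hF hT hE) (by omega) ?_ ?_ ?_
        · rw [← hn, hrange]
          have hne1 : 1 < p ^ t := by
            rcases Nat.eq_zero_or_pos t with rfl | ht0
            · exact absurd (Subgroup.card_eq_one.1 (by simpa using hcardT)) hT0
            · exact Nat.one_lt_pow (by omega) hp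
          exact lt_mul_of_one_lt_right Nat.card_pos hne1
        · by_contra hle
          have := Nat.mul_le_mul_right (p ^ t) (not_lt.1 hle)
          rw [hpow, ← hrange] at this
          omega
        · intro Q' hQ' hQ'c
          set Q := preimageAlong θ Q'
          have hTQ : T ≤ Q := kernel_le_preimage hker hT.1 Q'
          have hQS : Q ≤ S := preimage_le θ Q'
          obtain ⟨P, hP, hjoin, hmeet⟩ := hWE Q hQS (by rw [hcardim hQ', hQ'c, hcardT, hpow])
          have hPT := stronglyClosed_sup hS hF hP hT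
          refine ⟨imageAlong θ (P ⊔ T), stronglyClosed_image hE le_sup_right hPT, ?_, ?_⟩
          · have h1 : Q' ⊔ imageAlong θ (P ⊔ T) = imageAlong θ (Q ⊔ P) := by
              conv_lhs => rw [← imageAlong_preimage (θ := θ) rfl hQ']
              rw [imageAlong, imageAlong, imageAlong, ← Subgroup.map_sup,
                ← Subgroup.subgroupOf_sup hQS hPT.1, sup_left_comm, sup_eq_left.2 hTQ, sup_comm]
            rw [h1]
            exact stronglyClosed_image hE (hTQ.trans le_sup_left) hjoin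
          · have h1 : Q' ⊓ imageAlong θ (P ⊔ T) = imageAlong θ ((Q ⊓ P) ⊔ T) := by
              refine le_antisymm ?_ (le_inf ?_ ?_)
              · rintro y ⟨hyQ, hyP⟩
                obtain ⟨x, hx, rfl⟩ := mem_image_iff.1 hyP
                have hxQ : (x : Ω) ∈ Q := (mem_preimage_iff x).2 hyQ
                have hN : P ≤ Subgroup.normalizer (T : Set Ω) :=
                  hP.1.trans (WeaklyClosed.le_normalizer (StronglyClosed.weaklyClosed hT))
                have hx' : (x : Ω) ∈ ((P ⊔ T : Subgroup Ω) : Set Ω) := hx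
                rw [Subgroup.coe_mul_of_left_le_normalizer_right P T hN] at hx'
                obtain ⟨a, ha, b, hb, hab⟩ := hx'
                refine mem_image_iff.2 ⟨x, ?_, rfl⟩
                rw [← hab]
                refine mul_mem (Subgroup.mem_sup_left ⟨?_, ha⟩) (Subgroup.mem_sup_right hb)
                have := mul_mem hxQ (inv_mem (hTQ hb))
                rwa [← hab, mul_inv_cancel_right] at this
              · conv_rhs => rw [← imageAlong_preimage (θ := θ) rfl hQ']
                exact Subgroup.map_mono (Subgroup.comap_mono (sup_le inf_le_left hTQ))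
              · exact Subgroup.map_mono (Subgroup.comap_mono (sup_le_sup_right inf_le_right T))
            rw [h1]
            exact stronglyClosed_image hE le_sup_right (stronglyClosed_sup hS hF hmeet hT)
        · intro H' P' hH'c hH'P' hP'N α' hα' hαH'
          have hP'R : P' ≤ θ.range := hP'N.trans (normalizerIn_le _ _)
          set Q := preimageAlong θ P'
          set H := preimageAlong θ H'
          have hQS : Q ≤ S := preimage_le θ P'
          obtain ⟨-, φ, hφ, hind⟩ := (hE.2.2.2 P' (autHom α')).1 (autHom_mem E hP'R hα')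
          have hφr : φ.range = Q := range_lift hker hT rfl hP'R (range_autHom α') hφ hind
          obtain ⟨hQS', hφS, hmq, hq⟩ := hind
          set α : MulAut Q := isoOf φ (F.injective_of_mem hφ) hφr
          have hα : α ∈ F.autGroup Q := mem_autGroup_of_hom F hφ
          have hHQ : H ≤ Q := Subgroup.map_mono (Subgroup.comap_mono hH'P')
          have hHc : Nat.card H = p ^ m := by
            rw [hcardim (hH'P'.trans hP'R), hH'c, hcardT, hpow]
          have hQN : Q ≤ normalizerIn S H := fun g hg =>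
            ⟨hQS hg, normalizer_preimage (g := ⟨g, hQS hg⟩) (hP'N ((mem_preimage_iff _).1 hg)).2⟩
          have hrel : ∀ x : Q, θ ⟨(α x : Q), hQS (α x).2⟩ =
              ((α' ⟨θ ⟨x, hQS x.2⟩, hmq x⟩ : P') : S ⧸ T.subgroupOf S) := fun x => (hq x).symm
          obtain ⟨k, hk⟩ := hNI H Q hHc hHQ hQN α hα fun x hx => by
            refine (mem_preimage_iff ⟨_, hQS (α x).2⟩).2 ?_
            rw [hrel]
            exact hαH' _ ((mem_preimage_iff (θ := θ) (P' := H') ⟨x, hQS x.2⟩).1 hx)
          refine ⟨k, ?_⟩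
          have hpowrel : ∀ (j : ℕ) (x : Q), θ ⟨((α ^ j) x : Q), hQS ((α ^ j) x).2⟩ =
              (((α' ^ j) ⟨θ ⟨x, hQS x.2⟩, hmq x⟩ : P') : S ⧸ T.subgroupOf S) := by
            intro j
            induction j with
            | zero => exact fun x => rfl
            | succ j ihj =>
              intro x
              have h1 := ihj (α x)
              have h2 : (⟨θ ⟨(α x : Q), hQS (α x).2⟩, hmq (α x)⟩ : P') =
                  α' ⟨θ ⟨x, hQS x.2⟩, hmq x⟩ := Subtype.ext (hrel x)
              rw [h2] at h1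
              simp only [pow_succ, MulAut.mul_apply]
              exact h1
          ext z
          obtain ⟨x, hx⟩ := hP'R z.2
          have hxQ : (x : Ω) ∈ Q := (mem_preimage_iff x).2 (hx ▸ z.2)
          have hzeq : z = ⟨θ ⟨(⟨(x : Ω), hxQ⟩ : Q), hQS hxQ⟩, hmq ⟨x, hxQ⟩⟩ :=
            Subtype.ext hx.symm
          rw [hzeq, ← hpowrel, hk]
          rfl
      refine ⟨fun P hP α hα => ?_, fun x hx => ?_⟩
      · obtain ⟨π, hπ⟩ := exists_autQuot (isSurjectiveMorphism_factor hS hF hT hE).1 hP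
        have himS : imageAlong θ P ≤ θ.range := Subgroup.map_le_range θ _
        have hπp : PAut E p (imageAlong θ P) := by
          rw [hEin]
          exact autGroup_inner_pAut hES himS
        obtain ⟨k, hk⟩ := hπp _ (π ⟨α, hα⟩).2
        refine ⟨k, fun x => ?_⟩
        have hx : θ ⟨x, hP x.2⟩ ∈ imageAlong θ P := ⟨⟨x, hP x.2⟩, x.2, rfl⟩
        have h1 := hπ (⟨α, hα⟩ ^ p ^ k) x hx
        rw [map_pow, SubmonoidClass.coe_pow, hk, SubmonoidClass.coe_pow] at h1
        exact mem_of_eq_ker hker ⟨x, hP x.2⟩ ⟨_, hP ((α ^ p ^ k) x).2⟩ h1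
      · have h1 := hyperfocal_factor hS hF hT hE
        rw [hEin, hyperfocal_inner hES] at h1
        have h2 : θ ⟨x, hyperfocal_le F p hx⟩ = 1 :=
          Subgroup.mem_bot.1 (h1.symm ▸ ⟨⟨x, hyperfocal_le F p hx⟩, hx, rfl⟩)
        exact (hker _).1 h2
    obtain ⟨hmod, hhyp⟩ := hfac R hR hR0 hRlt
    by_cases hΦ : R ≤ (frattini S).map S.subtype
    · -- Tate
      refine eq_inner_of_hyperfocal_eq_bot hS hF ?_
      rw [hyperfocal_eq_of_le_sup_frattini hS hF (H := innerFusionSystem S)
        (fun P => inner_le F P) ((hhyp.trans hΦ).trans le_sup_left), hyperfocal_inner hS]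
    have hU : (∀ U, U ≤ R → PAut F p U) ∨ F = innerFusionSystem S := by
      rcases Nat.lt_or_ge r 2 with h2 | h2
      · -- prime order
        left
        have hRc : Nat.card R = p := by rw [hr, show r = 1 by omega, pow_one]
        have hSaut : PAut F p S := fun α hα => by
          obtain ⟨k, hk⟩ := hmod S le_rfl α hα
          obtain ⟨H, hRH, hHS, hH⟩ := exists_between hS hR.1 le_rfl hRd hlt.le
          have hαk := pow_mem hα (p ^ k)
          obtain ⟨b, hb, -, hbe⟩ := exists_mor_of_aut le_rfl hαk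
          have hbH : b '' (H : Set Ω) = H := by
            refine image_of_mapsTo (hb.mono hHS) hHS (fun x hx => ?_) le_rfl
            have := H.mul_mem hx (hRH (hk ⟨x, hHS hx⟩))
            rw [mul_inv_cancel_left, hbe] at this
            exact this
          obtain ⟨γ, hγ, hγe⟩ := (hb.mono hHS).exists_aut hbH
          obtain ⟨i, hi⟩ := hNI H H hH le_rfl (le_normalizerIn hHS) γ hγ fun x _ => (γ x).2
          have hagree := pow_agree (A := H) (B := S) id (α := γ) (β := α ^ p ^ k)
            (fun x => hHS x.2) (fun x y hy => by rw [hbe, hy, id, id, hγe]) (p ^ i)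
          have hpowmod : ∀ x : S, (x : Ω)⁻¹ * ((((α ^ p ^ k) ^ p ^ i) x : S) : Ω) ∈ R :=
            (modKer hR le_rfl).pow_mem
              (show (⟨_, hαk⟩ : F.autGroup S) ∈ modKer hR le_rfl from hk) (p ^ i)
          obtain ⟨j, hj⟩ := pel_of_series hS le_rfl hpowmod fun x hx => Subtype.ext <| by
            rw [hagree ⟨x, hRH hx⟩ x rfl, hi]
            rfl
          exact ⟨k + i + j, by rw [pow_add, pow_add, pow_mul, pow_mul]; exact hj⟩
        have hcen : ∀ g ∈ S, ∀ x ∈ R, g * x * g⁻¹ = x := by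
          have hne : R.subgroupOf S ≠ ⊥ := fun h => hR0 (by
            rw [← Subgroup.map_subgroupOf_eq_of_le hR.1, h, Subgroup.map_bot])
          have : (R.subgroupOf S).Normal := ⟨fun x hx g =>
            normal_conj hR g.2 (Subgroup.mem_subgroupOf.1 hx)⟩
          obtain ⟨z, hz, hzc, hzo⟩ :=
            Cfsg.Agent.Lib.Transfer.exists_central_orderOf_eq hS _ hne
          have hzR : (z : Ω) ∈ R := Subgroup.mem_subgroupOf.1 hz
          have hgen := Subgroup.eq_of_le_of_card_ge (Subgroup.zpowers_le.2 hzR)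
            (by rw [Nat.card_zpowers, Subgroup.orderOf_coe, hzo, hRc])
          intro g hg x hx
          rw [← hgen] at hx
          obtain ⟨i, rfl⟩ := hx
          have : Commute g (z : Ω) :=
            congrArg Subtype.val (Subgroup.mem_center_iff.1 hzc ⟨g, hg⟩)
          rw [(this.zpow_right i).eq, mul_inv_cancel_right]
        intro U hUR α hα
        rcases eq_or_ne U ⊥ with rfl | hU0
        · refine ⟨0, ?_⟩
          ext x
          have hx : x = 1 := Subtype.ext (Subgroup.mem_bot.1 x.2)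
          simp [hx]
        have hUR' : U = R := by
          have h3 := finite_of_le (hUR.trans hR.1)
          refine Subgroup.eq_of_le_of_card_ge hUR ?_
          obtain ⟨u, hu⟩ := card_eq_pow hS (hUR.trans hR.1)
          rcases Nat.eq_zero_or_pos u with rfl | hu0
          · exact absurd (Subgroup.card_eq_one.1 (by simpa using hu)) hU0
          · rw [hRc, hu]
            exact Nat.le_self_pow (by omega) p
        subst hUR'
        obtain ⟨a, ha, haU, hae⟩ := exists_mor_of_aut hR.1 hα
        have hn : F.IsFullyNormalized U := by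
          refine ⟨hR.1, fun Q hQ => ?_⟩
          obtain ⟨φ, hφ, hrφ⟩ := hQ
          rw [← hrφ, (StronglyClosed.weaklyClosed hR).2 φ hφ]
        obtain ⟨E, χ, hUE, -, hχ, hχe, hmem⟩ :=
          extend_of_receptive (IsSaturated.automized_receptive hS hF hn).2 ha haU
        have hSE : S ≤ E := fun g hg => hmem g (hSN U hR S le_rfl hg)
          ⟨1, S.one_mem, fun x hx => by rw [hcen g hg x hx]; simp⟩
        have hχS : χ '' (S : Set Ω) = S :=
          image_of_mapsTo (hχ.mono hSE) le_rfl (fun x hx => hχ.mem (hSE hx)) le_rfl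
        obtain ⟨β, hβ, hβe⟩ := (hχ.mono hSE).exists_aut hχS
        exact pel_of_transport id Function.injective_id.injOn (fun x => hR.1 x.2)
          (fun x y hy => by rw [hβe, hy, id, id, hχe x x.2, ← hae]) (hSaut β hβ)
      · -- a maximal subgroup not containing `R`
        obtain ⟨M, hM, hMR⟩ : ∃ M : Subgroup S, IsCoatom M ∧ ¬ R.subgroupOf S ≤ M := by
          by_contra hall
          refine hΦ ?_
          rw [← Subgroup.map_subgroupOf_eq_of_le hR.1]
          refine Subgroup.map_mono ?_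
          simp only [frattini, Order.radical, le_iInf_iff]
          intro M hM
          by_contra hc
          exact hall ⟨M, hM, hc⟩
        set M' := M.map S.subtype
        have hM'S : M' ≤ S := Subgroup.map_subtype_le M
        have hRM' : ¬ R ≤ M' := fun h => hMR fun x hx => by
          obtain ⟨y, hy, hyx⟩ := h hx
          rwa [← S.subtype_injective hyx]
        obtain ⟨a, ha⟩ := card_eq_pow hS hM'S
        obtain ⟨b, hb⟩ := card_eq_pow hS (le_refl S)
        have hab : b ≤ a + 1 := by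
          by_contra hc
          obtain ⟨K, hMK, hKS, hK⟩ := exists_between hS hM'S le_rfl (m := a + 1)
            (ha ▸ Nat.pow_le_pow_right hp.le (by omega))
            (hb ▸ Nat.pow_le_pow_right hp.le (by omega))
          have h3 : M ≤ K.subgroupOf S := fun x hx => hMK ⟨x, hx, rfl⟩
          rcases hM.le_iff.1 h3 with h4 | h4
          · have h5 : S ≤ K := Subgroup.subgroupOf_eq_top.1 h4
            have := finite_of_le hKS
            have := Subgroup.card_le_of_le h5
            rw [hb, hK, Nat.pow_le_pow_iff_right hp] at this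
            omega
          · have h5 : K = M' := by
              rw [show M' = M.map S.subtype from rfl, ← h4, Subgroup.map_subgroupOf_eq_of_le hKS]
            rw [h5, ha] at hK
            have := Nat.pow_right_injective hp hK
            omega
        have hR₀ : M' ⊓ R ≠ ⊥ := fun h => by
          have h3 : Nat.card (M' × R) ≤ Nat.card S := by
            refine Nat.card_le_card_of_injective
              (fun q => (⟨q.1.1 * q.2.1, mul_mem (hM'S q.1.2) (hR.1 q.2.2)⟩ : S)) ?_
            rintro ⟨x₁, y₁⟩ ⟨x₂, y₂⟩ hq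
            have hq' : (x₁ : Ω) * y₁ = x₂ * y₂ := congrArg Subtype.val hq
            have h4 : (x₂ : Ω)⁻¹ * x₁ = y₂ * (y₁ : Ω)⁻¹ := by
              rw [inv_mul_eq_iff_eq_mul, ← mul_assoc, ← hq', mul_inv_cancel_right]
            have h5 : (x₂ : Ω)⁻¹ * x₁ ∈ M' ⊓ R :=
              ⟨mul_mem (M'.inv_mem x₂.2) x₁.2, h4 ▸ mul_mem y₂.2 (R.inv_mem y₁.2)⟩
            rw [h, Subgroup.mem_bot, inv_mul_eq_one] at h5
            obtain rfl : x₂ = x₁ := Subtype.ext h5
            obtain rfl : y₁ = y₂ := Subtype.ext (mul_left_cancel hq')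
            rfl
          rw [Nat.card_prod, ha, hr, hb, ← pow_add, Nat.pow_le_pow_iff_right hp] at h3
          omega
        have hmb : m < b := (Nat.pow_lt_pow_iff_right hp).1 (hb ▸ hlt)
        obtain ⟨H, hR₀H, hHM, hH⟩ := exists_between hS (inf_le_left : M' ⊓ R ≤ M') hM'S (m := m)
          ((Subgroup.card_le_of_le inf_le_right).trans hRd)
          (ha ▸ Nat.pow_le_pow_right hp.le (by omega))
        have hH0 : H ⊓ R ≠ ⊥ := fun h => hR₀ (le_bot_iff.1 ((le_inf hR₀H inf_le_right).trans h.le))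
        obtain ⟨R₂, hR₂, hR₂0, hdis, hmin₂⟩ := exists_disjoint_of_meet hWE hR hmin
          (hHM.trans hM'S) hH hH0 fun h => hRM' (h.trans hHM)
        rcases (minimal_card_le hS hm hWE hR₂ hmin₂).eq_or_lt with hR₂c | hR₂lt
        · exact Or.inl fun U hU => pAut_le_of_disjoint hS hF hNI hR hR₂ hR₂c hdis hU
        · right
          obtain ⟨hmod₂, -⟩ := hfac R₂ hR₂ hR₂0 hR₂lt
          refine eq_inner_of_isPGroup hS hF fun P hP => PAut.isPGroup fun α hα => ?_
          have hPS : P ≤ S := hP.elim (fun e => e.le) fun e => e.1.1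
          obtain ⟨k, hk⟩ := hmod P hPS α hα
          obtain ⟨i, hi⟩ := hmod₂ P hPS _ (pow_mem hα (p ^ k))
          refine ⟨k + i, ?_⟩
          ext x
          have h3 : (x : Ω)⁻¹ * ((((α ^ p ^ k) ^ p ^ i) x : P) : Ω) ∈ R :=
            (modKer hR hPS).pow_mem
              (show (⟨_, pow_mem hα (p ^ k)⟩ : F.autGroup P) ∈ modKer hR hPS from hk) (p ^ i) x
          have h4 : (x : Ω)⁻¹ * ((((α ^ p ^ k) ^ p ^ i) x : P) : Ω) ∈ R ⊓ R₂ := ⟨h3, hi x⟩
          rw [hdis, Subgroup.mem_bot, inv_mul_eq_one] at h4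
          rw [pow_add, pow_mul]
          exact h4.symm
    rcases hU with hU | h
    swap
    · exact h
    refine eq_inner_of_pAut hS hF hR hU fun P hRP hP α hα => ?_
    obtain ⟨k, hk⟩ := hmod P hP α hα
    have hαk := pow_mem hα (p ^ k)
    obtain ⟨b, hb, -, hbe⟩ := exists_mor_of_aut hP hαk
    have hbR : b '' (R : Set Ω) = R := by
      refine image_of_mapsTo (hb.mono hRP) hR.1 (fun x hx => ?_) le_rfl
      rw [← hbe ⟨x, hRP hx⟩]
      exact StronglyClosed.map_mem hR (autHom_mem F hP hαk) ⟨x, hRP hx⟩ hx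
    obtain ⟨γ, hγ, hγe⟩ := (hb.mono hRP).exists_aut hbR
    obtain ⟨i, hi⟩ := hU R le_rfl γ hγ
    have hagree := pow_agree (A := R) (B := P) id (α := γ) (β := α ^ p ^ k)
      (fun x => hRP x.2) (fun x y hy => by rw [hbe, hy, id, id, hγe]) (p ^ i)
    have hpowmod : ∀ x : P, (x : Ω)⁻¹ * ((((α ^ p ^ k) ^ p ^ i) x : P) : Ω) ∈ R :=
      (modKer hR hP).pow_mem (show (⟨_, hαk⟩ : F.autGroup P) ∈ modKer hR hP from hk) (p ^ i)
    obtain ⟨j, hj⟩ := pel_of_series hS hP hpowmod fun x hx => Subtype.ext <| by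
      rw [hagree ⟨x, hx⟩ x rfl, hi]
      rfl
    exact ⟨k + i + j, by rw [pow_add, pow_add, pow_mul, pow_mul]; exact hj⟩

end Cfsg.Agent.Lib.Fusion.WeaklyEmbedded
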